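import Cfsg.Agent.Mrg.Omega.IId.Cv.TwoV_m3
import Cfsg.Agent.Mrg.Omega.FFBr.Final
import Cfsg.Agent.Mrg.Omega.NatPair.Quad
import Cfsg.Agent.Mrg.Omega.NO3b.BasePt.Def_m3
import Cfsg.Agent.Lib.Cores
import Cfsg.Agent.Mrg.Omega.CloseA.Coord
import Cfsg.Agent.LieRecognition.FieldSemilinear
import Cfsg.Agent.Mrg.Omega.IId.Triangle
import Cfsg.Agent.Mrg.Omega.NO3S.Far.Flag_m3
import Cfsg.Agent.Mrg.Omega.NO3S.Fit.PlaneAct_m3
import Cfsg.Agent.FastGrp
import Cfsg.Agent.Prune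
set_option linter.all false

section
prune_inst 0x7ff0fefb0ef8bddfdfff7e7fffd5dffc39d05fffefdffd4bffe0ebff5fff030c09e12ba50de090fe4ff66294b0b87853f97ece7fea6bdc7ffffd5ff45ffbee0ff5f7bd0851d688340fbc0fff03f07f8e7f3fffffffffffffffffffffffffffbeffffffffffff

-- part: Mrg/Omega/NO1/TH/Fact_mg
section
prune_inst 0x40000810000002000000000200000000080001020000000080000800000022204d00280004000000080200000000002000000010000000000000000000010020800810000140000406000f800000000000000000000000000000000000000000000000000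
set_option linter.all false
open scoped Cfsg.Agent.FastGrp

-- part: Mrg/Omega/NO1/TH/Fact
section
section


/-!
# N1, BETA: the amalgam, the FF theorem for `H` on `W` (bb OMEGA 19584 (2), helper874)

`XH V H R` : the group induced by `H` on `W = WW V H R`; `pr : H →* XH V H R`.
`Amal.abs` : `FFBr.Abs` for `XH V H R` acting on `Multiplicative W`.
`Amal.ff` : for a member `B ≤ R`, `B ≰ Q`, `W ≤ E_B`, no over-offenders and the conclusion of the FF theorem.
-/

set_option autoImplicit false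
set_option linter.unusedSectionVars false

namespace Cfsg.Agent.Omega.NO1.TH

open Subgroup Cfsg.Agent.Omega.NO1.AB Cfsg.Agent.Omega.FFBr
open scoped Pointwise

universe u

variable {Y : Type u} [Group Y] {V : Type u} [AddCommGroup V] [DistribMulAction Y V]

section act

variable (V : Type u) [AddCommGroup V] [DistribMulAction Y V] (H R : Subgroup Y)

/-- `W` multiplicatively -/
abbrev Wm : Type u := Multiplicative (WW V H R)

/-- the action of `H` on `W` -/
def actH : H →* MulAut (Wm V H R) where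
  toFun x :=
    { toFun := fun m => Multiplicative.ofAdd (⟨(x : Y) • ((Multiplicative.toAdd m : WW V H R) : V),
        smul_mem_WW x.2 (Multiplicative.toAdd m).2⟩ : WW V H R)
      invFun := fun m => Multiplicative.ofAdd (⟨(x : Y)⁻¹ • ((Multiplicative.toAdd m : WW V H R) : V),
        smul_mem_WW (H.inv_mem x.2) (Multiplicative.toAdd m).2⟩ : WW V H R)
      left_inv := fun m => by
        apply congrArg Multiplicative.ofAdd
        apply Subtype.ext
        exact inv_smul_smul (x : Y) _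
      right_inv := fun m => by
        apply congrArg Multiplicative.ofAdd
        apply Subtype.ext
        exact smul_inv_smul (x : Y) _
      map_mul' := fun m n => by
        apply congrArg Multiplicative.ofAdd
        apply Subtype.ext
        exact smul_add (x : Y) _ _ }
  map_one' := by
    apply MulEquiv.ext
    intro m
    apply congrArg Multiplicative.ofAdd
    apply Subtype.ext
    exact one_smul Y _
  map_mul' x y := by
    apply MulEquiv.ext
    intro m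
    apply congrArg Multiplicative.ofAdd
    apply Subtype.ext
    exact mul_smul (x : Y) (y : Y) _

/-- the group induced by `H` on `W` -/
abbrev XH : Subgroup (MulAut (Wm V H R)) := (actH V H R).range

/-- the projection -/
def pr : H →* XH V H R := (actH V H R).rangeRestrict

theorem pr_surjective : Function.Surjective (pr V H R) := (actH V H R).rangeRestrict_surjective

/-- the vector of an element of `Wm` -/
def vl (m : Wm V H R) : V := ((Multiplicative.toAdd m : WW V H R) : V)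

end act

section

variable {H R : Subgroup Y}

theorem vl_mem (m : Wm V H R) : vl V H R m ∈ WW V H R := (Multiplicative.toAdd m).2

theorem vl_mul (m n : Wm V H R) : vl V H R (m * n) = vl V H R m + vl V H R n := rfl

theorem vl_one : vl V H R 1 = 0 := rfl

theorem vl_inj {m n : Wm V H R} (h : vl V H R m = vl V H R n) : m = n := by
  apply Multiplicative.toAdd.injective
  exact Subtype.ext h

theorem exists_vl {w : V} (hw : w ∈ WW V H R) : ∃ m : Wm V H R, vl V H R m = w :=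
  ⟨Multiplicative.ofAdd ⟨w, hw⟩, rfl⟩

theorem vl_smul (x : H) (m : Wm V H R) : vl V H R (pr V H R x • m) = (x : Y) • vl V H R m := rfl

theorem pr_fix {x : H} {m : Wm V H R} : pr V H R x • m = m ↔ (x : Y) • vl V H R m = vl V H R m := by
  rw [← vl_smul]
  exact ⟨fun h => congrArg _ h, vl_inj⟩

theorem pr_eq_one {x : H} : pr V H R x = 1 ↔ ∀ w ∈ WW V H R, (x : Y) • w = w := by
  constructor
  · intro h w hw
    obtain ⟨m, rfl⟩ := exists_vl hw
    rw [← pr_fix, h, one_smul]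
  · intro h
    apply Subtype.ext
    apply MulEquiv.ext
    intro m
    exact vl_inj (h _ (vl_mem m))

theorem pr_faith (x : XH V H R) (hx : ∀ m : Wm V H R, x • m = m) : x = 1 := by
  apply Subtype.ext
  apply MulEquiv.ext
  exact hx

end

namespace Amal

variable {U : Set (Subgroup Y)} {T : Sylow 2 Y} {M H R : Subgroup Y} {t : Y}

variable (a : Amal U T M H R t)
include a

/-- `R` as a Sylow subgroup of `H` -/
theorem exists_syl [Finite Y] : ∃ P : Sylow 2 H, (P : Subgroup H) = R.subgroupOf H := by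
  have : Fact (Nat.Prime 2) := ⟨Nat.prime_two⟩
  have hRp : IsPGroup 2 (R.subgroupOf H) := a.R2.comap_of_injective H.subtype H.subtype_injective
  obtain ⟨P, hP⟩ := hRp.exists_le_sylow
  refine ⟨P, ?_⟩
  symm
  apply eq_of_le_of_card_ge hP
  have h2 := a.card_le a.bad.ne le_rfl (map_subtype_le (P : Subgroup H)) (P.2.map H.subtype)
  rw [Nat.card_congr ((P : Subgroup H).equivMapOfInjective _ H.subtype_injective).symm.toEquiv] at h2
  rwa [Nat.card_congr (subgroupOfEquivOfLe a.RH).toEquiv]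

variable (h : Amb V U T M)
include h

/-- `H` moves a vector of `V₀` -/
theorem exists_moved [Finite V] : ∃ v ∈ fx V R, ∃ x ∈ H, x • v ≠ v := by
  by_contra hcon
  push Not at hcon
  exact H_not_le a h (ker_le_M a h fun x hx v hv => hcon v hv x hx)

/-- **the FF theorem's hypotheses for `H` on `W`** -/
theorem abs [Finite Y] [Finite V] : ∃ (P : Sylow 2 (XH V H R)) (M₁ : Subgroup (XH V H R)),
    Abs (XH V H R) (Wm V H R) P M₁ ∧ ∀ x : XH V H R, x ∈ P ↔ ∃ r : H, (r : Y) ∈ R ∧ pr V H R r = x := by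
  have : Fact (Nat.Prime 2) := ⟨Nat.prime_two⟩
  obtain ⟨P, hP⟩ := a.exists_syl
  have hmem : ∀ x : XH V H R, x ∈ P.mapSurjective (pr_surjective V H R) ↔
      ∃ r : H, (r : Y) ∈ R ∧ pr V H R r = x := by
    intro x
    constructor
    · rintro ⟨r, hr, rfl⟩
      have h1 : r ∈ (P : Subgroup H) := hr
      rw [hP] at h1
      exact ⟨r, h1, rfl⟩
    · rintro ⟨r, hr, rfl⟩
      have h1 : r ∈ (P : Subgroup H) := by rw [hP]; exact hr
      exact ⟨r, h1, rfl⟩
  have hker : ∀ x : H, pr V H R x = 1 → (x : Y) ∈ M := by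
    intro x hx
    rw [pr_eq_one] at hx
    have h1 := ker_le_M a h (X := zpowers (x : Y)) (by
      intro y hy v hv
      have h2 : zpowers (x : Y) ≤ MulAction.stabilizer Y v := by
        rw [zpowers_le, MulAction.mem_stabilizer_iff]
        exact hx v (fx_le_WW hv)
      exact h2 hy)
    exact h1 (mem_zpowers _)
  -- a proper subgroup of `H` over `R` and the kernel
  have key : ∀ N : Subgroup H, R.subgroupOf H ≤ N → N ≠ ⊤ → ∀ x ∈ N, (x : Y) ∈ M := by
    intro N hN hNt x hx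
    have hlt : N.map H.subtype < H := by
      refine lt_of_le_of_ne (map_subtype_le _) fun h5 => hNt ?_
      rw [eq_top_iff]
      intro x _
      have h6 : (x : Y) ∈ N.map H.subtype := by rw [h5]; exact x.2
      obtain ⟨n, hn, hnx⟩ := h6
      have : n = x := Subtype.ext hnx
      rwa [← this]
    have hle : R ≤ N.map H.subtype := by
      intro r hr
      exact ⟨⟨r, a.RH hr⟩, hN (mem_subgroupOf.2 hr), rfl⟩
    exact a.uniq _ hle hlt ⟨x, hx, rfl⟩
  have hHM : ¬ ∀ x ∈ H, x ∈ M := H_not_le a h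
  refine ⟨P.mapSurjective (pr_surjective V H R), (M.subgroupOf H).map (pr V H R), ?_, hmem⟩
  exact
    { comm := fun v w => vl_inj (by rw [vl_mul, vl_mul, add_comm])
      sq := fun v => vl_inj (by rw [vl_mul, h.two, vl_one])
      faith := pr_faith
      core := by
        intro N hN hN2
        have h1 : N ≤ (P.mapSurjective (pr_surjective V H R) : Subgroup (XH V H R)) := hN2.le_sylow_of_normal _
        set N' := N.comap (pr V H R) with hN'
        have hN'n : N'.Normal := hN.comap _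
        have h2 := frattini_inf P N'
        have h3 : normalizer (((P : Subgroup H) ⊓ N' : Subgroup H) : Set H) = ⊤ := by
          by_contra h4
          apply hHM
          have h5 := key _ (by
            intro r hr
            rw [mem_normalizer_iff]
            have hrP : r ∈ (P : Subgroup H) := by rw [hP]; exact hr
            intro y
            constructor
            · rintro ⟨hy1, hy2⟩
              exact ⟨(P : Subgroup H).mul_mem ((P : Subgroup H).mul_mem hrP hy1) ((P : Subgroup H).inv_mem hrP),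
                hN'n.conj_mem y hy2 _⟩
            · rintro ⟨hy1, hy2⟩
              refine ⟨?_, ?_⟩
              · have := (P : Subgroup H).mul_mem ((P : Subgroup H).mul_mem ((P : Subgroup H).inv_mem hrP) hy1) hrP
                have e : r⁻¹ * (r * y * r⁻¹) * r = y := by group
                rwa [e] at this
              · have := hN'n.conj_mem _ hy2 r⁻¹
                have e : r⁻¹ * (r * y * r⁻¹) * r⁻¹⁻¹ = y := by group
                rwa [e] at this) h4
          have h6 : N' ≤ M.subgroupOf H := by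
            intro y hy
            obtain ⟨p, hp, hpy⟩ := h1 hy
            have h7 : p ∈ N' := by
              rw [hN', mem_comap]
              change pr V H R p = pr V H R y at hpy
              rw [hpy]
              exact hy
            have h8 : (p : Y) ∈ M := h5 p (le_normalizer ⟨hp, h7⟩)
            have h9 : pr V H R (p⁻¹ * y) = 1 := by
              change pr V H R p = pr V H R y at hpy
              rw [map_mul, map_inv, hpy, inv_mul_cancel]
            have h10 := hker _ h9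
            have h11 := M.mul_mem h8 h10
            rw [mem_subgroupOf]
            have e : (p : Y) * ((p⁻¹ * y : H) : Y) = y := by
              rw [Subgroup.coe_mul, Subgroup.coe_inv, mul_inv_cancel_left]
            rwa [e] at h11
          intro x hx
          have h7 : (⟨x, hx⟩ : H) ∈ normalizer (((P : Subgroup H) ⊓ N' : Subgroup H) : Set H) ⊔ N' := by
            rw [h2]; exact mem_top _
          have h8 : normalizer (((P : Subgroup H) ⊓ N' : Subgroup H) : Set H) ⊔ N' ≤ M.subgroupOf H :=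
            sup_le (fun y hy => h5 y hy) h6
          exact h8 h7
        have h4 : ((P : Subgroup H) ⊓ N').Normal := normalizer_eq_top_iff.1 h3
        rw [eq_bot_iff]
        intro x hx
        obtain ⟨p, hp, rfl⟩ := h1 hx
        have hpR : (p : Y) ∈ R := by
          have : p ∈ (P : Subgroup H) := hp
          rw [hP] at this
          exact this
        have hpN : p ∈ (P : Subgroup H) ⊓ N' := ⟨hp, hx⟩
        rw [mem_bot]
        change pr V H R p = 1
        rw [pr_eq_one]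
        intro w hw
        apply QQ_fix a h (q := (p : Y)) _ hw
        intro y hy
        have h5 := (h4.conj_mem p hpN ⟨y, hy⟩).1
        rw [hP] at h5
        exact h5
      TM := by
        rintro _ ⟨r, hr, rfl⟩
        refine ⟨r, ?_, rfl⟩
        have h1 : r ∈ (P : Subgroup H) := hr
        rw [hP] at h1
        exact h.TM (a.RT h1)
      Mne := by
        intro h1
        apply hHM
        intro x hx
        have h2 : pr V H R ⟨x, hx⟩ ∈ (M.subgroupOf H).map (pr V H R) := by rw [h1]; exact mem_top _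
        obtain ⟨m, hm, hmx⟩ := h2
        have h3 : pr V H R (m⁻¹ * ⟨x, hx⟩) = 1 := by
          rw [map_mul, map_inv, hmx, inv_mul_cancel]
        have h4 := M.mul_mem (show (m : Y) ∈ M from hm) (hker _ h3)
        have e : (m : Y) * ((m⁻¹ * ⟨x, hx⟩ : H) : Y) = x := by
          rw [Subgroup.coe_mul, Subgroup.coe_inv, mul_inv_cancel_left]
        rwa [e] at h4
      max := by
        intro K hK
        by_cases h1 : K.comap (pr V H R) = ⊤
        · right
          rw [eq_top_iff]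
          intro x _
          obtain ⟨y, rfl⟩ := pr_surjective V H R x
          have : y ∈ K.comap (pr V H R) := by rw [h1]; exact mem_top _
          exact this
        · left
          have h2 := key _ (by
            intro r hr
            rw [mem_comap]
            apply hK
            exact (hmem _).2 ⟨r, hr, rfl⟩) h1
          intro x hx
          obtain ⟨y, rfl⟩ := pr_surjective V H R x
          exact ⟨y, h2 y hx, rfl⟩
      gen := by
        intro W' hW'
        let W₂ : AddSubgroup V :=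
          { carrier := {v | ∃ m ∈ W', vl V H R m = v}
            add_mem' := by
              rintro _ _ ⟨m, hm, rfl⟩ ⟨n, hn, rfl⟩
              exact ⟨m * n, W'.mul_mem hm hn, vl_mul m n⟩
            zero_mem' := ⟨1, W'.one_mem, vl_one⟩
            neg_mem' := by
              rintro _ ⟨m, hm, rfl⟩
              exact ⟨m⁻¹, W'.inv_mem hm, rfl⟩ }
        have h1 : WW V H R ≤ W₂ := by
          apply WW_le
          intro x hx w hw
          obtain ⟨m, hm⟩ := exists_vl (fx_le_WW (H := H) hw)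
          refine ⟨pr V H R ⟨x, hx⟩ • m, hW' m ?_ _, ?_⟩
          · intro p hp
            obtain ⟨r, hr, rfl⟩ := (hmem p).1 hp
            rw [pr_fix, hm]
            exact hw r hr
          · rw [vl_smul, hm]
        rw [eq_top_iff]
        intro m _
        obtain ⟨n, hn, hnm⟩ := h1 (vl_mem m)
        rwa [← vl_inj hnm]
      nfix := by
        obtain ⟨v, hv, x, hx, hne⟩ := exists_moved a h
        obtain ⟨m, hm⟩ := exists_vl (fx_le_WW (H := H) hv)
        refine ⟨m, fun p hp => ?_, pr V H R ⟨x, hx⟩, fun h1 => hne ?_⟩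
        · obtain ⟨r, hr, rfl⟩ := (hmem p).1 hp
          rw [pr_fix, hm]
          exact hv r hr
        · rw [pr_fix, hm] at h1
          exact h1 }

end Amal

section count

variable {H R : Subgroup Y}

/-- the pointwise stabiliser of `W` -/
def CW (V : Type u) [AddCommGroup V] [DistribMulAction Y V] (H R : Subgroup Y) : Subgroup Y where
  carrier := {y | ∀ w ∈ WW V H R, y • w = w}
  one_mem' := fun w _ => one_smul Y w
  mul_mem' := fun {x y} hx hy w hw => by rw [mul_smul, hy w hw, hx w hw]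
  inv_mem' := fun {x} hx w hw => by rw [inv_smul_eq_iff, hx w hw]

/-- `|A| |B ∩ C(W)| = |B|`, `A` the image of `B` -/
theorem card_im {B : Subgroup Y} (hB : B ≤ H) :
    Nat.card ↥((B.subgroupOf H).map (pr V H R)) * Nat.card ↥(B ⊓ CW V H R) = Nat.card B := by
  let f : B →* XH V H R := (pr V H R).comp (inclusion hB)
  have h1 : f.range = (B.subgroupOf H).map (pr V H R) := by
    ext x
    constructor
    · rintro ⟨b, rfl⟩
      exact ⟨inclusion hB b, mem_subgroupOf.2 b.2, rfl⟩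
    · rintro ⟨b, hb, rfl⟩
      exact ⟨⟨b, hb⟩, rfl⟩
  have h2 : f.ker.map B.subtype = B ⊓ CW V H R := by
    ext x
    constructor
    · rintro ⟨b, hb, rfl⟩
      refine ⟨b.2, ?_⟩
      have h3 : pr V H R (inclusion hB b) = 1 := hb
      rw [pr_eq_one] at h3
      exact h3
    · rintro ⟨h3, h4⟩
      refine ⟨⟨x, h3⟩, ?_, rfl⟩
      change pr V H R (inclusion hB ⟨x, h3⟩) = 1
      rw [pr_eq_one]
      exact h4
  rw [← h1, ← h2, Nat.card_congr (f.ker.equivMapOfInjective _ B.subtype_injective).symm.toEquiv]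
  have h3 := f.ker.card_mul_index
  rw [index_ker] at h3
  rw [← h3, mul_comm]

/-- `|W : C_W(B)|` -/
theorem card_cv [Finite V] {B : Subgroup Y} (hB : B ≤ H) :
    (ClassTwoFusion.Quad.cv (Wm V H R) (((B.subgroupOf H).map (pr V H R) : Subgroup (XH V H R)) : Set (XH V H R))).index
      * Nat.card ↥(WW V H R ⊓ fx V B) = Nat.card ↥(WW V H R) := by
  set K := ClassTwoFusion.Quad.cv (Wm V H R)
    (((B.subgroupOf H).map (pr V H R) : Subgroup (XH V H R)) : Set (XH V H R)) with hK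
  have h1 : Nat.card K = Nat.card ↥(WW V H R ⊓ fx V B) := by
    refine Nat.card_congr
      { toFun := fun m => ⟨vl V H R m, vl_mem _, ?_⟩
        invFun := fun w => ⟨Multiplicative.ofAdd ⟨w, w.2.1⟩, ?_⟩
        left_inv := fun m => rfl
        right_inv := fun w => rfl }
    · intro b hb
      have h2 := m.2 (pr V H R ⟨b, hB hb⟩) ⟨⟨b, hB hb⟩, hb, rfl⟩
      exact pr_fix.1 h2
    · rintro _ ⟨b, hb, rfl⟩
      exact pr_fix.2 (w.2.2 b hb)
  rw [← h1, mul_comm, K.card_mul_index]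
  rfl

/-- (MU) for `C_B(W)`: `|W| |C_B(W)| ≤ |B| |C_W(B)|` -/
theorem mu_W [Finite Y] [Finite V] {B : Subgroup Y} (h2 : ∀ v : V, v + v = 0) (hm : Mem B (Ee V B) (fx V B))
    (hmu : ∀ A₀ ≤ B, Nat.card A₀ * Nat.card ↥(fx V A₀ ⊓ Ee V B) ≤ Nat.card (Ee V B))
    (hW : WW V H R ≤ Ee V B) :
    Nat.card ↥(WW V H R) * Nat.card ↥(B ⊓ CW V H R) ≤ Nat.card B * Nat.card ↥(WW V H R ⊓ fx V B) := by
  have h3 := hmu (B ⊓ CW V H R) inf_le_left
  have h4 : WW V H R ⊔ fx V B ≤ fx V (B ⊓ CW V H R) ⊓ Ee V B := by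
    refine sup_le (le_inf ?_ hW) (le_inf (fx_mono inf_le_left) hm.FE)
    intro w hw b hb
    exact hb.2 w hw
  have h5 : Nat.card ↥(WW V H R ⊔ fx V B) ≤ Nat.card ↥(fx V (B ⊓ CW V H R) ⊓ Ee V B) :=
    Nat.card_le_card_of_injective _ (AddSubgroup.inclusion_injective h4)
  have h6 := card_sup_as (WW V H R) (fx V B)
  rw [hm.card_E h2] at h3
  have h7 : 0 < Nat.card ↥(fx V B) := Nat.card_pos
  have h8 : Nat.card ↥(B ⊓ CW V H R) * Nat.card ↥(WW V H R ⊔ fx V B) ≤ Nat.card ↥(fx V B) * Nat.card B :=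
    (Nat.mul_le_mul_left _ h5).trans h3
  have h9 := Nat.mul_le_mul_right (Nat.card ↥(WW V H R ⊓ fx V B)) h8
  rw [mul_assoc, h6] at h9
  have h10 : Nat.card ↥(fx V B) * (Nat.card ↥(WW V H R) * Nat.card ↥(B ⊓ CW V H R)) ≤
      Nat.card ↥(fx V B) * (Nat.card B * Nat.card ↥(WW V H R ⊓ fx V B)) := by
    calc _ = Nat.card ↥(B ⊓ CW V H R) * (Nat.card ↥(WW V H R) * Nat.card ↥(fx V B)) := by ring
      _ ≤ _ := h9
      _ = _ := by ring
  exact Nat.le_of_mul_le_mul_left h10 h7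

end count

namespace Amal

variable {U : Set (Subgroup Y)} {T : Sylow 2 Y} {M H R : Subgroup Y} {t : Y}

variable (a : Amal U T M H R t) (h : Amb V U T M)
include a h

/-- for `B ≤ R`: `B ∩ C(W) = B ∩ Q` -/
theorem inf_CW [Finite Y] [Finite V] {B : Subgroup Y} (hB : B ≤ R) : B ⊓ CW V H R = B ⊓ QQ H R := by
  ext b
  constructor
  · rintro ⟨h1, h2⟩
    exact ⟨h1, (mem_QQ_iff a h (hB h1)).2 h2⟩
  · rintro ⟨h1, h2⟩
    exact ⟨h1, fun w hw => QQ_fix a h h2 hw⟩

/-- the image of a member -/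
theorem aOff [Finite Y] [Finite V] {B : Subgroup Y} (hB : B ∈ U) (hBH : B ≤ H) (hBQ : ¬ B ≤ CW V H R)
    (hW : WW V H R ≤ Ee V B) : AOff (Wm V H R) ((B.subgroupOf H).map (pr V H R)) where
  comm := by
    rintro _ ⟨x, hx, rfl⟩ _ ⟨y, hy, rfl⟩
    rw [← map_mul, ← map_mul]
    congr 1
    exact Subtype.ext ((h.cls.mem B hB).comm x hx y hy)
  sq := by
    rintro _ ⟨x, hx, rfl⟩
    rw [← map_mul]
    have : x * x = 1 := Subtype.ext ((h.cls.mem B hB).sq x hx)
    rw [this, map_one]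
  ne := by
    intro h1
    apply hBQ
    intro b hb w hw
    have h2 : pr V H R ⟨b, hBH hb⟩ ∈ (B.subgroupOf H).map (pr V H R) := ⟨_, hb, rfl⟩
    rw [h1, mem_bot, pr_eq_one] at h2
    exact h2 w hw
  le := by
    have h1 := mu_W h.two (h.cls.mem B hB) (h.cls.mu B hB) hW
    have h2 := card_im (V := V) (R := R) hBH
    have h3 := card_cv (V := V) (R := R) hBH
    rw [← h2, ← h3] at h1
    have h4 : 0 < Nat.card ↥(B ⊓ CW V H R) := Nat.card_pos
    have h5 : 0 < Nat.card ↥(WW V H R ⊓ fx V B) := Nat.card_pos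
    have h6 := Nat.mul_pos h4 h5
    apply Nat.le_of_mul_le_mul_right _ h6
    calc _ = _ := (mul_assoc _ _ _).symm
      _ = _ := by rw [mul_right_comm]
      _ ≤ _ := h1
      _ = _ := mul_assoc _ _ _

/-- **the FF theorem for `H` on `W`** -/
theorem ff [Finite Y] [Finite V] {B : Subgroup Y} (hB : B ∈ U) (hBH : B ≤ H) (hBQ : ¬ B ≤ CW V H R)
    (hW : WW V H R ≤ Ee V B) : ∃ (P : Sylow 2 (XH V H R)) (M₁ : Subgroup (XH V H R)),
      Abs (XH V H R) (Wm V H R) P M₁ ∧ (∀ x : XH V H R, x ∈ P ↔ ∃ r : H, (r : Y) ∈ R ∧ pr V H R r = x) ∧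
        ANoOver (XH V H R) (Wm V H R) ∧ (AConcl (P : Subgroup (XH V H R)) (Wm V H R) :) := by
  obtain ⟨P, M₁, h1, h2⟩ := a.abs h
  obtain ⟨h3, h4⟩ := aStmt (XH V H R) (Wm V H R) P M₁ h1 ⟨_, aOff a h hB hBH hBQ hW⟩
  exact ⟨P, M₁, h1, h2, h3, h4⟩

/-- **exactness**: `|W| |C_B(W)| = |B| |C_W(B)|` -/
theorem exact [Finite Y] [Finite V] (hno : ANoOver (XH V H R) (Wm V H R)) {B : Subgroup Y} (hB : B ∈ U)
    (hBH : B ≤ H) (hW : WW V H R ≤ Ee V B) :
    Nat.card ↥(WW V H R) * Nat.card ↥(B ⊓ CW V H R) = Nat.card B * Nat.card ↥(WW V H R ⊓ fx V B) := by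
  apply le_antisymm (mu_W h.two (h.cls.mem B hB) (h.cls.mu B hB) hW)
  have h1 := hno ((B.subgroupOf H).map (pr V H R)) (by
    rintro _ ⟨x, hx, rfl⟩ _ ⟨y, hy, rfl⟩
    rw [← map_mul, ← map_mul]
    congr 1
    exact Subtype.ext ((h.cls.mem B hB).comm x hx y hy)) (by
    rintro _ ⟨x, hx, rfl⟩
    rw [← map_mul]
    have : x * x = 1 := Subtype.ext ((h.cls.mem B hB).sq x hx)
    rw [this, map_one])
  have h2 := card_im (V := V) (R := R) hBH
  have h3 := card_cv (V := V) (R := R) hBH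
  rw [← h2, ← h3]
  calc _ = Nat.card ↥((B.subgroupOf H).map (pr V H R)) *
        (Nat.card ↥(B ⊓ CW V H R) * Nat.card ↥(WW V H R ⊓ fx V B)) := mul_assoc _ _ _
    _ ≤ _ := Nat.mul_le_mul_right _ h1
    _ = _ := by ring

end Amal

end Cfsg.Agent.Omega.NO1.TH

end

section


/-!
# A regular vector for an offender (bb OMEGA 19584 (2), 19978 (r3))

`exists_reg` : `X`, `V`, `T` as in the abstract FF theorem, `A ≤ T` an offender: some `v ∈ V` has `C_A(v) = 1`.
-/

set_option autoImplicit false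
set_option linter.unusedSectionVars false

namespace Cfsg.Agent.Omega.NO1.TH

open Subgroup Cfsg.Agent.Omega.FFBr
open Cfsg.Agent.Omega.NatPair (ap)
open Cfsg.Agent.Lib.SL2Mat

universe u

variable {X V : Type u} [Group X] [Group V] [MulDistribMulAction X V]

/-- an element which is trivial on `V / C_V(O²(X))` and on `C_V(O²(X))` -/
theorem eq_one_of_triv {T : Sylow 2 X} {M : Subgroup X} (hA : Abs X V T M) {x : X}
    (h1 : ∀ v : V, (x • v) * v ∈ odd X V) (h2 : ∀ d ∈ odd X V, x • d = d) : x = 1 := by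
  have hodd : ∀ (g : X) (d : V), d ∈ odd X V → g • d ∈ odd X V := by
    intro g d hd y hy
    have h3 := hd (g⁻¹ * y * g) (by
      have : orderOf (g⁻¹ * y * g) = orderOf y := by
        have := orderOf_injective (MulAut.conj g⁻¹).toMonoidHom (MulAut.conj g⁻¹).injective y
        simpa only [_root_.map_inv, _root_.MulEquiv.toMonoidHom_eq_coe, _root_.MonoidHom.coe_coe, _root_.MulAut.inv_apply, _root_.MulAut.conj_symm_apply] using this
      rw [this]; exact hy)
    rw [mul_smul, mul_smul, inv_smul_eq_iff] at h3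
    exact h3
  let N : Subgroup X :=
    { carrier := {y | (∀ v : V, (y • v) * v ∈ odd X V) ∧ ∀ d ∈ odd X V, y • d = d}
      one_mem' := ⟨fun v => by rw [one_smul, hA.sq]; exact one_mem _, fun d _ => one_smul X d⟩
      mul_mem' := by
        rintro y z ⟨hy1, hy2⟩ ⟨hz1, hz2⟩
        refine ⟨fun v => ?_, fun d hd => by rw [mul_smul, hz2 d hd, hy2 d hd]⟩
        have h3 := mul_mem (hy1 (z • v)) (hz1 v)
        have e : y • z • v * (z • v) * (z • v * v) = y • z • v * ((z • v) * (z • v)) * v := by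
          simp only [mul_assoc]
        rw [e, hA.sq, mul_one] at h3
        rwa [mul_smul]
      inv_mem' := by
        rintro y ⟨hy1, hy2⟩
        refine ⟨fun v => ?_, fun d hd => by rw [inv_smul_eq_iff, hy2 d hd]⟩
        have h3 := hodd y⁻¹ _ (hy1 v)
        rw [smul_mul', inv_smul_smul] at h3
        rwa [hA.comm] at h3 }
  have hN : N.Normal := by
    refine ⟨fun y hy g => ?_⟩
    refine ⟨fun v => ?_, fun d hd => ?_⟩
    · have h3 := hodd g _ (hy.1 (g⁻¹ • v))
      rw [smul_mul', smul_inv_smul] at h3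
      rwa [mul_smul, mul_smul]
    · rw [mul_smul, mul_smul, hy.2 _ (hodd g⁻¹ d hd), smul_inv_smul]
  have hN2 : IsPGroup 2 N := by
    rintro ⟨y, hy⟩
    refine ⟨1, Subtype.ext ?_⟩
    rw [pow_one]
    change y ^ 2 = 1
    apply hA.faith
    intro v
    rw [pow_two, mul_smul]
    have h3 := hy.1 v
    obtain ⟨D, hD⟩ : ∃ D, D = y • v * v := ⟨_, rfl⟩
    have h4 : y • v = D * v := by rw [hD, mul_assoc, hA.sq, mul_one]
    rw [← hD] at h3
    rw [h4, smul_mul', hy.2 _ h3, h4, ← mul_assoc, hA.sq, one_mul]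
  have h3 := hA.core N hN hN2
  have h4 : x ∈ N := ⟨h1, h2⟩
  rw [h3, mem_bot] at h4
  exact h4

theorem ap_up'' {F : Type} [Field F] (b : F) (w : Fin 2 → F) : ap (up b) w = ![w 0 + b * w 1, w 1] := by
  rw [NatPair.ap, up]
  funext i
  (revert i; simp [Cfsg.Agent.Lib.SL2Mat.mk, Cfsg.Agent.Lib.SL2Mat.ent, _root_.Fin.forall_fin_succ])

theorem reg_nat {T : Sylow 2 X} {M : Subgroup X} (hA : Abs X V T M) {F : Type} [Field F] {k : ℕ}
    (N : AbsNat F (T : Subgroup X) V k) {A : Subgroup X} (hAT : A ≤ T) (hO : AOff V A) :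
    ∃ v : V, ∀ a ∈ A, a • v = v → a = 1 := by
  obtain ⟨v, hv⟩ := N.surj fun _ => ![0, 1]
  obtain ⟨I, hI, _⟩ := N.off A hAT hO
  refine ⟨v, fun a ha hav => ?_⟩
  obtain ⟨b, _, hb2, hb3⟩ := hI a ha
  have hb : ∀ i, b i = 0 := by
    intro i
    have h1 := hb2 v i
    rw [hav, ap_up'', hv] at h1
    have h2 := congrFun h1 0
    simp at h2
    exact h2.symm
  apply eq_one_of_triv hA _ hb3
  intro w
  rw [← N.ker, N.mul]
  funext i
  have h1 : N.e (a • w) i = ap (up (b i)) (N.e w i) := hb2 w i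
  rw [hb i, ap_up''] at h1
  rw [Pi.add_apply, h1]
  have h2 := congrFun (congrFun (by rw [← N.mul, hA.sq] : N.e w + N.e w = N.e 1) i)
  have h3 : N.e 1 = 0 := (N.ker 1).2 (one_mem _)
  rw [h3] at h2
  funext j
  have h4 := h2 j
  fin_cases j
  · simpa only [_root_.Nat.succ_eq_add_one, _root_.Nat.reduceAdd, _root_.Fin.isValue, _root_.MulZeroClass.zero_mul, _root_.add_zero, _root_.Fin.zero_eta, _root_.Pi.add_apply, _root_.Matrix.cons_val_zero, _root_.Pi.zero_apply] using h4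
  · simpa only [_root_.Nat.succ_eq_add_one, _root_.Nat.reduceAdd, _root_.Fin.isValue, _root_.MulZeroClass.zero_mul, _root_.add_zero, _root_.Fin.mk_one, _root_.Pi.add_apply, _root_.Matrix.cons_val_one, _root_.Matrix.cons_val_fin_one, _root_.Pi.zero_apply] using h4

section sym

variable {k m : ℕ}

theorem reg_sym {T : Sylow 2 X} {M : Subgroup X} (hA : Abs X V T M) (hm : 2 ≤ m)
    (N : AbsSym (T : Subgroup X) V k m) {A : Subgroup X} (hAT : A ≤ T) (hO : AOff V A) :
    ∃ v : V, ∀ a ∈ A, a • v = v → a = 1 := by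
  classical
  obtain ⟨hD, hI⟩ := N.off A hAT hO
  have h4 : 4 ≤ 2 ^ m := by
    calc 4 = 2 ^ 2 := by norm_num
      _ ≤ 2 ^ m := Nat.pow_le_pow_right (by norm_num) hm
  -- pairs
  let Pr : Fin k → Fin (2 ^ m + 1) → Fin (2 ^ m + 1) → Prop := fun i x y =>
    x ≠ y ∧ ∃ b ∈ A, AActsSym N.e b 1 (Function.update 1 i (Equiv.swap x y))
  have hsymm : ∀ i x y, Pr i x y → Pr i y x := by
    rintro i x y ⟨h1, b, hb, hb2⟩
    refine ⟨h1.symm, b, hb, ?_⟩
    rw [Equiv.swap_comm]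
    exact hb2
  have hval : ∀ (i : Fin k) (x y : Fin (2 ^ m + 1)) (b : X), AActsSym N.e b 1 (Function.update 1 i (Equiv.swap x y)) →
      ∀ v w, N.e (b • v) i w = N.e v i (Equiv.swap x y w) := by
    intro i x y b hb v w
    have h1 := hb v i (Equiv.swap x y w)
    rw [Function.update_self, Equiv.swap_apply_self] at h1
    exact h1
  have huniq : ∀ i x y z, Pr i x y → Pr i x z → y = z := by
    rintro i x y z ⟨hxy, b, hb, hb2⟩ ⟨hxz, c, hc, hc2⟩
    by_contra hyz
    -- a vector separating `y` and `z`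
    obtain ⟨w, hwy, hwz⟩ : ∃ w : Fin (2 ^ m + 1), w ≠ y ∧ w ≠ z := by
      by_contra hcon
      push Not at hcon
      have h5 : (Finset.univ : Finset (Fin (2 ^ m + 1))) ⊆ {y, z} := by
        intro w _
        rw [Finset.mem_insert, Finset.mem_singleton]
        by_cases h6 : w = y
        · exact Or.inl h6
        · exact Or.inr (hcon w h6)
      have h6 := Finset.card_le_card h5
      rw [Finset.card_univ, Fintype.card_fin] at h6
      have h7 := Finset.card_insert_le y {z}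
      rw [Finset.card_singleton] at h7
      omega
    obtain ⟨v, hv⟩ := N.surj (fun j => if j = i then (Pi.single y 1 + Pi.single w 1) else 0) (by
      intro j
      by_cases hj : j = i
      · rw [if_pos hj]
        simp only [Pi.add_apply, Finset.sum_add_distrib, Finset.sum_pi_single', Finset.mem_univ, if_true]
        exact CharTwo.add_self_eq_zero 1
      · rw [if_neg hj]; simp)
    have h5 : N.e (b • c • v) i x = N.e (c • b • v) i x := by
      rw [← mul_smul, ← mul_smul, hO.comm b hb c hc]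
    rw [hval i x y b hb2, hval i x z c hc2, hval i x z c hc2, hval i x y b hb2, Equiv.swap_apply_left,
      Equiv.swap_apply_left, Equiv.swap_apply_of_ne_of_ne hxy.symm hyz,
      Equiv.swap_apply_of_ne_of_ne hxz.symm (Ne.symm hyz), hv] at h5
    simp only [if_true, Pi.add_apply] at h5
    rw [Pi.single_eq_same, Pi.single_eq_of_ne hwy.symm, Pi.single_eq_of_ne (Ne.symm hyz),
      Pi.single_eq_of_ne hwz.symm] at h5
    simp only [_root_.add_zero, _root_.one_ne_zero] at h5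
  have h0 : ∀ i x, ¬ Pr i 0 x := by
    rintro i x ⟨h1, b, hb, hb2⟩
    have h2 := N.fix0 b (hAT hb) _ _ hb2 i
    rw [Function.update_self, Equiv.swap_apply_left] at h2
    exact h1 h2.symm
  -- the vector
  let f : Fin k → Fin (2 ^ m + 1) → ZMod 2 := fun i x => if ∃ y, Pr i x y ∧ x < y then 1 else 0
  let g : Fin k → Fin (2 ^ m + 1) → ZMod 2 := fun i => f i + Pi.single 0 (∑ x, f i x)
  obtain ⟨v, hv⟩ := N.surj g (by
    intro i
    have h5 : ∑ x, g i x = ∑ x, f i x + ∑ x, (Pi.single 0 (∑ x, f i x) : Fin (2 ^ m + 1) → ZMod 2) x := by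
      rw [← Finset.sum_add_distrib]
      rfl
    rw [h5, Finset.sum_pi_single', if_pos (Finset.mem_univ _)]
    exact CharTwo.add_self_eq_zero _)
  have hne : ∀ i x y, Pr i x y → N.e v i x ≠ N.e v i y := by
    have key : ∀ i x y, Pr i x y → x < y → N.e v i x ≠ N.e v i y := by
      intro i x y hp hxy
      have hx0 : x ≠ 0 := fun h => h0 i y (h ▸ hp)
      have hy0 : y ≠ 0 := fun h => h0 i x (h ▸ hsymm i x y hp)
      have h1 : f i x = 1 := if_pos ⟨y, hp, hxy⟩
      have h2 : f i y = 0 := by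
        apply if_neg
        rintro ⟨z, hz, hyz⟩
        have h3 := huniq i y x z (hsymm i x y hp) hz
        subst h3
        exact absurd hxy (not_lt.2 hyz.le)
      rw [hv]
      change f i x + (Pi.single 0 (∑ x, f i x) : Fin (2 ^ m + 1) → ZMod 2) x ≠
        f i y + (Pi.single 0 (∑ x, f i x) : Fin (2 ^ m + 1) → ZMod 2) y
      rw [Pi.single_eq_of_ne hx0, Pi.single_eq_of_ne hy0, h1, h2]
      decide
    intro i x y hp
    rcases lt_trichotomy x y with h1 | h1 | h1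
    · exact key i x y hp h1
    · exact absurd h1 hp.1
    · exact (key i y x (hsymm i x y hp) h1).symm
  refine ⟨v, fun a ha hav => ?_⟩
  obtain ⟨τ, hτ, hτ2⟩ := hI a ha
  have hτ1 : ∀ i x, τ i x = x := by
    intro i x
    by_contra hne1
    obtain ⟨h1, b, hb, hb2⟩ := hτ2 i x hne1
    apply hne i x (τ i x) ⟨Ne.symm hne1, b, hb, hb2⟩
    have h2 := hτ v i x
    rw [hav] at h2
    exact h2.symm
  apply eq_one_of_triv hA _ (hD a ha)
  intro w
  rw [← N.ker, N.mul]
  have h3 : N.e 1 = 0 := (N.ker 1).2 (one_mem _)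
  have h4 : N.e w + N.e w = N.e 1 := by rw [← N.mul, hA.sq]
  have h5 : N.e (a • w) = N.e w := by
    funext i x
    have h6 := hτ w i x
    rw [hτ1] at h6
    exact h6
  rw [h5, h4, h3]

end sym

/-- **a regular vector for an offender** -/
theorem exists_reg {T : Sylow 2 X} {M : Subgroup X} (hA : Abs X V T M) (hC : AConcl (T : Subgroup X) V)
    {A : Subgroup X} (hAT : A ≤ T) (hO : AOff V A) : ∃ v : V, ∀ a ∈ A, a • v = v → a = 1 := by
  rcases hC with ⟨F, _, _, _, k, _, ⟨N⟩⟩ | ⟨k, m, _, hm, ⟨N⟩⟩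
  · exact reg_nat hA N hAT hO
  · exact reg_sym hA hm N hAT hO

end Cfsg.Agent.Omega.NO1.TH

end

section


/-!
# N1, BETA: (*) of bb OMEGA 19584 (2) (helper874; fill-in: helper29, helper835)

Hypothesis `hE`: `W ≤ E_B` for all members `B ≤ R`.  For a member `B ≤ H`, `B ≰ M`, with `B₁ = B ∩ Q`:
`exact'` : `|W| |B₁| = |B| |W ∩ F_B|`; `exists_reg'` : some `v ∈ W` has `C_B(v) = B₁`; `ne_bot` : `B₁ ≠ 1`;
`fx_eq` : `C_V(B₁) = W + F_B`; `star` : `B₁ ≰ Q^t`.
-/

set_option autoImplicit false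
set_option linter.unusedSectionVars false

namespace Cfsg.Agent.Omega.NO1.TH

open Subgroup Cfsg.Agent.Omega.NO1.AB Cfsg.Agent.Omega.FFBr
open scoped Pointwise

universe u

variable {Y : Type u} [Group Y] {V : Type u} [AddCommGroup V] [DistribMulAction Y V]

theorem smul_WW {H R : Subgroup Y} {x : Y} (hx : x ∈ H) : x • WW V H R = WW V H R := by
  ext v
  rw [mem_smul_as]
  constructor
  · intro h
    have := smul_mem_WW hx h
    rwa [smul_inv_smul] at this
  · intro h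
    exact smul_mem_WW (H.inv_mem hx) h

theorem smul_le_smul_as {g : Y} {W₁ W₂ : AddSubgroup V} (h : W₁ ≤ W₂) : g • W₁ ≤ g • W₂ := by
  intro v hv
  rw [mem_smul_as] at hv ⊢
  exact h hv

theorem smul_smul_as (g k : Y) (W : AddSubgroup V) : g • k • W = (g * k) • W := by
  rw [mul_smul]

/-- all members `B ≤ R` have `W ≤ E_B` -/
def WE (V : Type u) [AddCommGroup V] [DistribMulAction Y V] (U : Set (Subgroup Y)) (H R : Subgroup Y) : Prop :=
  ∀ B ∈ U, B ≤ R → WW V H R ≤ Ee V B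

namespace Amal

variable {U : Set (Subgroup Y)} {T : Sylow 2 Y} {M H R : Subgroup Y} {t : Y}

section

variable (a : Amal U T M H R t) (h : Amb V U T M)
include a h

/-- a member in `H` is conjugate in `H` to one in `R` -/
theorem exists_conj [Finite Y] {B : Subgroup Y} (hB : B ∈ U) (hBH : B ≤ H) :
    ∃ x ∈ H, MulAut.conj x • B ∈ U ∧ MulAut.conj x • B ≤ R := by
  obtain ⟨x, hx, hxB⟩ := conj_into a.RH a.R2 (fun R' h1 h2 => a.card_le a.bad.ne le_rfl h1 h2) hBH
    (h.cls.mem B hB).isPGroup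
  exact ⟨x, hx, h.cls.conj B hB x, hxB⟩

/-- `W ≤ E_B` for all members `B ≤ H` -/
theorem WW_le_Ee [Finite Y] (hE : WE V U H R) {B : Subgroup Y} (hB : B ∈ U) (hBH : B ≤ H) :
    WW V H R ≤ Ee V B := by
  obtain ⟨x, hx, hxU, hxR⟩ := exists_conj a h hB hBH
  have h1 := hE _ hxU hxR
  rw [Ee_conj] at h1
  have h2 := smul_le_smul_as (g := x⁻¹) h1
  rwa [smul_smul_as, inv_mul_cancel, one_smul, smul_WW (H.inv_mem hx)] at h2

/-- `C_B(W) = B ∩ Q` for 2-subgroups `B ≤ H` -/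
theorem inf_CW' [Finite Y] [Finite V] {B : Subgroup Y} (hB : B ∈ U) (hBH : B ≤ H) :
    B ⊓ CW V H R = B ⊓ QQ H R := by
  obtain ⟨x, hx, hxU, hxR⟩ := exists_conj a h hB hBH
  ext b
  constructor
  · rintro ⟨h1, h2⟩
    refine ⟨h1, ?_⟩
    have h3 : x * b * x⁻¹ ∈ R := hxR (conj_mem_conj h1)
    have h4 : x * b * x⁻¹ ∈ QQ H R := by
      rw [mem_QQ_iff a h h3]
      intro w hw
      rw [mul_smul, mul_smul, h2 _ (smul_mem_WW (H.inv_mem hx) hw), smul_inv_smul]
    have h5 := conj_mem_QQ (H.inv_mem hx) h4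
    have e : x⁻¹ * (x * b * x⁻¹) * x⁻¹⁻¹ = b := by group
    rwa [e] at h5
  · rintro ⟨h1, h2⟩
    exact ⟨h1, fun w hw => QQ_fix a h h2 hw⟩

/-- the FF theorem under (WE) -/
theorem ff' [Finite Y] [Finite V] (hE : WE V U H R) : ∃ (P : Sylow 2 (XH V H R)) (M₁ : Subgroup (XH V H R)),
    Abs (XH V H R) (Wm V H R) P M₁ ∧ (∀ x : XH V H R, x ∈ P ↔ ∃ r : H, (r : Y) ∈ R ∧ pr V H R r = x) ∧
      ANoOver (XH V H R) (Wm V H R) ∧ (AConcl (P : Subgroup (XH V H R)) (Wm V H R) :) := by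
  obtain ⟨B, hB, hBR, hBQ⟩ := exists_not_QQ a h
  refine a.ff h hB (hBR.trans a.RH) (fun h1 => hBQ ?_) (hE B hB hBR)
  have h2 := inf_CW' a h hB (hBR.trans a.RH)
  rw [inf_eq_left.2 h1] at h2
  rw [h2]
  exact inf_le_right

/-- **exactness** -/
theorem exact' [Finite Y] [Finite V] (hE : WE V U H R) {B : Subgroup Y} (hB : B ∈ U) (hBH : B ≤ H) :
    Nat.card ↥(WW V H R) * Nat.card ↥(B ⊓ QQ H R) = Nat.card B * Nat.card ↥(WW V H R ⊓ fx V B) := by
  obtain ⟨P, M₁, _, _, hno, _⟩ := a.ff' h hE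
  rw [← inf_CW' a h hB hBH]
  exact exact a h hno hB hBH (WW_le_Ee a h hE hB hBH)

/-- a vector of `W` which is regular for `B` -/
theorem exists_reg' [Finite Y] [Finite V] (hE : WE V U H R) {B : Subgroup Y} (hB : B ∈ U) (hBH : B ≤ H) :
    ∃ v ∈ WW V H R, ∀ b ∈ B, b • v = v → b ∈ QQ H R := by
  have key : ∀ B : Subgroup Y, B ∈ U → B ≤ R → ∃ v ∈ WW V H R, ∀ b ∈ B, b • v = v → b ∈ QQ H R := by
    intro B hB hBR
    by_cases hBQ : B ≤ QQ H R
    · exact ⟨0, zero_mem _, fun b hb _ => hBQ hb⟩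
    obtain ⟨P, M₁, hA, hP, hno, hC⟩ := a.ff' h hE
    have hBC : ¬ B ≤ CW V H R := by
      intro h1
      apply hBQ
      have h2 := inf_CW' a h hB (hBR.trans a.RH)
      rw [inf_eq_left.2 h1] at h2
      rw [h2]
      exact inf_le_right
    obtain ⟨m, hm⟩ := exists_reg hA hC (A := (B.subgroupOf H).map (pr V H R)) (by
      rintro _ ⟨b, hb, rfl⟩
      exact (hP _).2 ⟨b, hBR hb, rfl⟩) (aOff a h hB (hBR.trans a.RH) hBC (hE B hB hBR))
    refine ⟨vl V H R m, vl_mem m, fun b hb hbm => ?_⟩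
    have h1 := hm (pr V H R ⟨b, a.RH (hBR hb)⟩) ⟨_, hb, rfl⟩ (pr_fix.2 hbm)
    rw [pr_eq_one] at h1
    exact (mem_QQ_iff a h (hBR hb)).2 h1
  obtain ⟨x, hx, hxU, hxR⟩ := exists_conj a h hB hBH
  obtain ⟨v, hv, hreg⟩ := key _ hxU hxR
  refine ⟨x⁻¹ • v, smul_mem_WW (H.inv_mem hx) hv, fun b hb hbv => ?_⟩
  have h1 := hreg (x * b * x⁻¹) (conj_mem_conj hb) (by rw [mul_smul, mul_smul, hbv, smul_inv_smul])
  have h5 := conj_mem_QQ (H.inv_mem hx) h1
  have e : x⁻¹ * (x * b * x⁻¹) * x⁻¹⁻¹ = b := by group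
  rwa [e] at h5

end

/-- `s_v` centralises `v` -/
theorem smul_self_of {B : Subgroup Y} (hm : Mem B (Ee V B) (fx V B)) {w v : V} {s : Y}
    (hs : s ∈ B) (h1 : s • w + w + v ∈ fx V B) : s • v = v := by
  have h3 := h1 s hs
  rw [smul_add, smul_add, ← mul_smul, hm.sq s hs, one_smul] at h3
  -- `w + s w + s v = s w + w + v`
  have h4 : w + s • w + s • v = w + s • w + v := by rw [h3]; abel
  exact add_left_cancel h4

variable (a : Amal U T M H R t) (h : Amb V U T M)
include a h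

/-- **`B ∩ Q ≠ 1`** -/
theorem ne_bot [Finite Y] [Finite V] (hE : WE V U H R) {B : Subgroup Y} (hB : B ∈ U) (hBH : B ≤ H) :
    B ⊓ QQ H R ≠ ⊥ := by
  intro hbot
  have hm := h.cls.mem B hB
  obtain ⟨v, hv, hreg⟩ := exists_reg' a h hE hB hBH
  obtain ⟨w, hw⟩ := hm.ne
  obtain ⟨s, hs, hsv⟩ := hm.surj w hw v (WW_le_Ee a h hE hB hBH hv)
  have h1 := hreg s hs (smul_self_of hm hs hsv)
  have h2 : s ∈ B ⊓ QQ H R := ⟨hs, h1⟩
  rw [hbot, mem_bot] at h2
  subst h2
  rw [one_smul, h.two, zero_add] at hsv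
  have h3 : B ≤ QQ H R := fun b hb => hreg b hb (hsv b hb)
  rw [inf_eq_left.2 h3] at hbot
  exact Mem.ne_bot hm hbot

/-- `C_V(B₁) ≤ E_B` -/
theorem fx_le_Ee [Finite Y] [Finite V] {B B₁ : Subgroup Y} (hB : B ∈ U) (hB₁ : B₁ ≤ B) (hne : B₁ ≠ ⊥) :
    fx V B₁ ≤ Ee V B := by
  intro v hv
  by_contra hvE
  apply hne
  rw [eq_bot_iff]
  intro b hb
  rw [mem_bot]
  apply (h.cls.mem B hB).inj v hvE b (hB₁ hb)
  rw [hv b hb, h.two]
  exact zero_mem _

/-- **`C_V(B₁) = W + F_B`**, `B₁ = B ∩ Q` -/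
theorem fx_eq [Finite Y] [Finite V] (hE : WE V U H R) {B : Subgroup Y} (hB : B ∈ U) (hBH : B ≤ H) :
    fx V (B ⊓ QQ H R) = WW V H R ⊔ fx V B := by
  have hm := h.cls.mem B hB
  have h1 := fx_le_Ee a h hB (B₁ := B ⊓ QQ H R) inf_le_left (ne_bot a h hE hB hBH)
  symm
  apply eq_of_le_as
  · refine sup_le (fun w hw b hb => QQ_fix a h hb.2 hw) (fx_mono inf_le_left)
  · have h2 := h.cls.mu B hB (B ⊓ QQ H R) inf_le_left
    rw [inf_eq_left.2 h1, hm.card_E h.two] at h2
    have h3 := exact' a h hE hB hBH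
    have h4 := card_sup_as (WW V H R) (fx V B)
    have h5 : 0 < Nat.card ↥(B ⊓ QQ H R) := Nat.card_pos
    have h6 : 0 < Nat.card ↥(WW V H R ⊓ fx V B) := Nat.card_pos
    apply Nat.le_of_mul_le_mul_left _ (Nat.mul_pos h5 h6)
    calc Nat.card ↥(B ⊓ QQ H R) * Nat.card ↥(WW V H R ⊓ fx V B) * Nat.card ↥(fx V (B ⊓ QQ H R))
        = Nat.card ↥(WW V H R ⊓ fx V B) * (Nat.card ↥(B ⊓ QQ H R) * Nat.card ↥(fx V (B ⊓ QQ H R))) := by ring
      _ ≤ Nat.card ↥(WW V H R ⊓ fx V B) * (Nat.card ↥(fx V B) * Nat.card B) := Nat.mul_le_mul_left _ h2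
      _ = Nat.card ↥(fx V B) * (Nat.card B * Nat.card ↥(WW V H R ⊓ fx V B)) := by ring
      _ = Nat.card ↥(fx V B) * (Nat.card ↥(WW V H R) * Nat.card ↥(B ⊓ QQ H R)) := by rw [h3]
      _ = Nat.card ↥(B ⊓ QQ H R) * (Nat.card ↥(WW V H R) * Nat.card ↥(fx V B)) := by ring
      _ = Nat.card ↥(B ⊓ QQ H R) * (Nat.card ↥(WW V H R ⊔ fx V B) * Nat.card ↥(WW V H R ⊓ fx V B)) := by rw [h4]
      _ = _ := by ring

/-- `W^t ≤ E_B` for members `B ≤ R` -/
theorem tW_le_Ee (hE : WE V U H R) {B : Subgroup Y} (hB : B ∈ U) (hBR : B ≤ R) : t • WW V H R ≤ Ee V B := by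
  have h1 : MulAut.conj t⁻¹ • B ≤ R := by
    intro y hy
    rw [mem_conj, inv_inv] at hy
    have h2 := a.symm_smul (hBR hy)
    have e : t⁻¹ * (t * y * t⁻¹) * t = y := by group
    rwa [e] at h2
  have h2 := hE _ (h.cls.conj B hB t⁻¹) h1
  rw [Ee_conj] at h2
  have h3 := smul_le_smul_as (g := t) h2
  rwa [smul_smul_as t t⁻¹, mul_inv_cancel, one_smul] at h3

theorem WW_ne_bot [Finite V] : WW V H R ≠ ⊥ := by
  intro h1
  obtain ⟨z, hz0, hz⟩ := exists_z a h
  have h2 : z ∈ WW V H R := fx_le_WW (fx_mono a.RT hz)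
  rw [h1] at h2
  exact hz0 h2

/-- **(*)** of #19584 (2) -/
theorem star [Finite Y] [Finite V] (hE : WE V U H R) {B : Subgroup Y} (hB : B ∈ U) (hBH : B ≤ H) (hBM : ¬ B ≤ M) :
    ∃ b ∈ B ⊓ QQ H R, b ∉ MulAut.conj t • QQ H R := by
  by_contra hcon
  push Not at hcon
  have hm := h.cls.mem B hB
  -- `W^t ≤ C_V(B₁) = W + F_B`
  have h1 : t • WW V H R ≤ WW V H R ⊔ fx V B := by
    rw [← fx_eq a h hE hB hBH]
    intro v hv b hb
    rw [mem_smul_as] at hv
    have h2 := hcon b hb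
    rw [mem_conj] at h2
    have h3 := QQ_fix a h h2 hv
    rw [mul_smul, mul_smul, smul_inv_smul, inv_smul_eq_iff, smul_inv_smul] at h3
    exact h3
  set N := WW V H R ⊔ t • WW V H R with hN
  have hNB : ∀ b ∈ B, ∀ v ∈ N, b • v ∈ N := by
    intro b hb v hv
    rw [hN, AddSubgroup.mem_sup] at hv
    obtain ⟨x, hx, y, hy, rfl⟩ := hv
    rw [smul_add]
    refine N.add_mem ((le_sup_left : WW V H R ≤ N) (smul_mem_WW (hBH hb) hx)) ?_
    have h2 := h1 hy
    rw [AddSubgroup.mem_sup] at h2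
    obtain ⟨w, hw, f, hf, hwf⟩ := h2
    have h3 : b • y = y + (b • w + w) := by
      rw [← hwf, smul_add, hf b hb]
      have e : w + f + (b • w + w) = b • w + f + (w + w) := by abel
      rw [e, h.two, add_zero]
    rw [h3]
    refine N.add_mem ((le_sup_right : t • WW V H R ≤ N) hy) ((le_sup_left : WW V H R ≤ N) ?_)
    exact add_mem (smul_mem_WW (hBH hb) hw) hw
  have hNR : ∀ r ∈ R, ∀ v ∈ N, r • v ∈ N := by
    intro r hr v hv
    rw [hN, AddSubgroup.mem_sup] at hv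
    obtain ⟨x, hx, y, hy, rfl⟩ := hv
    rw [smul_add]
    refine N.add_mem ((le_sup_left : WW V H R ≤ N) (smul_mem_WW (a.RH hr) hx)) ((le_sup_right : t • WW V H R ≤ N) ?_)
    rw [mem_smul_as] at hy ⊢
    have h2 := smul_mem_WW (a.RH (a.symm_smul hr)) hy
    rwa [mul_smul, mul_smul, smul_inv_smul] at h2
  have hNt : ∀ v ∈ N, t • v ∈ N := by
    intro v hv
    rw [hN, AddSubgroup.mem_sup] at hv
    obtain ⟨x, hx, y, hy, rfl⟩ := hv
    rw [smul_add, add_comm]
    refine N.add_mem ((le_sup_left : WW V H R ≤ N) ?_) ((le_sup_right : t • WW V H R ≤ N) ?_)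
    · rw [mem_smul_as] at hy
      have h2 := smul_mem_WW (a.RH a.t_sq) hy
      rwa [mul_smul, smul_inv_smul] at h2
    · exact smul_mem_smul_as hx
  have hNH : ∀ x ∈ H, ∀ v ∈ N, x • v ∈ N := by
    let K : Subgroup Y :=
      { carrier := {x | ∀ v ∈ N, x • v ∈ N ∧ x⁻¹ • v ∈ N}
        one_mem' := fun v hv => by rw [inv_one, one_smul]; exact ⟨hv, hv⟩
        mul_mem' := fun {x y} hx hy v hv => by
          rw [mul_inv_rev, mul_smul, mul_smul]
          exact ⟨(hx _ (hy v hv).1).1, (hy _ (hx v hv).2).2⟩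
        inv_mem' := fun {x} hx v hv => by
          rw [inv_inv]
          exact ⟨(hx v hv).2, (hx v hv).1⟩ }
    have h2 : H ≤ K := by
      rw [← a.gen hBH hBM]
      exact sup_le (fun r hr v hv => ⟨hNR r hr v hv, hNR _ (R.inv_mem hr) v hv⟩)
        (fun b hb v hv => ⟨hNB b hb v hv, hNB _ (B.inv_mem hb) v hv⟩)
    exact fun x hx v hv => (h2 hx v hv).1
  rcases no_sub a h hNH hNt with h2 | h2
  · apply WW_ne_bot a h
    rw [eq_bot_iff, ← h2]
    exact le_sup_left
  · obtain ⟨B₀, hB₀, hB₀R⟩ := a.memR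
    exact h2 B₀ hB₀ (sup_le (hE B₀ hB₀ hB₀R) (tW_le_Ee a h hE hB₀ hB₀R))

end Amal

end Cfsg.Agent.Omega.NO1.TH

end

section


/-!
# N1, the amalgam `(H, H^t)`, case `k = 1` (bb OMEGA 20297, helper503): the hypotheses

`R = T_H`, `W = WW V H R`, `Q = QQ H R = C_R(W)`, `D = C_W(O²(H))`, `W₁ / D` the fixed points of the root group in
the natural module `W / D`, `P = C_R(W₁ / D)` the preimage of the root group.  Field automorphisms in `R / Q` are
allowed.  `TwoK` : both sides `H`, `H' = H^t`.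
-/

set_option autoImplicit false
set_option linter.unusedSectionVars false

namespace Cfsg.Agent.Omega.NO1.TH

open Subgroup Cfsg.Agent.Omega.NO1.AB
open scoped Pointwise

universe u

variable {Y : Type u} [Group Y]

/-- an elementary abelian subgroup -/
def ElAb (A : Subgroup Y) : Prop := (∀ a ∈ A, ∀ b ∈ A, a * b = b * a) ∧ ∀ a ∈ A, a * a = 1

/-- `W / D` is a natural `SL₂(c)`-module for `H`, `R / Q` a root group with field automorphisms. -/
structure KOne (V : Type u) [AddCommGroup V] [DistribMulAction Y V] (U : Set (Subgroup Y)) (M H R P : Subgroup Y)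
    (D W₁ : AddSubgroup V) (c : ℕ) : Prop where
  two_le : 2 ≤ c
  DW : D ≤ W₁
  W₁W : W₁ ≤ WW V H R
  D_H : ∀ x ∈ H, ∀ w ∈ D, x • w ∈ D
  W₁_R : ∀ x ∈ R, ∀ w ∈ W₁, x • w ∈ W₁
  QP : QQ H R ≤ P
  PR : P ≤ R
  mem_P : ∀ x ∈ R, (∀ w ∈ W₁, x • w + w ∈ D) → x ∈ P
  P_fix : ∀ x ∈ P, ∀ w ∈ W₁, x • w = w
  P_comm : ∀ x ∈ P, ∀ w ∈ WW V H R, x • w + w ∈ W₁
  free : ∀ x ∈ P, ∀ w ∈ WW V H R, w ∉ W₁ → x • w + w ∈ D → x ∈ QQ H R
  onto : ∀ w ∈ WW V H R, w ∉ W₁ → ∀ v ∈ W₁, ∃ x ∈ P, x • w + w + v ∈ D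
  card_W : Nat.card ↥(WW V H R) = c * Nat.card W₁
  card_W₁ : Nat.card W₁ = c * Nat.card D
  card_P : Nat.card P = c * Nat.card ↥(QQ H R)
  /-- `C_D(R) = C_V(H)` -/
  D_fix : ∀ w ∈ D, (∀ r ∈ R, r • w = w) → ∀ x ∈ H, x • w = w
  /-- the points of `W / D` -/
  opp : ∀ x ∈ H, x ∉ M → ∀ w ∈ W₁, x • w ∈ W₁ → w ∈ D
  stab : ∀ x ∈ H, x ∈ M → ∀ w ∈ W₁, x • w ∈ W₁
  /-- members -/
  cover : ∀ B ∈ U, B ≤ R → ¬ B ≤ QQ H R → B ≤ P ∧ P ≤ B ⊔ QQ H R
  /-- no over-offender; exact offenders; elementary abelian subgroups of `R / Q` -/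
  noOver : ∀ A ≤ R, ElAb A → Nat.card A * Nat.card ↥(fx V A ⊓ WW V H R) ≤
    Nat.card ↥(A ⊓ QQ H R) * Nat.card ↥(WW V H R)
  exactOff : ∀ A ≤ R, ElAb A → ¬ A ≤ QQ H R → Nat.card ↥(A ⊓ QQ H R) * Nat.card ↥(WW V H R) ≤
    Nat.card A * Nat.card ↥(fx V A ⊓ WW V H R) → A ≤ P ∧ P ≤ A ⊔ QQ H R
  ea : ∀ A ≤ R, ElAb A → Nat.card A ≤ c * Nat.card ↥(A ⊓ QQ H R)
  fld : ∀ A ≤ R, ElAb A → ¬ A ≤ P → Nat.card A = c * Nat.card ↥(A ⊓ QQ H R) →
    c = 4 ∧ ¬ A ⊓ P ≤ QQ H R ∧ Nat.card R ≤ 2 * Nat.card P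

variable {V : Type u} [AddCommGroup V] [DistribMulAction Y V]

/-! ### Transport with `t` -/

theorem conj_t_mem_QQ {H H' R : Subgroup Y} {t : Y} (htR : ∀ r ∈ R, t * r * t⁻¹ ∈ R)
    (h1 : ∀ x ∈ H', t⁻¹ * x * t ∈ H) {q : Y} (hq : q ∈ QQ H R) : t * q * t⁻¹ ∈ QQ H' R := by
  intro x hx
  have h2 := htR _ (hq _ (h1 x hx))
  have e : t * (t⁻¹ * x * t * q * (t⁻¹ * x * t)⁻¹) * t⁻¹ = x * (t * q * t⁻¹) * x⁻¹ := by group
  rwa [e] at h2

theorem QQ_conj {H R : Subgroup Y} {t : Y} (h1 : ∀ r ∈ R, t * r * t⁻¹ ∈ R) (h2 : ∀ r ∈ R, t⁻¹ * r * t ∈ R) :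
    QQ (MulAut.conj t • H) R = MulAut.conj t • QQ H R := by
  ext y
  rw [mem_conj]
  constructor
  · intro h x hx
    have h3 := h2 _ (h _ (conj_mem_conj (g := t) hx))
    have e : t⁻¹ * (t * x * t⁻¹ * y * (t * x * t⁻¹)⁻¹) * t = x * (t⁻¹ * y * t) * x⁻¹ := by group
    rwa [e] at h3
  · intro h
    have h3 := conj_t_mem_QQ (H' := MulAut.conj t • H) h1 (fun x hx => by rwa [mem_conj] at hx) h
    have e : t * (t⁻¹ * y * t) * t⁻¹ = y := by group
    rwa [e] at h3

theorem WW_conj {H R : Subgroup Y} {t : Y} (h1 : ∀ v ∈ fx V R, t • v ∈ fx V R) (h2 : ∀ v ∈ fx V R, t⁻¹ • v ∈ fx V R) :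
    WW V (MulAut.conj t • H) R = t • WW V H R := by
  apply le_antisymm
  · apply WW_le
    intro x hx w hw
    rw [mem_conj] at hx
    rw [mem_smul_as]
    have e : t⁻¹ • x • w = (t⁻¹ * x * t) • (t⁻¹ • w) := by
      rw [← mul_smul, ← mul_smul]; congr 1; group
    rw [e]
    exact smul_mem_WW hx (fx_le_WW (h2 w hw))
  · intro v hv
    rw [mem_smul_as] at hv
    have key : ∀ w ∈ WW V H R, t • w ∈ WW V (MulAut.conj t • H) R := by
      intro w hw
      induction hw using AddSubgroup.closure_induction with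
      | mem v hv =>
        obtain ⟨x, hx, w, hw, rfl⟩ := hv
        have e : t • x • w = (t * x * t⁻¹) • (t • w) := by
          rw [← mul_smul, ← mul_smul]; congr 1; group
        rw [e]
        exact smul_mem_WW (conj_mem_conj hx) (fx_le_WW (h1 w hw))
      | zero => rw [smul_zero]; exact zero_mem _
      | add a b _ _ h3 h4 => rw [smul_add]; exact add_mem h3 h4
      | neg a _ h3 => rw [smul_neg]; exact neg_mem h3
    have := key _ hv
    rwa [smul_inv_smul] at this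

/-- `(H^t, R, t)` is again an amalgam -/
theorem Amal.conj_t {U : Set (Subgroup Y)} {T : Sylow 2 Y} {M H R : Subgroup Y} {t : Y} (hc : Cls V U)
    (hTM : (T : Subgroup Y) ≤ M) (a : Amal U T M H R t) : Amal U T M (MulAut.conj t • H) R t where
  bad := a.bad.conj hc t
  RH := fun r hr => by
    rw [mem_conj]
    exact a.RH (a.symm_smul hr)
  RT := a.RT
  memR := a.memR
  le_card := a.le_card
  one := a.one
  uniq := fun X hRX hXH => by
    have h1 : MulAut.conj t⁻¹ • X ≤ M := by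
      apply a.uniq
      · intro r hr
        rw [mem_conj, inv_inv]
        exact hRX (a.t_norm r hr)
      · refine lt_of_le_of_ne ?_ ?_
        · rw [conj_le_iff, inv_inv]
          exact hXH.le
        · intro h2
          apply hXH.ne
          rw [← h2, conj_inv_smul]
    have htM : t ∈ M := hTM a.t_T
    intro y hy
    have h2 := h1 (conj_mem_conj (g := t⁻¹) hy)
    have h3 := M.mul_mem (M.mul_mem htM h2) (M.inv_mem htM)
    have e : t * (t⁻¹ * y * t⁻¹⁻¹) * t⁻¹ = y := by group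
    rwa [e] at h3
  t_T := a.t_T
  t_not := a.t_not
  t_sq := a.t_sq
  t_norm := a.t_norm
  top := by
    rw [eq_top_iff, ← a.top]
    have ht : t ∈ MulAut.conj t • H ⊔ zpowers t := mem_sup_right (mem_zpowers t)
    refine sup_le ?_ le_sup_right
    intro x hx
    have h1 : t * x * t⁻¹ ∈ MulAut.conj t • H ⊔ zpowers t := mem_sup_left (conj_mem_conj hx)
    have h2 := mul_mem (mul_mem (inv_mem ht) h1) ht
    have e : t⁻¹ * (t * x * t⁻¹) * t = x := by group
    rwa [e] at h2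

/-! ### Transport of `KOne` -/

theorem ElAb.conj {A : Subgroup Y} (h : ElAb A) (g : Y) : ElAb (MulAut.conj g • A) := by
  refine ⟨fun a ha b hb => ?_, fun a ha => ?_⟩
  · rw [mem_conj] at ha hb
    have h1 := h.1 _ ha _ hb
    have e1 : g⁻¹ * a * g * (g⁻¹ * b * g) = g⁻¹ * (a * b) * g := by group
    have e2 : g⁻¹ * b * g * (g⁻¹ * a * g) = g⁻¹ * (b * a) * g := by group
    rw [e1, e2] at h1
    exact mul_left_cancel (mul_right_cancel h1)
  · rw [mem_conj] at ha
    have h1 := h.2 _ ha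
    have e1 : g⁻¹ * a * g * (g⁻¹ * a * g) = g⁻¹ * (a * a) * g := by group
    rw [e1] at h1
    have h2 : g * (g⁻¹ * (a * a) * g) * g⁻¹ = g * 1 * g⁻¹ := by rw [h1]
    have e2 : g * (g⁻¹ * (a * a) * g) * g⁻¹ = a * a := by group
    rw [e2] at h2
    rw [h2]; group

theorem ElAb.mono {A B : Subgroup Y} (h : ElAb A) (hBA : B ≤ A) : ElAb B :=
  ⟨fun a ha b hb => h.1 a (hBA ha) b (hBA hb), fun a ha => h.2 a (hBA ha)⟩

theorem Mem.elAb {A : Subgroup Y} {E F : AddSubgroup V} (h : Mem A E F) : ElAb A := ⟨h.comm, h.sq⟩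

theorem conj_inf (g : Y) (A B : Subgroup Y) : MulAut.conj g • (A ⊓ B) = MulAut.conj g • A ⊓ MulAut.conj g • B := by
  ext y
  simp only [mem_conj, mem_inf]

theorem smul_inf_as (g : Y) (A B : AddSubgroup V) : g • (A ⊓ B) = g • A ⊓ g • B := by
  ext y
  simp only [mem_smul_as, AddSubgroup.mem_inf]

/-- the orders in `noOver` etc. after conjugation with `t⁻¹` -/
theorem card_inf_conj (t : Y) (A Q : Subgroup Y) :
    Nat.card ↥(MulAut.conj t⁻¹ • A ⊓ Q) = Nat.card ↥(A ⊓ MulAut.conj t • Q) := by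
  rw [← conj_card t (MulAut.conj t⁻¹ • A ⊓ Q), conj_inf, conj_inv_smul]

theorem card_fx_conj (t : Y) (A : Subgroup Y) (W : AddSubgroup V) :
    Nat.card ↥(fx V (MulAut.conj t⁻¹ • A) ⊓ W) = Nat.card ↥(fx V A ⊓ t • W) := by
  rw [fx_conj, ← card_smul_as t (t⁻¹ • fx V A ⊓ W), smul_inf_as, smul_smul_as, mul_inv_cancel, one_smul]

theorem conj_le_conj_iff {H K : Subgroup Y} (g : Y) : MulAut.conj g • H ≤ MulAut.conj g • K ↔ H ≤ K := by
  constructor
  · intro h y hy
    have := h (conj_mem_conj (g := g) hy)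
    rw [mem_conj] at this
    have e : g⁻¹ * (g * y * g⁻¹) * g = y := by group
    rwa [e] at this
  · exact conj_le_conj g

theorem KOne.conj_t [Finite Y] {U : Set (Subgroup Y)} {T : Sylow 2 Y} {M H R P : Subgroup Y} {D W₁ : AddSubgroup V}
    {c : ℕ} {t : Y} (amb : Amb V U T M) (a : Amal U T M H R t) (k : KOne V U M H R P D W₁ c) :
    KOne V U M (MulAut.conj t • H) R (MulAut.conj t • P) (t • D) (t • W₁) c := by
  have hQ : QQ (MulAut.conj t • H) R = MulAut.conj t • QQ H R := QQ_conj a.t_norm fun r hr => a.symm_smul hr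
  have hW : WW V (MulAut.conj t • H) R = t • WW V H R := WW_conj (fun v => a.smul_V0) fun v => a.smul_V0'
  have htM : t ∈ M := amb.TM a.t_T
  have hsm : ∀ {x : Y} {v : V}, t⁻¹ • x • v = (t⁻¹ * x * t) • t⁻¹ • v := by
    intro x v
    rw [← mul_smul, ← mul_smul]; congr 1; group
  have hRR : MulAut.conj t⁻¹ • R ≤ R := by
    intro y hy
    rw [mem_conj, inv_inv] at hy
    have h1 := a.symm_smul hy
    have e : t⁻¹ * (t * y * t⁻¹) * t = y := by group
    rwa [e] at h1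
  have hRt : MulAut.conj t • R = R := by
    apply eq_of_le_of_card_ge
    · intro y hy
      rw [mem_conj] at hy
      have h1 := a.t_norm _ hy
      have e : t * (t⁻¹ * y * t) * t⁻¹ = y := by group
      rwa [e] at h1
    · rw [conj_card]
  have hA : ∀ A : Subgroup Y, A ≤ R → MulAut.conj t⁻¹ • A ≤ R := fun A hA => (conj_le_conj _ hA).trans hRR
  have hle : ∀ {A K : Subgroup Y}, MulAut.conj t⁻¹ • A ≤ K ↔ A ≤ MulAut.conj t • K := by
    intro A K
    rw [conj_le_iff, inv_inv]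
  refine
    { two_le := k.two_le
      DW := smul_le_smul_as k.DW
      W₁W := by rw [hW]; exact smul_le_smul_as k.W₁W
      D_H := fun x hx w hw => ?_
      W₁_R := fun x hx w hw => ?_
      QP := by rw [hQ]; exact conj_le_conj t k.QP
      PR := fun x hx => ?_
      mem_P := fun x hx hw => ?_
      P_fix := fun x hx w hw => ?_
      P_comm := fun x hx w hw => ?_
      free := fun x hx w hw hw1 h1 => ?_
      onto := fun w hw hw1 v hv => ?_
      card_W := by rw [hW, card_smul_as, card_smul_as]; exact k.card_W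
      card_W₁ := by rw [card_smul_as, card_smul_as]; exact k.card_W₁
      card_P := by rw [hQ, conj_card, conj_card]; exact k.card_P
      D_fix := fun w hw hR x hx => ?_
      opp := fun x hx hxM w hw h1 => ?_
      stab := fun x hx hxM w hw => ?_
      cover := fun B hB hBR hBQ => ?_
      noOver := fun A hAR hel => ?_
      exactOff := fun A hAR hel hAQ h1 => ?_
      ea := fun A hAR hel => ?_
      fld := fun A hAR hel hAP hc => ?_ }
  · rw [mem_conj] at hx
    rw [mem_smul_as] at hw ⊢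
    rw [hsm]
    exact k.D_H _ hx _ hw
  · rw [mem_smul_as] at hw ⊢
    rw [hsm]
    exact k.W₁_R _ (a.symm_smul hx) _ hw
  · rw [← hRt]
    exact conj_le_conj t k.PR hx
  · rw [mem_conj]
    apply k.mem_P _ (a.symm_smul hx)
    intro w hw1
    have h2 := hw _ (smul_mem_smul_as (g := t) hw1)
    rw [mem_smul_as, smul_add, hsm, inv_smul_smul] at h2
    exact h2
  · rw [mem_conj] at hx
    rw [mem_smul_as] at hw
    have h2 := k.P_fix _ hx _ hw
    rw [← hsm, smul_left_cancel_iff] at h2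
    exact h2
  · rw [mem_conj] at hx
    rw [hW, mem_smul_as] at hw
    rw [mem_smul_as, smul_add, hsm]
    exact k.P_comm _ hx _ hw
  · rw [mem_conj] at hx
    rw [hW, mem_smul_as] at hw
    rw [mem_smul_as] at hw1
    rw [mem_smul_as, smul_add, hsm] at h1
    rw [hQ, mem_conj]
    exact k.free _ hx _ hw hw1 h1
  · rw [hW, mem_smul_as] at hw
    rw [mem_smul_as] at hw1 hv
    obtain ⟨x, hx, h1⟩ := k.onto _ hw hw1 _ hv
    refine ⟨t * x * t⁻¹, conj_mem_conj hx, ?_⟩
    rw [mem_smul_as, smul_add, smul_add, hsm]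
    have e : t⁻¹ * (t * x * t⁻¹) * t = x := by group
    rw [e]
    exact h1
  · rw [mem_smul_as] at hw
    rw [mem_conj] at hx
    have h1 := k.D_fix _ hw (fun r hr => by
      have h2 := hR _ (a.t_norm r hr)
      have h3 : t⁻¹ • (t * r * t⁻¹) • w = t⁻¹ • w := by rw [h2]
      rw [hsm] at h3
      have e : t⁻¹ * (t * r * t⁻¹) * t = r := by group
      rwa [e] at h3) _ hx
    rw [← hsm, smul_left_cancel_iff] at h1
    exact h1
  · rw [mem_conj] at hx
    rw [mem_smul_as] at hw h1 ⊢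
    rw [hsm] at h1
    refine k.opp _ hx (fun h2 => hxM ?_) _ hw h1
    have h3 := M.mul_mem (M.mul_mem htM h2) (M.inv_mem htM)
    have e : t * (t⁻¹ * x * t) * t⁻¹ = x := by group
    rwa [e] at h3
  · rw [mem_conj] at hx
    rw [mem_smul_as] at hw ⊢
    rw [hsm]
    exact k.stab _ hx (M.mul_mem (M.mul_mem (M.inv_mem htM) hxM) htM) _ hw
  · have h1 := k.cover _ (amb.cls.conj B hB t⁻¹) (hA B hBR) (fun h2 => hBQ (by rw [hQ, ← hle]; exact h2))
    refine ⟨hle.1 h1.1, ?_⟩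
    rw [hQ]
    have h2 := conj_le_conj t h1.2
    rw [smul_sup, conj_inv_smul] at h2
    exact h2
  · have h1 := k.noOver _ (hA A hAR) (hel.conj t⁻¹)
    rw [conj_card, card_inf_conj, card_fx_conj] at h1
    rw [hQ, hW, card_smul_as]
    exact h1
  · have h2 := k.exactOff _ (hA A hAR) (hel.conj t⁻¹) (fun h2 => hAQ (by rw [hQ, ← hle]; exact h2)) (by
      rw [conj_card, card_inf_conj, card_fx_conj]
      rw [hQ, hW, card_smul_as] at h1
      exact h1)
    refine ⟨hle.1 h2.1, ?_⟩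
    rw [hQ]
    have h3 := conj_le_conj t h2.2
    rw [smul_sup, conj_inv_smul] at h3
    exact h3
  · have h1 := k.ea _ (hA A hAR) (hel.conj t⁻¹)
    rw [conj_card, card_inf_conj] at h1
    rw [hQ]
    exact h1
  · have h1 := k.fld _ (hA A hAR) (hel.conj t⁻¹) (fun h2 => hAP (hle.1 h2)) (by
      rw [conj_card, card_inf_conj]
      rw [hQ] at hc
      exact hc)
    refine ⟨h1.1, fun h2 => h1.2.1 ?_, by rw [conj_card]; exact h1.2.2⟩
    rw [hQ] at h2
    have h3 := conj_le_conj t⁻¹ h2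
    rw [conj_inf] at h3
    have e : MulAut.conj t⁻¹ • MulAut.conj t • QQ H R = QQ H R := conj_inv_smul' t _
    have e2 : MulAut.conj t⁻¹ • MulAut.conj t • P = P := conj_inv_smul' t _
    rwa [e, e2] at h3

/-- Both sides of the amalgam, `H' = H^t`; `WE` : no member in `R` of type ALPHA (#20114). -/
structure TwoK (V : Type u) [AddCommGroup V] [DistribMulAction Y V] (U : Set (Subgroup Y)) (T : Sylow 2 Y)
    (M H H' R P P' : Subgroup Y) (D D' W₁ W₁' : AddSubgroup V) (c : ℕ) (t : Y) : Prop where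
  amb : Amb V U T M
  a : Amal U T M H R t
  a' : Amal U T M H' R t
  k : KOne V U M H R P D W₁ c
  k' : KOne V U M H' R P' D' W₁' c
  H'_eq : H' = MulAut.conj t • H
  H_eq : H = MulAut.conj t • H'
  P'_eq : P' = MulAut.conj t • P
  P_eq : P = MulAut.conj t • P'
  W₁'_eq : W₁' = t • W₁
  W₁_eq : W₁ = t • W₁'
  D'_eq : D' = t • D
  D_eq : D = t • D'
  we : WE V U H R
  we' : WE V U H' R

theorem TwoK.swap {U : Set (Subgroup Y)} {T : Sylow 2 Y} {M H H' R P P' : Subgroup Y} {D D' W₁ W₁' : AddSubgroup V}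
    {c : ℕ} {t : Y} (h : TwoK V U T M H H' R P P' D D' W₁ W₁' c t) :
    TwoK V U T M H' H R P' P D' D W₁' W₁ c t where
  amb := h.amb
  a := h.a'
  a' := h.a
  k := h.k'
  k' := h.k
  H'_eq := h.H_eq
  H_eq := h.H'_eq
  P'_eq := h.P_eq
  P_eq := h.P'_eq
  W₁'_eq := h.W₁_eq
  W₁_eq := h.W₁'_eq
  D'_eq := h.D_eq
  D_eq := h.D'_eq
  we := h.we'
  we' := h.we

theorem conj_of_mem [Finite Y] {K : Subgroup Y} {x : Y} (hx : ∀ k ∈ K, x * k * x⁻¹ ∈ K) : MulAut.conj x • K = K := by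
  apply eq_of_le_of_card_ge
  · intro y hy
    rw [mem_conj] at hy
    have h1 := hx _ hy
    have e : x * (x⁻¹ * y * x) * x⁻¹ = y := by group
    rwa [e] at h1
  · rw [conj_card]

theorem smul_of_mem [Finite V] {W : AddSubgroup V} {x : Y} (hx : ∀ w ∈ W, x • w ∈ W) : x • W = W := by
  apply eq_of_le_as
  · intro v hv
    rw [mem_smul_as] at hv
    have := hx _ hv
    rwa [smul_inv_smul] at this
  · rw [card_smul_as]

/-- `P ⊴ R` -/
theorem KOne.P_norm (h2 : ∀ v : V, v + v = 0) {U : Set (Subgroup Y)} {M H R P : Subgroup Y} {D W₁ : AddSubgroup V}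
    {c : ℕ} (k : KOne V U M H R P D W₁ c) {x p : Y} (hx : x ∈ R) (hp : p ∈ P) : x * p * x⁻¹ ∈ P := by
  apply k.mem_P _ (mul_mem (mul_mem hx (k.PR hp)) (inv_mem hx))
  intro w hw
  have h1 := k.P_fix _ hp _ (k.W₁_R _ (R.inv_mem hx) _ hw)
  have e : (x * p * x⁻¹) • w = x • p • x⁻¹ • w := by rw [← mul_smul, ← mul_smul, mul_assoc]
  rw [e, h1, smul_inv_smul, h2]
  exact zero_mem _

theorem KOne.twoK [Finite Y] [Finite V] {U : Set (Subgroup Y)} {T : Sylow 2 Y} {M H R P : Subgroup Y}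
    {D W₁ : AddSubgroup V} {c : ℕ} {t : Y} (amb : Amb V U T M) (a : Amal U T M H R t)
    (k : KOne V U M H R P D W₁ c) (we : WE V U H R) :
    TwoK V U T M H (MulAut.conj t • H) R P (MulAut.conj t • P) D (t • D) W₁ (t • W₁) c t where
  amb := amb
  a := a
  a' := a.conj_t amb.cls amb.TM
  k := k
  k' := k.conj_t amb a
  H'_eq := rfl
  H_eq := by
    rw [conj_smul_smul]
    exact (conj_of_mem fun x hx => H.mul_mem (H.mul_mem (a.RH a.t_sq) hx) (H.inv_mem (a.RH a.t_sq))).symm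
  P'_eq := rfl
  P_eq := by
    rw [conj_smul_smul]
    exact (conj_of_mem fun x hx => k.P_norm amb.two a.t_sq hx).symm
  W₁'_eq := rfl
  W₁_eq := by
    rw [smul_smul_as]
    exact (smul_of_mem fun w hw => k.W₁_R _ a.t_sq w hw).symm
  D'_eq := rfl
  D_eq := by
    rw [smul_smul_as]
    exact (smul_of_mem fun w hw => k.D_H _ (a.RH a.t_sq) w hw).symm
  we := we
  we' := fun B hB hBR => by
    rw [WW_conj (fun v => a.smul_V0) fun v => a.smul_V0']
    exact a.tW_le_Ee amb we hB hBR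

namespace TwoK

variable [Finite Y] [Finite V] {U : Set (Subgroup Y)} {T : Sylow 2 Y} {M H H' R P P' : Subgroup Y}
  {D D' W₁ W₁' : AddSubgroup V} {c : ℕ} {t : Y} (h : TwoK V U T M H H' R P P' D D' W₁ W₁' c t)
include h

theorem W'_eq : WW V H' R = t • WW V H R := by
  rw [h.H'_eq]
  exact WW_conj (fun v => h.a.smul_V0) fun v => h.a.smul_V0'

theorem Q'_eq : QQ H' R = MulAut.conj t • QQ H R := by
  rw [h.H'_eq]
  exact QQ_conj h.a.t_norm fun r hr => h.a.symm_smul hr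

/-- **(*)** -/
theorem star {B : Subgroup Y} (hB : B ∈ U) (hBH : B ≤ H) (hBM : ¬ B ≤ M) :
    ∃ b ∈ B ⊓ QQ H R, b ∉ QQ H' R := by
  rw [h.Q'_eq]
  exact h.a.star h.amb h.we hB hBH hBM

end TwoK

end Cfsg.Agent.Omega.NO1.TH

end

section


/-!
# N1, the amalgam `(H, H^t)`, `k = 1`: THE END (bb OMEGA 20530, 20698, 21741): the hypotheses

`Side` : one side `H`; `B` is the only member in `R`, `Q = O₂(H)`, `N = [V, Q]` a natural `SL₂(c)`-module,
`I = N ∩ F_B`.  `EndS` : both sides.  `EndB.lean` deduces `EndS` from `TwoK` and `TwoK.main`, `TwoK.main_top`.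
-/

set_option autoImplicit false
set_option linter.unusedSectionVars false

namespace Cfsg.Agent.Omega.NO1.TH

open Subgroup Cfsg.Agent.Omega.NO1.AB
open scoped Pointwise

universe u

variable {Y : Type u} [Group Y]

/-- one side of `EndS` -/
structure Side (V : Type u) [AddCommGroup V] [DistribMulAction Y V] (U : Set (Subgroup Y)) (M H B Q : Subgroup Y)
    (N I : AddSubgroup V) (c : ℕ) : Prop where
  QB : Q ≤ B
  card_Q : Nat.card Q = c
  Q_H : ∀ x ∈ H, ∀ q ∈ Q, x * q * x⁻¹ ∈ Q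
  /-- `Q` is in every member in `H` -/
  Q_le : ∀ A ∈ U, A ≤ H → Q ≤ A
  N_H : ∀ x ∈ H, ∀ n ∈ N, x • n ∈ N
  card_N : Nat.card N = c * c
  card_I : Nat.card I = c
  I_eq : N ⊓ fx V B = I
  /-- `[V, q] = N`, `C_V(q) = N + F_B` for `1 ≠ q ∈ Q` -/
  comm : ∀ q ∈ Q, ∀ v : V, q • v + v ∈ N
  onto : ∀ q ∈ Q, q ≠ 1 → ∀ n ∈ N, ∃ v : V, q • v + v = n
  cent : ∀ q ∈ Q, q ≠ 1 → ∀ v : V, q • v = v → v ∈ N ⊔ fx V B
  fix : ∀ q ∈ Q, ∀ n ∈ N, q • n = n
  /-- the members `A` in `H` -/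
  NF : ∀ A ∈ U, A ≤ H → N ⊔ fx V A = N ⊔ fx V B
  card_pt : ∀ A ∈ U, A ≤ H → Nat.card ↥(N ⊓ fx V A) = c
  comm_A : ∀ A ∈ U, A ≤ H → ∀ a ∈ A, ∀ n ∈ N, a • n + n ∈ fx V A
  reg : ∀ A ∈ U, A ≤ H → ∀ n ∈ N, n ∉ fx V A → ∀ i ∈ N ⊓ fx V A, ∃ a ∈ A, a • n + n = i
  free : ∀ A ∈ U, A ≤ H → ∀ a ∈ A, ∀ n ∈ N, n ∉ fx V A → a • n = n → a ∈ Q
  pt : ∀ A ∈ U, A ≤ H → ∀ A₂ ∈ U, A₂ ≤ H → N ⊓ fx V A = N ⊓ fx V A₂ ∨ N ⊓ fx V A ⊓ fx V A₂ = ⊥
  le_M : ∀ A ∈ U, A ≤ H → (A ≤ M ↔ N ⊓ fx V A = I)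
  opp : ∃ A ∈ U, A ≤ H ∧ ¬ A ≤ M
  /-- a 2-element of `H` trivial on `N` and on the common fixed points of the members in `H` is in `Q` -/
  ker : ∀ x ∈ H, (∃ k : ℕ, x ^ 2 ^ k = 1) → (∀ n ∈ N, x • n = n) →
    (∀ v : V, (∀ A ∈ U, A ≤ H → v ∈ fx V A) → x • v = v) → x ∈ Q

/-- Both sides: `R` has exactly one member `B`, `B = Q × Q'`, `N ∩ N' = I = N ∩ F_B`, `E_B = N + N' + F_B`. -/
structure EndS (V : Type u) [AddCommGroup V] [DistribMulAction Y V] (U : Set (Subgroup Y)) (T : Sylow 2 Y)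
    (M H H' R B Q Q' : Subgroup Y) (N N' I : AddSubgroup V) (c : ℕ) (t : Y) : Prop where
  amb : Amb V U T M
  a : Amal U T M H R t
  a' : Amal U T M H' R t
  four : 4 ≤ c
  s : Side V U M H B Q N I c
  s' : Side V U M H' B Q' N' I c
  H'_eq : H' = MulAut.conj t • H
  H_eq : H = MulAut.conj t • H'
  Q'_eq : Q' = MulAut.conj t • Q
  Q_eq : Q = MulAut.conj t • Q'
  N'_eq : N' = t • N
  N_eq : N = t • N'
  hB : B ∈ U
  BR : B ≤ R
  /-- `B` is the only member in `R` -/
  uniq : ∀ A ∈ U, A ≤ R → A = B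
  /-- `t` normalises `B` -/
  tB : ∀ b ∈ B, t * b * t⁻¹ ∈ B
  QQ' : Q ⊓ Q' = ⊥
  mul : ∀ b ∈ B, ∃ q ∈ Q, ∃ q' ∈ Q', b = q * q'
  NN' : N ⊓ N' = I
  E_eq : Ee V B = N ⊔ N' ⊔ fx V B
  /-- `C_R(I) = B` -/
  P_eq : ∀ r ∈ R, (∀ i ∈ I, r • i = i) → r ∈ B
  card_V : Nat.card V = c * Nat.card ↥(Ee V B)

theorem EndS.swap {V : Type u} [AddCommGroup V] [DistribMulAction Y V] {U : Set (Subgroup Y)} {T : Sylow 2 Y}
    {M H H' R B Q Q' : Subgroup Y} {N N' I : AddSubgroup V} {c : ℕ} {t : Y}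
    (h : EndS V U T M H H' R B Q Q' N N' I c t) (hQ : ∀ q ∈ Q, ∀ q' ∈ Q', q * q' = q' * q) :
    EndS V U T M H' H R B Q' Q N' N I c t where
  amb := h.amb
  a := h.a'
  a' := h.a
  four := h.four
  s := h.s'
  s' := h.s
  H'_eq := h.H_eq
  H_eq := h.H'_eq
  Q'_eq := h.Q_eq
  Q_eq := h.Q'_eq
  N'_eq := h.N_eq
  N_eq := h.N'_eq
  hB := h.hB
  BR := h.BR
  uniq := h.uniq
  tB := h.tB
  QQ' := by rw [inf_comm]; exact h.QQ'
  mul := fun b hb => by
    obtain ⟨q, hq, q', hq', rfl⟩ := h.mul b hb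
    exact ⟨q', hq', q, hq, hQ q hq q' hq'⟩
  NN' := by rw [inf_comm]; exact h.NN'
  E_eq := by rw [h.E_eq, sup_comm N N']
  P_eq := h.P_eq
  card_V := h.card_V

end Cfsg.Agent.Omega.NO1.TH

end

section


/-!
# N1, the amalgam `(H, H^t)`, natural type with `k` factors (bb OMEGA 20646, helper247): the hypotheses

`W = WW V H R`, `Q = QQ H R`, `W / D₀` the direct sum of `k` natural `SL₂(F)`-modules, `co : V → Fin k → Fin 2 → F`
the coordinates (meaningful on `W` only), `D₀ = {w ∈ W | co w = 0}`, `WR = {w ∈ W | co w i 1 = 0 for all i}`.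
Field automorphisms are allowed.  `KNat` follows from `AbsNat` (`exists_KNat`), `TwoN` : both sides `H`, `H' = H^t`.
-/

set_option autoImplicit false
set_option linter.unusedSectionVars false
set_option linter.dupNamespace false

namespace Cfsg.Agent.Omega.NO1.TH.K

open Subgroup Cfsg.Agent.Omega.NO1.AB Cfsg.Agent.Omega.FFBr Cfsg.Agent.Lib.SL2Mat
open Cfsg.Agent.Omega.NatPair (ap)
open scoped Pointwise

universe u

variable {Y : Type u} [Group Y]

/-- `g` acts on `W` as `A ∈ SL₂(F)^k` in the coordinates, and trivially on `D₀ = {co = 0}`. -/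
def Acts (V : Type u) [AddCommGroup V] [DistribMulAction Y V] (H R : Subgroup Y) {F : Type} [Field F] {k : ℕ}
    (co : V → Fin k → Fin 2 → F) (g : Y) (A : Fin k → Matrix.SpecialLinearGroup (Fin 2) F) : Prop :=
  (∀ v ∈ WW V H R, ∀ i, co (g • v) i = ap (A i) (co v i)) ∧ ∀ d ∈ WW V H R, co d = 0 → g • d = d

/-- `W / D₀` is the sum of `k` natural `SL₂(F)`-modules for `H`, `R / Q` = root groups, permutations and field
automorphisms. -/
structure KNat (V : Type u) [AddCommGroup V] [DistribMulAction Y V] (H R : Subgroup Y) (F : Type) [Field F] (k : ℕ)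
    (co : V → Fin k → Fin 2 → F) : Prop where
  add : ∀ v ∈ WW V H R, ∀ w ∈ WW V H R, co (v + w) = co v + co w
  surj : ∀ x, ∃ v ∈ WW V H R, co v = x
  lift : ∀ A : Fin k → Matrix.SpecialLinearGroup (Fin 2) F, ∃ g ∈ H, Acts V H R co g A
  norm : ∀ g ∈ H, ∀ h ∈ H, ∀ A : Fin k → Matrix.SpecialLinearGroup (Fin 2) F,
    (∀ v ∈ WW V H R, ∀ i, co (h • v) i = ap (A i) (co v i)) →
      ∃ B : Fin k → Matrix.SpecialLinearGroup (Fin 2) F,
        ∀ v ∈ WW V H R, ∀ i, co ((g * h * g⁻¹) • v) i = ap (B i) (co v i)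
  perm : ∀ g ∈ H, ∃ σ : Equiv.Perm (Fin k), ∀ v ∈ WW V H R, ∀ i, co (g • v) (σ i) = 0 ↔ co v i = 0
  trans : ∀ i j, ∃ r ∈ R, ∀ v ∈ WW V H R, co (r • v) j = 0 ↔ co v i = 0
  line : ∀ r ∈ R, ∃ σ : Equiv.Perm (Fin k), ∀ v ∈ WW V H R, ∀ i, co (r • v) (σ i) 1 = 0 ↔ co v i 1 = 0
  unip : ∀ b : Fin k → F, ∃ r ∈ R, Acts V H R co r fun i => up (b i)
  gen : ∀ K : Subgroup Y, R ≤ K → K ≤ H → (∀ h ∈ H, ∀ A, Acts V H R co h A → h ∈ K) → K = H
  off : ∀ A ≤ R, ElAb A → ¬ A ≤ QQ H R →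
    Nat.card ↥(A ⊓ QQ H R) * Nat.card ↥(WW V H R) ≤ Nat.card A * Nat.card ↥(fx V A ⊓ WW V H R) →
      ∃ I : Set (Fin k),
        (∀ a ∈ A, ∃ b : Fin k → F, (∀ i, i ∉ I → b i = 0) ∧ Acts V H R co a fun i => up (b i)) ∧
          ∀ b : Fin k → F, (∀ i, i ∉ I → b i = 0) → ∃ a ∈ A, Acts V H R co a fun i => up (b i)
  noOver : ∀ A ≤ R, ElAb A → Nat.card A * Nat.card ↥(fx V A ⊓ WW V H R) ≤
    Nat.card ↥(A ⊓ QQ H R) * Nat.card ↥(WW V H R)
  triv : ∀ r ∈ R, (∀ w ∈ WW V H R, co (r • w + w) = 0) → r ∈ QQ H R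
  trivH : ∀ x ∈ H, (∀ w ∈ WW V H R, co (x • w) = co w) → ∀ w ∈ WW V H R, x • w = w

/-- `W_R`: the vectors whose coordinates lie on the fixed lines of the root groups -/
def WR (V : Type u) [AddCommGroup V] [DistribMulAction Y V] (H R : Subgroup Y) {F : Type} [Field F] {k : ℕ}
    (co : V → Fin k → Fin 2 → F) : Set V := {w | w ∈ WW V H R ∧ ∀ i, co w i 1 = 0}

variable {V : Type u} [AddCommGroup V] [DistribMulAction Y V]

section basic

variable {H R : Subgroup Y} {F : Type} [Field F] {k : ℕ} {co : V → Fin k → Fin 2 → F}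

theorem Acts.mul {g h : Y} {A B : Fin k → Matrix.SpecialLinearGroup (Fin 2) F} (hhH : h ∈ H)
    (hg : Acts V H R co g A) (hh : Acts V H R co h B) : Acts V H R co (g * h) (A * B) := by
  refine ⟨fun v hv i => ?_, fun d hd h0 => ?_⟩
  · rw [mul_smul, hg.1 _ (smul_mem_WW hhH hv), hh.1 v hv, ← NatPair.ap_mul]
    rfl
  · rw [mul_smul, hh.2 d hd h0, hg.2 d hd h0]

theorem Acts.one : Acts V H R co 1 (1 : Fin k → Matrix.SpecialLinearGroup (Fin 2) F) :=
  ⟨fun v _ i => by rw [one_smul]; exact (NatPair.ap_one _).symm, fun d _ _ => one_smul Y d⟩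

/-- elements trivial on `W` -/
theorem Acts.of_triv {g : Y} (hg : ∀ w ∈ WW V H R, g • w = w) :
    Acts V H R co g (1 : Fin k → Matrix.SpecialLinearGroup (Fin 2) F) :=
  ⟨fun v hv i => by rw [hg v hv]; exact (NatPair.ap_one _).symm, fun d hd _ => hg d hd⟩

end basic

/-! ### Derivation from `AbsNat` -/

section derive

variable {H R : Subgroup Y} {F : Type} [Field F] {k : ℕ}

open Classical in
/-- the coordinates -/
noncomputable def coOf (e : Wm V H R → Fin k → Fin 2 → F) (v : V) : Fin k → Fin 2 → F :=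
  if h : v ∈ WW V H R then e (Multiplicative.ofAdd ⟨v, h⟩) else 0

theorem coOf_vl (e : Wm V H R → Fin k → Fin 2 → F) (m : Wm V H R) : coOf e (vl V H R m) = e m := by
  unfold coOf
  rw [dif_pos (vl_mem m)]
  congr 1

variable {P : Subgroup (XH V H R)}

theorem acts_iff (N : AbsNat F P (Wm V H R) k) {g : Y} (hg : g ∈ H)
    (A : Fin k → Matrix.SpecialLinearGroup (Fin 2) F) :
    Acts V H R (coOf N.e) g A ↔ AActs N.e (pr V H R ⟨g, hg⟩) A := by
  constructor
  · rintro ⟨h1, h2⟩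
    refine ⟨fun m i => ?_, fun d hd => ?_⟩
    · have h3 := h1 _ (vl_mem m) i
      rw [coOf_vl] at h3
      rw [← h3, ← coOf_vl N.e (pr V H R ⟨g, hg⟩ • m), vl_smul]
    · rw [pr_fix]
      exact h2 _ (vl_mem d) (by rw [coOf_vl]; exact (N.ker d).2 hd)
  · rintro ⟨h1, h2⟩
    refine ⟨fun v hv i => ?_, fun d hd h0 => ?_⟩
    · obtain ⟨m, rfl⟩ := exists_vl hv
      have h3 := h1 m i
      rw [coOf_vl, ← h3, ← coOf_vl N.e (pr V H R ⟨g, hg⟩ • m), vl_smul]
    · obtain ⟨m, rfl⟩ := exists_vl hd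
      rw [coOf_vl] at h0
      exact pr_fix.1 (h2 m ((N.ker m).1 h0))

theorem coOf_smul (e : Wm V H R → Fin k → Fin 2 → F) {g : Y} (hg : g ∈ H) (m : Wm V H R) :
    coOf e (g • vl V H R m) = e (pr V H R ⟨g, hg⟩ • m) := by
  rw [← coOf_vl e, vl_smul]

/-- an element of odd order which is trivial on `V / D` and on `D` is trivial -/
theorem nat_triv {X V' : Type*} [Group X] [Group V'] [MulDistribMulAction X V'] {T' : Subgroup X}
    (hc : ∀ v w : V', v * w = w * v) (hs : ∀ v : V', v * v = 1) (hf : ∀ x : X, (∀ v : V', x • v = v) → x = 1)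
    (N : AbsNat F T' V' k) {x : X} (hx : ∀ v, N.e (x • v) = N.e v) (ho : Odd (orderOf x)) : x = 1 := by
  have h1 : ∀ v : V', x • v * v ∈ odd X V' := by
    intro v
    rw [← N.ker, N.mul, hx, ← N.mul, hs, N.ker]
    exact (odd X V').one_mem
  have h2 : x * x = 1 := by
    apply hf
    intro v
    have h3 := h1 v x ho
    rw [smul_mul', ← mul_smul] at h3
    -- `x² v * x v = x v * v`
    rw [hc (x • v) v] at h3
    exact mul_right_cancel h3
  have h4 : orderOf x ∣ 2 := orderOf_dvd_of_pow_eq_one (by rw [pow_two, h2])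
  rcases (Nat.dvd_prime Nat.prime_two).1 h4 with h5 | h5
  · exact orderOf_eq_one_iff.1 h5
  · rw [h5] at ho
    exact absurd ho (by decide)

/-- the elements trivial on `V / D` form a normal 2-subgroup -/
theorem nat_core {X V' : Type*} [Group X] [Finite X] [Group V'] [MulDistribMulAction X V'] {T' : Subgroup X}
    (hc : ∀ v w : V', v * w = w * v) (hs : ∀ v : V', v * v = 1) (hf : ∀ x : X, (∀ v : V', x • v = v) → x = 1)
    (hcore : ∀ N : Subgroup X, N.Normal → IsPGroup 2 N → N = ⊥)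
    (N : AbsNat F T' V' k) {x : X} (hx : ∀ v, N.e (x • v) = N.e v) : x = 1 := by
  let N' : Subgroup X :=
    { carrier := {x | ∀ v, N.e (x • v) = N.e v}
      one_mem' := fun v => by rw [one_smul]
      mul_mem' := fun {x y} hx hy v => by rw [mul_smul, hx, hy]
      inv_mem' := fun {x} hx v => by rw [← hx (x⁻¹ • v), smul_inv_smul] }
  have hN' : ∀ y, y ∈ N' ↔ ∀ v, N.e (y • v) = N.e v := fun y => Iff.rfl
  have h1 : N' = ⊥ := by
    apply hcore
    · refine ⟨fun n hn g v => ?_⟩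
      -- `e (g n g⁻¹ v) = e v`
      have h2 : N.e ((n • g⁻¹ • v) * (g⁻¹ • v)) = 0 := by
        rw [N.mul, hn (g⁻¹ • v), ← N.mul, hs, N.ker]
        exact (odd X V').one_mem
      obtain ⟨σ, hσ⟩ := N.perm g
      have h3 : N.e (g • ((n • g⁻¹ • v) * (g⁻¹ • v))) = 0 := by
        funext i
        have h4 := (hσ ((n • g⁻¹ • v) * (g⁻¹ • v)) (σ.symm i)).2 (by rw [h2]; rfl)
        rw [Equiv.apply_symm_apply] at h4
        exact h4
      rw [smul_mul', smul_inv_smul, N.mul, ← mul_smul, ← mul_smul] at h3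
      have h5 : N.e v + N.e v = 0 := by
        rw [← N.mul, hs, N.ker]
        exact (odd X V').one_mem
      exact (add_left_injective (N.e v)) (h3.trans h5.symm)
    · rw [IsPGroup.iff_orderOf]
      intro y
      have hpos : 0 < orderOf (y : X) := orderOf_pos _
      obtain ⟨n, m, hm, hnm⟩ := Nat.exists_eq_two_pow_mul_odd hpos.ne'
      have h2 : ((y : X) ^ 2 ^ n) = 1 := by
        apply nat_triv hc hs hf N (x := (y : X) ^ 2 ^ n)
        · exact (N'.pow_mem y.2 _)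
        · rw [orderOf_pow' _ (by positivity), hnm, Nat.gcd_eq_right (Dvd.intro _ rfl),
            Nat.mul_div_cancel_left _ (by positivity)]
          exact hm
      obtain ⟨j, _, hj⟩ := (Nat.dvd_prime_pow Nat.prime_two).1 (orderOf_dvd_of_pow_eq_one h2)
      exact ⟨j, by rw [← hj, Subgroup.orderOf_coe]⟩
  have h2 : x ∈ N' := hx
  rw [h1, mem_bot] at h2
  exact h2

end derive

theorem card_mapSub {H R A : Subgroup Y} [Finite Y] [Finite V] {U : Set (Subgroup Y)} {T : Sylow 2 Y} {M : Subgroup Y}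
    {t : Y} (amb : Amb V U T M) (a : Amal U T M H R t) (hA : A ≤ R) :
    Nat.card ↥((A.subgroupOf H).map (pr V H R)) * Nat.card ↥(A ⊓ QQ H R) = Nat.card A := by
  rw [← Amal.inf_CW a amb hA]
  exact card_im (hA.trans a.RH)

/-- **`KNat` from `AbsNat`** -/
theorem KNat.of_abs {F : Type} [Field F] {k : ℕ} [Finite Y] [Finite V] {U : Set (Subgroup Y)} {T : Sylow 2 Y}
    {M H R : Subgroup Y} {t : Y} (amb : Amb V U T M) (a : Amal U T M H R t) {P : Sylow 2 (XH V H R)}
    {M₁ : Subgroup (XH V H R)} (hA : Abs (XH V H R) (Wm V H R) P M₁)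
    (hP : ∀ x : XH V H R, x ∈ P ↔ ∃ r : H, (r : Y) ∈ R ∧ pr V H R r = x) (hno : ANoOver (XH V H R) (Wm V H R))
    (N : (AbsNat F (P : Subgroup (XH V H R)) (Wm V H R) k :)) : KNat V H R F k (coOf N.e) := by
  have hcomm : ∀ {A : Subgroup Y}, A ≤ R → ElAb A →
      (∀ x ∈ (A.subgroupOf H).map (pr V H R), ∀ y ∈ (A.subgroupOf H).map (pr V H R), x * y = y * x) ∧
        ∀ x ∈ (A.subgroupOf H).map (pr V H R), x * x = 1 := by
    intro A _ hel
    refine ⟨?_, ?_⟩
    · rintro _ ⟨x, hx, rfl⟩ _ ⟨y, hy, rfl⟩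
      rw [← map_mul, ← map_mul]
      congr 1
      exact Subtype.ext (hel.1 x hx y hy)
    · rintro _ ⟨x, hx, rfl⟩
      rw [← map_mul]
      have : x * x = 1 := Subtype.ext (hel.2 x hx)
      rw [this, map_one]
  refine
    { add := fun v hv w hw => ?_
      surj := fun x => ?_
      lift := fun A => ?_
      norm := fun g hg h hh A hA' => ?_
      perm := fun g hg => ?_
      trans := fun i j => ?_
      line := fun r hr => ?_
      unip := fun b => ?_
      gen := fun K hRK hKH hK => ?_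
      off := fun A hAR hel hAQ hle => ?_
      noOver := fun A hAR hel => ?_
      triv := fun r hr hrw => ?_
      trivH := fun x hx hxw w hw => ?_ }
  · obtain ⟨m, rfl⟩ := exists_vl hv
    obtain ⟨n, rfl⟩ := exists_vl hw
    rw [← vl_mul, coOf_vl, coOf_vl, coOf_vl, N.mul]
  · obtain ⟨m, hm⟩ := N.surj x
    exact ⟨_, vl_mem m, by rw [coOf_vl, hm]⟩
  · obtain ⟨g, hg⟩ := N.lift A
    obtain ⟨y, rfl⟩ := pr_surjective V H R g
    exact ⟨y, y.2, (acts_iff N y.2 A).2 hg⟩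
  · obtain ⟨B, hB⟩ := N.norm (pr V H R ⟨g, hg⟩) (pr V H R ⟨h, hh⟩) A (by
      intro m i
      rw [← coOf_smul N.e hh, hA' _ (vl_mem m), coOf_vl])
    refine ⟨B, fun v hv i => ?_⟩
    obtain ⟨m, rfl⟩ := exists_vl hv
    have e : pr V H R ⟨g * h * g⁻¹, H.mul_mem (H.mul_mem hg hh) (H.inv_mem hg)⟩ =
        pr V H R ⟨g, hg⟩ * pr V H R ⟨h, hh⟩ * (pr V H R ⟨g, hg⟩)⁻¹ := by
      rw [← map_inv, ← map_mul, ← map_mul]
      rfl
    rw [coOf_smul N.e (H.mul_mem (H.mul_mem hg hh) (H.inv_mem hg)), coOf_vl, e, hB m i]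
  · obtain ⟨σ, hσ⟩ := N.perm (pr V H R ⟨g, hg⟩)
    refine ⟨σ, fun v hv i => ?_⟩
    obtain ⟨m, rfl⟩ := exists_vl hv
    rw [coOf_smul N.e hg, coOf_vl]
    exact hσ m i
  · obtain ⟨x, hx, hxs⟩ := N.trans i j
    obtain ⟨r, hr, rfl⟩ := (hP x).1 hx
    refine ⟨r, hr, fun v hv => ?_⟩
    obtain ⟨m, rfl⟩ := exists_vl hv
    rw [coOf_smul N.e r.2, coOf_vl]
    exact hxs m
  · obtain ⟨σ, hσ⟩ := N.line (pr V H R ⟨r, a.RH hr⟩) ((hP _).2 ⟨_, hr, rfl⟩)
    refine ⟨σ, fun v hv i => ?_⟩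
    obtain ⟨m, rfl⟩ := exists_vl hv
    rw [coOf_smul N.e (a.RH hr), coOf_vl]
    exact hσ m i
  · obtain ⟨x, hx, hxs⟩ := N.unip b
    obtain ⟨r, hr, rfl⟩ := (hP x).1 hx
    exact ⟨r, hr, (acts_iff N r.2 _).2 hxs⟩
  · have h1 : (K.subgroupOf H).map (pr V H R) = ⊤ := by
      apply N.gen
      · intro x hx
        obtain ⟨r, hr, rfl⟩ := (hP x).1 hx
        exact ⟨r, hRK hr, rfl⟩
      · intro x A hx
        obtain ⟨y, rfl⟩ := pr_surjective V H R x
        exact ⟨y, hK y y.2 A ((acts_iff N y.2 A).2 hx), rfl⟩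
    apply le_antisymm hKH
    intro x hx
    have h2 : pr V H R ⟨x, hx⟩ ∈ (K.subgroupOf H).map (pr V H R) := by rw [h1]; exact mem_top _
    obtain ⟨y, hy, hyx⟩ := h2
    have h3 : pr V H R (y⁻¹ * ⟨x, hx⟩) = 1 := by rw [map_mul, map_inv, hyx, inv_mul_cancel]
    rw [pr_eq_one] at h3
    have h4 := hK ((y : Y)⁻¹ * x) (H.mul_mem (H.inv_mem y.2) hx) _ (Acts.of_triv h3)
    have h5 := K.mul_mem (show (y : Y) ∈ K from hy) h4
    rwa [mul_inv_cancel_left] at h5
  · obtain ⟨I, hI1, hI2⟩ := N.off ((A.subgroupOf H).map (pr V H R)) (by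
      rintro _ ⟨x, hx, rfl⟩
      exact (hP _).2 ⟨x, hAR hx, rfl⟩)
      { comm := (hcomm hAR hel).1
        sq := (hcomm hAR hel).2
        ne := by
          intro h1
          apply hAQ
          intro x hx
          rw [Amal.mem_QQ_iff a amb (hAR hx), ← pr_eq_one (x := ⟨x, a.RH (hAR hx)⟩), ← mem_bot, ← h1]
          exact ⟨_, hx, rfl⟩
        le := by
          have h2 := card_mapSub amb a hAR
          have h3 := card_cv (V := V) (R := R) (hAR.trans a.RH)
          rw [inf_comm (fx V A), ← h2, ← h3] at hle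
          have h4 : 0 < Nat.card ↥(A ⊓ QQ H R) := Nat.card_pos
          have h5 : 0 < Nat.card ↥(WW V H R ⊓ fx V A) := Nat.card_pos
          apply Nat.le_of_mul_le_mul_right _ (Nat.mul_pos h4 h5)
          calc _ = Nat.card ↥(A ⊓ QQ H R) * ((ClassTwoFusion.Quad.cv (Wm V H R)
                (((A.subgroupOf H).map (pr V H R) : Subgroup (XH V H R)) : Set (XH V H R))).index *
                  Nat.card ↥(WW V H R ⊓ fx V A)) := by ring
            _ ≤ _ := hle
            _ = _ := by ring }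
    refine ⟨I, fun x hx => ?_, fun b hb => ?_⟩
    · obtain ⟨b, hb, hbx⟩ := hI1 (pr V H R ⟨x, a.RH (hAR hx)⟩) ⟨_, hx, rfl⟩
      exact ⟨b, hb, (acts_iff N _ _).2 hbx⟩
    · obtain ⟨_, ⟨x, hx, rfl⟩, hbx⟩ := hI2 b hb
      exact ⟨x, hx, (acts_iff N x.2 _).2 hbx⟩
  · have h1 := hno ((A.subgroupOf H).map (pr V H R)) (hcomm hAR hel).1 (hcomm hAR hel).2
    have h2 := card_mapSub amb a hAR
    have h3 := card_cv (V := V) (R := R) (hAR.trans a.RH)
    rw [inf_comm (fx V A), ← h2, ← h3]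
    calc _ = Nat.card ↥((A.subgroupOf H).map (pr V H R)) *
          (Nat.card ↥(A ⊓ QQ H R) * Nat.card ↥(WW V H R ⊓ fx V A)) := mul_assoc _ _ _
      _ ≤ _ := Nat.mul_le_mul_right _ h1
      _ = _ := by ring
  · rw [Amal.mem_QQ_iff a amb hr, ← pr_eq_one (x := ⟨r, a.RH hr⟩)]
    apply nat_core hA.comm hA.sq hA.faith hA.core N
    intro m
    have h1 := hrw _ (vl_mem m)
    have h2 : (r : Y) • vl V H R m + vl V H R m = vl V H R ((pr V H R ⟨r, a.RH hr⟩ • m) * m) := by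
      rw [vl_mul, vl_smul]
    rw [h2, coOf_vl, N.mul] at h1
    have h5 : N.e m + N.e m = 0 := by
      rw [← N.mul, hA.sq, N.ker]
      exact (odd _ _).one_mem
    exact (add_left_injective (N.e m)) (h1.trans h5.symm)
  · have h1 : pr V H R ⟨x, hx⟩ = 1 := by
      apply nat_core hA.comm hA.sq hA.faith hA.core N
      intro m
      rw [← coOf_smul N.e hx, hxw _ (vl_mem m), coOf_vl]
    exact pr_eq_one.1 h1 w hw

/-! ### Transport -/

section transport

variable {H R : Subgroup Y} {F : Type} [Field F] {k : ℕ} {co : V → Fin k → Fin 2 → F}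

theorem hsm' {t x : Y} {v : V} : t⁻¹ • x • v = (t⁻¹ * x * t) • t⁻¹ • v := by
  rw [← mul_smul, ← mul_smul]; congr 1; group

theorem hsm'' {t x : Y} {v : V} : t⁻¹ • x • t • v = (t⁻¹ * x * t) • v := by
  rw [← mul_smul, ← mul_smul]

theorem WW_conj' (t : Y) : WW V (MulAut.conj t • H) (MulAut.conj t • R) = t • WW V H R := by
  have key : ∀ (t : Y) (H R : Subgroup Y), t • WW V H R ≤ WW V (MulAut.conj t • H) (MulAut.conj t • R) := by
    intro t H R v hv
    rw [mem_smul_as] at hv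
    have key : ∀ w ∈ WW V H R, t • w ∈ WW V (MulAut.conj t • H) (MulAut.conj t • R) := by
      intro w hw
      induction hw using AddSubgroup.closure_induction with
      | mem v hv =>
        obtain ⟨x, hx, w, hw, rfl⟩ := hv
        have e : t • x • w = (t * x * t⁻¹) • (t • w) := by
          rw [← mul_smul, ← mul_smul]; congr 1; group
        rw [e]
        refine smul_mem_WW (conj_mem_conj hx) (fx_le_WW ?_)
        rw [fx_conj]
        exact smul_mem_smul_as hw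
      | zero => rw [smul_zero]; exact zero_mem _
      | add a b _ _ h3 h4 => rw [smul_add]; exact add_mem h3 h4
      | neg a _ h3 => rw [smul_neg]; exact neg_mem h3
    have := key _ hv
    rwa [smul_inv_smul] at this
  apply le_antisymm _ (key t H R)
  have h1 := key t⁻¹ (MulAut.conj t • H) (MulAut.conj t • R)
  rw [conj_inv_smul', conj_inv_smul'] at h1
  have h2 := smul_le_smul_as (g := t) h1
  rwa [smul_smul_as, mul_inv_cancel, one_smul] at h2

theorem QQ_conj' (t : Y) : QQ (MulAut.conj t • H) (MulAut.conj t • R) = MulAut.conj t • QQ H R := by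
  ext y
  rw [mem_conj]
  constructor
  · intro h x hx
    have h3 := h _ (conj_mem_conj (g := t) hx)
    rw [mem_conj] at h3
    have e : t⁻¹ * (t * x * t⁻¹ * y * (t * x * t⁻¹)⁻¹) * t = x * (t⁻¹ * y * t) * x⁻¹ := by group
    rwa [e] at h3
  · intro h x hx
    rw [mem_conj] at hx ⊢
    have h3 := h _ hx
    have e : t⁻¹ * (x * y * x⁻¹) * t = t⁻¹ * x * t * (t⁻¹ * y * t) * (t⁻¹ * x * t)⁻¹ := by group
    rwa [e]

theorem acts_conj {t : Y} {g : Y} {A : Fin k → Matrix.SpecialLinearGroup (Fin 2) F} :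
    Acts V (MulAut.conj t • H) (MulAut.conj t • R) (fun v => co (t⁻¹ • v)) g A ↔
      Acts V H R co (t⁻¹ * g * t) A := by
  have hW : WW V (MulAut.conj t • H) (MulAut.conj t • R) = t • WW V H R := WW_conj' t
  constructor
  · rintro ⟨h1, h2⟩
    refine ⟨fun v hv i => ?_, fun d hd h0 => ?_⟩
    · have h3 := h1 (t • v) (by rw [hW]; exact smul_mem_smul_as hv) i
      simp only [hsm'', inv_smul_smul] at h3
      exact h3
    · have h3 := h2 (t • d) (by rw [hW]; exact smul_mem_smul_as hd) (by simp only [inv_smul_smul]; exact h0)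
      rw [mul_smul, mul_smul, h3, inv_smul_smul]
  · rintro ⟨h1, h2⟩
    refine ⟨fun v hv i => ?_, fun d hd h0 => ?_⟩
    · rw [hW, mem_smul_as] at hv
      have h3 := h1 _ hv i
      simp only [hsm']
      exact h3
    · rw [hW, mem_smul_as] at hd
      have h3 := h2 _ hd h0
      rwa [← hsm', smul_left_cancel_iff] at h3

/-- transport with an arbitrary element -/
theorem KNat.conj [Finite Y] (K : KNat V H R F k co) (t : Y) :
    KNat V (MulAut.conj t • H) (MulAut.conj t • R) F k (fun v => co (t⁻¹ • v)) := by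
  have hQ : QQ (MulAut.conj t • H) (MulAut.conj t • R) = MulAut.conj t • QQ H R := QQ_conj' t
  have hW : WW V (MulAut.conj t • H) (MulAut.conj t • R) = t • WW V H R := WW_conj' t
  have hle : ∀ {A K : Subgroup Y}, MulAut.conj t⁻¹ • A ≤ K ↔ A ≤ MulAut.conj t • K := by
    intro A K
    rw [conj_le_iff, inv_inv]
  have hback : ∀ r : Y, t⁻¹ * (t * r * t⁻¹) * t = r := fun r => by group
  refine
    { add := fun v hv w hw => ?_
      surj := fun x => ?_
      lift := fun A => ?_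
      norm := fun g hg h hh A hA' => ?_
      perm := fun g hg => ?_
      trans := fun i j => ?_
      line := fun r hr => ?_
      unip := fun b => ?_
      gen := fun L hRL hLH hL => ?_
      off := fun A hAR hel hAQ h1 => ?_
      noOver := fun A hAR hel => ?_
      triv := fun r hr hrw => ?_
      trivH := fun x hx hxw w hw => ?_ }
  · rw [hW, mem_smul_as] at hv hw
    simp only [smul_add]
    exact K.add _ hv _ hw
  · obtain ⟨v, hv, hx⟩ := K.surj x
    refine ⟨t • v, by rw [hW]; exact smul_mem_smul_as hv, ?_⟩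
    simp only [inv_smul_smul]
    exact hx
  · obtain ⟨g, hg, hgA⟩ := K.lift A
    refine ⟨t * g * t⁻¹, conj_mem_conj hg, ?_⟩
    rw [acts_conj, hback]
    exact hgA
  · rw [mem_conj] at hg hh
    obtain ⟨B, hB⟩ := K.norm _ hg _ hh A (by
      intro v hv i
      have h3 := hA' (t • v) (by rw [hW]; exact smul_mem_smul_as hv) i
      simp only [hsm'', inv_smul_smul] at h3
      exact h3)
    refine ⟨B, fun v hv i => ?_⟩
    rw [hW, mem_smul_as] at hv
    have h3 := hB _ hv i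
    simp only [hsm']
    have e : t⁻¹ * (g * h * g⁻¹) * t = t⁻¹ * g * t * (t⁻¹ * h * t) * (t⁻¹ * g * t)⁻¹ := by group
    rw [e]
    exact h3
  · rw [mem_conj] at hg
    obtain ⟨σ, hσ⟩ := K.perm _ hg
    refine ⟨σ, fun v hv i => ?_⟩
    rw [hW, mem_smul_as] at hv
    simp only [hsm']
    exact hσ _ hv i
  · obtain ⟨r, hr, hrs⟩ := K.trans i j
    refine ⟨t * r * t⁻¹, conj_mem_conj hr, fun v hv => ?_⟩
    rw [hW, mem_smul_as] at hv
    simp only [hsm', hback]
    exact hrs _ hv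
  · rw [mem_conj] at hr
    obtain ⟨σ, hσ⟩ := K.line _ hr
    refine ⟨σ, fun v hv i => ?_⟩
    rw [hW, mem_smul_as] at hv
    simp only [hsm']
    exact hσ _ hv i
  · obtain ⟨r, hr, hrs⟩ := K.unip b
    refine ⟨t * r * t⁻¹, conj_mem_conj hr, ?_⟩
    rw [acts_conj, hback]
    exact hrs
  · have h1 : MulAut.conj t⁻¹ • L = H := by
      apply K.gen
      · intro r hr
        rw [mem_conj, inv_inv]
        exact hRL (conj_mem_conj hr)
      · rw [hle]
        exact hLH
      · intro h hh A hhA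
        rw [mem_conj, inv_inv]
        apply hL _ (conj_mem_conj hh) A
        rw [acts_conj, hback]
        exact hhA
    rw [← h1, conj_inv_smul]
  · obtain ⟨I, hI1, hI2⟩ := K.off _ (hle.2 hAR) (hel.conj t⁻¹) (fun h2 => hAQ (by rw [hQ, ← hle]; exact h2)) (by
      rw [conj_card, card_inf_conj, card_fx_conj]
      rw [hQ, hW, card_smul_as] at h1
      exact h1)
    refine ⟨I, fun x hx => ?_, fun b hb => ?_⟩
    · obtain ⟨b, hb, hbx⟩ := hI1 (t⁻¹ * x * t) (by
        rw [mem_conj, inv_inv]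
        have e : t * (t⁻¹ * x * t) * t⁻¹ = x := by group
        rwa [e])
      exact ⟨b, hb, acts_conj.2 hbx⟩
    · obtain ⟨x, hx, hbx⟩ := hI2 b hb
      rw [mem_conj, inv_inv] at hx
      refine ⟨_, hx, ?_⟩
      rw [acts_conj, hback]
      exact hbx
  · have h1 := K.noOver _ (hle.2 hAR) (hel.conj t⁻¹)
    rw [conj_card, card_inf_conj, card_fx_conj] at h1
    rw [hQ, hW, card_smul_as]
    exact h1
  · rw [mem_conj] at hr
    rw [hQ, mem_conj]
    apply K.triv _ hr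
    intro w hw
    have h3 := hrw (t • w) (by rw [hW]; exact smul_mem_smul_as hw)
    simp only [smul_add, hsm'', inv_smul_smul] at h3
    exact h3
  · rw [mem_conj] at hx
    rw [hW, mem_smul_as] at hw
    have h3 := K.trivH _ hx (fun w hw => by
      have h4 := hxw (t • w) (by rw [hW]; exact smul_mem_smul_as hw)
      simp only [hsm'', inv_smul_smul] at h4
      exact h4) _ hw
    rwa [← hsm', smul_left_cancel_iff] at h3

/-- transport with `t` -/
theorem KNat.conj_t [Finite Y] {U : Set (Subgroup Y)} {T : Sylow 2 Y} {M : Subgroup Y} {t : Y}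
    (a : Amal U T M H R t) (K : KNat V H R F k co) :
    KNat V (MulAut.conj t • H) R F k (fun v => co (t⁻¹ • v)) := by
  have h1 := K.conj t
  rwa [conj_of_mem a.t_norm] at h1

end transport

/-- Both sides of the amalgam, `H' = H^t`; `WE` : no member in `R` of type ALPHA (#20114). -/
structure TwoN (V : Type u) [AddCommGroup V] [DistribMulAction Y V] (U : Set (Subgroup Y)) (T : Sylow 2 Y)
    (M H H' R : Subgroup Y) (F : Type) [Field F] (k : ℕ) (co co' : V → Fin k → Fin 2 → F) (t : Y) : Prop where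
  amb : Amb V U T M
  a : Amal U T M H R t
  a' : Amal U T M H' R t
  K : KNat V H R F k co
  K' : KNat V H' R F k co'
  H'_eq : H' = MulAut.conj t • H
  H_eq : H = MulAut.conj t • H'
  we : WE V U H R
  we' : WE V U H' R

theorem TwoN.swap {U : Set (Subgroup Y)} {T : Sylow 2 Y} {M H H' R : Subgroup Y} {F : Type} [Field F] {k : ℕ}
    {co co' : V → Fin k → Fin 2 → F} {t : Y} (h : TwoN V U T M H H' R F k co co' t) :
    TwoN V U T M H' H R F k co' co t where
  amb := h.amb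
  a := h.a'
  a' := h.a
  K := h.K'
  K' := h.K
  H'_eq := h.H_eq
  H_eq := h.H'_eq
  we := h.we'
  we' := h.we

theorem KNat.twoN [Finite Y] [Finite V] {U : Set (Subgroup Y)} {T : Sylow 2 Y} {M H R : Subgroup Y} {F : Type}
    [Field F] {k : ℕ} {co : V → Fin k → Fin 2 → F} {t : Y} (amb : Amb V U T M) (a : Amal U T M H R t)
    (K : KNat V H R F k co) (we : WE V U H R) :
    TwoN V U T M H (MulAut.conj t • H) R F k co (fun v => co (t⁻¹ • v)) t where
  amb := amb
  a := a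
  a' := a.conj_t amb.cls amb.TM
  K := K
  K' := K.conj_t a
  H'_eq := rfl
  H_eq := by
    rw [conj_smul_smul]
    exact (conj_of_mem fun x hx => H.mul_mem (H.mul_mem (a.RH a.t_sq) hx) (H.inv_mem (a.RH a.t_sq))).symm
  we := we
  we' := fun B hB hBR => by
    rw [WW_conj (fun v => a.smul_V0) fun v => a.smul_V0']
    exact a.tW_le_Ee amb we hB hBR

/-- natural type of the FF theorem: `TwoN` -/
theorem exists_twoN [Finite Y] [Finite V] {U : Set (Subgroup Y)} {T : Sylow 2 Y} {M H R : Subgroup Y} {t : Y}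
    (amb : Amb V U T M) (a : Amal U T M H R t) (we : WE V U H R) {P : Sylow 2 (XH V H R)} {M₁ : Subgroup (XH V H R)}
    (hA : Abs (XH V H R) (Wm V H R) P M₁)
    (hP : ∀ x : XH V H R, x ∈ P ↔ ∃ r : H, (r : Y) ∈ R ∧ pr V H R r = x) (hno : ANoOver (XH V H R) (Wm V H R))
    {F : Type} [Field F] {k : ℕ} (N : (AbsNat F (P : Subgroup (XH V H R)) (Wm V H R) k :)) :
    ∃ co : V → Fin k → Fin 2 → F, TwoN V U T M H (MulAut.conj t • H) R F k co (fun v => co (t⁻¹ • v)) t :=
  ⟨_, KNat.twoN amb a (KNat.of_abs amb a hA hP hno N) we⟩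

end Cfsg.Agent.Omega.NO1.TH.K

end

section


/-!
# N1, natural type with `k` factors: `C_R(W_R)` is the product of the root groups

* `KNat.exists_up` : an element `r` of `R` trivial on `W_R` acts as `(up (b i))_i`;
* `KNat.mem_iSup_of` : an element of `R` which acts as `(up (b i))_i` is in the join of the root groups.
-/

set_option autoImplicit false
set_option linter.unusedSectionVars false
set_option linter.dupNamespace false

namespace Cfsg.Agent.Omega.NO1.TH.K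

open Subgroup Cfsg.Agent.Omega.NO1.AB Cfsg.Agent.Omega.FFBr Cfsg.Agent.Lib.SL2Mat
open Cfsg.Agent.Omega.NatPair (ap ap_zero' ap_one' ap_add ap_smul ap_mul ap_one ext2)
open scoped Pointwise

universe u

variable {Y : Type u} [Group Y] {V : Type u} [AddCommGroup V] [DistribMulAction Y V]
variable {H R : Subgroup Y} {F : Type} [Field F] {k : ℕ} {co : V → Fin k → Fin 2 → F}

namespace KNat

variable (K : KNat V H R F k co) (h2 : ∀ v : V, v + v = 0)
include K h2

theorem up_co_zero : co 0 = 0 := by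
  have h1 := K.add 0 (zero_mem _) 0 (zero_mem _)
  rw [add_zero] at h1
  exact left_eq_add.1 h1

/-- characteristic 2 -/
theorem char_two (x : Fin k → Fin 2 → F) : x + x = 0 := by
  obtain ⟨v, hv, rfl⟩ := K.surj x
  rw [← K.add v hv v hv, h2, K.up_co_zero h2]

theorem F_two (i : Fin k) (c : F) : c + c = 0 := by
  have h1 := K.char_two h2 fun _ _ => c
  exact congrFun (congrFun h1 i) 0

omit h2 in
theorem co_add {v w : V} (hv : v ∈ WW V H R) (hw : w ∈ WW V H R) (i : Fin k) : co (v + w) i = co v i + co w i := by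
  rw [K.add v hv w hw]; rfl

/-- `g • v` depends on `co v` only, mod `D` -/
theorem co_smul_congr {g : Y} (hg : g ∈ H) {v w : V} (hv : v ∈ WW V H R) (hw : w ∈ WW V H R) {σ : Equiv.Perm (Fin k)}
    (hσ : ∀ v ∈ WW V H R, ∀ i, co (g • v) (σ i) = 0 ↔ co v i = 0) {i : Fin k} (h1 : co v i = co w i) :
    co (g • v) (σ i) = co (g • w) (σ i) := by
  have h3 : co (v + w) i = 0 := by
    rw [K.co_add hv hw, h1]
    have := K.char_two h2 (co w)
    exact congrFun this i
  have h4 := (hσ _ (add_mem hv hw) i).2 h3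
  rw [smul_add, K.co_add (smul_mem_WW hg hv) (smul_mem_WW hg hw)] at h4
  have h5 : co (g • w) (σ i) + co (g • w) (σ i) = 0 := congrFun (K.char_two h2 (co (g • w))) (σ i)
  exact add_right_cancel (h4.trans h5.symm)

omit h2 in
/-- a vector with given coordinate at one place -/
theorem up_exists_single (i : Fin k) (x : Fin 2 → F) : ∃ v ∈ WW V H R, co v i = x ∧ ∀ j, j ≠ i → co v j = 0 := by
  obtain ⟨v, hv, h1⟩ := K.surj (Pi.single i x)
  refine ⟨v, hv, by rw [h1, Pi.single_eq_same], fun j hj => by rw [h1, Pi.single_eq_of_ne hj]⟩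

omit h2 in
/-- an element of `R` trivial on `W_R` normalises every block -/
theorem perm_one (hRH : R ≤ H) {r : Y} (hr : r ∈ R) (hfix : ∀ v ∈ WR V H R co, r • v = v) (v : V)
    (hv : v ∈ WW V H R) (i : Fin k) : co (r • v) i = 0 ↔ co v i = 0 := by
  obtain ⟨σ, hσ⟩ := K.perm r (hRH hr)
  have key : σ i = i := by
    obtain ⟨w, hw, h1, h3⟩ := K.up_exists_single i ![1, 0]
    have hwR : w ∈ WR V H R co := by
      refine ⟨hw, fun j => ?_⟩
      by_cases hj : j = i
      · rw [hj, h1]; rfl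
      · rw [h3 j hj]; rfl
    have h4 := hσ w hw i
    rw [hfix w hwR, h1] at h4
    by_contra hne
    have h5 := h4.1 (h3 _ hne)
    have := congrFun h5 0
    simp at this
  have h1 := hσ v hv i
  rwa [key] at h1

/-- the block maps of an element of `R` trivial on `W_R` -/
theorem exists_T (hRH : R ≤ H) {r : Y} (hr : r ∈ R) (hfix : ∀ v ∈ WR V H R co, r • v = v) (i : Fin k) :
    ∃ T : (Fin 2 → F) → (Fin 2 → F), (∀ x y, T (x + y) = T x + T y) ∧
      (∀ v ∈ WW V H R, co (r • v) i = T (co v i)) ∧ ∀ x, x 1 = 0 → T x = x := by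
  choose s hs using fun x => K.up_exists_single i x
  have hσ := K.perm_one hRH hr hfix
  have h1 : ∀ v ∈ WW V H R, co (r • v) i = co (r • s (co v i)) i := fun v hv =>
    K.co_smul_congr h2 (hRH hr) hv (hs _).1 (σ := Equiv.refl _) (fun v hv i => hσ v hv i) (by rw [(hs _).2.1])
  refine ⟨fun x => co (r • s x) i, fun x y => ?_, h1, fun x hx => ?_⟩
  · change co (r • s (x + y)) i = co (r • s x) i + co (r • s y) i
    have h3 := h1 (s x + s y) (add_mem (hs x).1 (hs y).1)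
    rw [K.co_add (hs x).1 (hs y).1, (hs x).2.1, (hs y).2.1] at h3
    rw [← h3, smul_add, K.co_add (smul_mem_WW (hRH hr) (hs x).1) (smul_mem_WW (hRH hr) (hs y).1)]
  · change co (r • s x) i = x
    rw [hfix (s x) ⟨(hs x).1, fun j => ?_⟩, (hs x).2.1]
    by_cases hj : j = i
    · rw [hj, (hs x).2.1, hx]
    · rw [(hs x).2.2 j hj]; rfl

theorem eq_one_of_pow (i : Fin k) {g : F} (n : ℕ) (hg : g ^ 2 ^ n = 1) : g = 1 := by
  induction n with
  | zero => rwa [pow_zero, pow_one] at hg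
  | succ n ih =>
    apply ih
    rw [pow_succ, pow_mul] at hg
    have h3 : (g ^ 2 ^ n + 1) ^ 2 = 0 := by
      have e : (g ^ 2 ^ n + 1) ^ 2 = (g ^ 2 ^ n) ^ 2 + 1 + (g ^ 2 ^ n + g ^ 2 ^ n) := by ring
      rw [e, hg, K.F_two h2 i, K.F_two h2 i, add_zero]
    have h4 := pow_eq_zero_iff (two_ne_zero) |>.1 h3
    have h5 := K.F_two h2 i 1
    exact add_right_cancel (h4.trans h5.symm)

/-- an element of `R` trivial on `W_R` acts as `(up (b i))_i` -/
theorem exists_up (hRH : R ≤ H) {r : Y} (hr : r ∈ R) {n : ℕ} (hn : r ^ 2 ^ n = 1)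
    (hfix : ∀ v ∈ WR V H R co, r • v = v) : ∃ b : Fin k → F, Acts V H R co r fun i => up (b i) := by
  have hinv : ∀ v ∈ WR V H R co, r⁻¹ • v = v := fun v hv => by
    rw [inv_smul_eq_iff, hfix v hv]
  have key : ∀ i, ∃ b : F, ∀ v ∈ WW V H R, co (r • v) i = ap (up b) (co v i) := by
    intro i
    obtain ⟨T, hadd, hT, hl⟩ := K.exists_T h2 hRH hr hfix i
    obtain ⟨T', hadd', hT', hl'⟩ := K.exists_T h2 hRH (R.inv_mem hr) hinv i
    choose s hs using fun x => K.up_exists_single i x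
    have e1 : ∀ x, T' (T x) = x := by
      intro x
      have h3 := hT (s x) (hs x).1
      have h4 := hT' (r • s x) (smul_mem_WW (hRH hr) (hs x).1)
      rw [inv_smul_smul, (hs x).2.1] at h4
      rw [(hs x).2.1] at h3
      rw [← h3, ← h4]
    have e2 : ∀ x, T (T' x) = x := by
      intro x
      have h3 := hT' (s x) (hs x).1
      have h4 := hT (r⁻¹ • s x) (smul_mem_WW (hRH (R.inv_mem hr)) (hs x).1)
      rw [smul_inv_smul, (hs x).2.1] at h4
      rw [(hs x).2.1] at h3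
      rw [← h3, ← h4]
    have hnm : ∀ A : Matrix.SpecialLinearGroup (Fin 2) F, ∃ B : Matrix.SpecialLinearGroup (Fin 2) F,
        ∀ x, T' (ap A (T x)) = ap B x := by
      intro A
      obtain ⟨h, hhH, hh⟩ := K.lift fun _ => A
      obtain ⟨B, hB⟩ := K.norm r⁻¹ (hRH (R.inv_mem hr)) h hhH (fun _ => A) hh.1
      refine ⟨B i, fun x => ?_⟩
      have h3 := hB (s x) (hs x).1 i
      rw [(hs x).2.1] at h3
      rw [← h3, inv_inv, mul_smul, mul_smul,
        hT' _ (smul_mem_WW hhH (smul_mem_WW (hRH hr) (hs x).1)), hh.1 _ (smul_mem_WW (hRH hr) (hs x).1),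
        hT _ (hs x).1, (hs x).2.1]
    obtain ⟨σ, hσ⟩ := NatPair.exists_semi T T' hadd e1 e2 hnm
    have hσ1 : ∀ c, σ c = c := by
      intro c
      have h3 := hσ c ![1, 0]
      rw [hl ![1, 0] rfl, hl (c • ![1, 0]) (by simp)] at h3
      have h4 := congrFun h3 0
      simp at h4
      exact h4.symm
    set b := T ![0, 1] 0 with hb
    set g := T ![0, 1] 1 with hg
    have hTx : ∀ x, T x = ![x 0 + b * x 1, g * x 1] := by
      intro x
      have e : x = ![x 0, 0] + x 1 • ![0, 1] := by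
        apply ext2 <;> simp
      have h3 : T x = T ![x 0, 0] + T (x 1 • ![0, 1]) := by rw [← hadd, ← e]
      rw [h3, hσ, hσ1, hl ![x 0, 0] rfl]
      apply ext2
      · simp [hb, mul_comm]
      · simp [hg, mul_comm]
    have hpow : ∀ m : ℕ, ∀ v ∈ WW V H R, co (r ^ m • v) i 1 = g ^ m * co v i 1 := by
      intro m
      induction m with
      | zero => intro v _; rw [pow_zero, pow_zero, one_smul, one_mul]
      | succ m ih =>
        intro v hv
        rw [pow_succ, mul_smul, ih _ (smul_mem_WW (hRH hr) hv), hT v hv, hTx, pow_succ]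
        simp [mul_assoc]
    have hg1 : g = 1 := by
      apply K.eq_one_of_pow h2 i n
      have h3 := hpow (2 ^ n) (s ![0, 1]) (hs _).1
      rw [hn, one_smul, (hs _).2.1] at h3
      simpa using h3.symm
    refine ⟨b, fun v hv => ?_⟩
    rw [hT v hv, hTx, NatPair.NormLev.Co.ap_up, hg1, one_mul]
  choose b hb using key
  exact ⟨b, fun v hv i => hb i v hv, fun d hd h0 => hfix d ⟨hd, fun i => by rw [h0]; rfl⟩⟩

end KNat

end Cfsg.Agent.Omega.NO1.TH.K

end

section


/-!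
# N1, the amalgam `(H, H^t)`, `S_n` type with `k` factors (bb OMEGA 21203, 21465): the hypotheses

`W = WW V H R`, `Q = QQ H R`, `W / D₀` the direct sum of `k` modules of even subsets of `2 ^ m + 1` letters,
`co : V → Fin k → Fin (2 ^ m + 1) → ZMod 2` the coordinates (meaningful on `W` only), `D₀ = {w ∈ W | co w = 0}`.
Mirror of `K/Def.lean` (helper2).
-/

set_option autoImplicit false
set_option linter.unusedSectionVars false
set_option linter.dupNamespace false

namespace Cfsg.Agent.Omega.NO1.TH.K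

open Subgroup Cfsg.Agent.Omega.NO1.AB Cfsg.Agent.Omega.FFBr
open scoped Pointwise

universe u

variable {Y : Type u} [Group Y]

/-- `g` acts on `W` as `(σ, τ)` in the coordinates. -/
def ActS (V : Type u) [AddCommGroup V] [DistribMulAction Y V] (H R : Subgroup Y) {k n : ℕ}
    (co : V → Fin k → Fin n → ZMod 2) (g : Y) (σ : Equiv.Perm (Fin k)) (τ : Fin k → Equiv.Perm (Fin n)) : Prop :=
  ∀ v ∈ WW V H R, ∀ i x, co (g • v) (σ i) (τ i x) = co v i x

/-- `g` is trivial on `D₀ = {co = 0}` -/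
def TrD (V : Type u) [AddCommGroup V] [DistribMulAction Y V] (H R : Subgroup Y) {k n : ℕ}
    (co : V → Fin k → Fin n → ZMod 2) (g : Y) : Prop :=
  ∀ d ∈ WW V H R, co d = 0 → g • d = d

/-- `W / D₀` is the sum of `k` even-subset modules of `S_{2^m+1}` for `H`. -/
structure KSym (V : Type u) [AddCommGroup V] [DistribMulAction Y V] (H R : Subgroup Y) (k m : ℕ)
    (co : V → Fin k → Fin (2 ^ m + 1) → ZMod 2) : Prop where
  kpos : 0 < k
  two_le : 2 ≤ m
  add : ∀ v ∈ WW V H R, ∀ w ∈ WW V H R, co (v + w) = co v + co w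
  even : ∀ v ∈ WW V H R, ∀ i, ∑ x, co v i x = 0
  surj : ∀ y : Fin k → Fin (2 ^ m + 1) → ZMod 2, (∀ i, ∑ x, y i x = 0) → ∃ v ∈ WW V H R, co v = y
  lift : ∀ τ : Fin k → Equiv.Perm (Fin (2 ^ m + 1)), ∃ g ∈ H, ActS V H R co g 1 τ ∧ TrD V H R co g
  perm : ∀ g ∈ H, ∃ σ τ, ActS V H R co g σ τ
  trans : ∀ i j, ∃ r ∈ R, ∃ σ τ, ActS V H R co r σ τ ∧ σ i = j
  fix0 : ∀ r ∈ R, ∀ σ τ, ActS V H R co r σ τ → ∀ i, τ i 0 = 0
  gen : ∀ K : Subgroup Y, R ≤ K → K ≤ H →
    (∀ h ∈ H, ∀ τ, ActS V H R co h 1 τ → TrD V H R co h → h ∈ K) → K = H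
  off : ∀ A ≤ R, ElAb A → ¬ A ≤ QQ H R →
    Nat.card ↥(A ⊓ QQ H R) * Nat.card ↥(WW V H R) ≤ Nat.card A * Nat.card ↥(fx V A ⊓ WW V H R) →
      (∀ a ∈ A, TrD V H R co a) ∧
        ∀ a ∈ A, ∃ τ : Fin k → Equiv.Perm (Fin (2 ^ m + 1)), ActS V H R co a 1 τ ∧
          ∀ i x, τ i x ≠ x → τ i (τ i x) = x ∧
            ∃ b ∈ A, ActS V H R co b 1 (Function.update 1 i (Equiv.swap x (τ i x)))
  noOver : ∀ A ≤ R, ElAb A → Nat.card A * Nat.card ↥(fx V A ⊓ WW V H R) ≤
    Nat.card ↥(A ⊓ QQ H R) * Nat.card ↥(WW V H R)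
  triv : ∀ r ∈ R, (∀ w ∈ WW V H R, co (r • w + w) = 0) → r ∈ QQ H R
  trivH : ∀ x ∈ H, (∀ w ∈ WW V H R, co (x • w) = co w) → ∀ w ∈ WW V H R, x • w = w

variable {V : Type u} [AddCommGroup V] [DistribMulAction Y V]

/-! ### Derivation from `AbsSym` -/

section derive

variable {H R : Subgroup Y} {k n : ℕ}

open Classical in
/-- the coordinates -/
noncomputable def coS (e : Wm V H R → Fin k → Fin n → ZMod 2) (v : V) : Fin k → Fin n → ZMod 2 :=
  if h : v ∈ WW V H R then e (Multiplicative.ofAdd ⟨v, h⟩) else 0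

theorem coS_vl (e : Wm V H R → Fin k → Fin n → ZMod 2) (m : Wm V H R) : coS e (vl V H R m) = e m := by
  unfold coS
  rw [dif_pos (vl_mem m)]
  congr 1

theorem coS_smul (e : Wm V H R → Fin k → Fin n → ZMod 2) {g : Y} (hg : g ∈ H) (m : Wm V H R) :
    coS e (g • vl V H R m) = e (pr V H R ⟨g, hg⟩ • m) := by
  rw [← coS_vl e, vl_smul]

theorem actS_iff (e : Wm V H R → Fin k → Fin n → ZMod 2) {g : Y} (hg : g ∈ H) (σ : Equiv.Perm (Fin k))
    (τ : Fin k → Equiv.Perm (Fin n)) : ActS V H R (coS e) g σ τ ↔ AActsSym e (pr V H R ⟨g, hg⟩) σ τ := by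
  constructor
  · intro h1 m i x
    have h3 := h1 _ (vl_mem m) i x
    rwa [coS_vl, coS_smul e hg] at h3
  · intro h1 v hv i x
    obtain ⟨m, rfl⟩ := exists_vl hv
    rw [coS_smul e hg, coS_vl]
    exact h1 m i x

theorem trD_iff (e : Wm V H R → Fin k → Fin n → ZMod 2)
    (hker : ∀ v, e v = 0 ↔ v ∈ odd (XH V H R) (Wm V H R)) {g : Y} (hg : g ∈ H) :
    TrD V H R (coS e) g ↔ ∀ d ∈ odd (XH V H R) (Wm V H R), pr V H R ⟨g, hg⟩ • d = d := by
  constructor
  · intro h2 d hd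
    rw [pr_fix]
    exact h2 _ (vl_mem d) (by rw [coS_vl]; exact (hker d).2 hd)
  · intro h2 d hd h0
    obtain ⟨m, rfl⟩ := exists_vl hd
    rw [coS_vl] at h0
    exact pr_fix.1 (h2 m ((hker m).1 h0))

variable {m : ℕ}

/-- an element of odd order which is trivial on `V / D` and on `D` is trivial -/
theorem absSym_triv {X V' : Type*} [Group X] [Group V'] [MulDistribMulAction X V'] {T' : Subgroup X}
    (hc : ∀ v w : V', v * w = w * v) (hs : ∀ v : V', v * v = 1) (hf : ∀ x : X, (∀ v : V', x • v = v) → x = 1)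
    (N : AbsSym T' V' k m) {x : X} (hx : ∀ v, N.e (x • v) = N.e v) (ho : Odd (orderOf x)) : x = 1 := by
  have h1 : ∀ v : V', x • v * v ∈ odd X V' := by
    intro v
    rw [← N.ker, N.mul, hx, ← N.mul, hs, N.ker]
    exact (odd X V').one_mem
  have h2 : x * x = 1 := by
    apply hf
    intro v
    have h3 := h1 v x ho
    rw [smul_mul', ← mul_smul] at h3
    rw [hc (x • v) v] at h3
    exact mul_right_cancel h3
  have h4 : orderOf x ∣ 2 := orderOf_dvd_of_pow_eq_one (by rw [pow_two, h2])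
  rcases (Nat.dvd_prime Nat.prime_two).1 h4 with h5 | h5
  · exact orderOf_eq_one_iff.1 h5
  · rw [h5] at ho
    exact absurd ho (by decide)

/-- the elements trivial on `V / D` form a normal 2-subgroup -/
theorem absSym_core {X V' : Type*} [Group X] [Finite X] [Group V'] [MulDistribMulAction X V'] {T' : Subgroup X}
    (hc : ∀ v w : V', v * w = w * v) (hs : ∀ v : V', v * v = 1) (hf : ∀ x : X, (∀ v : V', x • v = v) → x = 1)
    (hcore : ∀ N : Subgroup X, N.Normal → IsPGroup 2 N → N = ⊥)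
    (N : AbsSym T' V' k m) {x : X} (hx : ∀ v, N.e (x • v) = N.e v) : x = 1 := by
  let N' : Subgroup X :=
    { carrier := {x | ∀ v, N.e (x • v) = N.e v}
      one_mem' := fun v => by rw [one_smul]
      mul_mem' := fun {x y} hx hy v => by rw [mul_smul, hx, hy]
      inv_mem' := fun {x} hx v => by rw [← hx (x⁻¹ • v), smul_inv_smul] }
  have hN' : ∀ y, y ∈ N' ↔ ∀ v, N.e (y • v) = N.e v := fun y => Iff.rfl
  have h1 : N' = ⊥ := by
    apply hcore
    · refine ⟨fun n hn g v => ?_⟩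
      have h2 : N.e ((n • g⁻¹ • v) * (g⁻¹ • v)) = 0 := by
        rw [N.mul, hn (g⁻¹ • v), ← N.mul, hs, N.ker]
        exact (odd X V').one_mem
      obtain ⟨σ, τ, hσ⟩ := N.perm g
      have h3 : N.e (g • ((n • g⁻¹ • v) * (g⁻¹ • v))) = 0 := by
        funext i x
        have h4 := hσ ((n • g⁻¹ • v) * (g⁻¹ • v)) (σ.symm i) ((τ (σ.symm i)).symm x)
        rw [Equiv.apply_symm_apply, Equiv.apply_symm_apply, h2] at h4
        exact h4
      rw [smul_mul', smul_inv_smul, N.mul, ← mul_smul, ← mul_smul] at h3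
      have h5 : N.e v + N.e v = 0 := by
        rw [← N.mul, hs, N.ker]
        exact (odd X V').one_mem
      exact (add_left_injective (N.e v)) (h3.trans h5.symm)
    · rw [IsPGroup.iff_orderOf]
      intro y
      have hpos : 0 < orderOf (y : X) := orderOf_pos _
      obtain ⟨n, m, hm, hnm⟩ := Nat.exists_eq_two_pow_mul_odd hpos.ne'
      have h2 : ((y : X) ^ 2 ^ n) = 1 := by
        apply absSym_triv hc hs hf N (x := (y : X) ^ 2 ^ n)
        · exact (N'.pow_mem y.2 _)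
        · rw [orderOf_pow' _ (by positivity), hnm, Nat.gcd_eq_right (Dvd.intro _ rfl),
            Nat.mul_div_cancel_left _ (by positivity)]
          exact hm
      obtain ⟨j, _, hj⟩ := (Nat.dvd_prime_pow Nat.prime_two).1 (orderOf_dvd_of_pow_eq_one h2)
      exact ⟨j, by rw [← hj, Subgroup.orderOf_coe]⟩
  have h2 : x ∈ N' := hx
  rw [h1, mem_bot] at h2
  exact h2

end derive

/-- **`KSym` from `AbsSym`** -/
theorem KSym.of_abs {k m : ℕ} [Finite Y] [Finite V] {U : Set (Subgroup Y)} {T : Sylow 2 Y}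
    {M H R : Subgroup Y} {t : Y} (amb : Amb V U T M) (a : Amal U T M H R t) {P : Sylow 2 (XH V H R)}
    {M₁ : Subgroup (XH V H R)} (hA : Abs (XH V H R) (Wm V H R) P M₁)
    (hP : ∀ x : XH V H R, x ∈ P ↔ ∃ r : H, (r : Y) ∈ R ∧ pr V H R r = x) (hno : ANoOver (XH V H R) (Wm V H R))
    (hk : 0 < k) (hm : 2 ≤ m)
    (N : (AbsSym (P : Subgroup (XH V H R)) (Wm V H R) k m :)) : KSym V H R k m (coS N.e) := by
  have hcomm : ∀ {A : Subgroup Y}, A ≤ R → ElAb A →
      (∀ x ∈ (A.subgroupOf H).map (pr V H R), ∀ y ∈ (A.subgroupOf H).map (pr V H R), x * y = y * x) ∧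
        ∀ x ∈ (A.subgroupOf H).map (pr V H R), x * x = 1 := by
    intro A _ hel
    refine ⟨?_, ?_⟩
    · rintro _ ⟨x, hx, rfl⟩ _ ⟨y, hy, rfl⟩
      rw [← map_mul, ← map_mul]
      congr 1
      exact Subtype.ext (hel.1 x hx y hy)
    · rintro _ ⟨x, hx, rfl⟩
      rw [← map_mul]
      have : x * x = 1 := Subtype.ext (hel.2 x hx)
      rw [this, map_one]
  have htrD := fun {g : Y} (hg : g ∈ H) => trD_iff (n := 2 ^ m + 1) N.e N.ker hg
  refine
    { kpos := hk
      two_le := hm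
      add := fun v hv w hw => ?_
      even := fun v hv i => ?_
      surj := fun x hx => ?_
      lift := fun τ => ?_
      perm := fun g hg => ?_
      trans := fun i j => ?_
      fix0 := fun r hr σ τ hστ i => ?_
      gen := fun K hRK hKH hK => ?_
      off := fun A hAR hel hAQ hle => ?_
      noOver := fun A hAR hel => ?_
      triv := fun r hr hrw => ?_
      trivH := fun x hx hxw w hw => ?_ }
  · obtain ⟨m, rfl⟩ := exists_vl hv
    obtain ⟨n, rfl⟩ := exists_vl hw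
    rw [← vl_mul, coS_vl, coS_vl, coS_vl, N.mul]
  · obtain ⟨m, rfl⟩ := exists_vl hv
    rw [coS_vl]
    exact N.even m i
  · obtain ⟨m, hm⟩ := N.surj x hx
    exact ⟨_, vl_mem m, by rw [coS_vl, hm]⟩
  · obtain ⟨g, hg, hgd⟩ := N.lift τ
    obtain ⟨y, rfl⟩ := pr_surjective V H R g
    exact ⟨y, y.2, (actS_iff N.e y.2 1 τ).2 hg, (htrD y.2).2 hgd⟩
  · obtain ⟨σ, τ, hσ⟩ := N.perm (pr V H R ⟨g, hg⟩)
    exact ⟨σ, τ, (actS_iff N.e hg σ τ).2 hσ⟩
  · obtain ⟨x, hx, σ, τ, hστ, hij⟩ := N.trans i j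
    obtain ⟨r, hr, rfl⟩ := (hP x).1 hx
    exact ⟨r, hr, σ, τ, (actS_iff N.e r.2 σ τ).2 hστ, hij⟩
  · exact N.fix0 (pr V H R ⟨r, a.RH hr⟩) ((hP _).2 ⟨_, hr, rfl⟩) σ τ ((actS_iff N.e (a.RH hr) σ τ).1 hστ) i
  · have h1 : (K.subgroupOf H).map (pr V H R) = ⊤ := by
      apply N.gen
      · intro x hx
        obtain ⟨r, hr, rfl⟩ := (hP x).1 hx
        exact ⟨r, hRK hr, rfl⟩
      · intro x τ hx hxd
        obtain ⟨y, rfl⟩ := pr_surjective V H R x
        exact ⟨y, hK y y.2 τ ((actS_iff N.e y.2 1 τ).2 hx) ((htrD y.2).2 hxd), rfl⟩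
    apply le_antisymm hKH
    intro x hx
    have h2 : pr V H R ⟨x, hx⟩ ∈ (K.subgroupOf H).map (pr V H R) := by rw [h1]; exact mem_top _
    obtain ⟨y, hy, hyx⟩ := h2
    have h3 : pr V H R (y⁻¹ * ⟨x, hx⟩) = 1 := by rw [map_mul, map_inv, hyx, inv_mul_cancel]
    rw [pr_eq_one] at h3
    have h4 := hK ((y : Y)⁻¹ * x) (H.mul_mem (H.inv_mem y.2) hx) 1
      (fun v hv i x => by
        have h5 := h3 v hv
        simp only [Subgroup.coe_mul, Subgroup.coe_inv] at h5
        rw [h5]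
        rfl)
      (fun d hd _ => h3 d hd)
    have h5 := K.mul_mem (show (y : Y) ∈ K from hy) h4
    rwa [mul_inv_cancel_left] at h5
  · obtain ⟨hI1, hI2⟩ := N.off ((A.subgroupOf H).map (pr V H R)) (by
      rintro _ ⟨x, hx, rfl⟩
      exact (hP _).2 ⟨x, hAR hx, rfl⟩)
      { comm := (hcomm hAR hel).1
        sq := (hcomm hAR hel).2
        ne := by
          intro h1
          apply hAQ
          intro x hx
          rw [Amal.mem_QQ_iff a amb (hAR hx), ← pr_eq_one (x := ⟨x, a.RH (hAR hx)⟩), ← mem_bot, ← h1]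
          exact ⟨_, hx, rfl⟩
        le := by
          have h2 := card_mapSub amb a hAR
          have h3 := card_cv (V := V) (R := R) (hAR.trans a.RH)
          rw [inf_comm (fx V A), ← h2, ← h3] at hle
          have h4 : 0 < Nat.card ↥(A ⊓ QQ H R) := Nat.card_pos
          have h5 : 0 < Nat.card ↥(WW V H R ⊓ fx V A) := Nat.card_pos
          apply Nat.le_of_mul_le_mul_right _ (Nat.mul_pos h4 h5)
          calc _ = Nat.card ↥(A ⊓ QQ H R) * ((ClassTwoFusion.Quad.cv (Wm V H R)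
                (((A.subgroupOf H).map (pr V H R) : Subgroup (XH V H R)) : Set (XH V H R))).index *
                  Nat.card ↥(WW V H R ⊓ fx V A)) := by ring
            _ ≤ _ := hle
            _ = _ := by ring }
    refine ⟨fun x hx => (htrD (a.RH (hAR hx))).2 (hI1 (pr V H R ⟨x, a.RH (hAR hx)⟩) ⟨_, hx, rfl⟩),
      fun x hx => ?_⟩
    obtain ⟨τ, hτ, hτ2⟩ := hI2 (pr V H R ⟨x, a.RH (hAR hx)⟩) ⟨_, hx, rfl⟩
    refine ⟨τ, (actS_iff N.e _ 1 τ).2 hτ, fun i y hy => ?_⟩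
    obtain ⟨h1, _, ⟨b, hb, rfl⟩, hb2⟩ := hτ2 i y hy
    exact ⟨h1, b, hb, (actS_iff N.e b.2 _ _).2 hb2⟩
  · have h1 := hno ((A.subgroupOf H).map (pr V H R)) (hcomm hAR hel).1 (hcomm hAR hel).2
    have h2 := card_mapSub amb a hAR
    have h3 := card_cv (V := V) (R := R) (hAR.trans a.RH)
    rw [inf_comm (fx V A), ← h2, ← h3]
    calc _ = Nat.card ↥((A.subgroupOf H).map (pr V H R)) *
          (Nat.card ↥(A ⊓ QQ H R) * Nat.card ↥(WW V H R ⊓ fx V A)) := mul_assoc _ _ _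
      _ ≤ _ := Nat.mul_le_mul_right _ h1
      _ = _ := by ring
  · rw [Amal.mem_QQ_iff a amb hr, ← pr_eq_one (x := ⟨r, a.RH hr⟩)]
    apply absSym_core hA.comm hA.sq hA.faith hA.core N
    intro m
    have h1 := hrw _ (vl_mem m)
    have h2 : (r : Y) • vl V H R m + vl V H R m = vl V H R ((pr V H R ⟨r, a.RH hr⟩ • m) * m) := by
      rw [vl_mul, vl_smul]
    rw [h2, coS_vl, N.mul] at h1
    have h5 : N.e m + N.e m = 0 := by
      rw [← N.mul, hA.sq, N.ker]
      exact (odd _ _).one_mem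
    exact (add_left_injective (N.e m)) (h1.trans h5.symm)
  · have h1 : pr V H R ⟨x, hx⟩ = 1 := by
      apply absSym_core hA.comm hA.sq hA.faith hA.core N
      intro m
      rw [← coS_smul N.e hx, hxw _ (vl_mem m), coS_vl]
    exact pr_eq_one.1 h1 w hw

/-! ### Transport -/

section transport

variable {H R : Subgroup Y} {k n : ℕ}

theorem actS_conj {co : V → Fin k → Fin n → ZMod 2} {t : Y} {g : Y} {σ : Equiv.Perm (Fin k)}
    {τ : Fin k → Equiv.Perm (Fin n)} :
    ActS V (MulAut.conj t • H) (MulAut.conj t • R) (fun v => co (t⁻¹ • v)) g σ τ ↔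
      ActS V H R co (t⁻¹ * g * t) σ τ := by
  have hW : WW V (MulAut.conj t • H) (MulAut.conj t • R) = t • WW V H R := WW_conj' t
  constructor
  · intro h1 v hv i x
    have h3 := h1 (t • v) (by rw [hW]; exact smul_mem_smul_as hv) i x
    simp only [hsm'', inv_smul_smul] at h3
    exact h3
  · intro h1 v hv i x
    rw [hW, mem_smul_as] at hv
    have h3 := h1 _ hv i x
    simp only [hsm']
    exact h3

theorem trD_conj {co : V → Fin k → Fin n → ZMod 2} {t : Y} {g : Y} :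
    TrD V (MulAut.conj t • H) (MulAut.conj t • R) (fun v => co (t⁻¹ • v)) g ↔ TrD V H R co (t⁻¹ * g * t) := by
  have hW : WW V (MulAut.conj t • H) (MulAut.conj t • R) = t • WW V H R := WW_conj' t
  constructor
  · intro h2 d hd h0
    have h3 := h2 (t • d) (by rw [hW]; exact smul_mem_smul_as hd) (by simp only [inv_smul_smul]; exact h0)
    rw [mul_smul, mul_smul, h3, inv_smul_smul]
  · intro h2 d hd h0
    rw [hW, mem_smul_as] at hd
    have h3 := h2 _ hd h0
    rwa [← hsm', smul_left_cancel_iff] at h3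

variable {m : ℕ} {co : V → Fin k → Fin (2 ^ m + 1) → ZMod 2}

/-- transport with an arbitrary element -/
theorem KSym.conj [Finite Y] (K : KSym V H R k m co) (t : Y) :
    KSym V (MulAut.conj t • H) (MulAut.conj t • R) k m (fun v => co (t⁻¹ • v)) := by
  have hQ : QQ (MulAut.conj t • H) (MulAut.conj t • R) = MulAut.conj t • QQ H R := QQ_conj' t
  have hW : WW V (MulAut.conj t • H) (MulAut.conj t • R) = t • WW V H R := WW_conj' t
  have hle : ∀ {A K : Subgroup Y}, MulAut.conj t⁻¹ • A ≤ K ↔ A ≤ MulAut.conj t • K := by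
    intro A K
    rw [conj_le_iff, inv_inv]
  have hback : ∀ r : Y, t⁻¹ * (t * r * t⁻¹) * t = r := fun r => by group
  refine
    { kpos := K.kpos
      two_le := K.two_le
      add := fun v hv w hw => ?_
      even := fun v hv i => ?_
      surj := fun x hx => ?_
      lift := fun τ => ?_
      perm := fun g hg => ?_
      trans := fun i j => ?_
      fix0 := fun r hr σ τ hστ i => ?_
      gen := fun L hRL hLH hL => ?_
      off := fun A hAR hel hAQ h1 => ?_
      noOver := fun A hAR hel => ?_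
      triv := fun r hr hrw => ?_
      trivH := fun x hx hxw w hw => ?_ }
  · rw [hW, mem_smul_as] at hv hw
    simp only [smul_add]
    exact K.add _ hv _ hw
  · rw [hW, mem_smul_as] at hv
    exact K.even _ hv i
  · obtain ⟨v, hv, hx⟩ := K.surj x hx
    refine ⟨t • v, by rw [hW]; exact smul_mem_smul_as hv, ?_⟩
    simp only [inv_smul_smul]
    exact hx
  · obtain ⟨g, hg, hgA, hgd⟩ := K.lift τ
    refine ⟨t * g * t⁻¹, conj_mem_conj hg, ?_, ?_⟩
    · rw [actS_conj, hback]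
      exact hgA
    · rw [trD_conj, hback]
      exact hgd
  · rw [mem_conj] at hg
    obtain ⟨σ, τ, hσ⟩ := K.perm _ hg
    exact ⟨σ, τ, actS_conj.2 hσ⟩
  · obtain ⟨r, hr, σ, τ, hrs, hij⟩ := K.trans i j
    refine ⟨t * r * t⁻¹, conj_mem_conj hr, σ, τ, ?_, hij⟩
    rw [actS_conj, hback]
    exact hrs
  · rw [mem_conj] at hr
    exact K.fix0 _ hr σ τ (actS_conj.1 hστ) i
  · have h1 : MulAut.conj t⁻¹ • L = H := by
      apply K.gen
      · intro r hr
        rw [mem_conj, inv_inv]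
        exact hRL (conj_mem_conj hr)
      · rw [hle]
        exact hLH
      · intro h hh τ hhτ hhd
        rw [mem_conj, inv_inv]
        apply hL _ (conj_mem_conj hh) τ
        · rw [actS_conj, hback]
          exact hhτ
        · rw [trD_conj, hback]
          exact hhd
    rw [← h1, conj_inv_smul]
  · obtain ⟨hI1, hI2⟩ := K.off _ (hle.2 hAR) (hel.conj t⁻¹) (fun h2 => hAQ (by rw [hQ, ← hle]; exact h2)) (by
      rw [conj_card, card_inf_conj, card_fx_conj]
      rw [hQ, hW, card_smul_as] at h1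
      exact h1)
    refine ⟨fun x hx => ?_, fun x hx => ?_⟩
    · rw [trD_conj]
      apply hI1
      rw [mem_conj, inv_inv]
      have e : t * (t⁻¹ * x * t) * t⁻¹ = x := by group
      rwa [e]
    · obtain ⟨τ, hτ, hτ2⟩ := hI2 (t⁻¹ * x * t) (by
        rw [mem_conj, inv_inv]
        have e : t * (t⁻¹ * x * t) * t⁻¹ = x := by group
        rwa [e])
      refine ⟨τ, actS_conj.2 hτ, fun i y hy => ?_⟩
      obtain ⟨h2, b, hb, hb2⟩ := hτ2 i y hy
      rw [mem_conj, inv_inv] at hb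
      refine ⟨h2, _, hb, ?_⟩
      rw [actS_conj, hback]
      exact hb2
  · have h1 := K.noOver _ (hle.2 hAR) (hel.conj t⁻¹)
    rw [conj_card, card_inf_conj, card_fx_conj] at h1
    rw [hQ, hW, card_smul_as]
    exact h1
  · rw [mem_conj] at hr
    rw [hQ, mem_conj]
    apply K.triv _ hr
    intro w hw
    have h3 := hrw (t • w) (by rw [hW]; exact smul_mem_smul_as hw)
    simp only [smul_add, hsm'', inv_smul_smul] at h3
    exact h3
  · rw [mem_conj] at hx
    rw [hW, mem_smul_as] at hw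
    have h3 := K.trivH _ hx (fun w hw => by
      have h4 := hxw (t • w) (by rw [hW]; exact smul_mem_smul_as hw)
      simp only [hsm'', inv_smul_smul] at h4
      exact h4) _ hw
    rwa [← hsm', smul_left_cancel_iff] at h3

/-- transport with `t` -/
theorem KSym.conj_t [Finite Y] {U : Set (Subgroup Y)} {T : Sylow 2 Y} {M : Subgroup Y} {t : Y}
    (a : Amal U T M H R t) (K : KSym V H R k m co) :
    KSym V (MulAut.conj t • H) R k m (fun v => co (t⁻¹ • v)) := by
  have h1 := K.conj t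
  rwa [conj_of_mem a.t_norm] at h1

end transport

/-- Both sides of the amalgam, `H' = H^t`; `WE` : no member in `R` of type ALPHA (#20114). -/
structure TwoS (V : Type u) [AddCommGroup V] [DistribMulAction Y V] (U : Set (Subgroup Y)) (T : Sylow 2 Y)
    (M H H' R : Subgroup Y) (k m : ℕ) (co co' : V → Fin k → Fin (2 ^ m + 1) → ZMod 2) (t : Y) : Prop where
  amb : Amb V U T M
  a : Amal U T M H R t
  a' : Amal U T M H' R t
  K : KSym V H R k m co
  K' : KSym V H' R k m co'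
  H'_eq : H' = MulAut.conj t • H
  H_eq : H = MulAut.conj t • H'
  we : WE V U H R
  we' : WE V U H' R

theorem TwoS.swap {U : Set (Subgroup Y)} {T : Sylow 2 Y} {M H H' R : Subgroup Y} {k m : ℕ}
    {co co' : V → Fin k → Fin (2 ^ m + 1) → ZMod 2} {t : Y} (h : TwoS V U T M H H' R k m co co' t) :
    TwoS V U T M H' H R k m co' co t where
  amb := h.amb
  a := h.a'
  a' := h.a
  K := h.K'
  K' := h.K
  H'_eq := h.H_eq
  H_eq := h.H'_eq
  we := h.we'
  we' := h.we

theorem KSym.twoS [Finite Y] [Finite V] {U : Set (Subgroup Y)} {T : Sylow 2 Y} {M H R : Subgroup Y}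
    {k m : ℕ} {co : V → Fin k → Fin (2 ^ m + 1) → ZMod 2} {t : Y} (amb : Amb V U T M) (a : Amal U T M H R t)
    (K : KSym V H R k m co) (we : WE V U H R) :
    TwoS V U T M H (MulAut.conj t • H) R k m co (fun v => co (t⁻¹ • v)) t where
  amb := amb
  a := a
  a' := a.conj_t amb.cls amb.TM
  K := K
  K' := K.conj_t a
  H'_eq := rfl
  H_eq := by
    rw [conj_smul_smul]
    exact (conj_of_mem fun x hx => H.mul_mem (H.mul_mem (a.RH a.t_sq) hx) (H.inv_mem (a.RH a.t_sq))).symm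
  we := we
  we' := fun B hB hBR => by
    rw [WW_conj (fun v => a.smul_V0) fun v => a.smul_V0']
    exact a.tW_le_Ee amb we hB hBR

/-- `S_n` type of the FF theorem: `TwoS` -/
theorem exists_twoS [Finite Y] [Finite V] {U : Set (Subgroup Y)} {T : Sylow 2 Y} {M H R : Subgroup Y} {t : Y}
    (amb : Amb V U T M) (a : Amal U T M H R t) (we : WE V U H R) {P : Sylow 2 (XH V H R)} {M₁ : Subgroup (XH V H R)}
    (hA : Abs (XH V H R) (Wm V H R) P M₁)
    (hP : ∀ x : XH V H R, x ∈ P ↔ ∃ r : H, (r : Y) ∈ R ∧ pr V H R r = x) (hno : ANoOver (XH V H R) (Wm V H R))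
    {k m : ℕ} (hk : 0 < k) (hm : 2 ≤ m) (N : (AbsSym (P : Subgroup (XH V H R)) (Wm V H R) k m :)) :
    ∃ co : V → Fin k → Fin (2 ^ m + 1) → ZMod 2,
      TwoS V U T M H (MulAut.conj t • H) R k m co (fun v => co (t⁻¹ • v)) t :=
  ⟨_, KSym.twoS amb a (KSym.of_abs amb a hA hP hno hk hm N) we⟩

end Cfsg.Agent.Omega.NO1.TH.K

end
end

-- part: Mrg/Omega/NO1/TH/NoOvV
section
section


/-!
# No over-offender in the noncentral sections of a module (additive form)

`noOvV` : `T` a Sylow 2-subgroup of `L` in a unique maximal subgroup, `A ≤ K ≤ C` in `V`, `A`, `C` invariant under `L`,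
`C/A` noncentral for `O²(L)`, `E` an elementary abelian 2-subgroup with `[K, E] ≤ A`, `E ∩ O₂(L) = 1`: then
`|E| |K| ≤ |C|`.  (Semidirect product with `NoOvQ.noOvQ`.)
-/

set_option autoImplicit false
set_option linter.unusedSectionVars false

namespace Cfsg.Agent.Omega.NO1.TH

open Subgroup Cfsg.Agent.ZN
open Cfsg.Agent.MinSimple.MinParabolic (IsMin IsMinPar)
open Cfsg.Agent.Omega.NO1.TH.MF (Inv)
open scoped Pointwise

universe u

/-- `O²(L)` -/
def od (L : Type u) [Group L] : Subgroup L := _root_.Subgroup.closure {x | Odd (orderOf x)}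

section od

variable {L : Type u} [Group L]

theorem mem_od {x : L} (h : Odd (orderOf x)) : x ∈ od L := _root_.Subgroup.subset_closure h

instance od_normal : (od L).Normal := by
  refine ⟨fun n hn g => ?_⟩
  have h1 : (od L).map (MulAut.conj g).toMonoidHom ≤ od L := by
    rw [od, MonoidHom.map_closure, closure_le]
    rintro _ ⟨y, hy, rfl⟩
    apply mem_od
    have : orderOf ((MulAut.conj g).toMonoidHom y) = orderOf y :=
      orderOf_injective _ (MulAut.conj g).injective y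
    rw [this]
    exact hy
  exact h1 ⟨n, hn, rfl⟩

/-- `O²(L) T = L` -/
theorem od_sup [Finite L] (T : Sylow 2 L) : od L ⊔ (T : Subgroup L) = ⊤ := by
  have f2 : Fact (Nat.Prime 2) := ⟨Nat.prime_two⟩
  have h2 : IsPGroup 2 (L ⧸ od L) := by
    intro x
    induction x using QuotientGroup.induction_on with
    | H x =>
      -- `x ^ (2 ^ k)` has odd order
      have hpos : 0 < orderOf x := orderOf_pos x
      obtain ⟨k, m, hm, hkm⟩ := Nat.exists_eq_two_pow_mul_odd hpos.ne'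
      refine ⟨k, ?_⟩
      rw [← QuotientGroup.mk_pow, QuotientGroup.eq_one_iff]
      apply mem_od
      have h3 : orderOf (x ^ 2 ^ k) = m := by
        rw [orderOf_pow_of_dvd (by positivity) (by rw [hkm]; exact Dvd.intro _ rfl), hkm,
          Nat.mul_div_cancel_left _ (by positivity)]
      rw [h3]
      exact hm
  have h3 : (od L ⊔ (T : Subgroup L)).index = 1 := by
    have h4 : (od L ⊔ (T : Subgroup L)).index ∣ (T : Subgroup L).index := index_dvd_of_le le_sup_right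
    have h5 : (od L ⊔ (T : Subgroup L)).index ∣ (od L).index := index_dvd_of_le le_sup_left
    obtain ⟨n, hn⟩ := IsPGroup.iff_card.1 h2
    rw [← index_eq_card] at hn
    rw [hn] at h5
    obtain ⟨j, hj, hj2⟩ := (Nat.dvd_prime_pow Nat.prime_two).1 h5
    have h6 : ¬ 2 ∣ (T : Subgroup L).index := T.not_dvd_index
    by_cases hj0 : j = 0
    · rw [hj2, hj0, pow_zero]
    · exfalso
      apply h6
      rw [hj2] at h4
      exact (dvd_pow_self 2 hj0).trans h4
  exact index_eq_one.1 h3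

end od

theorem rel_card {G : Type u} [Group G] {H K : Subgroup G} (h : H ≤ K) :
    H.relIndex K * Nat.card H = Nat.card K := by
  have h1 := (H.subgroupOf K).card_mul_index
  rw [Nat.card_congr (subgroupOfEquivOfLe h).toEquiv] at h1
  rw [mul_comm]
  exact h1

/-- `O₂` of the image of an injective homomorphism -/
theorem o2_range_le {L G : Type u} [Group L] [Group G] [Finite G] {f : L →* G} (hf : Function.Injective f) :
    o2 f.range ≤ (pCore 2 L).map f := by
  have f2 : Fact (Nat.Prime 2) := ⟨Nat.prime_two⟩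
  have hn : ((o2 f.range).comap f).Normal := by
    refine ⟨fun n hn g => ?_⟩
    obtain ⟨y, hy, hy2⟩ := hn
    have hpn : (pCore 2 f.range).Normal := Lib.Cores.pCore_normal 2
    refine ⟨(⟨f g, g, rfl⟩ * y * ⟨f g, g, rfl⟩⁻¹ :), hpn.conj_mem y hy _, ?_⟩
    change f g * (y : G) * (f g)⁻¹ = f (g * n * g⁻¹)
    rw [show (y : G) = f n from hy2, map_mul, map_mul, map_inv]
  have hp : IsPGroup 2 ((o2 f.range).comap f) :=
    ((Lib.Cores.pCore_isPGroup (G := f.range) 2).map f.range.subtype).comap_of_injective _ hf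
  have h3 : (o2 f.range).comap f ≤ pCore 2 L := Lib.Cores.le_pCore hn hp
  rintro _ ⟨y, hy, rfl⟩
  obtain ⟨l, hl⟩ := y.2
  refine ⟨l, h3 ?_, hl⟩
  rw [mem_comap, hl]
  exact ⟨y, hy, rfl⟩

theorem syl_map {L G : Type u} [Group L] [Group G] {f : L →* G} (hf : Function.Injective f) (T : Sylow 2 L) :
    ChoiceSit.Syl ((T : Subgroup L).map f) f.range := by
  refine ⟨map_le_range _ _, T.2.map _, fun Q hQX hQ2 hTQ => ?_⟩
  have h1 : Q = (Q.comap f).map f := (map_comap_eq_self hQX).symm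
  have h2 : (T : Subgroup L) ≤ Q.comap f := map_le_iff_le_comap.1 hTQ
  have h3 : IsPGroup 2 (Q.comap f) := hQ2.comap_of_injective _ hf
  rw [h1, T.3 h3 h2]

theorem par_map {L G : Type u} [Group L] [Group G] {f : L →* G} (hf : Function.Injective f) {T M : Subgroup L}
    (hTn : ¬ T.Normal) (hM : IsMin T M) : IsMinPar (T.map f) f.range := by
  refine ⟨map_le_range _ _, fun h => hTn ?_, M.map f, ?_, fun K hTK hKX => ?_⟩
  · refine ⟨fun n hn g => ?_⟩
    have h1 := (mem_normalizer_iff.1 (h (MonoidHom.mem_range.2 ⟨g, rfl⟩)) (f n)).1 (mem_map_of_mem f hn)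
    rw [← map_mul, ← map_inv, ← map_mul] at h1
    obtain ⟨m, hm, hm2⟩ := h1
    rw [← hf hm2]
    exact hm
  · refine lt_of_le_of_ne (map_le_range _ _) fun h => hM.ne_top ?_
    rw [eq_top_iff]
    intro l _
    have h1 : f l ∈ M.map f := by rw [h]; exact ⟨l, rfl⟩
    obtain ⟨m, hm, hm2⟩ := h1
    rw [← hf hm2]
    exact hm
  · have h1 : K = (K.comap f).map f := (map_comap_eq_self hKX.le).symm
    have h2 : T ≤ K.comap f := map_le_iff_le_comap.1 hTK
    rw [h1]
    apply map_mono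
    apply hM.le_of _ h2
    intro h3
    apply hKX.ne
    rw [h1, h3, MonoidHom.range_eq_map]

theorem od_map {L G : Type u} [Group L] [Group G] {f : L →* G} (hf : Function.Injective f) {x : L} (hx : x ∈ od L) :
    f x ∈ MinSimple.VModule.oddGen f.range := by
  have h1 : (od L).map f ≤ MinSimple.VModule.oddGen f.range := by
    rw [od, MonoidHom.map_closure, closure_le]
    rintro _ ⟨y, hy, rfl⟩
    refine MinSimple.VModule.mem_oddGen (P := f.range) (MonoidHom.mem_range.2 ⟨y, rfl⟩) ?_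
    rw [orderOf_injective _ hf]
    exact hy
  exact h1 ⟨x, hx, rfl⟩

section sd

variable {L V : Type u} [Group L] [AddCommGroup V] [DistribMulAction L V]

/-- the action on `Multiplicative V` -/
def phi (L V : Type u) [Group L] [AddCommGroup V] [DistribMulAction L V] : L →* MulAut (Multiplicative V) where
  toFun l :=
    { toFun := fun v => Multiplicative.ofAdd (l • Multiplicative.toAdd v)
      invFun := fun v => Multiplicative.ofAdd (l⁻¹ • Multiplicative.toAdd v)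
      left_inv := fun v => inv_smul_smul l (Multiplicative.toAdd v)
      right_inv := fun v => smul_inv_smul l (Multiplicative.toAdd v)
      map_mul' := fun v w => smul_add l (Multiplicative.toAdd v) (Multiplicative.toAdd w) }
  map_one' := MulEquiv.ext fun v => one_smul L (Multiplicative.toAdd v)
  map_mul' g h := MulEquiv.ext fun v => mul_smul g h (Multiplicative.toAdd v)

/-- `V ⋊ L` -/
abbrev SD (L V : Type u) [Group L] [AddCommGroup V] [DistribMulAction L V] : Type u :=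
  Multiplicative V ⋊[phi L V] L

instance [Finite L] [Finite V] : Finite (SD L V) :=
  have : Finite (Multiplicative V) := inferInstanceAs (Finite V)
  Finite.of_equiv _ SemidirectProduct.equivProd.symm

/-- `V → V ⋊ L` -/
def iv (v : V) : SD L V := SemidirectProduct.inl (Multiplicative.ofAdd v)

/-- `L → V ⋊ L` -/
def il : L →* SD L V := SemidirectProduct.inr

theorem il_inj : Function.Injective (il : L →* SD L V) := SemidirectProduct.inr_injective

theorem iv_inj {v w : V} (h : (iv v : SD L V) = iv w) : v = w :=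
  Multiplicative.ofAdd.injective (SemidirectProduct.inl_injective (φ := phi L V) h)

theorem iv_add (v w : V) : (iv (v + w) : SD L V) = iv v * iv w := by
  rw [iv, ofAdd_add, map_mul]; rfl

theorem iv_zero : (iv (0 : V) : SD L V) = 1 := by
  rw [iv, ofAdd_zero, map_one]

theorem iv_inv (v : V) : (iv v : SD L V)⁻¹ = iv (-v) := by
  rw [iv, iv, ofAdd_neg, map_inv]

theorem conj_iv (l : L) (v : V) : il l * (iv v : SD L V) * (il l)⁻¹ = iv (l • v) := by
  have := SemidirectProduct.inl_aut (φ := phi L V) l (Multiplicative.ofAdd v)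
  rw [map_inv] at this
  exact this.symm

/-- a submodule in `V ⋊ L` -/
def em (L : Type u) [Group L] [DistribMulAction L V] (A : AddSubgroup V) : Subgroup (SD L V) where
  carrier := {x | ∃ a ∈ A, x = iv a}
  one_mem' := ⟨0, A.zero_mem, iv_zero.symm⟩
  mul_mem' := by
    rintro _ _ ⟨a, ha, rfl⟩ ⟨b, hb, rfl⟩
    exact ⟨a + b, A.add_mem ha hb, (iv_add a b).symm⟩
  inv_mem' := by
    rintro _ ⟨a, ha, rfl⟩
    exact ⟨-a, A.neg_mem ha, iv_inv a⟩

theorem mem_em {A : AddSubgroup V} {v : V} : (iv v : SD L V) ∈ em L A ↔ v ∈ A := by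
  constructor
  · rintro ⟨a, ha, h⟩
    rw [iv_inj h]; exact ha
  · intro h
    exact ⟨v, h, rfl⟩

theorem card_em (A : AddSubgroup V) : Nat.card (em L A) = Nat.card A := by
  symm
  apply Nat.card_congr
  refine Equiv.ofBijective (fun a : A => (⟨iv (a : V), a, a.2, rfl⟩ : em L A)) ⟨?_, ?_⟩
  · intro a b h
    exact Subtype.ext (iv_inj (congrArg Subtype.val h))
  · rintro ⟨_, a, ha, rfl⟩
    exact ⟨⟨a, ha⟩, rfl⟩

theorem em_mono {A B : AddSubgroup V} (h : A ≤ B) : em L A ≤ em L B := by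
  rintro _ ⟨a, ha, rfl⟩
  exact ⟨a, h ha, rfl⟩

end sd

section main

variable {L V : Type u} [Group L] [AddCommGroup V] [DistribMulAction L V]

/-- **No over-offender in the noncentral sections of `V`.** -/
theorem noOvV [Finite L] [Finite V] (two : ∀ v : V, v + v = 0) (T : Sylow 2 L) {M : Subgroup L}
    (hM : IsMin (T : Subgroup L) M) {A K C : AddSubgroup V} (hAK : A ≤ K) (hKC : K ≤ C)
    (hA : _root_.Cfsg.Agent.Omega.NO1.TH.MF.Inv (⊤ : Subgroup L) A) (hC : _root_.Cfsg.Agent.Omega.NO1.TH.MF.Inv (⊤ : Subgroup L) C) (hnt : ∃ c ∈ C, ∃ x ∈ od L, x • c + c ∉ A)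
    {E : Subgroup L} (hE2 : IsPGroup 2 E) (hEc : ∀ a ∈ E, ∀ b ∈ E, a * b = b * a) (hEs : ∀ a ∈ E, a * a = 1)
    (hEQ : E ⊓ pCore 2 L = ⊥) (hKE : ∀ b ∈ K, ∀ e ∈ E, e • b + b ∈ A) : Nat.card E * Nat.card K ≤ Nat.card C := by
  classical
  have f2 : Fact (Nat.Prime 2) := ⟨Nat.prime_two⟩
  have hneg : ∀ v : V, -v = v := fun v => by rw [neg_eq_iff_add_eq_zero, two]
  have hilv : ∀ (l : L) (v : V), il l * (iv v : SD L V) * (il l)⁻¹ = iv (l • v) := conj_iv
  by_cases hTn : (T : Subgroup L).Normal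
  · -- `E = 1`
    have h1 : E = ⊥ := by
      rw [← hEQ, eq_comm, inf_eq_left]
      obtain ⟨Q, hQ⟩ := hE2.exists_le_sylow
      obtain ⟨g, hg⟩ := MulAction.exists_smul_eq L T Q
      have h2 : (T : Subgroup L) ≤ pCore 2 L := Lib.Cores.le_pCore hTn T.2
      refine le_trans ?_ h2
      intro e he
      have h3 := hQ he
      rw [← hg, Sylow.coe_subgroup_smul, mem_pointwise_smul_iff_inv_smul_mem, MulAut.smul_def, ← map_inv,
        MulAut.conj_apply, inv_inv] at h3
      have h4 := hTn.conj_mem _ h3 g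
      have e1 : g * (g⁻¹ * e * g) * g⁻¹ = e := by group
      rwa [e1] at h4
    rw [h1, Subgroup.card_bot, one_mul]
    exact Nat.card_le_card_of_injective _ (AddSubgroup.inclusion_injective hKC)
  -- the groups
  set X : Subgroup (SD L V) := (il : L →* SD L V).range with hX
  have hmemX : ∀ l : L, (il l : SD L V) ∈ X := fun l => ⟨l, rfl⟩
  have hmapX : ∀ H : Subgroup L, H.map il ≤ X := fun H => map_le_range _ _
  have hTS : ChoiceSit.Syl ((T : Subgroup L).map il) X := syl_map il_inj T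
  have hpar : IsMinPar ((T : Subgroup L).map il) X := par_map il_inj hTn hM
  have hnorm : ∀ B : AddSubgroup V, _root_.Cfsg.Agent.Omega.NO1.TH.MF.Inv (⊤ : Subgroup L) B → X ≤ normalizer (em L B : Set (SD L V)) := by
    intro B hB
    have key : ∀ l : L, ∀ x ∈ em L B, il l * x * (il l)⁻¹ ∈ em L B := by
      rintro l _ ⟨b, hb, rfl⟩
      rw [hilv]
      exact ⟨_, hB l (mem_top l) b hb, rfl⟩
    rintro _ ⟨l, rfl⟩
    rw [mem_normalizer_iff]
    intro x
    refine ⟨key l x, fun hx => ?_⟩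
    have := key l⁻¹ _ hx
    rw [map_inv] at this
    have e : (il l : SD L V)⁻¹ * (il l * x * (il l)⁻¹) * (il l : SD L V)⁻¹⁻¹ = x := by group
    rwa [e] at this
  have hod : ∀ x ∈ od L, (il x : SD L V) ∈ MinSimple.VModule.oddGen X := fun x hx => od_map il_inj hx
  have hcm : ∀ (v : V) (l : L), (iv v : SD L V) * il l * (iv v)⁻¹ * (il l)⁻¹ = iv (l • v + v) := by
    intro v l
    have h1 : (iv v : SD L V) * il l * (iv v)⁻¹ * (il l)⁻¹ = iv v * (il l * (iv v)⁻¹ * (il l)⁻¹) := by group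
    rw [h1, iv_inv, hneg, hilv, ← iv_add, add_comm]
  have hcmV : ∀ x ∈ em L (⊤ : AddSubgroup V), ∀ y ∈ em L (⊤ : AddSubgroup V), x * y = y * x := by
    rintro _ ⟨a, _, rfl⟩ _ ⟨b, _, rfl⟩
    rw [← iv_add, ← iv_add, add_comm]
  have main := WRF.NoOvQ.noOvQ (W := em L (⊤ : AddSubgroup V)) (A := em L A) (K := em L K) (C := em L C)
    (E := E.map il) hTS hpar hcmV (by
      rintro _ ⟨a, _, rfl⟩
      rw [← iv_add, two, iv_zero]) (em_mono hAK) (em_mono hKC) (em_mono le_top) (hnorm A hA) (hnorm C hC) (by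
      obtain ⟨c, hc, x, hx, h⟩ := hnt
      refine ⟨iv c, mem_em.2 hc, il x, hod x hx, fun h1 => h ?_⟩
      rw [hcm] at h1
      exact mem_em.1 h1) (hmapX _) (hE2.map _) (by
      rintro _ ⟨s, hs, rfl⟩ _ ⟨t, ht, rfl⟩ _ ⟨v, hv, rfl⟩
      rw [hilv, hilv, hilv, hilv, ← mul_smul, ← mul_smul, hEc s hs t ht]) (by
      rintro _ ⟨s, hs, rfl⟩ _ ⟨v, hv, rfl⟩
      rw [hilv, hilv, ← mul_smul, hEs s hs, one_smul]) (by
      rintro _ ⟨b, hb, rfl⟩ _ ⟨e, he, rfl⟩
      rw [hcm]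
      exact mem_em.2 (hKE b hb e he))
  have ho2 : o2 X ⊓ E.map il = ⊥ := by
    rw [eq_bot_iff]
    rintro _ ⟨h1, e, he, rfl⟩
    have h2 : o2 X ≤ (pCore 2 L).map il := o2_range_le il_inj
    obtain ⟨q, hq, hq2⟩ := h2 h1
    have h4 : e ∈ E ⊓ pCore 2 L := ⟨he, by rw [← il_inj hq2]; exact hq⟩
    rw [hEQ, mem_bot] at h4
    rw [mem_bot, h4, map_one]
  have h1 : (o2 X).relIndex (E.map il) = Nat.card E := by
    rw [← inf_relIndex_right, ho2, relIndex_bot_left]
    exact (Nat.card_congr (E.equivMapOfInjective _ il_inj).toEquiv).symm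
  rw [h1] at main
  have h2 := rel_card (em_mono (L := L) hKC)
  rw [card_em, card_em] at h2
  rw [← h2]
  exact Nat.mul_le_mul_right _ main

end main

end Cfsg.Agent.Omega.NO1.TH

end

section


/-!
# N1, LEMMA Q (bb OMEGA 20114, helper620): `W ≰ E_U` implies `O₂(H) = 1`

Abstract form: `L` acts faithfully on `V`, `T ∈ Syl₂(L)` lies in a unique maximal subgroup, `C_V(L) = 0`, `U ≤ T` a member
with `|V : E| < |U|`, no offender, `W = ⟨C_V(T)^L⟩ ≰ E`. Then `O₂(L) = 1`, and `V' = [V, O²(L)]` is contained in every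
nonzero `L`-submodule (`LQ.le_of_ne`).
Amalgam form: `Amal.lemQ`.
-/

set_option autoImplicit false
set_option linter.unusedSectionVars false

namespace Cfsg.Agent.Omega.NO1.TH

open Subgroup Cfsg.Agent.Omega.NO1.AB
open Cfsg.Agent.MinSimple.MinParabolic (IsMin IsMinPar)
open Cfsg.Agent.Omega.NO1.TH.MF (Inv)
open scoped Pointwise

universe u

variable {L : Type u} [Group L] {V : Type u} [AddCommGroup V] [DistribMulAction L V]

/-- The hypotheses of LEMMA Q, without `W ≰ E`. -/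
structure LQ (T : Sylow 2 L) (M U : Subgroup L) (E F : AddSubgroup V) : Prop where
  two : ∀ v : V, v + v = 0
  faith : ∀ l : L, (∀ v : V, l • v = v) → l = 1
  min : IsMin (T : Subgroup L) M
  fix : ∀ v : V, (∀ l : L, l • v = v) → v = 0
  mem : Mem U E F
  UT : U ≤ (T : Subgroup L)
  lt : E.index < Nat.card U

/-- no offender -/
def NoOff (L : Type u) [Group L] (V : Type u) [AddCommGroup V] [DistribMulAction L V] : Prop :=
  ∀ B : Subgroup L, (∀ a ∈ B, ∀ b ∈ B, a * b = b * a) → (∀ a ∈ B, a * a = 1) → B ≠ ⊥ →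
    Nat.card B < (fx V B).index

/-- `[V, O²(L)]` -/
def VO (L : Type u) [Group L] (V : Type u) [AddCommGroup V] [DistribMulAction L V] : AddSubgroup V :=
  AddSubgroup.closure {w | ∃ x ∈ od L, ∃ v : V, w = x • v + v}

theorem mem_VO {x : L} (hx : x ∈ od L) (v : V) : x • v + v ∈ VO L V := AddSubgroup.subset_closure ⟨x, hx, v, rfl⟩

theorem VO_inv : _root_.Cfsg.Agent.Omega.NO1.TH.MF.Inv (⊤ : Subgroup L) (VO L V) := by
  intro l _ w hw
  induction hw using AddSubgroup.closure_induction with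
  | mem w hw =>
    obtain ⟨x, hx, v, rfl⟩ := hw
    have h1 : l • (x • v + v) = (l * x * l⁻¹) • (l • v) + l • v := by
      rw [smul_add, ← mul_smul, ← mul_smul, inv_mul_cancel_right]
    rw [h1]
    exact mem_VO (od_normal.conj_mem x hx l) _
  | zero => rw [smul_zero]; exact zero_mem _
  | add a b _ _ h1 h2 => rw [smul_add]; exact add_mem h1 h2
  | neg a _ h1 => rw [smul_neg]; exact neg_mem h1

/-- `V' ≤ A` or the section `V/A` is noncentral -/
theorem VO_le_or (A : AddSubgroup V) : VO L V ≤ A ∨ ∃ c ∈ (⊤ : AddSubgroup V), ∃ x ∈ od L, x • c + c ∉ A := by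
  by_cases h : ∃ c ∈ (⊤ : AddSubgroup V), ∃ x ∈ od L, x • c + c ∉ A
  · exact Or.inr h
  · left
    push Not at h
    rw [VO, AddSubgroup.closure_le]
    rintro _ ⟨x, hx, v, rfl⟩
    exact h v (AddSubgroup.mem_top v) x hx

theorem inv_sup_F {U : Subgroup L} {E F A : AddSubgroup V} (hm : Mem U E F) (hA : _root_.Cfsg.Agent.Omega.NO1.TH.MF.Inv (⊤ : Subgroup L) A)
    (h : ¬ A ≤ E) (two : ∀ v : V, v + v = 0) : E ≤ A ⊔ F := by
  obtain ⟨w, hw, hwE⟩ := SetLike.not_le_iff_exists.1 h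
  intro e he
  obtain ⟨b, _, hb⟩ := hm.surj w hwE e he
  have h1 : e = (b • w + w) + (b • w + w + e) := by
    rw [← add_assoc, two, zero_add]
  rw [h1]
  exact AddSubgroup.add_mem_sup (A.add_mem (hA b (mem_top b) w hw) hw) hb

theorem card_index (A : AddSubgroup V) : A.index * Nat.card A = Nat.card V := by
  rw [mul_comm]; exact A.card_mul_index

namespace LQ

variable {T : Sylow 2 L} {M U : Subgroup L} {E F : AddSubgroup V}

section a

variable [Finite L] [Finite V] (h : LQ T M U E F)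
include h

/-- `C_V(O²(L)) = 0` -/
theorem fx_od : fx V (od L) = ⊥ := by
  by_contra hne
  have hn : ∃ w ∈ fx V (od L), w ≠ 0 := by
    by_contra hcon
    push Not at hcon
    apply hne
    rw [eq_bot_iff]
    exact hcon
  obtain ⟨w, hw, hw0, hwT⟩ := HE.exists_fixed h.two (R := (T : Subgroup L)) T.2 (fx V (od L))
    (fun r _ w hw => fx_inv od_normal r hw) hn
  apply hw0
  apply h.fix
  intro l
  have h1 : od L ⊔ (T : Subgroup L) ≤ MulAction.stabilizer L w :=
    sup_le (fun x hx => hw x hx) (fun x hx => hwT x hx)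
  rw [od_sup] at h1
  exact h1 (mem_top l)

/-- no over-offender in the noncentral sections -/
theorem noOv (hUQ : U ⊓ pCore 2 L = ⊥) {A K C : AddSubgroup V} (hAK : A ≤ K) (hKC : K ≤ C)
    (hA : _root_.Cfsg.Agent.Omega.NO1.TH.MF.Inv (⊤ : Subgroup L) A) (hC : _root_.Cfsg.Agent.Omega.NO1.TH.MF.Inv (⊤ : Subgroup L) C) (hnt : ∃ c ∈ C, ∃ x ∈ od L, x • c + c ∉ A)
    (hKU : ∀ b ∈ K, ∀ e ∈ U, e • b + b ∈ A) : Nat.card U * Nat.card K ≤ Nat.card C :=
  noOvV h.two T h.min hAK hKC hA hC hnt h.mem.isPGroup h.mem.comm h.mem.sq hUQ hKU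

/-- a submodule which is not in `E` contains `V'` -/
theorem le_of_not_le (hUQ : U ⊓ pCore 2 L = ⊥) {A : AddSubgroup V} (hA : _root_.Cfsg.Agent.Omega.NO1.TH.MF.Inv (⊤ : Subgroup L) A)
    (hAE : ¬ A ≤ E) : VO L V ≤ A := by
  rcases VO_le_or (L := L) A with h1 | h1
  · exact h1
  exfalso
  have hE := inv_sup_F h.mem hA hAE h.two
  have h2 := h.noOv hUQ (K := A ⊔ F) le_sup_left le_top hA (fun _ _ _ _ => AddSubgroup.mem_top _) h1 (by
    intro b hb e he
    obtain ⟨a, ha, f, hf, rfl⟩ := AddSubgroup.mem_sup.1 hb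
    rw [smul_add, h.mem.FB e he f hf]
    have e1 : e • a + f + (a + f) = (e • a + a) + (f + f) := by abel
    rw [e1, h.two, add_zero]
    exact A.add_mem (hA e (mem_top e) a ha) ha)
  rw [AddSubgroup.card_top, ← card_index E] at h2
  have h3 : Nat.card E ≤ Nat.card ↥(A ⊔ F) := Nat.card_le_card_of_injective _ (AddSubgroup.inclusion_injective hE)
  have h4 := h.lt
  have h5 : 0 < Nat.card E := Nat.card_pos
  have h6 : Nat.card U * Nat.card E ≤ Nat.card U * Nat.card ↥(A ⊔ F) := Nat.mul_le_mul_left _ h3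
  have h7 := lt_of_lt_of_le ((Nat.mul_lt_mul_right h5).2 h4) h6
  omega

/-- **(q3)** every nonzero submodule contains `V'` -/
theorem le_of_ne (hUQ : U ⊓ pCore 2 L = ⊥) {A : AddSubgroup V} (hA : _root_.Cfsg.Agent.Omega.NO1.TH.MF.Inv (⊤ : Subgroup L) A) (hne : A ≠ ⊥) :
    VO L V ≤ A := by
  by_cases hAE : A ≤ E
  swap
  · exact h.le_of_not_le hUQ hA hAE
  rcases VO_le_or (L := L) A with h1 | h1
  · exact h1
  exfalso
  -- `A` is noncentral
  have hnt : ∃ c ∈ A, ∃ x ∈ od L, x • c + c ∉ (⊥ : AddSubgroup V) := by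
    by_contra hcon
    push Not at hcon
    apply hne
    rw [eq_bot_iff, ← h.fx_od]
    intro c hc x hx
    exact (HE.add_eq_zero' h.two).1 (hcon c hc x hx)
  have h2 := h.noOv hUQ (A := ⊥) (K := A ⊓ F) bot_le inf_le_left MF.Inv.bot hA hnt (by
    intro b hb e he
    rw [h.mem.FB e he b hb.2, h.two]
    exact zero_mem _)
  have h3 := card_sup_as A F
  have h4 := h.mem.card_E h.two
  have h5 : A ⊔ F = E := by
    apply eq_of_le_as (sup_le hAE h.mem.FE)
    have hp : 0 < Nat.card ↥(A ⊓ F) := Nat.card_pos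
    have h6 : Nat.card E * Nat.card ↥(A ⊓ F) ≤ Nat.card ↥(A ⊔ F) * Nat.card ↥(A ⊓ F) := by
      rw [h3, h4]
      calc Nat.card F * Nat.card U * Nat.card ↥(A ⊓ F) = Nat.card U * Nat.card ↥(A ⊓ F) * Nat.card F := by ring
        _ ≤ Nat.card A * Nat.card F := Nat.mul_le_mul_right _ h2
    exact Nat.le_of_mul_le_mul_right h6 hp
  have h6 := h.noOv hUQ (K := E) hAE le_top hA (fun _ _ _ _ => AddSubgroup.mem_top _) h1 (by
    intro b hb e he
    rw [← h5] at hb
    obtain ⟨a, ha, f, hf, rfl⟩ := AddSubgroup.mem_sup.1 hb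
    rw [smul_add, h.mem.FB e he f hf]
    have e1 : e • a + f + (a + f) = (e • a + a) + (f + f) := by abel
    rw [e1, h.two, add_zero]
    exact A.add_mem (hA e (mem_top e) a ha) ha)
  rw [AddSubgroup.card_top, ← card_index E] at h6
  have h7 : 0 < Nat.card E := Nat.card_pos
  have h8 := (Nat.mul_lt_mul_right h7).2 h.lt
  omega

/-- `O₂(L)` is trivial on `W` -/
theorem core_fix {q : L} (hq : q ∈ pCore 2 L) {w : V} (hw : w ∈ WW V ⊤ (T : Subgroup L)) : q • w = w := by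
  have f2 : Fact (Nat.Prime 2) := ⟨Nat.prime_two⟩
  have hn : (pCore 2 L).Normal := Lib.Cores.pCore_normal 2
  have hT : pCore 2 L ≤ (T : Subgroup L) := by
    obtain ⟨P, hP⟩ := (Lib.Cores.pCore_isPGroup (G := L) 2).exists_le_sylow
    obtain ⟨g, hg⟩ := MulAction.exists_smul_eq L P T
    intro x hx
    rw [← hg, Sylow.coe_subgroup_smul, mem_pointwise_smul_iff_inv_smul_mem, MulAut.smul_def, ← map_inv,
      MulAut.conj_apply, inv_inv]
    apply hP
    have := hn.conj_mem x hx g⁻¹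
    rwa [inv_inv] at this
  induction hw using AddSubgroup.closure_induction with
  | mem v hv =>
    obtain ⟨x, _, w, hw, rfl⟩ := hv
    have h1 := hn.conj_mem q hq x⁻¹
    rw [inv_inv] at h1
    have h2 := hw _ (hT h1)
    rw [mul_smul, mul_smul, inv_smul_eq_iff] at h2
    exact h2
  | zero => exact smul_zero q
  | add b c _ _ h1 h2 => rw [smul_add, h1, h2]
  | neg b _ h1 => rw [smul_neg, h1]

/-- **(q1)** `U ∩ O₂(L) = 1` -/
theorem inf_core (hW : ¬ WW V ⊤ (T : Subgroup L) ≤ E) : U ⊓ pCore 2 L = ⊥ := by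
  obtain ⟨w, hw, hwE⟩ := SetLike.not_le_iff_exists.1 hW
  rw [eq_bot_iff]
  rintro b ⟨hb, hbQ⟩
  rw [mem_bot]
  apply h.mem.inj w hwE b hb
  rw [h.core_fix hbQ hw, h.two]
  exact zero_mem _

/-- `W ≤ V₀ + V'` -/
theorem WW_le_sup : WW V ⊤ (T : Subgroup L) ≤ fx V (T : Subgroup L) ⊔ VO L V := by
  apply WW_le
  intro x _ w hw
  have h1 : x ∈ od L ⊔ (T : Subgroup L) := by rw [od_sup]; exact mem_top x
  obtain ⟨o, ho, t, ht, rfl⟩ := mem_sup_of_normal_left.1 h1
  rw [mul_smul, hw t ht]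
  have h2 : o • w = w + (o • w + w) := by
    rw [add_comm (o • w) w, ← add_assoc, h.two, zero_add]
  rw [h2]
  exact AddSubgroup.add_mem_sup hw (mem_VO ho w)

/-- `V' ≰ E` -/
theorem VO_not_le (hW : ¬ WW V ⊤ (T : Subgroup L) ≤ E) : ¬ VO L V ≤ E := by
  intro h1
  apply hW
  refine h.WW_le_sup.trans (sup_le ?_ h1)
  intro v hv
  apply h.mem.FE
  apply h.mem.CB
  intro b hb
  exact hv b (h.UT hb)

/-- `V' ≤ W` -/
theorem VO_le_WW (hW : ¬ WW V ⊤ (T : Subgroup L) ≤ E) : VO L V ≤ WW V ⊤ (T : Subgroup L) :=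
  h.le_of_not_le (h.inf_core hW) (fun _ hl _ hw => smul_mem_WW hl hw) hW

/-- **LEMMA Q**, abstract form: `W ≰ E` implies `O₂(L) = 1`. -/
theorem core_eq_bot (hoff : NoOff L V) (hW : ¬ WW V ⊤ (T : Subgroup L) ≤ E) : pCore 2 L = ⊥ := by
  have f2 : Fact (Nat.Prime 2) := ⟨Nat.prime_two⟩
  have hn : (pCore 2 L).Normal := Lib.Cores.pCore_normal 2
  have hUQ := h.inf_core hW
  have hQV : ∀ q ∈ pCore 2 L, ∀ m ∈ VO L V, q • m = m := fun q hq m hm => h.core_fix hq (h.VO_le_WW hW hm)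
  have hirr : ∀ A ≤ VO L V, _root_.Cfsg.Agent.Omega.NO1.TH.MF.Inv (⊤ : Subgroup L) A → A = ⊥ ∨ A = VO L V := by
    intro A hA hAi
    by_cases h1 : A = ⊥
    · exact Or.inl h1
    · exact Or.inr (le_antisymm hA (h.le_of_ne hUQ hAi h1))
  have hxm : ∀ x ∈ od L, ∀ v : V, ∃ m ∈ VO L V, x • v = v + m := by
    intro x hx v
    refine ⟨x • v + v, mem_VO hx v, ?_⟩
    rw [add_comm (x • v) v, ← add_assoc, h.two, zero_add]
  by_contra hQ
  obtain ⟨q, hq, hq1⟩ : ∃ q ∈ pCore 2 L, q ≠ 1 := by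
    by_contra hcon
    push Not at hcon
    apply hQ
    rw [eq_bot_iff]
    exact hcon
  -- `Q₀`
  let Q₀ : Subgroup L :=
    { carrier := {y | y ∈ pCore 2 L ∧ ∀ v : V, y • v + v ∈ VO L V}
      one_mem' := ⟨one_mem _, fun v => by rw [one_smul, h.two]; exact zero_mem _⟩
      mul_mem' := by
        rintro a b ⟨ha, ha2⟩ ⟨hb, hb2⟩
        refine ⟨mul_mem ha hb, fun v => ?_⟩
        have e : (a * b) • v + v = (a • (b • v) + b • v) + (b • v + v) := by
          rw [mul_smul]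
          have : a • b • v + b • v + (b • v + v) = a • b • v + (b • v + b • v) + v := by abel
          rw [this, h.two, add_zero]
        rw [e]
        exact add_mem (ha2 _) (hb2 v)
      inv_mem' := by
        rintro a ⟨ha, ha2⟩
        refine ⟨inv_mem ha, fun v => ?_⟩
        have h1 := ha2 (a⁻¹ • v)
        rw [smul_inv_smul, add_comm] at h1
        exact h1 }
  have hQ₀ : ∀ y, y ∈ Q₀ ↔ y ∈ pCore 2 L ∧ ∀ v : V, y • v + v ∈ VO L V := fun y => Iff.rfl
  have hQ₀n : ∀ x : L, ∀ y ∈ Q₀, x * y * x⁻¹ ∈ Q₀ := by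
    rintro x y ⟨hy, hy2⟩
    refine ⟨hn.conj_mem y hy x, fun v => ?_⟩
    have h1 := VO_inv x (mem_top x) _ (hy2 (x⁻¹ • v))
    rw [smul_add, smul_inv_smul, ← mul_smul, ← mul_smul] at h1
    exact h1
  -- `Q₀ ≠ 1`
  have hQ₀ne : Q₀ ≠ ⊥ := by
    -- some `x ∈ O²(L)` does not commute with `q`
    obtain ⟨x, hx, hxq⟩ : ∃ x ∈ od L, x * q ≠ q * x := by
      by_contra hcon
      push Not at hcon
      apply hq1
      apply h.faith
      intro v
      have h1 : q • v + v ∈ fx V (od L) := by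
        intro x hx
        obtain ⟨m, hm, hxv⟩ := hxm x hx v
        rw [smul_add, ← mul_smul, hcon x hx, mul_smul, hxv, smul_add, hQV q hq m hm]
        have e1 : q • v + m + (v + m) = q • v + v + (m + m) := by abel
        rw [e1, h.two, add_zero]
      rw [h.fx_od, AddSubgroup.mem_bot] at h1
      exact (HE.add_eq_zero' h.two).1 h1
    intro h1
    have h2 : x * q * x⁻¹ * q⁻¹ ∈ Q₀ := by
      refine ⟨mul_mem (hn.conj_mem q hq x) (inv_mem hq), fun v => ?_⟩
      -- modulo `V'`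
      have key : ∀ w : V, x • w + w ∈ VO L V := fun w => mem_VO hx w
      have key' : ∀ w : V, x⁻¹ • w + w ∈ VO L V := fun w => mem_VO (inv_mem hx) w
      have h3 : (x * q * x⁻¹ * q⁻¹) • v + v =
          (x • (q • x⁻¹ • q⁻¹ • v) + q • x⁻¹ • q⁻¹ • v) + q • (x⁻¹ • q⁻¹ • v + q⁻¹ • v) := by
        rw [smul_add, smul_inv_smul, mul_smul, mul_smul, mul_smul]
        have : x • q • x⁻¹ • q⁻¹ • v + q • x⁻¹ • q⁻¹ • v + (q • x⁻¹ • q⁻¹ • v + v) =
          x • q • x⁻¹ • q⁻¹ • v + (q • x⁻¹ • q⁻¹ • v + q • x⁻¹ • q⁻¹ • v) + v := by abel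
        rw [this, h.two, add_zero]
      rw [h3]
      exact add_mem (key _) (VO_inv q (mem_top q) _ (key' _))
    rw [h1, mem_bot, mul_inv_eq_one, mul_inv_eq_iff_eq_mul] at h2
    exact hxq h2
  -- a minimal `O²(L)`-invariant subgroup of `Q₀`
  obtain ⟨N, ⟨hNQ, hNne, hNO⟩, hNmin⟩ := Set.exists_min_image
    {N : Subgroup L | N ≤ Q₀ ∧ N ≠ ⊥ ∧ ∀ o ∈ od L, ∀ n ∈ N, o * n * o⁻¹ ∈ N} (fun N => Nat.card N)
    (Set.toFinite _) ⟨Q₀, le_rfl, hQ₀ne, fun o _ n hn => hQ₀n o n hn⟩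
  have hVN : ∀ n ∈ N, ∀ v : V, n • v + v ∈ VO L V := fun n hn v => ((hQ₀ n).1 (hNQ hn)).2 v
  have hMN : ∀ n ∈ N, ∀ m ∈ VO L V, n • m = m := fun n hn m hm => hQV n ((hQ₀ n).1 (hNQ hn)).1 m hm
  have h1 := MF.index_le (O := od L) (T := (T : Subgroup L)) (M := VO L V) (N := N) h.two T.2 (od_sup T) VO_inv hirr
    hNne hNO (by
      intro N' hN' hN'O
      by_cases h2 : N' = ⊥
      · exact Or.inl h2
      · right
        exact eq_of_le_of_card_ge hN' (hNmin N' ⟨hN'.trans hNQ, h2, hN'O⟩)) hVN hMN fun o ho v => mem_VO ho v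
  have h2 := hoff N (by
    intro a ha b hb
    have h3 : ∀ v : V, (a * b)  • v = (b * a) • v := by
      intro v
      have h4 := MF.comp hVN hMN h.two ha hb v
      have h5 := MF.comp hVN hMN h.two hb ha v
      rw [add_comm (b • v + v)] at h5
      exact add_right_cancel (h4.trans h5.symm)
    have h4 : (b * a)⁻¹ * (a * b) = 1 := by
      apply h.faith
      intro v
      rw [mul_smul, h3, inv_smul_smul]
    exact (inv_mul_eq_one.1 h4).symm) (by
    intro a ha
    apply h.faith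
    intro v
    have h4 := MF.comp hVN hMN h.two ha ha v
    rw [h.two] at h4
    exact (HE.add_eq_zero' h.two).1 h4) hNne
  omega

end a

end LQ

/-! ### the amalgam form -/

section sub

variable {Y : Type u} [Group Y] [DistribMulAction Y V]

theorem fx_map {H : Subgroup Y} (B : Subgroup H) : fx V (B.map H.subtype) = fx V B := by
  ext v
  constructor
  · intro hv b hb
    exact hv b ⟨b, hb, rfl⟩
  · rintro hv _ ⟨b, hb, rfl⟩
    exact hv b hb

theorem Mem.subgroupOf {B H : Subgroup Y} {E F : AddSubgroup V} (hm : Mem B E F) (hBH : B ≤ H) :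
    Mem (B.subgroupOf H) E F where
  comm := fun b hb c hc => Subtype.ext (hm.comm b hb c hc)
  sq := fun b hb => Subtype.ext (hm.sq b hb)
  FE := hm.FE
  VB := fun b hb v => hm.VB b hb v
  EB := fun b hb e he => hm.EB b hb e he
  FB := fun b hb f hf => hm.FB b hb f hf
  CB := fun v hv => hm.CB v fun b hb => hv ⟨b, hBH hb⟩ hb
  inj := fun w hw b hb h => Subtype.ext (hm.inj w hw b hb h)
  surj := fun w hw e he => by
    obtain ⟨b, hb, h⟩ := hm.surj w hw e he
    exact ⟨⟨b, hBH hb⟩, hb, h⟩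
  ne := hm.ne

theorem NoOff.sub (h : NoOff Y V) (H : Subgroup Y) : NoOff H V := by
  intro B hc hs hne
  rw [← fx_map, Nat.card_congr (B.equivMapOfInjective _ H.subtype_injective).toEquiv]
  apply h
  · rintro _ ⟨x, hx, rfl⟩ _ ⟨y, hy, rfl⟩
    exact congrArg Subtype.val (hc x hx y hy)
  · rintro _ ⟨x, hx, rfl⟩
    exact congrArg Subtype.val (hs x hx)
  · rwa [Ne, Subgroup.map_eq_bot_iff_of_injective _ H.subtype_injective]

end sub

namespace Amal

variable {Y : Type u} [Group Y] [DistribMulAction Y V] {U : Set (Subgroup Y)} {T : Sylow 2 Y}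
  {M H R : Subgroup Y} {t : Y}

/-- `R` as a Sylow 2-subgroup of `H` -/
theorem exists_sylH [Finite Y] (a : Amal U T M H R t) : ∃ P : Sylow 2 H, (P : Subgroup H) = R.subgroupOf H := by
  have hRp : IsPGroup 2 (R.subgroupOf H) := a.R2.comap_of_injective H.subtype H.subtype_injective
  obtain ⟨P, hP⟩ := hRp.exists_le_sylow
  refine ⟨P, ?_⟩
  symm
  apply eq_of_le_of_card_ge hP
  have h2 := a.card_le a.bad.ne le_rfl (map_subtype_le (P : Subgroup H)) (P.2.map H.subtype)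
  rw [Nat.card_congr ((P : Subgroup H).equivMapOfInjective _ H.subtype_injective).symm.toEquiv] at h2
  rwa [Nat.card_congr (subgroupOfEquivOfLe a.RH).toEquiv]

theorem isMinH [Finite Y] (a : Amal U T M H R t) : IsMin (R.subgroupOf H) (M.subgroupOf H) where
  ne_top := fun h => a.bad.not_le 1 (by
    rw [map_one, one_smul]
    exact subgroupOf_eq_top.1 h)
  le_of := fun K hK hne => by
    have h1 : R ≤ K.map H.subtype := by
      intro r hr
      exact ⟨⟨r, a.RH hr⟩, hK hr, rfl⟩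
    have h2 : K.map H.subtype < H := by
      refine lt_of_le_of_ne (map_subtype_le _) fun h5 => hne ?_
      rw [eq_top_iff]
      intro x _
      have h6 : (x : Y) ∈ K.map H.subtype := by rw [h5]; exact x.2
      obtain ⟨n, hn, hnx⟩ := h6
      have : n = x := Subtype.ext hnx
      rwa [← this]
    intro x hx
    exact a.uniq _ h1 h2 ⟨x, hx, rfl⟩

/-- `O₂(H) ≤ QQ H R` -/
theorem core_le [Finite Y] (a : Amal U T M H R t) : (pCore 2 H).map H.subtype ≤ QQ H R := by
  have f2 : Fact (Nat.Prime 2) := ⟨Nat.prime_two⟩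
  have hn : (pCore 2 H).Normal := Lib.Cores.pCore_normal 2
  obtain ⟨P, hP⟩ := a.exists_sylH
  apply le_QQ
  · rintro _ ⟨x, hx, rfl⟩
    have h1 : x ∈ (P : Subgroup H) := by
      obtain ⟨P', hP'⟩ := (Lib.Cores.pCore_isPGroup (G := H) 2).exists_le_sylow
      obtain ⟨g, hg⟩ := MulAction.exists_smul_eq H P' P
      rw [← hg, Sylow.coe_subgroup_smul, mem_pointwise_smul_iff_inv_smul_mem, MulAut.smul_def, ← map_inv,
        MulAut.conj_apply, inv_inv]
      apply hP'
      have := hn.conj_mem x hx g⁻¹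
      rwa [inv_inv] at this
    rw [hP] at h1
    exact h1
  · rintro x hx _ ⟨y, hy, rfl⟩
    exact ⟨(⟨x, hx⟩ * y * ⟨x, hx⟩⁻¹ :), hn.conj_mem y hy _, rfl⟩

/-- the hypotheses of LEMMA Q for `H` -/
theorem exists_lq [Finite Y] [Finite V] (a : Amal U T M H R t) (h : Amb V U T M)
    (soc : ∀ B ∈ U, ∀ X : Subgroup Y, B ≤ X → (∃ v : V, v ≠ 0 ∧ ∀ x ∈ X, x • v = v) → B ⊓ ZN.o2 X ≠ ⊥)
    {B : Subgroup Y} (hB : B ∈ U) (hBR : B ≤ R) (hlt : (Ee V B).index < Nat.card B)
    (hW : ¬ WW V H R ≤ Ee V B) : ∃ P : Sylow 2 H, (P : Subgroup H) = R.subgroupOf H ∧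
      LQ P (M.subgroupOf H) (B.subgroupOf H) (Ee V B) (fx V B) ∧ ¬ WW V ⊤ (P : Subgroup H) ≤ Ee V B := by
  obtain ⟨P, hP⟩ := a.exists_sylH
  have hBm := h.cls.mem B hB
  have hBH := hBR.trans a.RH
  refine ⟨P, hP, ⟨h.two, fun l hl => Subtype.ext (h.faith l hl), ?_, ?_, Mem.subgroupOf hBm hBH, ?_, ?_⟩, ?_⟩
  · rw [hP]; exact a.isMinH
  · intro v hv
    by_contra hv0
    apply soc B hB H hBH ⟨v, hv0, fun x hx => hv ⟨x, hx⟩⟩
    rw [eq_bot_iff]
    rintro b ⟨hb, hb2⟩
    obtain ⟨w, hw, hwE⟩ := SetLike.not_le_iff_exists.1 hW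
    rw [mem_bot]
    apply hBm.inj w hwE b hb
    rw [QQ_fix a h (a.core_le hb2) hw, h.two]
    exact zero_mem _
  · rw [hP]
    exact fun b hb => hBR hb
  · rwa [Nat.card_congr (subgroupOfEquivOfLe hBH).toEquiv]
  · intro hle
    apply hW
    refine le_trans ?_ hle
    apply WW_le
    intro x hx w hw
    refine AddSubgroup.subset_closure ⟨⟨x, hx⟩, mem_top _, w, ?_, rfl⟩
    intro p hp
    rw [hP] at hp
    exact hw _ hp

end Amal

end Cfsg.Agent.Omega.NO1.TH

end

section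


/-!
# N1, BETA, the amalgam `(H, H^t)`: case (C), `k = 1` without field automorphisms, any `C = C_V(H)`

bb OMEGA 20060 (helper464), = 20065 (helper711), over 19584 (helper874).
`Dat` : the module level data of one member `A = U₁ ≤ H` outside `M`; `Amal.caseC` : the theorem.
-/

set_option autoImplicit false
set_option linter.unusedSectionVars false

namespace Cfsg.Agent.Omega.NO1.TH

open Subgroup Cfsg.Agent.Omega.NO1.AB
open scoped Pointwise

universe u

variable {Y : Type u} [Group Y] {V : Type u} [AddCommGroup V] [DistribMulAction Y V]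

/-- `k = 1`, no field automorphisms: `W / C` natural for `SL₂(c)`, `R / Q` the root group. -/
structure One (V : Type u) [AddCommGroup V] [DistribMulAction Y V] (H R : Subgroup Y) (c : ℕ) : Prop where
  nat : ∀ x ∈ WW V H R, x ∉ fx V R → ∀ r ∈ R, r • x + x ∈ fx V H → r ∈ QQ H R
  root : ∀ x ∈ WW V H R, ∀ r ∈ R, r • x + x ∈ fx V R
  cV : Nat.card (fx V R) = c * Nat.card (fx V H)
  cW : Nat.card (WW V H R) = c * Nat.card (fx V R)
  cR : Nat.card R = c * Nat.card (QQ H R)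

/-! ### members -/

/-- symmetry `[e, s_{e'}] = [e', s_e]` -/
theorem mem_sym {A : Subgroup Y} {E F : AddSubgroup V} (hm : Mem A E F) (h2 : ∀ v : V, v + v = 0)
    {w e e' : V} {s s' : Y} (hs : s ∈ A) (hs' : s' ∈ A) (he : s • w + w + e ∈ F) (he' : s' • w + w + e' ∈ F) :
    s' • e + e = s • e' + e' := by
  have h3 := hm.FB s' hs' _ he
  have h4 := hm.FB s hs _ he'
  rw [smul_add, smul_add, ← mul_smul] at h3 h4
  rw [hm.comm s hs s' hs'] at h4
  have h5 : ((s' * s) • w + s' • w + s' • e) + ((s' * s) • w + s • w + s • e') =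
      (s • w + w + e) + (s' • w + w + e') := by rw [h3, h4]
  have e1 : ((s' * s) • w + s' • w + s' • e) + ((s' * s) • w + s • w + s • e') =
      ((s' * s) • w + (s' * s) • w) + (s' • w + s • w) + (s' • e + s • e') := by abel
  have e2 : (s • w + w + e) + (s' • w + w + e') = (w + w) + (s' • w + s • w) + (e + e') := by abel
  rw [e1, e2, h2, h2] at h5
  have h6 : s' • e + s • e' = e + e' := add_left_cancel h5
  have h7 : (s' • e + e) + (s • e' + e') = 0 := by
    have e3 : (s' • e + e) + (s • e' + e') = (s' • e + s • e') + (e + e') := by abel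
    rw [e3, h6, h2]
  exact (HE.add_eq_zero' h2).1 h7

/-- `s_e` centralises `e` -/
theorem mem_self {A : Subgroup Y} {E F : AddSubgroup V} (hm : Mem A E F)
    {w e : V} {s : Y} (hs : s ∈ A) (he : s • w + w + e ∈ F) : s • e = e := by
  have h3 := hm.FB s hs _ he
  rw [smul_add, smul_add, ← mul_smul, hm.sq s hs, one_smul] at h3
  have e1 : w + s • w + s • e = (s • w + w) + s • e := by abel
  rw [e1] at h3
  exact add_left_cancel h3

/-- `C_V(s) ≤ E` for `1 ≠ s ∈ A` -/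
theorem mem_E_of_fix {A : Subgroup Y} {E F : AddSubgroup V} (hm : Mem A E F) (h2 : ∀ v : V, v + v = 0)
    {s : Y} (hs : s ∈ A) (hs1 : s ≠ 1) {v : V} (hv : s • v = v) : v ∈ E := by
  by_contra hvE
  apply hs1
  apply hm.inj v hvE s hs
  rw [hv, h2]
  exact F.zero_mem

/-- `{s ∈ A | [w, s] ∈ D}` -/
def pre (A : Subgroup Y) (w : V) (D : AddSubgroup V) : Set Y := {s | s ∈ A ∧ s • w + w ∈ D}

theorem card_pre {A : Subgroup Y} {E F : AddSubgroup V} (hm : Mem A E F) (h2 : ∀ v : V, v + v = 0)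
    {w : V} (hw : w ∉ E) {D : AddSubgroup V} (hFD : F ≤ D) (hDE : D ≤ E) :
    Nat.card (pre A w D) * Nat.card F = Nat.card D := by
  let f : pre A w D × F → D := fun p => ⟨(p.1 : Y) • w + w + p.2, D.add_mem p.1.2.2 (hFD p.2.2)⟩
  have hf : Function.Bijective f := by
    constructor
    · rintro ⟨⟨a, ha, ha'⟩, ⟨x, hx⟩⟩ ⟨⟨b, hb, hb'⟩, ⟨y, hy⟩⟩ he
      have h3 : a • w + w + x = b • w + w + y := congrArg Subtype.val he
      have h5 : a • w = b • w + y + x := by
        have : a • w + w + x + w + x = b • w + w + y + w + x := by rw [h3]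
        have e1 : a • w + w + x + w + x = a • w + (w + w) + (x + x) := by abel
        have e2 : b • w + w + y + w + x = b • w + (w + w) + y + x := by abel
        rw [e1, e2, h2, h2, add_zero, add_zero, add_zero] at this
        exact this
      have h4 : (b * a) • w + w ∈ F := by
        rw [mul_smul, h5, smul_add, smul_add, ← mul_smul, hm.sq b hb, one_smul, hm.FB b hb y hy, hm.FB b hb x hx]
        have e3 : w + y + x + w = (w + w) + (y + x) := by abel
        rw [e3, h2, zero_add]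
        exact F.add_mem hy hx
      have h6 := hm.inj w hw _ (mul_mem hb ha) h4
      have h7 : a = b := by
        have : b * (b * a) = b * 1 := by rw [h6]
        rw [← mul_assoc, hm.sq b hb, one_mul, mul_one] at this
        exact this
      subst h7
      have h8 : x = y := add_left_cancel h3
      subst h8
      rfl
    · rintro ⟨e, he⟩
      obtain ⟨b, hb, h3⟩ := hm.surj w hw e (hDE he)
      have h4 : b • w + w ∈ D := by
        have h5 := D.add_mem (hFD h3) he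
        have e1 : b • w + w + e + e = b • w + w + (e + e) := by abel
        rwa [e1, h2, add_zero] at h5
      refine ⟨⟨⟨b, hb, h4⟩, ⟨_, h3⟩⟩, Subtype.ext ?_⟩
      change b • w + w + (b • w + w + e) = e
      rw [← add_assoc, h2, zero_add]
  rw [← Nat.card_prod]
  exact Nat.card_congr (Equiv.ofBijective f hf)

/-- a subgroup of `R` : `|B| ≤ c |B ∩ Q|` when `|R| = c |Q|` -/
theorem card_le_of_index [Finite Y] {R Q B : Subgroup Y} {c : ℕ} (hQR : Q ≤ R) (hBR : B ≤ R)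
    (hc : Nat.card R = c * Nat.card Q) : Nat.card B ≤ c * Nat.card ↥(B ⊓ Q) := by
  have h1 : Q.relIndex R = c := by
    have h2 := relIndex_mul_relIndex ⊥ Q R bot_le hQR
    rw [relIndex_bot_left, relIndex_bot_left, hc, mul_comm] at h2
    exact Nat.eq_of_mul_eq_mul_right Nat.card_pos h2
  have h3 : Q.relIndex B ≤ Q.relIndex R := by
    apply relIndex_le_of_le_right hBR
    rw [h1]
    intro h4
    rw [h4, zero_mul] at hc
    exact absurd hc Nat.card_pos.ne'
  have h4 := relIndex_mul_relIndex ⊥ (B ⊓ Q) B bot_le inf_le_left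
  rw [relIndex_bot_left, relIndex_bot_left, inf_relIndex_left] at h4
  rw [← h4, mul_comm]
  exact Nat.mul_le_mul_right _ (h3.trans h1.le)

/-- and `B Q = R` in the case of equality -/
theorem exists_mul_of_card [Finite Y] {R Q B : Subgroup Y} {c : ℕ} (hQR : Q ≤ R) (hBR : B ≤ R)
    (hc : Nat.card R = c * Nat.card Q) (hB : c * Nat.card ↥(B ⊓ Q) ≤ Nat.card B) {r : Y} (hr : r ∈ R) :
    ∃ b ∈ B, ∃ q ∈ Q, r = b * q := by
  have h1 : Q.relIndex R = c := by
    have h2 := relIndex_mul_relIndex ⊥ Q R bot_le hQR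
    rw [relIndex_bot_left, relIndex_bot_left, hc, mul_comm] at h2
    exact Nat.eq_of_mul_eq_mul_right Nat.card_pos h2
  have h4 := relIndex_mul_relIndex ⊥ (B ⊓ Q) B bot_le inf_le_left
  rw [relIndex_bot_left, relIndex_bot_left, inf_relIndex_left] at h4
  rw [← h4, mul_comm] at hB
  have h5 : c ≤ Q.relIndex B := Nat.le_of_mul_le_mul_left hB Nat.card_pos
  let φ := quotientSubgroupOfEmbeddingOfLE Q hBR
  have hs : Function.Surjective φ := by
    have h6 : Nat.card (R ⧸ Q.subgroupOf R) ≤ Nat.card (B ⧸ Q.subgroupOf B) := by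
      change Q.relIndex R ≤ Q.relIndex B
      rw [h1]; exact h5
    have h7 : Nat.card (R ⧸ Q.subgroupOf R) = Nat.card (B ⧸ Q.subgroupOf B) :=
      le_antisymm h6 (Nat.card_le_card_of_injective φ φ.injective)
    exact ((Nat.bijective_iff_injective_and_card φ).2 ⟨φ.injective, h7.symm⟩).2
  obtain ⟨b, hb⟩ := hs (QuotientGroup.mk (⟨r, hr⟩ : R))
  obtain ⟨⟨b, hbB⟩, rfl⟩ := QuotientGroup.mk_surjective b
  have h8 : (QuotientGroup.mk (⟨b, hBR hbB⟩ : R) : R ⧸ Q.subgroupOf R) = QuotientGroup.mk (⟨r, hr⟩ : R) := hb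
  rw [QuotientGroup.eq] at h8
  refine ⟨b, hbB, b⁻¹ * r, h8, by group⟩

/-- The data of one member `A` of `H` outside the point `M`. -/
structure Dat (A R Q Q' : Subgroup Y) (E F V₀ C C' W' : AddSubgroup V) (c : ℕ) : Prop where
  two : ∀ v : V, v + v = 0
  mem : Mem A E F
  mu : ∀ A₀ ≤ A, Nat.card A₀ * Nat.card ↥(fx V A₀ ⊓ E) ≤ Nat.card E
  QR : Q ≤ R
  Q'R : Q' ≤ R
  V0E : V₀ ≤ E
  CF : C ≤ F
  CV : C ≤ V₀
  V0F : ∀ x ∈ V₀, x ∈ F → x ∈ C
  C'V : C' ≤ V₀
  CC' : ∀ x ∈ C, x ∈ C' → x = 0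
  natA : ∀ x ∈ V₀, x ∉ C → ∀ a ∈ A, a • x + x ∈ C → a ∈ Q
  RV0 : ∀ r ∈ R, ∀ x ∈ V₀, r • x = x
  V0W' : V₀ ≤ W'
  root' : ∀ y ∈ W', ∀ r ∈ R, r • y + y ∈ V₀
  nat' : ∀ y ∈ W', y ∉ V₀ → ∀ r ∈ R, r • y = y → r ∈ Q'
  QW' : ∀ q ∈ Q', ∀ y ∈ W', q • y = y
  cV : Nat.card V₀ = c * Nat.card C
  cC' : Nat.card C' = Nat.card C
  cW' : Nat.card W' = c * Nat.card V₀
  cR' : Nat.card R = c * Nat.card Q'
  cA : Nat.card A = c * Nat.card ↥(A ⊓ Q)
  c2 : 2 ≤ c

namespace Dat

variable [Finite Y] [Finite V] {A R Q Q' : Subgroup Y} {E F V₀ C C' W' : AddSubgroup V} {c : ℕ}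
  (d : Dat A R Q Q' E F V₀ C C' W' c)
include d

theorem exists_v : ∃ v ∈ V₀, v ∉ C := by
  by_contra hcon
  push Not at hcon
  have h1 : Nat.card V₀ ≤ Nat.card C := by
    have : V₀ = C := le_antisymm hcon d.CV
    rw [this]
  rw [d.cV] at h1
  have h2 : 0 < Nat.card C := Nat.card_pos
  have h3 := d.c2
  nlinarith

/-- `S₁ ≤ B₁` -/
theorem s_mem {w : V} (hw : w ∉ E) {v : V} (hv : v ∈ V₀) {s : Y} (hs : s ∈ A) (he : s • w + w + v ∈ F) :
    s ∈ Q := by
  by_cases hvC : v ∈ C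
  · have h1 : s • w + w ∈ F := by
      have := F.add_mem he (d.CF hvC)
      have e1 : s • w + w + v + v = s • w + w + (v + v) := by abel
      rwa [e1, d.two, add_zero] at this
    rw [d.mem.inj w hw s hs h1]
    exact one_mem _
  · apply d.natA v hv hvC s hs
    rw [mem_self d.mem hs he, d.two]
    exact C.zero_mem

/-- LEMMA (1) -/
theorem lem {w : V} (hw : w ∉ E) {y : V} (hy : y ∈ W') (hyE : y ∈ E) {s : Y} (hs : s ∈ A)
    (he : s • w + w + y ∈ F) :
    s ∈ Q ∧ ∀ v ∈ V₀, ∀ s' ∈ A, s' • w + w + v ∈ F → s' • y = y := by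
  -- `[y, s'] = [v, s] ∈ C`
  have key : ∀ v ∈ V₀, ∀ s' ∈ A, s' • w + w + v ∈ F → s' • y + y ∈ C ∧ s' • y + y = s • v + v := by
    intro v hv s' hs' he'
    have h1 := d.s_mem hw hv hs' he'
    have h2 : s' • y + y ∈ V₀ := d.root' y hy s' (d.QR h1)
    have h3 : s' • y + y ∈ F := d.mem.EB s' hs' y hyE
    exact ⟨d.V0F _ h2 h3, mem_sym d.mem d.two hs hs' he he'⟩
  obtain ⟨v₀, hv₀, hv₀C⟩ := d.exists_v
  obtain ⟨s₀, hs₀, he₀⟩ := d.mem.surj w hw v₀ (d.V0E hv₀)
  have h1 := key v₀ hv₀ s₀ hs₀ he₀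
  have hsQ : s ∈ Q := by
    apply d.natA v₀ hv₀ hv₀C s hs
    rw [← h1.2]
    exact h1.1
  refine ⟨hsQ, fun v hv s' hs' he' => ?_⟩
  have h2 := (key v hv s' hs' he').2
  rw [d.RV0 s (d.QR hsQ) v hv, d.two] at h2
  exact (HE.add_eq_zero' d.two).1 h2

/-- an element of `A ∩ Q` outside `Q'`, `W' ≤ E`: its commutators with `W'` lie in `C` -/
theorem comm_C (hW : W' ≤ E) {a : Y} (ha : a ∈ A) (haQ : a ∈ Q) {y : V} (hy : y ∈ W') : a • y + y ∈ C :=
  d.V0F _ (d.root' y hy a (d.QR haQ)) (d.mem.EB a ha y (hW hy))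

/-- the case `W' ∩ E₁ > V₀` -/
structure Two (A R Q Q' : Subgroup Y) (E F V₀ C C' W' : AddSubgroup V) (c : ℕ) : Prop where
  WE : W' ≤ E
  cC : Nat.card C = c
  card : c * c ≤ Nat.card ↥(A ⊓ Q ⊓ Q')
  cardA : Nat.card A = c * c * Nat.card ↥(A ⊓ Q ⊓ Q')
  comm : ∀ y ∈ W', ∀ r ∈ R, r • y + y ∈ C
  cen : ∀ v : V, (∀ a ∈ A ⊓ Q ⊓ Q', a • v = v) → v ∈ W' ⊔ F

theorem two' {b : Y} (hb : b ∈ A) (hbQ : b ∈ Q) (hbQ' : b ∉ Q') {y₀ : V} (hy₀ : y₀ ∈ W') (hy₀E : y₀ ∈ E)
    (hy₀V : y₀ ∉ V₀) : Two A R Q Q' E F V₀ C C' W' c := by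
  obtain ⟨w, hw⟩ := d.mem.ne
  have hc2 := d.c2
  have hC0 : 0 < Nat.card C := Nat.card_pos
  have hF0 : 0 < Nat.card F := Nat.card_pos
  -- `S₁ ≤ Q'`
  have hS : ∀ v ∈ V₀, ∀ s ∈ A, s • w + w + v ∈ F → s ∈ Q' := by
    intro v hv s hs he
    obtain ⟨s₀, hs₀, he₀⟩ := d.mem.surj w hw y₀ hy₀E
    exact d.nat' y₀ hy₀ hy₀V s (d.QR (d.s_mem hw hv hs he)) ((d.lem hw hy₀ hy₀E hs₀ he₀).2 v hv s hs he)
  -- `W' ≤ E`
  have hWE : W' ≤ E := by
    obtain ⟨v, hv, hvC⟩ := d.exists_v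
    obtain ⟨s, hs, he⟩ := d.mem.surj w hw v (d.V0E hv)
    have hs1 : s ≠ 1 := by
      rintro rfl
      apply hvC
      apply d.V0F v hv
      rwa [one_smul, d.two, zero_add] at he
    intro y hy
    exact mem_E_of_fix d.mem d.two hs hs1 (d.QW' s (hS v hv s hs he) y hy)
  -- `b` on `W'`
  have hbR : b ∈ R := d.QR hbQ
  have hbC : ∀ y ∈ W', b • y + y ∈ C := fun y hy => d.comm_C hWE hb hbQ hy
  have hbV : ∀ y ∈ W', b • y = y → y ∈ V₀ := by
    intro y hy h1
    by_contra h2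
    exact hbQ' (d.nat' y hy h2 b hbR h1)
  -- `c ≤ |C|`
  have hcC : c ≤ Nat.card C := by
    let φ : W' →+ C :=
      { toFun := fun y => ⟨b • (y : V) + y, hbC y y.2⟩
        map_zero' := Subtype.ext (by
          change b • (0 : V) + 0 = 0
          rw [smul_zero, add_zero])
        map_add' := fun y z => Subtype.ext (by
          change b • ((y : V) + z) + (y + z) = (b • (y : V) + y) + (b • (z : V) + z)
          rw [smul_add]; abel) }
    have hker : φ.ker = V₀.addSubgroupOf W' := by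
      ext y
      rw [AddMonoidHom.mem_ker, AddSubgroup.mem_addSubgroupOf]
      constructor
      · intro h1
        have h2 : b • (y : V) + y = 0 := congrArg Subtype.val h1
        exact hbV y y.2 ((HE.add_eq_zero' d.two).1 h2)
      · intro h1
        apply Subtype.ext
        change b • (y : V) + y = 0
        rw [d.RV0 b hbR y h1, d.two]
    have h1 : Nat.card φ.range * Nat.card φ.ker = Nat.card W' := by
      rw [mul_comm, ← AddSubgroup.card_mul_index φ.ker, AddSubgroup.index_ker]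
    rw [hker, Nat.card_congr (AddSubgroup.addSubgroupOfEquivOfLe d.V0W').toEquiv, d.cW'] at h1
    have h2 : Nat.card φ.range = c := Nat.eq_of_mul_eq_mul_right Nat.card_pos h1
    rw [← h2]
    exact Nat.card_le_card_of_injective _ φ.range.subtype_injective
  -- `|C| = c`
  have hCc : Nat.card C = c := by
    apply le_antisymm _ hcC
    have h1 := card_sup_as C C'
    have h2 : C ⊓ C' = ⊥ := by
      rw [eq_bot_iff]
      rintro x ⟨hx1, hx2⟩
      rw [AddSubgroup.mem_bot]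
      exact d.CC' x hx1 hx2
    rw [h2, AddSubgroup.card_bot, mul_one, d.cC'] at h1
    have h3 : Nat.card ↥(C ⊔ C') ≤ Nat.card V₀ := Nat.card_le_card_of_injective _
      (AddSubgroup.inclusion_injective (sup_le d.CV d.C'V))
    rw [h1, d.cV] at h3
    exact Nat.le_of_mul_le_mul_right h3 hC0
  -- `W' ∩ F = C`
  have hWF : W' ⊓ F = C := by
    apply le_antisymm
    · rintro y ⟨hy, hyF⟩
      exact d.V0F y (hbV y hy (d.mem.FB b hb y hyF)) hyF
    · exact le_inf (d.CV.trans d.V0W') d.CF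
  -- `|W' + F| = c² |F|`
  have hWF' : Nat.card ↥(W' ⊔ F) = c * c * Nat.card F := by
    have h1 := card_sup_as W' F
    rw [hWF, d.cW', d.cV] at h1
    apply Nat.eq_of_mul_eq_mul_right hC0
    rw [h1]; ring
  have hDE : W' ⊔ F ≤ E := sup_le hWE d.mem.FE
  -- `A₀`
  set A₀ := A ⊓ Q ⊓ Q' with hA₀
  have hpre : pre A w (W' ⊔ F) ⊆ A₀ := by
    rintro s ⟨hs, hsD⟩
    obtain ⟨y, hy, f, hf, he⟩ := AddSubgroup.mem_sup.1 hsD
    have h1 : s • w + w + y ∈ F := by
      rw [← he]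
      have e1 : y + f + y = (y + y) + f := by abel
      rw [e1, d.two, zero_add]; exact hf
    have h2 := d.lem hw hy (hWE hy) hs h1
    refine ⟨⟨hs, h2.1⟩, ?_⟩
    by_cases hyV : y ∈ V₀
    · exact hS y hyV s hs h1
    · exact d.nat' y hy hyV s (d.QR h2.1) (mem_self d.mem hs h1)
  have hcard : c * c ≤ Nat.card A₀ := by
    have h1 := card_pre d.mem d.two hw (D := W' ⊔ F) le_sup_right hDE
    rw [hWF'] at h1
    rw [← Nat.eq_of_mul_eq_mul_right hF0 h1]
    exact Nat.card_mono (Set.toFinite _) hpre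
  have hA₀pos : 0 < Nat.card A₀ := Nat.card_pos
  -- (MU)
  have hE := d.mem.card_E d.two
  have hfix : W' ⊔ F ≤ fx V A₀ ⊓ E := by
    refine le_inf ?_ hDE
    refine sup_le (fun y hy a ha => d.QW' a ha.2 y hy) (fun y hy a ha => d.mem.FB a ha.1.1 y hy)
  have hA₀A : A₀ ≤ A := inf_le_left.trans inf_le_left
  have hmu := d.mu A₀ hA₀A
  have hfixc : c * c * Nat.card F ≤ Nat.card ↥(fx V A₀ ⊓ E) := by
    rw [← hWF']
    exact Nat.card_le_card_of_injective _ (AddSubgroup.inclusion_injective hfix)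
  have h3 : c * c * Nat.card A₀ ≤ Nat.card A := by
    have h4 : Nat.card A₀ * (c * c * Nat.card F) ≤ Nat.card F * Nat.card A :=
      (Nat.mul_le_mul_left _ hfixc).trans (hmu.trans hE.le)
    have h5 : c * c * Nat.card A₀ * Nat.card F ≤ Nat.card A * Nat.card F := by
      calc c * c * Nat.card A₀ * Nat.card F = Nat.card A₀ * (c * c * Nat.card F) := by ring
        _ ≤ _ := h4
        _ = _ := by ring
    exact Nat.le_of_mul_le_mul_right h5 hF0
  have h4 : Nat.card ↥(A ⊓ Q) ≤ c * Nat.card A₀ := card_le_of_index d.Q'R (inf_le_right.trans d.QR) d.cR'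
  have hcardA : Nat.card A = c * c * Nat.card A₀ := by
    apply le_antisymm _ h3
    rw [d.cA, mul_assoc]
    exact Nat.mul_le_mul_left _ h4
  have h5 : c * Nat.card ↥(A ⊓ Q ⊓ Q') ≤ Nat.card ↥(A ⊓ Q) := by
    have h6 := d.cA
    rw [hcardA, mul_assoc] at h6
    exact (Nat.eq_of_mul_eq_mul_left (by omega) h6).le
  refine ⟨hWE, hCc, hcard, hcardA, ?_, ?_⟩
  · intro y hy r hr
    obtain ⟨a, ha, q, hq, rfl⟩ := exists_mul_of_card d.Q'R (inf_le_right.trans d.QR) d.cR' h5 hr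
    rw [mul_smul, d.QW' q hq y hy]
    exact d.comm_C hWE ha.1 ha.2 hy
  · intro v hv
    have h6 : W' ⊔ F = fx V A₀ ⊓ E := by
      apply eq_of_le_as hfix
      rw [hWF']
      rw [hE, hcardA] at hmu
      have h7 : Nat.card A₀ * Nat.card ↥(fx V A₀ ⊓ E) ≤ Nat.card A₀ * (c * c * Nat.card F) := by
        refine hmu.trans (le_of_eq ?_)
        ring
      exact Nat.le_of_mul_le_mul_left h7 hA₀pos
    rw [h6]
    refine ⟨hv, ?_⟩
    have h7 : ∃ s ∈ A₀, s ≠ 1 := by
      by_contra hcon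
      push Not at hcon
      have h8 : A₀ = ⊥ := by
        rw [eq_bot_iff]
        intro s hs
        rw [mem_bot]; exact hcon s hs
      rw [h8, Subgroup.card_bot] at hcard
      nlinarith only [hc2, hcard]
    obtain ⟨s, hs, hs1⟩ := h7
    exact mem_E_of_fix d.mem d.two (hA₀A hs) hs1 (hv s hs)

end Dat

namespace One

variable {U : Set (Subgroup Y)} {T : Sylow 2 Y} {M H R : Subgroup Y} {t : Y} {c : ℕ}

theorem c_two [Finite Y] (a : Amal U T M H R t) (h : Amb V U T M) (o : One V H R c) : 2 ≤ c := by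
  obtain ⟨B, hB, hBR, hBQ⟩ := Amal.exists_not_QQ a h
  by_contra hcon
  have h1 : c ≤ 1 := by omega
  have h2 : QQ H R = R := by
    apply eq_of_le_of_card_ge QQ_le
    rw [o.cR]
    nlinarith only [hcon]
  apply hBQ
  rw [h2]; exact hBR

theorem conj_QQ_le (a : Amal U T M H R t) : MulAut.conj t • QQ H R ≤ R := by
  intro r hr
  rw [mem_conj] at hr
  have h1 := a.t_norm _ (QQ_le hr)
  have e : t * (t⁻¹ * r * t) * t⁻¹ = r := by group
  rwa [e] at h1

/-- `|B| = c |B ∩ Q|` -/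
theorem card_B [Finite Y] [Finite V] (a : Amal U T M H R t) (h : Amb V U T M) (o : One V H R c)
    {B : Subgroup Y} (hB : B ∈ U) (hBR : B ≤ R) (hBQ : ¬ B ≤ QQ H R) (hE : WW V H R ≤ Ee V B) :
    Nat.card B = c * Nat.card ↥(B ⊓ QQ H R) := by
  apply le_antisymm (card_le_of_index QQ_le hBR o.cR)
  have hm := h.cls.mem B hB
  obtain ⟨b, hb, hbQ⟩ := SetLike.not_le_iff_exists.1 hBQ
  have h1 : WW V H R ⊓ fx V B = fx V R := by
    apply le_antisymm
    · rintro x ⟨hx, hxF⟩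
      by_contra hxR
      apply hbQ
      apply o.nat x hx hxR b (hBR hb)
      rw [hxF b hb, h.two]
      exact (fx V H).zero_mem
    · exact le_inf fx_le_WW (fx_mono hBR)
  have h2 := card_sup_as (WW V H R) (fx V B)
  rw [h1, o.cW] at h2
  have h3 : Nat.card ↥(WW V H R ⊔ fx V B) = c * Nat.card (fx V B) := by
    apply Nat.eq_of_mul_eq_mul_right (Nat.card_pos (α := fx V R))
    rw [h2]; ring
  have h4 : WW V H R ⊔ fx V B ≤ fx V (B ⊓ QQ H R) ⊓ Ee V B := by
    refine le_inf (sup_le ?_ (fx_mono inf_le_left)) (sup_le hE hm.FE)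
    intro x hx q hq
    exact Amal.QQ_fix a h hq.2 hx
  have h5 := h.cls.mu B hB (B ⊓ QQ H R) inf_le_left
  have h6 : Nat.card ↥(WW V H R ⊔ fx V B) ≤ Nat.card ↥(fx V (B ⊓ QQ H R) ⊓ Ee V B) :=
    Nat.card_le_card_of_injective _ (AddSubgroup.inclusion_injective h4)
  rw [h3] at h6
  rw [hm.card_E h.two] at h5
  have h7 : Nat.card ↥(B ⊓ QQ H R) * (c * Nat.card (fx V B)) ≤ Nat.card (fx V B) * Nat.card B :=
    (Nat.mul_le_mul_left _ h6).trans h5
  apply Nat.le_of_mul_le_mul_right (c := Nat.card (fx V B)) _ Nat.card_pos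
  calc c * Nat.card ↥(B ⊓ QQ H R) * Nat.card (fx V B) = Nat.card ↥(B ⊓ QQ H R) * (c * Nat.card (fx V B)) := by ring
    _ ≤ _ := h7
    _ = _ := by ring

theorem conj_inf_QQ {g : Y} (hg : g ∈ H) (B : Subgroup Y) :
    MulAut.conj g • B ⊓ QQ H R = MulAut.conj g • (B ⊓ QQ H R) := by
  ext y
  constructor
  · intro h0
    have h1 : y ∈ MulAut.conj g • B := h0.1
    have h2 : y ∈ QQ H R := h0.2
    rw [mem_conj] at h1 ⊢
    refine ⟨h1, ?_⟩
    have := conj_mem_QQ (H.inv_mem hg) h2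
    rwa [inv_inv] at this
  · intro h1
    rw [mem_conj] at h1
    refine ⟨mem_conj.2 h1.1, ?_⟩
    have := conj_mem_QQ hg h1.2
    have e : g * (g⁻¹ * y * g) * g⁻¹ = y := by group
    rwa [e] at this

theorem dat [Finite Y] [Finite V] (a : Amal U T M H R t) (h : Amb V U T M) (o : One V H R c)
    {B : Subgroup Y} (hB : B ∈ U) (hBR : B ≤ R) (hBQ : ¬ B ≤ QQ H R) (hE : WW V H R ≤ Ee V B)
    {g : Y} (hg : g ∈ H) (hM : ¬ MulAut.conj g • B ≤ M) :
    Dat (MulAut.conj g • B) R (QQ H R) (MulAut.conj t • QQ H R) (Ee V (MulAut.conj g • B))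
      (fx V (MulAut.conj g • B)) (fx V R) (fx V H) (t • fx V H) (t • WW V H R) c := by
  have hA : MulAut.conj g • B ∈ U := h.cls.conj B hB g
  have hAH : MulAut.conj g • B ≤ H := by
    intro y hy
    rw [mem_conj] at hy
    have := H.mul_mem (H.mul_mem hg (a.RH (hBR hy))) (H.inv_mem hg)
    have e : g * (g⁻¹ * y * g) * g⁻¹ = y := by group
    rwa [e] at this
  have hinf := a.fx_inf (V := V) hAH hM
  have hWH : ∀ x ∈ H, ∀ w ∈ WW V H R, x • w ∈ WW V H R := fun x hx w hw => smul_mem_WW hx hw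
  exact
    { two := h.two
      mem := h.cls.mem _ hA
      mu := h.cls.mu _ hA
      QR := QQ_le
      Q'R := conj_QQ_le a
      V0E := by
        intro x hx
        rw [Ee_conj, mem_smul_as]
        exact hE (hWH _ (H.inv_mem hg) _ (fx_le_WW hx))
      CF := fx_mono hAH
      CV := a.C_le
      V0F := fun x hx hxF => by
        rw [← hinf]; exact ⟨hxF, hx⟩
      C'V := by
        intro x hx
        rw [mem_smul_as] at hx
        have := a.smul_V0 (a.C_le hx)
        rwa [smul_inv_smul] at this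
      CC' := by
        intro x hx hx'
        rw [mem_smul_as] at hx'
        apply Amal.C_inf a h hx
        rwa [← a.inv_smul_V0 (a.C_le hx)]
      natA := by
        intro x hx hxC b hb hbx
        rw [mem_conj] at hb
        have h1 : g⁻¹ • x ∈ WW V H R := hWH _ (H.inv_mem hg) _ (fx_le_WW hx)
        have h2 : g⁻¹ • x ∉ fx V R := by
          intro h3
          apply hxC
          have h5 : x ∈ fx V (MulAut.conj g • B) := by
            rw [fx_conj, mem_smul_as]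
            exact fx_mono hBR h3
          rw [← hinf]
          exact ⟨h5, hx⟩
        have h3 : (g⁻¹ * b * g) • g⁻¹ • x + g⁻¹ • x ∈ fx V H := by
          have e1 : (g⁻¹ * b * g) • g⁻¹ • x + g⁻¹ • x = g⁻¹ • (b • x + x) := by
            rw [smul_add, ← mul_smul, ← mul_smul]
            congr 2
            group
          rw [e1, hbx _ (H.inv_mem hg)]
          exact hbx
        have h4 := conj_mem_QQ hg (o.nat _ h1 h2 _ (hBR hb) h3)
        have e : g * (g⁻¹ * b * g) * g⁻¹ = b := by group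
        rwa [e] at h4
      RV0 := fun r hr x hx => hx r hr
      V0W' := by
        intro x hx
        rw [mem_smul_as]
        exact fx_le_WW (a.smul_V0' hx)
      root' := by
        intro y hy r hr
        rw [mem_smul_as] at hy
        have h1 := a.smul_V0 (o.root _ hy _ (a.symm_smul hr))
        have e1 : t • ((t⁻¹ * r * t) • t⁻¹ • y + t⁻¹ • y) = r • y + y := by
          rw [smul_add, smul_inv_smul, ← mul_smul, ← mul_smul]
          congr 2
          group
        rwa [e1] at h1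
      nat' := by
        intro y hy hyV r hr hry
        rw [mem_smul_as] at hy
        rw [mem_conj]
        apply o.nat _ hy _ _ (a.symm_smul hr)
        · have e1 : (t⁻¹ * r * t) • t⁻¹ • y = t⁻¹ • y := by
            rw [← mul_smul]
            have e2 : t⁻¹ * r * t * t⁻¹ = t⁻¹ * r := by group
            rw [e2, mul_smul, hry]
          rw [e1, h.two]
          exact (fx V H).zero_mem
        · intro h1
          apply hyV
          have := a.smul_V0 h1
          rwa [smul_inv_smul] at this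
      QW' := by
        intro q hq y hy
        rw [mem_conj] at hq
        rw [mem_smul_as] at hy
        have h1 := Amal.QQ_fix a h hq hy
        have e1 : (t⁻¹ * q * t) • t⁻¹ • y = t⁻¹ • q • y := by
          rw [← mul_smul, ← mul_smul]
          congr 1
          group
        rw [e1] at h1
        exact smul_left_cancel _ h1
      cV := o.cV
      cC' := card_smul_as t _
      cW' := by rw [card_smul_as]; exact o.cW
      cR' := by rw [conj_card]; exact o.cR
      cA := by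
        rw [conj_inf_QQ hg, conj_card, conj_card]
        exact card_B a h o hB hBR hBQ hE
      c2 := c_two a h o }

/-- the case `W' ∩ E₁ > V₀` is impossible -/
theorem not_two [Finite Y] [Finite V] (a : Amal U T M H R t) (h : Amb V U T M) (o : One V H R c)
    {B : Subgroup Y} (hB : B ∈ U) (hBR : B ≤ R) (hBQ : ¬ B ≤ QQ H R) (hE : ∀ B ∈ U, B ≤ R → WW V H R ≤ Ee V B)
    {g : Y} (hg : g ∈ H) (hM : ¬ MulAut.conj g • B ≤ M)
    (w : Dat.Two (MulAut.conj g • B) R (QQ H R) (MulAut.conj t • QQ H R) (Ee V (MulAut.conj g • B))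
      (fx V (MulAut.conj g • B)) (fx V R) (fx V H) (t • fx V H) (t • WW V H R) c) : False := by
  have hc2 := c_two a h o
  set A := MulAut.conj g • B with hAdef
  have hA : A ∈ U := h.cls.conj B hB g
  have hmA := h.cls.mem A hA
  have hAH : A ≤ H := by
    intro y hy
    rw [hAdef, mem_conj] at hy
    have := H.mul_mem (H.mul_mem hg (a.RH (hBR hy))) (H.inv_mem hg)
    have e : g * (g⁻¹ * y * g) * g⁻¹ = y := by group
    rwa [e] at this
  -- all members have the order of `A`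
  have hcardU : ∀ D ∈ U, c * c * (c * c) ≤ Nat.card D := by
    intro D hD
    obtain ⟨y, rfl⟩ := h.cls.eq A hA D hD
    rw [conj_card, w.cardA]
    exact Nat.mul_le_mul_left _ w.card
  -- `Ψ`
  let Psi : AddSubgroup V := AddSubgroup.closure {v | ∃ x ∈ H, ∃ y ∈ t • WW V H R, v = x • y}
  have hPsiH : ∀ x ∈ H, ∀ v ∈ Psi, x • v ∈ Psi := by
    intro x hx v hv
    induction hv using AddSubgroup.closure_induction with
    | mem v hv =>
      obtain ⟨y, hy, z, hz, rfl⟩ := hv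
      exact AddSubgroup.subset_closure ⟨x * y, H.mul_mem hx hy, z, hz, by rw [mul_smul]⟩
    | zero => rw [smul_zero]; exact zero_mem _
    | add b c _ _ h1 h2 => rw [smul_add]; exact add_mem h1 h2
    | neg b _ h1 => rw [smul_neg]; exact neg_mem h1
  have hW'Psi : ∀ y ∈ t • WW V H R, y ∈ Psi := fun y hy =>
    AddSubgroup.subset_closure ⟨1, H.one_mem, y, hy, (one_smul Y y).symm⟩
  -- `[Ψ, Q] ≤ C`
  have hPsiQ : ∀ v ∈ Psi, ∀ q ∈ QQ H R, q • v + v ∈ fx V H := by
    intro v hv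
    induction hv using AddSubgroup.closure_induction with
    | mem v hv =>
      obtain ⟨x, hx, y, hy, rfl⟩ := hv
      intro q hq
      have h1 : x⁻¹ * q * x ∈ QQ H R := by
        have := conj_mem_QQ (H.inv_mem hx) hq
        rwa [inv_inv] at this
      have h2 := w.comm y hy _ (QQ_le h1)
      have e1 : q • x • y + x • y = x • ((x⁻¹ * q * x) • y + y) := by
        rw [smul_add, ← mul_smul, ← mul_smul]
        congr 2
        group
      rw [e1, h2 x hx]
      exact h2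
    | zero => intro q _; rw [smul_zero, add_zero]; exact zero_mem _
    | add b c _ _ h1 h2 =>
      intro q hq
      have e1 : q • (b + c) + (b + c) = (q • b + b) + (q • c + c) := by rw [smul_add]; abel
      rw [e1]
      exact add_mem (h1 q hq) (h2 q hq)
    | neg b _ h1 =>
      intro q hq
      have e1 : q • (-b) + (-b) = -(q • b + b) := by rw [smul_neg]; abel
      rw [e1]
      exact neg_mem (h1 q hq)
  -- `Ψ ≤ E_D` for every member `D ≤ R`
  have hPsiE : ∀ D ∈ U, D ≤ R → Psi ≤ Ee V D := by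
    intro D hD hDR v hv
    by_contra hvE
    have hmD := h.cls.mem D hD
    have h1 : D ⊓ QQ H R = ⊥ := by
      rw [eq_bot_iff]
      rintro b ⟨hb, hbQ⟩
      rw [mem_bot]
      exact hmD.inj v hvE b hb (fx_mono (hDR.trans a.RH) (hPsiQ v hv b hbQ))
    have h2 := card_le_of_index QQ_le hDR o.cR
    rw [h1, Subgroup.card_bot, mul_one] at h2
    have h3 := hcardU D hD
    have h4 : 2 * 2 ≤ c * c := Nat.mul_le_mul hc2 hc2
    have h5 : c * c * (2 * 2) ≤ c * c * (c * c) := Nat.mul_le_mul_left _ h4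
    nlinarith
  have hPsiE' : ∀ D ∈ U, D ≤ R → ∀ v ∈ Psi, t • v ∈ Ee V D := by
    intro D hD hDR v hv
    have h1 : MulAut.conj t⁻¹ • D ≤ R := by
      intro r hr
      rw [mem_conj] at hr
      have h2 := a.symm_smul (hDR hr)
      have e : t⁻¹ * (t⁻¹⁻¹ * r * t⁻¹) * t = r := by group
      rwa [e] at h2
    have h2 := hPsiE _ (h.cls.conj D hD t⁻¹) h1 hv
    rw [Ee_conj, mem_smul_as, inv_inv] at h2
    exact h2
  -- `A₀`
  set A₀ := A ⊓ QQ H R ⊓ MulAut.conj t • QQ H R with hA₀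
  -- `[t Ψ, A₀] ≤ C'`
  have hcomm' : ∀ b ∈ A₀, ∀ v ∈ Psi, b • t • v + t • v ∈ t • fx V H := by
    intro b hb v hv
    have h1 : t⁻¹ * b * t ∈ QQ H R := mem_conj.1 hb.2
    rw [mem_smul_as]
    have h2 := hPsiQ v hv _ h1
    have e1 : t⁻¹ • (b • t • v + t • v) = (t⁻¹ * b * t) • v + v := by
      rw [smul_add, inv_smul_smul, ← mul_smul, ← mul_smul]
    rw [e1]; exact h2
  by_cases hcase : ∀ b ∈ A₀, ∀ v ∈ Psi, b • t • v = t • v
  · -- (a)
    have hsub : ∀ u ∈ A, ∀ v ∈ Psi, u • t • v + t • v ∈ Psi := by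
      intro u hu v hv
      obtain ⟨y, hy, f, hf, he⟩ := AddSubgroup.mem_sup.1 (w.cen (t • v) fun b hb => hcase b hb v hv)
      rw [← he]
      have e1 : u • (y + f) + (y + f) = (u • y + y) + (f + f) := by
        rw [smul_add, hf u hu]; abel
      rw [e1, h.two, add_zero]
      exact Psi.add_mem (hPsiH u (hAH hu) y (hW'Psi y hy)) (hW'Psi y hy)
    -- `N = Ψ + tΨ`
    let N : AddSubgroup V := Psi ⊔ t • Psi
    have hNR : ∀ r ∈ R, ∀ n ∈ N, r • n ∈ N := by
      intro r hr n hn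
      obtain ⟨x, hx, y, hy, rfl⟩ := AddSubgroup.mem_sup.1 hn
      rw [smul_add]
      refine N.add_mem (AddSubgroup.mem_sup_left (hPsiH r (a.RH hr) x hx)) (AddSubgroup.mem_sup_right ?_)
      rw [mem_smul_as] at hy ⊢
      have h1 := hPsiH _ (a.RH (a.symm_smul hr)) _ hy
      have e1 : (t⁻¹ * r * t) • t⁻¹ • y = t⁻¹ • r • y := by
        rw [← mul_smul, ← mul_smul]
        congr 1
        group
      rwa [e1] at h1
    have hNA : ∀ u ∈ A, ∀ n ∈ N, u • n ∈ N := by
      intro u hu n hn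
      obtain ⟨x, hx, y, hy, rfl⟩ := AddSubgroup.mem_sup.1 hn
      rw [smul_add]
      refine N.add_mem (AddSubgroup.mem_sup_left (hPsiH u (hAH hu) x hx)) ?_
      have hy' := hy
      rw [mem_smul_as] at hy'
      have h1 := hsub u hu _ hy'
      rw [smul_inv_smul] at h1
      have h2 : u • y = (u • y + y) + y := by rw [add_assoc, h.two, add_zero]
      rw [h2]
      exact N.add_mem (AddSubgroup.mem_sup_left h1) (AddSubgroup.mem_sup_right hy)
    have hNH : ∀ x ∈ H, ∀ n ∈ N, x • n ∈ N := by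
      have hle : R ⊔ A ≤
          ({ carrier := {x | ∀ n ∈ N, x • n ∈ N}
             one_mem' := fun n hn => by rw [one_smul]; exact hn
             mul_mem' := fun {x y} hx hy n hn => by rw [mul_smul]; exact hx _ (hy n hn)
             inv_mem' := fun {x} hx n hn => by
               have hbij : Function.Surjective (fun n : N => (⟨x • (n : V), hx n n.2⟩ : N)) := by
                 apply Finite.surjective_of_injective
                 intro p q hpq
                 exact Subtype.ext (smul_left_cancel x (congrArg Subtype.val hpq))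
               obtain ⟨m, hm⟩ := hbij ⟨n, hn⟩
               have h1 : x • (m : V) = n := congrArg Subtype.val hm
               rw [← h1, inv_smul_smul]
               exact m.2 } : Subgroup Y) := sup_le (fun r hr => hNR r hr) (fun u hu => hNA u hu)
      rw [a.gen hAH hM] at hle
      exact fun x hx => hle hx
    have hNt : ∀ n ∈ N, t • n ∈ N := by
      intro n hn
      obtain ⟨x, hx, y, hy, rfl⟩ := AddSubgroup.mem_sup.1 hn
      rw [smul_add]
      refine N.add_mem (AddSubgroup.mem_sup_right (smul_mem_smul_as hx)) (AddSubgroup.mem_sup_left ?_)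
      rw [mem_smul_as] at hy
      have h1 := hPsiH _ (a.RH a.t_sq) _ hy
      have e1 : (t * t) • t⁻¹ • y = t • y := by
        rw [← mul_smul]
        congr 1
        group
      rwa [e1] at h1
    have hNE : N ≤ Ee V B := by
      refine sup_le (hPsiE B hB hBR) ?_
      intro y hy
      rw [mem_smul_as] at hy
      have := hPsiE' B hB hBR _ hy
      rwa [smul_inv_smul] at this
    rcases Amal.no_sub a h hNH hNt with h1 | h1
    · -- `N = 0`
      have h2 : fx V R ≤ N := fun x hx => AddSubgroup.mem_sup_left (hW'Psi x (by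
        rw [mem_smul_as]
        exact fx_le_WW (a.smul_V0' hx)))
      rw [h1] at h2
      have h3 : fx V R = ⊥ := le_bot_iff.1 h2
      have h4 : fx V H = ⊥ := le_bot_iff.1 (h3 ▸ a.C_le)
      have h5 := o.cV
      rw [h3, h4, AddSubgroup.card_bot] at h5
      omega
    · exact h1 B hB hNE
  · -- (b)
    push Not at hcase
    obtain ⟨b, hb, v, hv, hne⟩ := hcase
    have hd := dat a h o hB hBR hBQ (hE B hB hBR) hg hM
    have hex : ∃ v ∈ Psi, t • v ∉ Ee V A := by
      by_contra hcon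
      push Not at hcon
      apply hne
      have h1 : b • t • v + t • v ∈ fx V A := hmA.EB b hb.1.1 _ (hcon v hv)
      have h2 := hcomm' b hb v hv
      have h3 := hd.V0F _ (hd.C'V h2) h1
      exact (HE.add_eq_zero' h.two).1 (hd.CC' _ h3 h2)
    obtain ⟨v, hv, hvE⟩ := hex
    have h1 : Nat.card A₀ ≤ Nat.card ↥(t • fx V H) := by
      let f : A₀ → ↥(t • fx V H) := fun b => ⟨(b : Y) • t • v + t • v, hcomm' b b.2 v hv⟩
      apply Nat.card_le_card_of_injective f
      rintro ⟨x, hx⟩ ⟨y, hy⟩ hxy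
      have h2 : x • t • v + t • v = y • t • v + t • v := congrArg Subtype.val hxy
      have h3 : x • t • v = y • t • v := add_right_cancel h2
      have h4 : (y * x) • t • v + t • v ∈ fx V A := by
        rw [mul_smul, h3, ← mul_smul, hmA.sq y hy.1.1, one_smul, h.two]
        exact zero_mem _
      have h5 := hmA.inj _ hvE _ (mul_mem hy.1.1 hx.1.1) h4
      apply Subtype.ext
      change x = y
      have : y * (y * x) = y * 1 := by rw [h5]
      rw [← mul_assoc, hmA.sq y hy.1.1, one_mul, mul_one] at this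
      exact this
    rw [hd.cC', w.cC] at h1
    have h2 := w.card
    nlinarith

/-- The output of **THE THEOREM (bb OMEGA 20060)** : `k = 1`, no field automorphisms, any `C`.
`W' ∩ E₁ = V₀`, `B₁ ∩ Q' = 1`, `|B₁| = c`, `|U| = c²`, `T_H = B₁ Q'`, `B₁ = S₁`. -/
structure Out (A : Subgroup Y) (R Q Q' : Subgroup Y) (V₀ W' : AddSubgroup V) (c : ℕ) : Prop where
  cap : ∀ y ∈ W', y ∈ Ee V A → y ∈ V₀
  inf : A ⊓ Q ⊓ Q' = ⊥
  cB : Nat.card ↥(A ⊓ Q) = c
  cA : Nat.card A = c * c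
  mul : ∀ r ∈ R, ∃ b ∈ A ⊓ Q, ∃ q ∈ Q', r = b * q
  S : ∀ w : V, w ∉ Ee V A → ∀ s : Y, s ∈ A ⊓ Q ↔ s ∈ A ∧ s • w + w ∈ V₀ ⊔ fx V A
  c2 : 2 ≤ c

/-- **THE THEOREM (bb OMEGA 20060)** -/
theorem caseC [Finite Y] [Finite V] (a : Amal U T M H R t) (h : Amb V U T M) (o : One V H R c)
    {B : Subgroup Y} (hB : B ∈ U) (hBR : B ≤ R) (hBQ : ¬ B ≤ QQ H R) (hE : ∀ B ∈ U, B ≤ R → WW V H R ≤ Ee V B)
    {g : Y} (hg : g ∈ H) (hM : ¬ MulAut.conj g • B ≤ M)
    (star : ∃ b ∈ MulAut.conj g • B, b ∈ QQ H R ∧ b ∉ MulAut.conj t • QQ H R) :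
    Out (MulAut.conj g • B) R (QQ H R) (MulAut.conj t • QQ H R) (fx V R) (t • WW V H R) c := by
  have hd := dat a h o hB hBR hBQ (hE B hB hBR) hg hM
  obtain ⟨b, hbA, hbQ, hbQ'⟩ := star
  have hcap : ∀ y ∈ t • WW V H R, y ∈ Ee V (MulAut.conj g • B) → y ∈ fx V R := by
    intro y hy hyE
    by_contra hyV
    exact not_two a h o hB hBR hBQ hE hg hM (hd.two' hbA hbQ hbQ' hy hyE hyV)
  set A := MulAut.conj g • B with hAdef
  have hc2 := hd.c2
  -- `A₀ = 1`
  have hinf : A ⊓ QQ H R ⊓ MulAut.conj t • QQ H R = ⊥ := by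
    rw [eq_bot_iff]
    rintro s ⟨⟨hsA, hsQ⟩, hsQ'⟩
    rw [mem_bot]
    by_contra hs1
    have h1 : t • WW V H R = fx V R := le_antisymm
      (fun y hy => hcap y hy (mem_E_of_fix hd.mem hd.two hsA hs1 (hd.QW' s hsQ' y hy))) hd.V0W'
    have h2 := hd.cW'
    rw [h1] at h2
    have h3 : 0 < Nat.card (fx V R) := Nat.card_pos
    nlinarith
  have hle : Nat.card ↥(A ⊓ QQ H R) ≤ c := by
    have h1 := card_le_of_index (B := A ⊓ QQ H R) hd.Q'R (inf_le_right.trans hd.QR) hd.cR'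
    rwa [hinf, Subgroup.card_bot, mul_one] at h1
  -- `S₁`
  have hVF : Nat.card ↥(fx V R ⊔ fx V A) = c * Nat.card (fx V A) := by
    have h1 := card_sup_as (fx V R) (fx V A)
    have h2 : fx V R ⊓ fx V A = fx V H := le_antisymm (fun x hx => hd.V0F x hx.1 hx.2) (le_inf hd.CV hd.CF)
    rw [h2, hd.cV] at h1
    apply Nat.eq_of_mul_eq_mul_right (Nat.card_pos (α := fx V H))
    rw [h1]; ring
  have hpre : ∀ w : V, w ∉ Ee V A → Nat.card (pre A w (fx V R ⊔ fx V A)) = c := by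
    intro w hw
    have h1 := card_pre hd.mem hd.two hw (D := fx V R ⊔ fx V A) le_sup_right (sup_le hd.V0E hd.mem.FE)
    rw [hVF] at h1
    exact Nat.eq_of_mul_eq_mul_right (Nat.card_pos (α := fx V A)) h1
  have hpresub : ∀ w : V, w ∉ Ee V A → pre A w (fx V R ⊔ fx V A) ⊆ (A ⊓ QQ H R : Subgroup Y) := by
    rintro w hw s ⟨hs, hsD⟩
    obtain ⟨v, hv, f, hf, he⟩ := AddSubgroup.mem_sup.1 hsD
    refine ⟨hs, hd.s_mem hw hv hs ?_⟩
    rw [← he]
    have e1 : v + f + v = (v + v) + f := by abel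
    rw [e1, hd.two, zero_add]; exact hf
  have hcB : Nat.card ↥(A ⊓ QQ H R) = c := by
    apply le_antisymm hle
    obtain ⟨w, hw⟩ := hd.mem.ne
    rw [← hpre w hw]
    exact Nat.card_mono (Set.toFinite _) (hpresub w hw)
  refine ⟨hcap, hinf, hcB, ?_, ?_, ?_, hc2⟩
  · rw [hd.cA, hcB]
  · intro r hr
    apply exists_mul_of_card (B := A ⊓ QQ H R) hd.Q'R (inf_le_right.trans hd.QR) hd.cR' _ hr
    rw [hinf, Subgroup.card_bot, mul_one, hcB]
  · intro w hw s
    have h1 : pre A w (fx V R ⊔ fx V A) = (A ⊓ QQ H R : Subgroup Y) := by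
      apply Set.eq_of_subset_of_ncard_le (hpresub w hw) _ (Set.toFinite _)
      change Nat.card ↥(A ⊓ QQ H R) ≤ Nat.card (pre A w (fx V R ⊔ fx V A))
      rw [hpre w hw, hcB]
    have h2 : s ∈ pre A w (fx V R ⊔ fx V A) ↔ s ∈ (A ⊓ QQ H R : Subgroup Y) := by rw [h1]; rfl
    exact h2.symm

end One

end Cfsg.Agent.Omega.NO1.TH

end

section


/-!
# N1, one component: the world is inherited by subgroups (bb OMEGA 20114, helper620; 20994, helper406)

Case (A) of the amalgam: a member `B ≤ R = T_H` with `W ≰ E_B`.  Then `O₂(H) = 1` (LEMMA Q, `LemQ.lean`) and all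
fields of `World` hold for `H`, the class `cl B` of the `H`-conjugates of `B`, `R ∈ Syl₂(H)`, `H ∩ M`, the same `V`.
-/

set_option autoImplicit false
set_option linter.unusedSectionVars false

namespace Cfsg.Agent.Omega.NO1.TH

open Subgroup Cfsg.Agent.Omega.NO1.AB
open scoped Pointwise

universe u

section sub

variable {Y : Type u} [Group Y] {V : Type u} [AddCommGroup V] [DistribMulAction Y V] {H : Subgroup Y}

/-! ### subgroups of `H` as subgroups of `Y` -/

theorem Ee_map (B : Subgroup H) : Ee V (B.map H.subtype) = Ee V B := by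
  ext v
  constructor
  · intro h b hb
    have h1 := h b ⟨b, hb, rfl⟩
    rw [fx_map] at h1
    exact h1
  · rintro h _ ⟨b, hb, rfl⟩
    rw [fx_map]
    exact h b hb

theorem Ee_subgroupOf {B : Subgroup Y} (hBH : B ≤ H) : Ee V (B.subgroupOf H) = Ee V B := by
  rw [← Ee_map, map_subgroupOf_eq_of_le hBH]

theorem card_map_sub (B : Subgroup H) : Nat.card ↥(B.map H.subtype) = Nat.card B :=
  (Nat.card_congr (B.equivMapOfInjective _ H.subtype_injective).toEquiv).symm

theorem conj_map (h : H) (B : Subgroup H) :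
    (MulAut.conj h • B).map H.subtype = MulAut.conj (h : Y) • B.map H.subtype := by
  ext y
  rw [mem_conj]
  constructor
  · rintro ⟨b, hb, rfl⟩
    rw [SetLike.mem_coe, mem_conj] at hb
    exact ⟨_, hb, rfl⟩
  · rintro ⟨b, hb, hby⟩
    refine ⟨h * b * h⁻¹, conj_mem_conj hb, ?_⟩
    change (h : Y) * b * (h : Y)⁻¹ = y
    have hby' : (b : Y) = (h : Y)⁻¹ * y * h := hby
    rw [hby']
    group

theorem mem_of_map {B : Subgroup H} {E F : AddSubgroup V} (h : Mem (B.map H.subtype) E F) : Mem B E F where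
  comm := fun b hb c hc => Subtype.ext (h.comm b ⟨b, hb, rfl⟩ c ⟨c, hc, rfl⟩)
  sq := fun b hb => Subtype.ext (h.sq b ⟨b, hb, rfl⟩)
  FE := h.FE
  VB := fun b hb => h.VB b ⟨b, hb, rfl⟩
  EB := fun b hb => h.EB b ⟨b, hb, rfl⟩
  FB := fun b hb => h.FB b ⟨b, hb, rfl⟩
  CB := fun v hv => h.CB v (by
    rintro _ ⟨b, hb, rfl⟩
    exact hv b hb)
  inj := fun w hw b hb hbw => Subtype.ext (h.inj w hw b ⟨b, hb, rfl⟩ hbw)
  surj := fun w hw e he => by
    obtain ⟨_, ⟨b, hb, rfl⟩, h1⟩ := h.surj w hw e he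
    exact ⟨b, hb, h1⟩
  ne := h.ne

/-- the class of `B` in `H` -/
def cl (B : Subgroup H) : Set (Subgroup H) := {C | ∃ h : H, C = MulAut.conj h • B}

theorem self_mem_cl (B : Subgroup H) : B ∈ cl B := ⟨1, by rw [map_one, one_smul]⟩

theorem cl_map {U : Set (Subgroup Y)} (hc : Cls V U) {B : Subgroup H} (hB : B.map H.subtype ∈ U) {C : Subgroup H}
    (hC : C ∈ cl B) : C.map H.subtype ∈ U := by
  obtain ⟨h, rfl⟩ := hC
  rw [conj_map]
  exact hc.conj _ hB _

/-- the class is a class of members -/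
theorem cls_sub {U : Set (Subgroup Y)} (hc : Cls V U) {B : Subgroup H} (hB : B.map H.subtype ∈ U) :
    Cls V (cl B) where
  two := hc.two
  mem := fun C hC => by
    have h1 := hc.mem _ (cl_map hc hB hC)
    rw [Ee_map, fx_map] at h1
    exact mem_of_map h1
  mu := fun C hC A₀ hA₀ => by
    have h1 := hc.mu _ (cl_map hc hB hC) (A₀.map H.subtype) (map_mono hA₀)
    rw [card_map_sub, fx_map, Ee_map] at h1
    exact h1
  conj := by
    rintro _ ⟨h, rfl⟩ y
    exact ⟨y * h, by rw [conj_smul_smul]⟩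
  eq := by
    rintro _ ⟨h, rfl⟩ _ ⟨k, rfl⟩
    refine ⟨k * h⁻¹, ?_⟩
    rw [conj_smul_smul]
    congr 2
    group

/-- SOC is inherited -/
theorem soc_sub {U : Set (Subgroup Y)} (hc : Cls V U)
    (soc : ∀ B ∈ U, ∀ X : Subgroup Y, B ≤ X → (∃ v : V, v ≠ 0 ∧ ∀ x ∈ X, x • v = v) → B ⊓ ZN.o2 X ≠ ⊥)
    {B : Subgroup H} (hB : B.map H.subtype ∈ U) {C : Subgroup H} (hC : C ∈ cl B) (X : Subgroup H) (hCX : C ≤ X)
    (hX : ∃ v : V, v ≠ 0 ∧ ∀ x ∈ X, x • v = v) : C ⊓ ZN.o2 X ≠ ⊥ := by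
  obtain ⟨v, hv0, hv⟩ := hX
  intro h1
  apply soc _ (cl_map hc hB hC) (X.map H.subtype) (map_mono hCX) ⟨v, hv0, by
    rintro _ ⟨x, hx, rfl⟩
    exact hv x hx⟩
  rw [ZN.o2_map H.subtype H.subtype_injective, ← Subgroup.map_inf _ _ _ H.subtype_injective, h1, Subgroup.map_bot]

/-- lines are inherited -/
theorem Line.sub {B : Subgroup H} {x : V} {A₁ : Subgroup Y} (h : Line V (B.map H.subtype) x A₁) :
    Line V B x (A₁.subgroupOf H) := by
  have hA : A₁ ≤ H := h.le.trans (map_subtype_le B)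
  have hm : (A₁.subgroupOf H).map H.subtype = A₁ := map_subgroupOf_eq_of_le hA
  have hcard : Nat.card (A₁.subgroupOf H) = Nat.card A₁ := by
    rw [← card_map_sub, hm]
  refine ⟨?_, ?_, fun s hs => h.fix s hs, fun s hs r hr => h.quad s hs r hr, fun E' h1 h2 b hb => ?_⟩
  · intro s hs
    obtain ⟨b, hb, hbs⟩ := h.le (show (s : Y) ∈ A₁ from hs)
    have : b = s := Subtype.ext hbs
    rwa [← this]
  · rw [hcard]
    have := h.card
    rwa [Ee_map] at this
  · rw [hcard] at h2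
    exact h.tr E' (fun s hs v hv => h1 ⟨s, hA hs⟩ hs v hv) h2 b ⟨b, hb, rfl⟩

end sub

section world

variable {Y : Type u} [Group Y] {V : Type u} [AddCommGroup V] [DistribMulAction Y V] {U : Set (Subgroup Y)}
  {T : Sylow 2 Y} {M H R : Subgroup Y} {t : Y} {q : ℕ}

/-- `a² ≤ |B|`, `2 ≤ a` : `|V : E_B| < |B|` -/
theorem World.lt (w : World V U T M q) {B : Subgroup Y} (hB : B ∈ U) : (Ee V B).index < Nat.card B := by
  rw [w.ind B hB]
  have h1 := w.pf B hB
  have h2 := w.two_le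
  nlinarith

/-- **(q3)**: in case (A) no `H`-submodule `≠ 0` lies in `E_B` -/
theorem Amal.irr_sub [Finite Y] [Finite V] (a : Amal U T M H R t) (h : Amb V U T M)
    (soc : ∀ B ∈ U, ∀ X : Subgroup Y, B ≤ X → (∃ v : V, v ≠ 0 ∧ ∀ x ∈ X, x • v = v) → B ⊓ ZN.o2 X ≠ ⊥)
    {B : Subgroup Y} (hB : B ∈ U) (hBR : B ≤ R) (hlt : (Ee V B).index < Nat.card B)
    (hW : ¬ WW V H R ≤ Ee V B) {W : AddSubgroup V} (hWi : ∀ x : H, ∀ w ∈ W, x • w ∈ W) {C : Subgroup H}
    (hC : C ∈ cl (B.subgroupOf H)) (hWC : W ≤ Ee V C) : W = ⊥ := by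
  obtain ⟨P, _, hl, hW'⟩ := a.exists_lq h soc hB hBR hlt hW
  by_contra hne
  have h1 := hl.le_of_ne (hl.inf_core hW') (A := W) (fun x _ w hw => hWi x w hw) hne
  apply hl.VO_not_le hW'
  refine h1.trans ?_
  obtain ⟨x, rfl⟩ := hC
  rw [Ee_conj, Ee_subgroupOf (hBR.trans a.RH)] at hWC
  intro w hw
  have h2 := hWC (hWi x w hw)
  rw [mem_smul_as, inv_smul_smul] at h2
  exact h2

end world

end Cfsg.Agent.Omega.NO1.TH

end

section


/-!
# N1, BETA, the amalgam `(H, H^t)`: (L1) (bb OMEGA 21480, helper411), part 1: `t`-transport, factors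
-/

set_option autoImplicit false
set_option linter.unusedSectionVars false

namespace Cfsg.Agent.Omega.NO1.TH

open Subgroup Cfsg.Agent.Omega.NO1.AB
open scoped Pointwise

universe u

variable {Y : Type u} [Group Y] {V : Type u} [AddCommGroup V] [DistribMulAction Y V]

/-- the fixer of a subgroup of `V` -/
def fxr (S : AddSubgroup V) : Subgroup Y where
  carrier := {y | ∀ v ∈ S, y • v = v}
  one_mem' := fun v _ => one_smul Y v
  mul_mem' := fun {a b} ha hb v hv => by rw [mul_smul, hb v hv, ha v hv]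
  inv_mem' := fun {a} ha v hv => by rw [inv_smul_eq_iff, ha v hv]

theorem mem_brk {W : AddSubgroup V} {P : Subgroup Y} {w : V} (hw : w ∈ W) {p : Y} (hp : p ∈ P) :
    p • w + w ∈ brk W P := AddSubgroup.subset_closure ⟨w, hw, p, hp, rfl⟩

theorem brk_le {W X : AddSubgroup V} {P : Subgroup Y} (h : ∀ w ∈ W, ∀ p ∈ P, p • w + w ∈ X) : brk W P ≤ X := by
  refine (AddSubgroup.closure_le _).2 ?_
  rintro _ ⟨w, hw, p, hp, rfl⟩
  exact h w hw p hp

theorem smul_brk {W W' : AddSubgroup V} {P P' : Subgroup Y} {g : Y} (hW : ∀ w ∈ W, g • w ∈ W')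
    (hP : ∀ p ∈ P, g * p * g⁻¹ ∈ P') {v : V} (hv : v ∈ brk W P) : g • v ∈ brk W' P' := by
  induction hv using AddSubgroup.closure_induction with
  | mem v hv =>
    obtain ⟨w, hw, p, hp, rfl⟩ := hv
    have e : g • (p • w + w) = (g * p * g⁻¹) • (g • w) + g • w := by
      rw [smul_add, mul_smul, mul_smul, inv_smul_smul]
    rw [e]
    exact mem_brk (hW w hw) (hP p hp)
  | zero => rw [smul_zero]; exact zero_mem _
  | add a b _ _ h1 h2 => rw [smul_add]; exact add_mem h1 h2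
  | neg a _ h1 => rw [smul_neg]; exact neg_mem h1

theorem smul_conj (g q : Y) (v : V) : q • g • v = g • (g⁻¹ * q * g) • v := by
  rw [← mul_smul, ← mul_smul]; congr 1; group

/-- `C_Q(W + C_{W'}(J))` -/
def QS (V : Type u) [AddCommGroup V] [DistribMulAction Y V] (U : Set (Subgroup Y)) (H H' R : Subgroup Y) :
    Subgroup Y where
  carrier := {q | q ∈ QQ H R ∧ (∀ x ∈ WW V H R, q • x = x) ∧ ∀ x ∈ WJ V U H' R, q • x = x}
  one_mem' := ⟨one_mem _, fun v _ => one_smul Y v, fun v _ => one_smul Y v⟩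
  mul_mem' := fun {a b} ha hb => ⟨mul_mem ha.1 hb.1, fun v hv => by rw [mul_smul, hb.2.1 v hv, ha.2.1 v hv],
    fun v hv => by rw [mul_smul, hb.2.2 v hv, ha.2.2 v hv]⟩
  inv_mem' := fun {a} ha => ⟨inv_mem ha.1, fun v hv => by rw [inv_smul_eq_iff, ha.2.1 v hv],
    fun v hv => by rw [inv_smul_eq_iff, ha.2.2 v hv]⟩

/-- `C_Q(⟨W'^H⟩)` -/
def QSS (V : Type u) [AddCommGroup V] [DistribMulAction Y V] (H H' R : Subgroup Y) : Subgroup Y where
  carrier := {q | q ∈ QQ H R ∧ ∀ g ∈ H, ∀ w ∈ WW V H' R, q • g • w = g • w}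
  one_mem' := ⟨one_mem _, fun g _ v _ => one_smul Y _⟩
  mul_mem' := fun {a b} ha hb => ⟨mul_mem ha.1 hb.1, fun g hg v hv => by
    rw [mul_smul, hb.2 g hg v hv, ha.2 g hg v hv]⟩
  inv_mem' := fun {a} ha => ⟨inv_mem ha.1, fun g hg v hv => by rw [inv_smul_eq_iff, ha.2 g hg v hv]⟩

theorem conj_QSS {H H' R : Subgroup Y} {x q : Y} (hx : x ∈ H) (hq : q ∈ QSS V H H' R) :
    x * q * x⁻¹ ∈ QSS V H H' R := by
  refine ⟨conj_mem_QQ hx hq.1, fun g hg w hw => ?_⟩
  rw [← mul_smul]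
  have e : x * q * x⁻¹ * g = x * (q * (x⁻¹ * g)) := by group
  rw [e, mul_smul, mul_smul, hq.2 _ (H.mul_mem (H.inv_mem hx) hg) w hw, ← mul_smul]
  congr 1
  group

/-! ### factors -/

namespace LFac

variable {U : Set (Subgroup Y)} {H R : Subgroup Y} {ι : Type} {P : ι → Subgroup Y} {Ψ : ι → AddSubgroup V}
  (f : LFac V U H R P Ψ) (two : ∀ v : V, v + v = 0)
include f two

/-- the group generated by the `P p` acts on `Ψ p` as `P p` -/
theorem proj {q : Y} (hq : q ∈ ⨆ p, P p) (p : ι) : ∃ r ∈ P p, ∀ x ∈ Ψ p, q • x = r • x := by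
  let K : Subgroup Y :=
    { carrier := {q | (∀ x ∈ WJ V U H R, q • x = x) ∧ ∃ r ∈ P p, ∀ x ∈ Ψ p, q • x = r • x}
      one_mem' := ⟨fun x _ => one_smul Y x, 1, one_mem _, fun x _ => rfl⟩
      mul_mem' := by
        rintro b c ⟨hb1, r, hr, hb2⟩ ⟨hc1, s, hs, hc2⟩
        refine ⟨fun x hx => by rw [mul_smul, hc1 x hx, hb1 x hx], r * s, mul_mem hr hs, fun x hx => ?_⟩
        have h1 : s • x = (s • x + x) + x := by rw [add_assoc, two, add_zero]
        have h2 : ∀ y : Y, y • s • x = y • (s • x + x) + y • x := fun y => by rw [← smul_add, ← h1]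
        rw [mul_smul, mul_smul, hc2 x hx, h2, h2, hb1 _ (f.quad p s hs x hx),
          f.fixJ p r hr _ (f.quad p s hs x hx), hb2 x hx]
      inv_mem' := by
        rintro b ⟨hb1, r, hr, hb2⟩
        refine ⟨fun x hx => by rw [inv_smul_eq_iff, hb1 x hx], r⁻¹, inv_mem hr, fun x hx => ?_⟩
        have h1 := f.quad p r hr x hx
        have h2 : b⁻¹ • (r • x + x) = r • x + x := by rw [inv_smul_eq_iff, hb1 _ h1]
        have h3 : r⁻¹ • (r • x + x) = r • x + x := by rw [inv_smul_eq_iff, f.fixJ p r hr _ h1]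
        rw [smul_add, ← hb2 x hx, inv_smul_smul, hb2 x hx, add_comm] at h2
        rw [smul_add, inv_smul_smul, add_comm] at h3
        exact add_right_cancel (h2.trans h3.symm) }
  have hK : (⨆ p, P p) ≤ K := by
    apply iSup_le
    intro p' r hr
    refine ⟨f.fixJ p' r hr, ?_⟩
    by_cases hp : p' = p
    · subst hp
      exact ⟨r, hr, fun x _ => rfl⟩
    · exact ⟨1, one_mem _, fun x hx => by rw [f.orth p' p hp r hr x hx, one_smul]⟩
  exact (hK hq).2

omit two in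
theorem fix {q : Y} (hq : q ∈ ⨆ p, P p) {x : V} (hx : x ∈ WJ V U H R) : q • x = x := by
  have hK : (⨆ p, P p) ≤ fxr (WJ V U H R) := iSup_le fun p r hr => f.fixJ p r hr
  exact hK hq x hx

/-- `[W, ⟨P p⟩] ≤ C_W(J)` -/
theorem comm {q : Y} (hq : q ∈ ⨆ p, P p) {w : V} (hw : w ∈ WW V H R) : q • w + w ∈ WJ V U H R := by
  let D : AddSubgroup V :=
    { carrier := {w | q • w + w ∈ WJ V U H R}
      zero_mem' := by
        change q • (0 : V) + 0 ∈ WJ V U H R
        rw [smul_zero, add_zero]; exact zero_mem _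
      add_mem' := fun {v w} hv hw => by
        change q • (v + w) + (v + w) ∈ WJ V U H R
        have e : q • (v + w) + (v + w) = (q • v + v) + (q • w + w) := by rw [smul_add]; abel
        rw [e]; exact add_mem hv hw
      neg_mem' := fun {v} hv => by
        change q • (-v) + (-v) ∈ WJ V U H R
        rw [smul_neg, ← neg_add]; exact neg_mem hv }
  have h1 : WJ V U H R ⊔ ⨆ p, Ψ p ≤ D := by
    refine sup_le (fun x hx => ?_) (iSup_le fun p x hx => ?_)
    · change q • x + x ∈ WJ V U H R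
      rw [f.fix hq hx, two]; exact zero_mem _
    · change q • x + x ∈ WJ V U H R
      obtain ⟨r, hr, h2⟩ := f.proj two hq p
      rw [h2 x hx]
      exact f.quad p r hr x hx
  exact h1 (f.sup hw)

theorem mem_brk_of {q : Y} (hq : q ∈ ⨆ p, P p) {p : ι} {x : V} (hx : x ∈ Ψ p) : q • x + x ∈ brk (Ψ p) (P p) := by
  obtain ⟨r, hr, h2⟩ := f.proj two hq p
  rw [h2 x hx]
  exact mem_brk hx hr

end LFac

/-! ### transport by `t` -/

/-- members `≤ R` -/
theorem fix_of_conj {U : Set (Subgroup Y)} (hc : Cls V U) {R R' : Subgroup Y} {x : Y}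
    (hx : ∀ r ∈ R, x⁻¹ * r * x ∈ R') {v : V} (hv : ∀ B ∈ U, B ≤ R' → ∀ b ∈ B, b • v = v) :
    ∀ B ∈ U, B ≤ R → ∀ b ∈ B, b • x • v = x • v := by
  intro B hB hBR b hb
  rw [smul_conj, hv (MulAut.conj x⁻¹ • B) (hc.conj B hB _) ?_ (x⁻¹ * b * x)]
  · rw [mem_conj]
    have e : (x⁻¹)⁻¹ * (x⁻¹ * b * x) * x⁻¹ = b := by group
    rwa [e]
  · intro y hy
    rw [mem_conj] at hy
    have h1 := hx _ (hBR hy)
    have e : x⁻¹ * ((x⁻¹)⁻¹ * y * x⁻¹) * x = y := by group
    rwa [e] at h1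

namespace Amal

variable {U : Set (Subgroup Y)} {T : Sylow 2 Y} {M H R : Subgroup Y} {t : Y}

section one

variable (a : Amal U T M H R t)
include a

theorem RH' : R ≤ MulAut.conj t • H := fun r hr => by
  rw [mem_conj]; exact a.RH (a.symm_smul hr)

omit a in
theorem t_mem {x : Y} (hx : x ∈ H) : t * x * t⁻¹ ∈ MulAut.conj t • H := conj_mem_conj hx

omit a in
theorem t_mem' {x : Y} (hx : x ∈ MulAut.conj t • H) : t⁻¹ * x * t ∈ H := by rwa [mem_conj] at hx

theorem t_mem2 {x : Y} (hx : x ∈ MulAut.conj t • H) : t * x * t⁻¹ ∈ H := by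
  have h1 := H.mul_mem (H.mul_mem (a.RH a.t_sq) (t_mem' hx)) (H.inv_mem (a.RH a.t_sq))
  have e : t * t * (t⁻¹ * x * t) * (t * t)⁻¹ = t * x * t⁻¹ := by group
  rwa [e] at h1

/-- `t W = W'` -/
theorem smul_W {w : V} (hw : w ∈ WW V H R) : t • w ∈ WW V (MulAut.conj t • H) R := by
  induction hw using AddSubgroup.closure_induction with
  | mem v hv =>
    obtain ⟨x, hx, w, hw, rfl⟩ := hv
    have e : t • x • w = (t * x * t⁻¹) • t • w := by
      rw [← mul_smul, ← mul_smul]; congr 1; group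
    rw [e]
    exact smul_mem_WW (t_mem hx) (fx_le_WW (a.smul_V0 hw))
  | zero => rw [smul_zero]; exact zero_mem _
  | add b c _ _ h1 h2 => rw [smul_add]; exact add_mem h1 h2
  | neg b _ h1 => rw [smul_neg]; exact neg_mem h1

theorem smul_W' {w : V} (hw : w ∈ WW V (MulAut.conj t • H) R) : t • w ∈ WW V H R := by
  induction hw using AddSubgroup.closure_induction with
  | mem v hv =>
    obtain ⟨x, hx, w, hw, rfl⟩ := hv
    have e : t • x • w = (t * x * t⁻¹) • t • w := by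
      rw [← mul_smul, ← mul_smul]; congr 1; group
    rw [e]
    exact smul_mem_WW (a.t_mem2 hx) (fx_le_WW (a.smul_V0 hw))
  | zero => rw [smul_zero]; exact zero_mem _
  | add b c _ _ h1 h2 => rw [smul_add]; exact add_mem h1 h2
  | neg b _ h1 => rw [smul_neg]; exact neg_mem h1

theorem inv_smul_W {w : V} (hw : w ∈ WW V H R) : t⁻¹ • w ∈ WW V (MulAut.conj t • H) R := by
  have e : t⁻¹ • w = t • (t * t)⁻¹ • w := by
    rw [← mul_smul]; congr 1; group
  rw [e]
  exact a.smul_W (smul_mem_WW (H.inv_mem (a.RH a.t_sq)) hw)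

theorem inv_smul_W' {w : V} (hw : w ∈ WW V (MulAut.conj t • H) R) : t⁻¹ • w ∈ WW V H R := by
  have e : t⁻¹ • w = t • (t * t)⁻¹ • w := by
    rw [← mul_smul]; congr 1; group
  rw [e]
  exact a.smul_W' (smul_mem_WW (inv_mem (a.RH' a.t_sq)) hw)

theorem t_QQ {q : Y} (hq : q ∈ QQ H R) : t * q * t⁻¹ ∈ QQ (MulAut.conj t • H) R := by
  intro x hx
  have h1 := a.t_norm _ (hq _ (t_mem' hx))
  have e : t * (t⁻¹ * x * t * q * (t⁻¹ * x * t)⁻¹) * t⁻¹ = x * (t * q * t⁻¹) * x⁻¹ := by group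
  rwa [e] at h1

theorem t_QQ' {q : Y} (hq : q ∈ QQ (MulAut.conj t • H) R) : t⁻¹ * q * t ∈ QQ H R := by
  intro x hx
  have h1 := a.symm_smul (hq _ (t_mem hx))
  have e : t⁻¹ * (t * x * t⁻¹ * q * (t * x * t⁻¹)⁻¹) * t = x * (t⁻¹ * q * t) * x⁻¹ := by group
  rwa [e] at h1

theorem t_QQ2 {q : Y} (hq : q ∈ QQ (MulAut.conj t • H) R) : t * q * t⁻¹ ∈ QQ H R := by
  have h1 := conj_mem_QQ (a.RH a.t_sq) (a.t_QQ' hq)
  have e : t * t * (t⁻¹ * q * t) * (t * t)⁻¹ = t * q * t⁻¹ := by group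
  rwa [e] at h1

end one

section amb

variable (a : Amal U T M H R t) (h : Amb V U T M)
include a h

theorem QQ_fix' {q : Y} (hq : q ∈ QQ (MulAut.conj t • H) R) {w : V} (hw : w ∈ WW V (MulAut.conj t • H) R) :
    q • w = w := by
  have h1 := QQ_fix a h (a.t_QQ' hq) (a.inv_smul_W' hw)
  rw [mul_smul, mul_smul, smul_inv_smul] at h1
  exact smul_left_cancel t⁻¹ h1

theorem mem_QQ' [Finite Y] [Finite V] {r : Y} (hr : r ∈ R) (h1 : ∀ w ∈ WW V (MulAut.conj t • H) R, r • w = w) :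
    r ∈ QQ (MulAut.conj t • H) R := by
  have h2 : t⁻¹ * r * t ∈ QQ H R := by
    rw [mem_QQ_iff a h (a.symm_smul hr)]
    intro w hw
    rw [mul_smul, mul_smul, h1 _ (a.smul_W hw), inv_smul_smul]
  have h3 := a.t_QQ h2
  have e : t * (t⁻¹ * r * t) * t⁻¹ = r := by group
  rwa [e] at h3

theorem WJ_inv' {r : Y} (hr : r ∈ R) {w : V} (hw : w ∈ WJ V U (MulAut.conj t • H) R) :
    r • w ∈ WJ V U (MulAut.conj t • H) R :=
  ⟨smul_mem_WW (a.RH' hr) hw.1, fix_of_conj h.cls
    (fun s hs => R.mul_mem (R.mul_mem (R.inv_mem hr) hs) hr) hw.2⟩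

theorem t_WJ' {w : V} (hw : w ∈ WJ V U (MulAut.conj t • H) R) : t • w ∈ WJ V U H R :=
  ⟨a.smul_W' hw.1, fix_of_conj h.cls (fun _ hs => a.symm_smul hs) hw.2⟩

theorem t_WJi {w : V} (hw : w ∈ WJ V U H R) : t⁻¹ • w ∈ WJ V U (MulAut.conj t • H) R :=
  ⟨a.inv_smul_W hw.1, fix_of_conj h.cls (fun _ hs => by rw [inv_inv]; exact a.t_norm _ hs) hw.2⟩

theorem D0_inv {x : Y} (hx : x ∈ H) {w : V} (hw : w ∈ D0 V U H R) : x • w ∈ D0 V U H R :=
  ⟨smul_mem_WW hx hw.1, fix_of_conj h.cls (fun s hs => H.mul_mem (H.mul_mem (H.inv_mem hx) hs) hx) hw.2⟩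

/-- `t` and `Q_*` -/
theorem t_QS {q : Y} (hq : q ∈ QS V U H (MulAut.conj t • H) R) : t * q * t⁻¹ ∈ QS V U (MulAut.conj t • H) H R := by
  refine ⟨a.t_QQ hq.1, fun w hw => ?_, fun w hw => ?_⟩
  · rw [mul_smul, mul_smul, hq.2.1 _ (a.inv_smul_W' hw), smul_inv_smul]
  · rw [mul_smul, mul_smul, hq.2.2 _ (t_WJi a h hw), smul_inv_smul]

theorem ti_QS' {q : Y} (hq : q ∈ QS V U (MulAut.conj t • H) H R) :
    t⁻¹ * q * t ∈ QS V U H (MulAut.conj t • H) R := by
  refine ⟨a.t_QQ' hq.1, fun w hw => ?_, fun w hw => ?_⟩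
  · rw [mul_smul, mul_smul, hq.2.1 _ (a.smul_W hw), inv_smul_smul]
  · rw [mul_smul, mul_smul, hq.2.2 _ (t_WJ' a h hw), inv_smul_smul]

/-- a subgroup of `V` which is invariant under `R` and a member `≤ H` outside `M` -/
theorem Hinv {A : Subgroup Y} (hAH : A ≤ H) (hAM : ¬ A ≤ M) {W : AddSubgroup V} (h1 : Nm R W) (h2 : Nm A W) :
    Nm H W := by
  have h3 := h1.sup h2
  rwa [a.gen hAH hAM] at h3

end amb

end Amal

end Cfsg.Agent.Omega.NO1.TH

end

section


/-!
# N1, BETA, the amalgam `(H, H^t)`: (L1) (bb OMEGA 21480, helper411), part 2: the theorem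
-/

set_option autoImplicit false
set_option linter.unusedSectionVars false

namespace Cfsg.Agent.Omega.NO1.TH

open Subgroup Cfsg.Agent.Omega.NO1.AB
open scoped Pointwise

universe u

variable {Y : Type u} [Group Y] {V : Type u} [AddCommGroup V] [DistribMulAction Y V]

namespace LOne

variable {U : Set (Subgroup Y)} {T : Sylow 2 Y} {M H R : Subgroup Y} {t : Y} {ι : Type} {P : ι → Subgroup Y}
  {Ψ : ι → AddSubgroup V} {ι' : Type} {P' : ι' → Subgroup Y} {Ψ' : ι' → AddSubgroup V} {A : Subgroup Y}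
  (a : Amal U T M H R t) (h : Amb V U T M) (i : LIn V U M H R t P Ψ P' Ψ' A)
include a h i

/-! ### (1) -/

/-- `B₁` centralises `C_{W'}(J)` -/
theorem B_fix {b : Y} (hb : b ∈ A) (hbQ : b ∈ QQ H R) {x : V} (hx : x ∈ WJ V U (MulAut.conj t • H) R) :
    b • x = x := by
  obtain ⟨Δ, _, h1, _⟩ := i.exact
  refine i.fac'.fix ?_ hx
  exact (iSup₂_le fun p _ => le_iSup P' p) (h1 b hb hbQ)

/-- `A`-invariance from `v = w + f`, `w` centralised by the normal subgroup -/
theorem A_inv_aux {v : V} (hv : v ∈ WW V H R ⊔ fx V A) {u : Y} (hu : u ∈ A) : u • v + v ∈ WW V H R := by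
  obtain ⟨w, hw, f, hf, rfl⟩ := AddSubgroup.mem_sup.1 hv
  have e : u • (w + f) + (w + f) = (u • w + w) + (f + f) := by rw [smul_add, hf u hu]; abel
  rw [e, h.two, add_zero]
  exact add_mem (smul_mem_WW (i.AH hu) hw) hw

/-- **(1)**: `W + C_{W'}(J)` is `H`-invariant -/
theorem Wp_inv : Nm H (WW V H R ⊔ WJ V U (MulAut.conj t • H) R) := by
  apply a.Hinv h i.AH i.AM
  · intro r hr v hv
    obtain ⟨w, hw, x, hx, rfl⟩ := AddSubgroup.mem_sup.1 hv
    rw [smul_add]
    exact add_mem (AddSubgroup.mem_sup_left (smul_mem_WW (a.RH hr) hw))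
      (AddSubgroup.mem_sup_right (a.WJ_inv' h hr hx))
  · intro u hu v hv
    obtain ⟨w, hw, x, hx, rfl⟩ := AddSubgroup.mem_sup.1 hv
    rw [smul_add]
    refine add_mem (AddSubgroup.mem_sup_left (smul_mem_WW (i.AH hu) hw)) ?_
    have h1 := A_inv_aux a h i (i.CB x fun b hb hbQ => B_fix a h i hb hbQ hx) hu
    have e : u • x = (u • x + x) + x := by rw [add_assoc, h.two, add_zero]
    rw [e]
    exact add_mem (AddSubgroup.mem_sup_left h1) (AddSubgroup.mem_sup_right hx)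

theorem conj_QS {x q : Y} (hx : x ∈ H) (hq : q ∈ QS V U H (MulAut.conj t • H) R) :
    x * q * x⁻¹ ∈ QS V U H (MulAut.conj t • H) R := by
  have h1 : ∀ v ∈ WW V H R ⊔ WJ V U (MulAut.conj t • H) R, q • v = v := by
    intro v hv
    obtain ⟨w, hw, y, hy, rfl⟩ := AddSubgroup.mem_sup.1 hv
    rw [smul_add, hq.2.1 w hw, hq.2.2 y hy]
  have h2 : ∀ v ∈ WW V H R ⊔ WJ V U (MulAut.conj t • H) R, (x * q * x⁻¹) • v = v := by
    intro v hv
    rw [mul_smul, mul_smul, h1 _ (Wp_inv a h i x⁻¹ (inv_mem hx) v hv), smul_inv_smul]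
  exact ⟨conj_mem_QQ hx hq.1, fun v hv => h2 v (AddSubgroup.mem_sup_left hv),
    fun v hv => h2 v (AddSubgroup.mem_sup_right hv)⟩

theorem conj_QS' {x q : Y} (hx : x ∈ MulAut.conj t • H) (hq : q ∈ QS V U (MulAut.conj t • H) H R) :
    x * q * x⁻¹ ∈ QS V U (MulAut.conj t • H) H R := by
  have h1 := a.t_QS h (conj_QS a h i (Amal.t_mem' hx) (a.ti_QS' h hq))
  have e : t * (t⁻¹ * x * t * (t⁻¹ * q * t) * (t⁻¹ * x * t)⁻¹) * t⁻¹ = x * q * x⁻¹ := by group
  rwa [e] at h1

theorem B_QS {b : Y} (hb : b ∈ A) (hbQ : b ∈ QQ H R) : b ∈ QS V U H (MulAut.conj t • H) R :=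
  ⟨hbQ, fun _ hw => Amal.QQ_fix a h hbQ hw, fun _ hx => B_fix a h i hb hbQ hx⟩

theorem QS_le {q : Y} (hq : q ∈ QS V U H (MulAut.conj t • H) R) : q ∈ ⨆ p, P' p :=
  i.fac'.ofJ q (QQ_le hq.1) hq.2.2

theorem QS_le' {q : Y} (hq : q ∈ QS V U (MulAut.conj t • H) H R) : q ∈ ⨆ p, P p :=
  i.fac.ofJ q (QQ_le hq.1) hq.2.2

/-! ### (2) -/

/-- the decomposition of `W'` -/
theorem dec {w : V} (hw : w ∈ WW V (MulAut.conj t • H) R) :
    ∃ y ∈ WW V (MulAut.conj t • H) R, (∀ b ∈ A, b ∈ QQ H R → b • y = y) ∧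
      ∀ q ∈ ⨆ p, P' p, (q • w + w) + (q • y + y) ∈ fx V A := by
  obtain ⟨Δ, _, h1, h2⟩ := i.exact
  let D : AddSubgroup V :=
    { carrier := {w | ∃ y ∈ WW V (MulAut.conj t • H) R, (∀ b ∈ A, b ∈ QQ H R → b • y = y) ∧
        ∀ q ∈ ⨆ p, P' p, (q • w + w) + (q • y + y) ∈ fx V A}
      zero_mem' := ⟨0, zero_mem _, fun b _ _ => smul_zero b, fun q _ => by
        rw [smul_zero, add_zero, add_zero]; exact zero_mem _⟩
      add_mem' := by
        rintro v w ⟨y, hy1, hy2, hy3⟩ ⟨z, hz1, hz2, hz3⟩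
        refine ⟨y + z, add_mem hy1 hz1, fun b hb hbQ => by rw [smul_add, hy2 b hb hbQ, hz2 b hb hbQ],
          fun q hq => ?_⟩
        have e : q • (v + w) + (v + w) + (q • (y + z) + (y + z)) =
            ((q • v + v) + (q • y + y)) + ((q • w + w) + (q • z + z)) := by
          rw [smul_add, smul_add]; abel
        rw [e]
        exact add_mem (hy3 q hq) (hz3 q hq)
      neg_mem' := by
        rintro v ⟨y, hy1, hy2, hy3⟩
        refine ⟨-y, neg_mem hy1, fun b hb hbQ => by rw [smul_neg, hy2 b hb hbQ], fun q hq => ?_⟩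
        have e : q • (-v) + (-v) + (q • (-y) + (-y)) = -((q • v + v) + (q • y + y)) := by
          rw [smul_neg, smul_neg]; abel
        rw [e]
        exact neg_mem (hy3 q hq) }
  have h3 : WJ V U (MulAut.conj t • H) R ⊔ ⨆ p, Ψ' p ≤ D := by
    refine sup_le (fun x hx => ?_) (iSup_le fun p x hx => ?_)
    · refine ⟨x, hx.1, fun b hb hbQ => B_fix a h i hb hbQ hx, fun q hq => ?_⟩
      rw [h.two]; exact zero_mem _
    · by_cases hp : p ∈ Δ
      · refine ⟨0, zero_mem _, fun b _ _ => smul_zero b, fun q hq => ?_⟩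
        rw [smul_zero, add_zero, add_zero]
        obtain ⟨r, hr, h4⟩ := i.fac'.proj h.two hq p
        obtain ⟨b, hb, hbQ, h5⟩ := h2 p hp r hr
        have h6 : r • x = b • x := by
          have h7 := a.QQ_fix' h h5 (i.fac'.Ψle p hx)
          rw [mul_smul, inv_smul_eq_iff] at h7
          exact h7
        rw [h4 x hx, h6]
        have h8 := i.le₁ 1 (one_mem _) x (i.fac'.Ψle p hx)
        rw [one_smul] at h8
        exact h8 b hb
      · refine ⟨x, i.fac'.Ψle p hx, fun b hb hbQ => ?_, fun q hq => ?_⟩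
        · have h4 : (⨆ p' ∈ Δ, P' p') ≤ fxr (Ψ' p) := iSup₂_le fun p' hp' r hr =>
            i.fac'.orth p' p (fun e => hp (e ▸ hp')) r hr
          exact h4 (h1 b hb hbQ) x hx
        · rw [h.two]; exact zero_mem _
  exact h3 (i.fac'.sup hw)

/-- **(2)**: `I' = [W', Q_*]` is `H`-invariant -/
theorem I_inv : Nm H (brk (WW V (MulAut.conj t • H) R) (QS V U H (MulAut.conj t • H) R)) := by
  apply a.Hinv h i.AH i.AM
  · intro r hr v hv
    exact smul_brk (fun w hw => smul_mem_WW (a.RH' hr) hw) (fun q hq => conj_QS a h i (a.RH hr) hq) hv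
  · intro u hu v hv
    have key : ∀ v, v ∈ brk (WW V (MulAut.conj t • H) R) (QS V U H (MulAut.conj t • H) R) →
        u • v ∈ brk (WW V (MulAut.conj t • H) R) (QS V U H (MulAut.conj t • H) R) := by
      intro v hv
      induction hv using AddSubgroup.closure_induction with
      | mem v hv =>
        obtain ⟨w, hw, q, hq, rfl⟩ := hv
        obtain ⟨y, hy, h1, h2⟩ := dec a h i hw
        have h3 := h2 q (QS_le a h i hq) u hu
        obtain ⟨w₁, hw₁, f, hf, hyf⟩ := AddSubgroup.mem_sup.1 (i.CB y h1)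
        -- `q y + y = q f + f`
        have h4 : ∀ q' : Y, q' ∈ QS V U H (MulAut.conj t • H) R → q' • y + y = q' • f + f := by
          intro q' hq'
          rw [← hyf, smul_add, hq'.2.1 w₁ hw₁]
          have e : w₁ + q' • f + (w₁ + f) = (w₁ + w₁) + (q' • f + f) := by abel
          rw [e, h.two, zero_add]
        have h5 : u • (q • y + y) = (u * q * u⁻¹) • y + y := by
          rw [h4 q hq, h4 _ (conj_QS a h i (i.AH hu) hq), smul_add, mul_smul, mul_smul]
          have h6 : u⁻¹ • f = f := by rw [inv_smul_eq_iff, hf u hu]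
          rw [h6, hf u hu]
        rw [smul_add, h5] at h3
        have h7 : u • (q • w + w) = ((q • w + w) + (q • y + y)) + ((u * q * u⁻¹) • y + y) := by
          rw [← h3, add_assoc, h.two, add_zero]
        rw [h7]
        exact add_mem (add_mem (mem_brk hw hq) (mem_brk hy hq))
          (mem_brk hy (conj_QS a h i (i.AH hu) hq))
      | zero => rw [smul_zero]; exact zero_mem _
      | add b c _ _ h1 h2 => rw [smul_add]; exact add_mem h1 h2
      | neg b _ h1 => rw [smul_neg]; exact neg_mem h1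
    exact key v hv

theorem I_le : brk (WW V (MulAut.conj t • H) R) (QS V U H (MulAut.conj t • H) R) ≤ WJ V U (MulAut.conj t • H) R :=
  brk_le fun _ hw _ hq => i.fac'.comm h.two (QS_le a h i hq) hw

/-- **(2)**: the members `≤ H` centralise `I'` -/
theorem I_fix [Finite Y] {z : V} (hz : z ∈ brk (WW V (MulAut.conj t • H) R) (QS V U H (MulAut.conj t • H) R)) :
    ∀ B ∈ U, B ≤ H → ∀ b ∈ B, b • z = z := by
  intro B hB hBH b hb
  obtain ⟨x, hx, hxB⟩ := conj_into a.RH a.R2 (fun R' h1 h2 => a.le_card H a.bad R' h1 h2) hBH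
    (h.cls.mem B hB).isPGroup
  have h1 := (I_le a h i (I_inv a h i x hx z hz)).2 _ (h.cls.conj B hB x) hxB _ (conj_mem_conj hb)
  rw [mul_smul, mul_smul, inv_smul_smul] at h1
  exact smul_left_cancel x h1

/-! ### `I = t I'` -/

theorem t_I {z : V} (hz : z ∈ brk (WW V H R) (QS V U (MulAut.conj t • H) H R)) :
    t⁻¹ • z ∈ brk (WW V (MulAut.conj t • H) R) (QS V U H (MulAut.conj t • H) R) :=
  smul_brk (fun _ hw => a.inv_smul_W hw) (fun _ hq => by rw [inv_inv]; exact a.ti_QS' h hq) hz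

theorem t_I' {z : V} (hz : z ∈ brk (WW V (MulAut.conj t • H) R) (QS V U H (MulAut.conj t • H) R)) :
    t • z ∈ brk (WW V H R) (QS V U (MulAut.conj t • H) H R) :=
  smul_brk (fun _ hw => a.smul_W' hw) (fun q hq => a.t_QS h hq) hz

theorem J_inv : Nm (MulAut.conj t • H) (brk (WW V H R) (QS V U (MulAut.conj t • H) H R)) := by
  intro x hx z hz
  have h1 := t_I' a h i (I_inv a h i _ (Amal.t_mem' hx) _ (t_I a h i hz))
  rw [← mul_smul, ← mul_smul] at h1
  have e : t * (t⁻¹ * x * t) * t⁻¹ = x := by group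
  rwa [e] at h1

theorem J_fix [Finite Y] {z : V} (hz : z ∈ brk (WW V H R) (QS V U (MulAut.conj t • H) H R)) :
    ∀ B ∈ U, B ≤ MulAut.conj t • H → ∀ b ∈ B, b • z = z := by
  have h1 := fix_of_conj h.cls (x := t) (R := MulAut.conj t • H) (R' := H) (fun r hr => Amal.t_mem' hr)
    (I_fix a h i (t_I a h i hz))
  rwa [smul_inv_smul] at h1

/-- `JQ'` is induced by `Q_*` -/
theorem full {r : Y} (hr : r ∈ R) (hJ : ∀ x ∈ WJ V U (MulAut.conj t • H) R, r • x = x) :
    ∃ q ∈ QS V U H (MulAut.conj t • H) R, q⁻¹ * r ∈ QQ (MulAut.conj t • H) R := by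
  obtain ⟨Δ, ⟨p0, hp0⟩, h1, h2⟩ := i.exact
  let N : Subgroup Y :=
    { carrier := {r | r ∈ R ∧ ∃ q ∈ QS V U H (MulAut.conj t • H) R, q⁻¹ * r ∈ QQ (MulAut.conj t • H) R}
      one_mem' := ⟨one_mem _, 1, one_mem _, by rw [inv_one, one_mul]; exact one_mem _⟩
      mul_mem' := by
        rintro r s ⟨hr, q, hq, hqr⟩ ⟨hs, q', hq', hqs⟩
        refine ⟨mul_mem hr hs, q * q', mul_mem hq hq', ?_⟩
        have h3 := mul_mem (conj_mem_QQ (inv_mem (a.RH' (QQ_le hq'.1))) hqr) hqs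
        have e : q'⁻¹ * (q⁻¹ * r) * (q'⁻¹)⁻¹ * (q'⁻¹ * s) = (q * q')⁻¹ * (r * s) := by group
        rwa [e] at h3
      inv_mem' := by
        rintro r ⟨hr, q, hq, hqr⟩
        refine ⟨inv_mem hr, q⁻¹, inv_mem hq, ?_⟩
        have h3 := conj_mem_QQ (a.RH' (QQ_le hq.1)) (inv_mem hqr)
        have e : q * (q⁻¹ * r)⁻¹ * q⁻¹ = q⁻¹⁻¹ * r⁻¹ := by group
        rwa [e] at h3 }
  have hN0 : P' p0 ≤ N := by
    intro r hr
    obtain ⟨b, hb, hbQ, h5⟩ := h2 p0 hp0 r hr
    exact ⟨i.fac'.le p0 hr, b, B_QS a h i hb hbQ, h5⟩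
  have hN : (⨆ p, P' p) ≤ N := by
    apply iSup_le
    intro p r hr
    obtain ⟨s, hs, hP, _⟩ := i.fac'.trans p0 p
    have hrR := i.fac'.le p hr
    rw [hP, mem_conj] at hr
    obtain ⟨_, q, hq, hqr⟩ := hN0 hr
    refine ⟨hrR, s * q * s⁻¹, conj_QS a h i (a.RH hs) hq, ?_⟩
    have h3 := conj_mem_QQ (a.RH' hs) hqr
    have e : s * (q⁻¹ * (s⁻¹ * r * s)) * s⁻¹ = (s * q * s⁻¹)⁻¹ * r := by group
    rwa [e] at h3
  exact (hN (i.fac'.ofJ r hr hJ)).2

theorem full' {r : Y} (hr : r ∈ R) (hJ : ∀ x ∈ WJ V U H R, r • x = x) :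
    ∃ q ∈ QS V U (MulAut.conj t • H) H R, q⁻¹ * r ∈ QQ H R := by
  obtain ⟨q, hq, h1⟩ := full a h i (a.symm_smul hr) (fun x hx => by
    rw [mul_smul, mul_smul, hJ _ (a.t_WJ' h hx), inv_smul_smul])
  refine ⟨_, a.t_QS h hq, ?_⟩
  have h2 := a.t_QQ2 h1
  have e : t * (q⁻¹ * (t⁻¹ * r * t)) * t⁻¹ = (t * q * t⁻¹)⁻¹ * r := by group
  rwa [e] at h2

/-- `I_p ≤ I` -/
theorem Ip_le (p : ι) : brk (Ψ p) (P p) ≤ brk (WW V H R) (QS V U (MulAut.conj t • H) H R) := by
  apply brk_le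
  intro x hx r hr
  obtain ⟨q, hq, h1⟩ := full' a h i (i.fac.le p hr) (i.fac.fixJ p r hr)
  have h2 := a.QQ_fix h h1 (i.fac.Ψle p hx)
  rw [mul_smul, inv_smul_eq_iff] at h2
  rw [h2]
  exact mem_brk (i.fac.Ψle p hx) hq

/-! ### (3) -/

theorem J_inf [Finite Y] [Finite V] {z : V} (hz : z ∈ brk (WW V H R) (QS V U (MulAut.conj t • H) H R))
    (hz0 : z ∈ D0 V U H R) : z = 0 := by
  by_contra hne
  obtain ⟨w, ⟨hw1, hw2⟩, hw0, hw⟩ := HE.exists_fixed h.two (R := R) a.R2
    (brk (WW V H R) (QS V U (MulAut.conj t • H) H R) ⊓ D0 V U H R)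
    (fun r hr v hv => ⟨J_inv a h i r (a.RH' hr) v hv.1, a.D0_inv h (a.RH hr) hv.2⟩) ⟨z, ⟨hz, hz0⟩, hne⟩
  have h1 : ∀ {X : Subgroup Y}, (∀ x ∈ X, x • w = w) → X ≤ MulAction.stabilizer Y w := fun hX x hx => hX x hx
  have h2 : H ≤ MulAction.stabilizer Y w := by
    rw [← a.gen i.AH i.AM]
    exact sup_le (h1 hw) (h1 (hw2.2 A i.mA i.AH))
  have h3 : MulAut.conj t • H ≤ MulAction.stabilizer Y w := by
    rw [← a.gen i.AH i.AM, smul_sup]
    refine sup_le (fun x hx => ?_) (h1 (J_fix a h i hw1 _ (h.cls.conj A i.mA t) (conj_le_conj t i.AH)))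
    rw [mem_conj] at hx
    have := a.t_norm _ hx
    have e : t * (t⁻¹ * x * t) * t⁻¹ = x := by group
    rw [e] at this
    exact hw x this
  have h4 : t⁻¹ • w = 0 := by
    apply a.C_inf h
    · intro x hx
      rw [smul_conj]
      have h5 : ((t⁻¹)⁻¹ * x * t⁻¹) • w = w := h3 (by
        rw [inv_inv]; exact Amal.t_mem hx)
      rw [h5]
    · rw [smul_inv_smul]
      exact fun x hx => h2 hx
  apply hw0
  rw [inv_smul_eq_iff, smul_zero] at h4
  exact h4

/-! ### (4) -/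

/-- `S₁ ≤ B₁` -/
theorem S_le {w₀ x : V} (hw₀ : w₀ ∉ Ee V A) (hx : x ∈ WW V H R) {s : Y} (hs : s ∈ A)
    (he : s • w₀ + w₀ + x ∈ fx V A) : s ∈ QQ H R := by
  refine i.pre w₀ hw₀ s hs ?_
  have e : s • w₀ + w₀ = x + (s • w₀ + w₀ + x) := by
    have : x + (s • w₀ + w₀ + x) = (s • w₀ + w₀) + (x + x) := by abel
    rw [this, h.two, add_zero]
  rw [e]
  exact add_mem (AddSubgroup.mem_sup_left hx) (AddSubgroup.mem_sup_right he)

/-- `S₁ ≤ Q_**` -/
theorem S_QSS [Finite Y] {w₀ x : V} (hw₀ : w₀ ∉ Ee V A) (hx : x ∈ WW V H R) {s : Y} (hs : s ∈ A)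
    (he : s • w₀ + w₀ + x ∈ fx V A) : s ∈ QSS V H (MulAut.conj t • H) R := by
  have hm := h.cls.mem A i.mA
  have hsQ := S_le a h i hw₀ hx hs he
  refine ⟨hsQ, fun g hg w hw => ?_⟩
  obtain ⟨s', hs', he'⟩ := hm.surj w₀ hw₀ (g • w) (i.le₁ g hg w hw)
  -- `s'` is trivial on `W / D₀`
  have key : s' ∈ QQ H R := by
    apply i.faith s' hs'
    intro x₁ hx₁
    obtain ⟨s₁, hs₁, he₁⟩ := hm.surj w₀ hw₀ x₁ (i.WE hx₁)
    have h1 := mem_sym hm h.two hs₁ hs' he₁ he'
    have h2 : s₁ • (g • w) + g • w ∈ brk (WW V (MulAut.conj t • H) R) (QS V U H (MulAut.conj t • H) R) := by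
      have h3 := conj_QS a h i (inv_mem hg) (B_QS a h i hs₁ (S_le a h i hw₀ hx₁ hs₁ he₁))
      rw [inv_inv] at h3
      rw [smul_conj, ← smul_add]
      exact I_inv a h i g hg _ (mem_brk hw h3)
    exact ⟨add_mem (smul_mem_WW (i.AH hs') hx₁) hx₁, I_fix a h i (h1 ▸ h2)⟩
  have h1 := mem_sym hm h.two hs hs' he he'
  rw [a.QQ_fix h key hx, h.two] at h1
  exact (HE.add_eq_zero' h.two).1 h1.symm

/-- a non-trivial element of `Q_**` -/
theorem exists_S [Finite Y] [Finite V] : ∃ s ∈ QSS V H (MulAut.conj t • H) R, s ≠ 1 := by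
  have hm := h.cls.mem A i.mA
  obtain ⟨w₀, hw₀⟩ := hm.ne
  obtain ⟨x, hx, hxF⟩ : ∃ x ∈ WW V H R, x ∉ fx V A := by
    by_contra hcon
    push Not at hcon
    apply i.AQ
    obtain ⟨y, hy, hyA⟩ := conj_into a.RH a.R2 (fun R' h1 h2 => a.le_card H a.bad R' h1 h2) i.AH hm.isPGroup
    intro u hu
    have h1 : y * u * y⁻¹ ∈ QQ H R := by
      rw [a.mem_QQ_iff h (hyA (conj_mem_conj hu))]
      intro w hw
      rw [mul_smul, mul_smul, hcon _ (smul_mem_WW (inv_mem hy) hw) u hu, smul_inv_smul]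
    have h2 := conj_mem_QQ (inv_mem hy) h1
    have e : y⁻¹ * (y * u * y⁻¹) * y⁻¹⁻¹ = u := by group
    rwa [e] at h2
  obtain ⟨s, hs, he⟩ := hm.surj w₀ hw₀ x (i.WE hx)
  refine ⟨s, S_QSS a h i hw₀ hx hs he, ?_⟩
  rintro rfl
  rw [one_smul, h.two, zero_add] at he
  exact hxF he

/-! ### (5) -/

theorem QSS_fix' {q : Y} (hq : q ∈ QSS V H (MulAut.conj t • H) R) {w : V}
    (hw : w ∈ WW V (MulAut.conj t • H) R) : q • w = w := by
  have h1 := hq.2 1 (one_mem _) w hw
  rwa [one_smul] at h1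

theorem QSS_fix {q : Y} (hq : q ∈ QSS V H (MulAut.conj t • H) R) {w : V}
    (hw : w ∈ WW V H R) : q • w = w := a.QQ_fix h hq.1 hw

theorem QSS_QS [Finite Y] [Finite V] {q : Y} (hq : q ∈ QSS V H (MulAut.conj t • H) R) :
    q ∈ QS V U (MulAut.conj t • H) H R :=
  ⟨a.mem_QQ' h (QQ_le hq.1) fun _ hw => QSS_fix' a h i hq hw, fun _ hw => QSS_fix' a h i hq hw,
    fun _ hw => QSS_fix a h i hq hw.1⟩

/-- the group generated by the members `≤ H'` -/
def JJ (U : Set (Subgroup Y)) (H' : Subgroup Y) : Subgroup Y :=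
  Subgroup.closure {y | ∃ B ∈ U, B ≤ H' ∧ y ∈ B}

omit a h i in
theorem JJ_le {H' : Subgroup Y} : JJ U H' ≤ H' := by
  rw [JJ, closure_le]
  rintro y ⟨B, _, hB, hy⟩
  exact hB hy

omit a h i in
theorem conj_JJ (hc : Cls V U) {H' : Subgroup Y} {x g : Y} (hx : x ∈ H') (hg : g ∈ JJ U H') :
    x * g * x⁻¹ ∈ JJ U H' := by
  have h1 : JJ U H' ≤ (JJ U H').comap (MulAut.conj x).toMonoidHom := by
    conv_lhs => rw [JJ]
    rw [closure_le]
    rintro y ⟨B, hB, hBH, hy⟩
    refine _root_.Subgroup.subset_closure ⟨MulAut.conj x • B, hc.conj B hB x, ?_, conj_mem_conj hy⟩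
    intro z hz
    rw [mem_conj] at hz
    have h2 := mul_mem (mul_mem hx (hBH hz)) (inv_mem hx)
    have e : x * (x⁻¹ * z * x) * x⁻¹ = z := by group
    rwa [e] at h2
  exact h1 hg

theorem J_fixJJ [Finite Y] {z : V} (hz : z ∈ brk (WW V H R) (QS V U (MulAut.conj t • H) H R)) {g : Y}
    (hg : g ∈ JJ U (MulAut.conj t • H)) : g • z = z := by
  have h1 : JJ U (MulAut.conj t • H) ≤ MulAction.stabilizer Y z := by
    rw [JJ, closure_le]
    rintro y ⟨B, hB, hBH, hy⟩
    exact J_fix a h i hz B hB hBH y hy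
  exact h1 hg

/-- **(5a), (5b)** -/
theorem five_a [Finite Y] [Finite V] : ∃ p : ι, ∀ q ∈ QSS V H (MulAut.conj t • H) R,
    ∀ g ∈ JJ U (MulAut.conj t • H), ∀ x ∈ Ψ p, q • g • x = g • x := by
  obtain ⟨p, hp1⟩ := i.mov
  refine ⟨p, fun q hq g hg x hx => ?_⟩
  have hgH := JJ_le hg
  -- commutators with `Q'_*`
  have hcm : ∀ k ∈ QS V U (MulAut.conj t • H) H R, k • g • x + g • x ∈ brk (Ψ p) (P p) := by
    intro k hk
    have h1 := conj_QS' a h i (inv_mem hgH) hk
    rw [inv_inv] at h1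
    have h2 := i.fac.mem_brk_of h.two (QS_le' a h i h1) hx
    rw [smul_conj, ← smul_add, J_fixJJ a h i (Ip_le a h i p h2) hg]
    exact h2
  have hz : ∀ z ∈ brk (Ψ p) (P p), z ∈ fx V A → z = 0 := fun z hz h3 =>
    J_inf a h i (Ip_le a h i p hz) (hp1 z hz h3)
  -- (5a)
  have h1 := i.CK (g • x) (by
    intro k hk hkQ hkQ'
    have hkS : k ∈ QS V U (MulAut.conj t • H) H R :=
      ⟨hkQ', fun _ hw => a.QQ_fix' h hkQ' hw, fun _ hw => a.QQ_fix h hkQ hw.1⟩
    exact (HE.add_eq_zero' h.two).1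
      (hz _ (hcm k hkS) (i.le₂ g hgH x (i.fac.Ψle p hx) k hk)))
  obtain ⟨e, he, f, hf, hef⟩ := AddSubgroup.mem_sup.1 h1
  obtain ⟨w, hw, w', hw', rfl⟩ := AddSubgroup.mem_sup.1 he
  -- (5b)
  have h2 : ∀ q' ∈ QSS V H (MulAut.conj t • H) R, q' • g • x + g • x = q' • f + f := by
    intro q' hq'
    rw [← hef, smul_add, smul_add, QSS_fix a h i hq' hw, QSS_fix' a h i hq' hw']
    have e1 : w + w' + q' • f + (w + w' + f) = ((w + w) + (w' + w')) + (q' • f + f) := by abel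
    rw [e1, h.two, h.two, add_zero, zero_add]
  have h3 : ∀ u ∈ A, u • (q • g • x + g • x) = (u * q * u⁻¹) • g • x + g • x := by
    intro u hu
    rw [h2 q hq, h2 _ (conj_QSS (i.AH hu) hq), smul_add, mul_smul, mul_smul]
    have h6 : u⁻¹ • f = f := by rw [inv_smul_eq_iff, hf u hu]
    rw [h6, hf u hu]
  have h4 : ∀ q' ∈ QSS V H (MulAut.conj t • H) R, q' • g • x + g • x ∈ brk (Ψ p) (P p) :=
    fun q' hq' => hcm q' (QSS_QS a h i hq')
  have h5 : brk (Ψ p) (P p) ≤ Ee V A := brk_le fun y hy r hr =>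
    i.WE (add_mem (smul_mem_WW (a.RH (i.fac.le p hr)) (i.fac.Ψle p hy)) (i.fac.Ψle p hy))
  have h6 : q • g • x + g • x ∈ fx V A := by
    intro u hu
    apply (HE.add_eq_zero' h.two).1
    apply hz
    · rw [h3 u hu]
      exact add_mem (h4 _ (conj_QSS (i.AH hu) hq)) (h4 q hq)
    · exact h5 (h4 q hq) u hu
  exact (HE.add_eq_zero' h.two).1 (hz _ (h4 q hq) h6)

/-- **(5)** -/
theorem five [Finite Y] [Finite V] {q : Y} (hq : q ∈ QSS V H (MulAut.conj t • H) R) :
    ∀ g ∈ MulAut.conj t • H, ∀ w ∈ WW V H R, q • g • w = g • w := by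
  obtain ⟨p, hp⟩ := five_a a h i
  have h1 : ∀ q ∈ QSS V H (MulAut.conj t • H) R, ∀ g ∈ JJ U (MulAut.conj t • H), ∀ w ∈ WW V H R,
      q • g • w = g • w := by
    intro q hq g hg w hw
    let D : AddSubgroup V :=
      { carrier := {w | q • g • w = g • w}
        zero_mem' := by
          change q • g • (0 : V) = g • (0 : V)
          rw [smul_zero, smul_zero]
        add_mem' := fun {v w} hv hw => by
          change q • g • (v + w) = g • (v + w)
          have hv' : q • g • v = g • v := hv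
          have hw' : q • g • w = g • w := hw
          rw [smul_add, smul_add, hv', hw']
        neg_mem' := fun {v} hv => by
          change q • g • (-v) = g • (-v)
          have hv' : q • g • v = g • v := hv
          rw [smul_neg, smul_neg, hv'] }
    have h2 : WJ V U H R ⊔ ⨆ p, Ψ p ≤ D := by
      refine sup_le (fun x hx => ?_) (iSup_le fun p' x hx => ?_)
      · change q • g • x = g • x
        have h3 := conj_QS' a h i (inv_mem (JJ_le hg)) (QSS_QS a h i hq)
        rw [inv_inv] at h3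
        rw [smul_conj, h3.2.2 x hx]
      · change q • g • x = g • x
        obtain ⟨r, hr, _, hΨ⟩ := i.fac.trans p p'
        rw [hΨ, mem_smul_as] at hx
        have h3 := conj_QSS (inv_mem (a.RH hr)) hq
        have h4 := conj_JJ h.cls (inv_mem (a.RH' hr)) hg
        have h5 := hp _ h3 _ h4 _ hx
        rw [← mul_smul, ← mul_smul, ← mul_smul] at h5
        have e1 : r⁻¹ * q * r⁻¹⁻¹ * (r⁻¹ * g * r⁻¹⁻¹) * r⁻¹ = r⁻¹ * (q * g) := by group
        have e2 : r⁻¹ * g * r⁻¹⁻¹ * r⁻¹ = r⁻¹ * g := by group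
        rw [e1, e2, mul_smul, mul_smul, mul_smul] at h5
        exact smul_left_cancel r⁻¹ h5
    exact h2 (i.fac.sup hw)
  -- `H' = J R`
  intro g hg w hw
  have h2 : MulAut.conj t • H ≤ JJ U (MulAut.conj t • H) ⊔ R := by
    conv_lhs => rw [← a.gen i.AH i.AM, smul_sup]
    refine sup_le (fun x hx => mem_sup_right ?_) (fun x hx => mem_sup_left ?_)
    · rw [mem_conj] at hx
      have := a.t_norm _ hx
      have e : t * (t⁻¹ * x * t) * t⁻¹ = x := by group
      rwa [e] at this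
    · exact subset_closure ⟨_, h.cls.conj A i.mA t, conj_le_conj t i.AH, hx⟩
  let S : Subgroup Y :=
    { carrier := {g | ∃ y ∈ JJ U (MulAut.conj t • H), ∃ r ∈ R, g = y * r}
      one_mem' := ⟨1, one_mem _, 1, one_mem _, (mul_one 1).symm⟩
      mul_mem' := by
        rintro _ _ ⟨y, hy, r, hr, rfl⟩ ⟨y', hy', r', hr', rfl⟩
        refine ⟨y * (r * y' * r⁻¹), mul_mem hy (conj_JJ h.cls (a.RH' hr) hy'), r * r', mul_mem hr hr', ?_⟩
        group
      inv_mem' := by
        rintro _ ⟨y, hy, r, hr, rfl⟩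
        refine ⟨r⁻¹ * y⁻¹ * r⁻¹⁻¹, conj_JJ h.cls (inv_mem (a.RH' hr)) (inv_mem hy), r⁻¹, inv_mem hr, ?_⟩
        group }
  have h3 : JJ U (MulAut.conj t • H) ⊔ R ≤ S :=
    sup_le (fun y hy => ⟨y, hy, 1, one_mem _, (mul_one y).symm⟩) (fun r hr => ⟨1, one_mem _, r, hr, (one_mul r).symm⟩)
  obtain ⟨y, hy, r, hr, rfl⟩ := h3 (h2 hg)
  rw [mul_smul]
  exact h1 q hq y hy _ (smul_mem_WW (a.RH hr) hw)

theorem ti_QSS [Finite Y] [Finite V] {q : Y} (hq : q ∈ QSS V H (MulAut.conj t • H) R) :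
    t⁻¹ * q * t ∈ QSS V H (MulAut.conj t • H) R := by
  refine ⟨a.t_QQ' (QSS_QS a h i hq).1, fun g hg w hw => ?_⟩
  have h1 := five a h i hq _ (Amal.t_mem hg) _ (a.smul_W' hw)
  have e : (t * g * t⁻¹) • t • w = t • g • w := by
    rw [← mul_smul, ← mul_smul]; congr 1; group
  rw [e] at h1
  rw [mul_smul, mul_smul, h1, inv_smul_smul]

end LOne

/-- **(L1)** (bb OMEGA 21480): `LIn` is impossible. -/
theorem Amal.lOne [Finite Y] [Finite V] {U : Set (Subgroup Y)} {T : Sylow 2 Y} {M H R : Subgroup Y} {t : Y}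
    {ι : Type} {P : ι → Subgroup Y} {Ψ : ι → AddSubgroup V} {ι' : Type} {P' : ι' → Subgroup Y}
    {Ψ' : ι' → AddSubgroup V} {A : Subgroup Y} (a : Amal U T M H R t) (h : Amb V U T M)
    (i : LIn V U M H R t P Ψ P' Ψ' A) : False := by
  obtain ⟨s, hs, hs1⟩ := LOne.exists_S a h i
  have h1 : QSS V H (MulAut.conj t • H) R = ⊥ := by
    have hle : QSS V H (MulAut.conj t • H) R ≤ QQ H R := fun q hq => hq.1
    apply a.no_inv h.core ((Amal.QQ2 a h).to_le hle)
    · exact fun x hx y hy => conj_QSS hx hy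
    · intro q hq
      have h2 := conj_QSS (a.RH a.t_sq) (LOne.ti_QSS a h i hq)
      have e : t * t * (t⁻¹ * q * t) * (t * t)⁻¹ = t * q * t⁻¹ := by group
      rwa [e] at h2
    · exact fun q hq => LOne.ti_QSS a h i hq
  rw [h1, mem_bot] at hs
  exact hs1 hs

end Cfsg.Agent.Omega.NO1.TH

end
end

private theorem dce_28a8c05feef8 : _root_.True := by
  try have : _root_.True := by simp only [_root_.Cfsg.Agent.Omega.NO1.TH.iv.eq_1]
  try have : _root_.True := by simp only [_root_.Cfsg.Agent.Lib.SL2Mat.up.eq_1]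
  try have : _root_.True := by simp only [_root_.Cfsg.Agent.Omega.NO1.TH.VO.eq_1]
  try have : _root_.True := by simp only [_root_.Cfsg.Agent.Omega.NO1.TH.od.eq_1]
  try have : _root_.True := by simp only [_root_.Cfsg.Agent.Lib.SL2Mat.mk.eq_1]
  try have : _root_.True := by simp only [_root_.Cfsg.Agent.Omega.NatPair.ap.eq_1]
  try have : _root_.True := by simp only [_root_.Cfsg.Agent.Omega.NO1.TH.LOne.JJ.eq_1]
  exact _root_.True.intro
end

-- part: Mrg/Omega/NO1/TH/KOneB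
section
prune_inst 0xd0000b105422020000000002800000206800010200000001f0000a00020e3660cd40a00144800800180284000000002810180010000800000000000000010020802852001340010426000f803007180c00000000000000000000000000041000000000000
set_option linter.all false
open scoped Cfsg.Agent.FastGrp


/-!
# N1, BETA, the amalgam `(H, H^t)`: `k = 1`, any field automorphisms, any `C` (bb OMEGA 20297, helper503)

(6), (7), (8) without (8a), (8b), (9), over `TwoK` (KOneDef.lean).  `PW V H W = ⟨W^H⟩`.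

`In15` : the outputs of (1)-(5) for one member `A ≤ H`, `A ≰ M`, `W' ≤ E_A`.
`TwoK.not_le` : `W' ≰ E_A` for all members `A ≤ H`, `A ≰ M`; `TwoK.out` : the final output.
-/

set_option autoImplicit false
set_option linter.unusedSectionVars false

namespace Cfsg.Agent.Omega.NO1.TH

open Subgroup Cfsg.Agent.Omega.NO1.AB
open scoped Pointwise

universe u

variable {Y : Type u} [Group Y] {V : Type u} [AddCommGroup V] [DistribMulAction Y V]

/-- `⟨W^H⟩` -/
def PW (V : Type u) [AddCommGroup V] [DistribMulAction Y V] (H : Subgroup Y) (W : AddSubgroup V) : AddSubgroup V :=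
  AddSubgroup.closure {v | ∃ x ∈ H, ∃ y ∈ W, v = x • y}

theorem smul_mem_PW {H : Subgroup Y} {W : AddSubgroup V} {x : Y} (hx : x ∈ H) {v : V} (hv : v ∈ PW V H W) :
    x • v ∈ PW V H W := by
  induction hv using AddSubgroup.closure_induction with
  | mem v hv =>
    obtain ⟨y, hy, z, hz, rfl⟩ := hv
    exact AddSubgroup.subset_closure ⟨x * y, H.mul_mem hx hy, z, hz, by rw [mul_smul]⟩
  | zero => rw [smul_zero]; exact zero_mem _
  | add b c _ _ h1 h2 => rw [smul_add]; exact add_mem h1 h2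
  | neg b _ h1 => rw [smul_neg]; exact neg_mem h1

theorem le_PW {H : Subgroup Y} {W : AddSubgroup V} : W ≤ PW V H W := fun y hy =>
  AddSubgroup.subset_closure ⟨1, H.one_mem, y, hy, (one_smul Y y).symm⟩

theorem PW_le {H : Subgroup Y} {W D : AddSubgroup V} (h : ∀ x ∈ H, ∀ y ∈ W, x • y ∈ D) : PW V H W ≤ D := by
  refine (AddSubgroup.closure_le _).2 ?_
  rintro _ ⟨x, hx, y, hy, rfl⟩
  exact h x hx y hy

theorem smul_mem_PW_conj {H : Subgroup Y} {W : AddSubgroup V} (t : Y) {v : V} (hv : v ∈ PW V H W) :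
    t • v ∈ PW V (MulAut.conj t • H) (t • W) := by
  induction hv using AddSubgroup.closure_induction with
  | mem v hv =>
    obtain ⟨x, hx, y, hy, rfl⟩ := hv
    have e : t • x • y = (t * x * t⁻¹) • t • y := by
      rw [← mul_smul, ← mul_smul]
      congr 1
      group
    rw [e]
    exact smul_mem_PW (conj_mem_conj hx) (le_PW (smul_mem_smul_as hy))
  | zero => rw [smul_zero]; exact zero_mem _
  | add b c _ _ h1 h2 => rw [smul_add]; exact add_mem h1 h2
  | neg b _ h1 => rw [smul_neg]; exact neg_mem h1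

namespace Amal

variable {U : Set (Subgroup Y)} {T : Sylow 2 Y} {M H R : Subgroup Y} {t : Y}

/-- no invariant submodule `≠ 0` in `E_B` -/
theorem no_sub' (a : Amal U T M H R t) (h : Amb V U T M) {W : AddSubgroup V} (h1 : ∀ x ∈ H, ∀ w ∈ W, x • w ∈ W)
    (h2 : ∀ w ∈ W, t • w ∈ W) {B : Subgroup Y} (hB : B ∈ U) (hW : W ≤ Ee V B) : W = ⊥ := by
  rcases Amal.no_sub a h h1 h2 with h3 | h3
  · exact h3
  · exact absurd hW (h3 B hB)

end Amal

/-- invariance of a finite additive subgroup under a join -/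
theorem inv_sup [Finite V] {N : AddSubgroup V} {A B : Subgroup Y} (hA : ∀ u ∈ A, ∀ n ∈ N, u • n ∈ N)
    (hB : ∀ u ∈ B, ∀ n ∈ N, u • n ∈ N) : ∀ u ∈ A ⊔ B, ∀ n ∈ N, u • n ∈ N := by
  have hle : A ⊔ B ≤
      ({ carrier := {x | ∀ n ∈ N, x • n ∈ N}
         one_mem' := fun n hn => by rw [one_smul]; exact hn
         mul_mem' := fun {x y} hx hy n hn => by rw [mul_smul]; exact hx _ (hy n hn)
         inv_mem' := fun {x} hx n hn => by
           have hbij : Function.Surjective (fun n : N => (⟨x • (n : V), hx n n.2⟩ : N)) := by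
             apply Finite.surjective_of_injective
             intro p q hpq
             exact Subtype.ext (smul_left_cancel x (congrArg Subtype.val hpq))
           obtain ⟨m, hm⟩ := hbij ⟨n, hn⟩
           have h1 : x • (m : V) = n := congrArg Subtype.val hm
           rw [← h1, inv_smul_smul]
           exact m.2 } : Subgroup Y) := sup_le (fun r hr => hA r hr) (fun u hu => hB u hu)
  exact fun x hx => hle hx

/-- The outputs of (1)-(5) of bb OMEGA 20297 for one member `A ≤ H`, `A ≰ M`, `W' ≤ E_A`. -/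
structure In15 (V : Type u) [AddCommGroup V] [DistribMulAction Y V] (H H' R P' : Subgroup Y) (W₁' : AddSubgroup V)
    (c : ℕ) (A : Subgroup Y) : Prop where
  one_a : Nat.card ↥(WW V H' R) * Nat.card ↥(A ⊓ QQ H R ⊓ QQ H' R) =
    Nat.card ↥(A ⊓ QQ H R) * Nat.card ↥(WW V H' R ⊓ fx V (A ⊓ QQ H R))
  one_b : ∀ v ∈ Ee V A, (∀ k ∈ A ⊓ QQ H R ⊓ QQ H' R, k • v = v) → v ∈ WW V H R ⊔ WW V H' R ⊔ fx V A
  two_a : A ⊓ QQ H R ≤ P'
  three : ∃ I : AddSubgroup V, I ≤ WW V H R ∧ (∀ x ∈ I, x ∈ fx V A → x = 0) ∧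
    ∀ v ∈ PW V H' (WW V H R), ∀ k ∈ A ⊓ QQ H R ⊓ QQ H' R, k • v + v ∈ I
  four : (∀ y ∈ WW V H' R, y ∉ W₁' → ∀ u ∈ A, u • y = y → u ∈ A ⊓ QQ H R ⊓ QQ H' R) ∨ QQ H R ⊓ QQ H' R = ⊥
  five : QQ H R ⊓ QQ H' R = ⊥ → Nat.card A = c * c → False

/-- The output. -/
structure Out8 (V : Type u) [AddCommGroup V] [DistribMulAction Y V] (H H' R P' : Subgroup Y) (W₁' : AddSubgroup V)
    (c : ℕ) (A : Subgroup Y) : Prop where
  not_le : ¬ WW V H' R ≤ Ee V A
  K : A ⊓ QQ H R ⊓ QQ H' R = ⊥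
  cB : Nat.card ↥(A ⊓ QQ H R) = c
  cA : Nat.card A = c * c
  S : ∀ w : V, w ∉ Ee V A → ∀ s : Y, s ∈ A ⊓ QQ H R ↔ s ∈ A ∧ s • w + w ∈ WW V H R ⊔ fx V A
  BP : A ⊓ QQ H R ≤ P'
  mul : ∀ r ∈ P', ∃ b ∈ A ⊓ QQ H R, ∃ q ∈ QQ H' R, r = b * q
  cap : ∀ y ∈ WW V H' R, y ∈ Ee V A → y ∈ W₁'

namespace TwoK

variable [Finite Y] [Finite V] {U : Set (Subgroup Y)} {T : Sylow 2 Y} {M H H' R P P' : Subgroup Y}
  {D D' W₁ W₁' : AddSubgroup V} {c : ℕ} {t : Y} (h : TwoK V U T M H H' R P P' D D' W₁ W₁' c t)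
include h

theorem two (v : V) : v + v = 0 := h.amb.two v

/-- `|A| = c |A ∩ Q|` for members `A ≤ H`, `A ≰ Q` -/
theorem card_mem {A : Subgroup Y} (hA : A ∈ U) (hAH : A ≤ H) (hAQ : ¬ A ≤ QQ H R) :
    Nat.card A = c * Nat.card ↥(A ⊓ QQ H R) := by
  obtain ⟨x, hx, hxU, hxR⟩ := Amal.exists_conj h.a h.amb hA hAH
  have hxQ : ¬ MulAut.conj x • A ≤ QQ H R := by
    intro h1
    apply hAQ
    intro y hy
    have h2 := conj_mem_QQ (H.inv_mem hx) (h1 (conj_mem_conj (g := x) hy))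
    have e : x⁻¹ * (x * y * x⁻¹) * x⁻¹⁻¹ = y := by group
    rwa [e] at h2
  have h1 := h.k.cover _ hxU hxR hxQ
  obtain ⟨b, hb, hbQ⟩ := SetLike.not_le_iff_exists.1 hxQ
  have h3 : WW V H R ⊓ fx V (MulAut.conj x • A) = W₁ := by
    apply le_antisymm
    · rintro w ⟨hw, hwF⟩
      by_contra hw1
      apply hbQ
      apply h.k.free b (h1.1 hb) w hw hw1
      rw [hwF b hb, h.two]
      exact zero_mem _
    · exact le_inf h.k.W₁W fun w hw y hy => h.k.P_fix y (h1.1 hy) w hw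
  have h4 := Amal.exact' h.a h.amb h.we hxU (hxR.trans h.a.RH)
  rw [h3, h.k.card_W] at h4
  have h2 : Nat.card ↥(MulAut.conj x • A) = c * Nat.card ↥(MulAut.conj x • A ⊓ QQ H R) := by
    apply Nat.eq_of_mul_eq_mul_right (Nat.card_pos (α := W₁))
    rw [← h4]; ring
  rw [conj_card, One.conj_inf_QQ hx, conj_card] at h2
  exact h2

/-- a member `A ≤ H` outside `M` is not in `Q` -/
theorem not_Q {A : Subgroup Y} (hM : ¬ A ≤ M) : ¬ A ≤ QQ H R := fun h1 =>
  hM (h1.trans (QQ_le.trans (h.a.RT.trans h.amb.TM)))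

/-- `|W| = c |W ∩ F_A|` -/
theorem card_WF {A : Subgroup Y} (hA : A ∈ U) (hAH : A ≤ H) (hAQ : ¬ A ≤ QQ H R) :
    Nat.card ↥(WW V H R) = c * Nat.card ↥(WW V H R ⊓ fx V A) := by
  have h1 := Amal.exact' h.a h.amb h.we hA hAH
  rw [h.card_mem hA hAH hAQ] at h1
  apply Nat.eq_of_mul_eq_mul_right (Nat.card_pos (α := ↥(A ⊓ QQ H R)))
  rw [h1]; ring

/-- `C_A(x) ≤ Q` for `x ∈ W - F_A` -/
theorem cent {A : Subgroup Y} (hA : A ∈ U) (hAH : A ≤ H) (hAQ : ¬ A ≤ QQ H R) {w : V} (hw : w ∈ WW V H R)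
    (hwF : w ∉ fx V A) {a : Y} (ha : a ∈ A) (haw : a • w = w) : a ∈ QQ H R := by
  obtain ⟨x, hx, hxU, hxR⟩ := Amal.exists_conj h.a h.amb hA hAH
  have hxQ : ¬ MulAut.conj x • A ≤ QQ H R := by
    intro h1
    apply hAQ
    intro y hy
    have h2 := conj_mem_QQ (H.inv_mem hx) (h1 (conj_mem_conj (g := x) hy))
    have e : x⁻¹ * (x * y * x⁻¹) * x⁻¹⁻¹ = y := by group
    rwa [e] at h2
  have h1 := h.k.cover _ hxU hxR hxQ
  have h2 : x • w ∈ WW V H R := smul_mem_WW hx hw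
  have h3 : x • w ∉ W₁ := by
    intro h4
    apply hwF
    intro b hb
    have h5 := h.k.P_fix _ (h1.1 (conj_mem_conj (g := x) hb)) _ h4
    have e : (x * b * x⁻¹) • x • w = x • b • w := by
      rw [← mul_smul, ← mul_smul]; congr 1; group
    rw [e] at h5
    exact smul_left_cancel _ h5
  have h4 : (x * a * x⁻¹) • x • w + x • w ∈ D := by
    have e : (x * a * x⁻¹) • x • w = x • a • w := by
      rw [← mul_smul, ← mul_smul]; congr 1; group
    rw [e, haw, h.two]
    exact zero_mem _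
  have h5 := h.k.free _ (h1.1 (conj_mem_conj (g := x) ha)) _ h2 h3 h4
  have h6 := conj_mem_QQ (H.inv_mem hx) h5
  have e : x⁻¹ * (x * a * x⁻¹) * x⁻¹⁻¹ = a := by group
  rwa [e] at h6

/-- `S₁ ≤ B₁` -/
theorem pre_sub {A : Subgroup Y} (hA : A ∈ U) (hAH : A ≤ H) (hAQ : ¬ A ≤ QQ H R) {w : V} (hw : w ∉ Ee V A) :
    pre A w (WW V H R ⊔ fx V A) ⊆ (A ⊓ QQ H R : Subgroup Y) := by
  have hm := h.amb.cls.mem A hA
  rintro s ⟨hs, hsD⟩
  obtain ⟨x, hx, f, hf, he⟩ := AddSubgroup.mem_sup.1 hsD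
  have h1 : s • w + w + x ∈ fx V A := by
    rw [← he]
    have e1 : x + f + x = (x + x) + f := by abel
    rw [e1, h.two, zero_add]; exact hf
  refine ⟨hs, ?_⟩
  by_cases hxF : x ∈ fx V A
  · have h2 : s • w + w ∈ fx V A := by rw [← he]; exact add_mem hxF hf
    rw [hm.inj w hw s hs h2]
    exact one_mem _
  · exact h.cent hA hAH hAQ hx hxF hs (mem_self hm hs h1)

theorem card_pre' {A : Subgroup Y} (hA : A ∈ U) (hAH : A ≤ H) (hAQ : ¬ A ≤ QQ H R) {w : V} (hw : w ∉ Ee V A) :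
    Nat.card (pre A w (WW V H R ⊔ fx V A)) = c := by
  have hm := h.amb.cls.mem A hA
  have h1 := card_pre hm h.amb.two hw (D := WW V H R ⊔ fx V A) le_sup_right
    (sup_le (Amal.WW_le_Ee h.a h.amb h.we hA hAH) hm.FE)
  have h2 := card_sup_as (WW V H R) (fx V A)
  rw [h.card_WF hA hAH hAQ] at h2
  have h3 : Nat.card ↥(WW V H R ⊔ fx V A) = c * Nat.card (fx V A) := by
    apply Nat.eq_of_mul_eq_mul_right (Nat.card_pos (α := ↥(WW V H R ⊓ fx V A)))
    rw [h2]; ring
  rw [h3] at h1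
  exact Nat.eq_of_mul_eq_mul_right (Nat.card_pos (α := fx V A)) h1

/-- `W' ≠ W₁'` -/
theorem exists_y : ∃ y ∈ WW V H' R, y ∉ W₁' := by
  by_contra hcon
  push Not at hcon
  have h1 : WW V H' R = W₁' := le_antisymm hcon h.k'.W₁W
  have h2 := h.k'.card_W
  rw [h1] at h2
  have h3 := h.k'.two_le
  have h4 : 0 < Nat.card W₁' := Nat.card_pos
  nlinarith

/-- `C_{W'}(b) ≤ W₁'` for `b ∈ P' - Q'` -/
theorem fix_W₁' {b : Y} (hb : b ∈ P') (hbQ : b ∉ QQ H' R) {y : V} (hy : y ∈ WW V H' R) (hby : b • y = y) : y ∈ W₁' := by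
  by_contra hy1
  apply hbQ
  apply h.k'.free b hb y hy hy1
  rw [hby, h.two]
  exact zero_mem _

/-- `C_{W'}(B₁) = W₁'` if `B₁ ≤ P'` -/
theorem fxB {A : Subgroup Y} (hA : A ∈ U) (hAH : A ≤ H) (hM : ¬ A ≤ M) (hP : A ⊓ QQ H R ≤ P') :
    WW V H' R ⊓ fx V (A ⊓ QQ H R) = W₁' := by
  obtain ⟨b, hb, hbQ⟩ := h.star hA hAH hM
  apply le_antisymm
  · rintro y ⟨hy, hyB⟩
    exact h.fix_W₁' (hP hb) hbQ hy (hyB b hb)
  · exact le_inf h.k'.W₁W fun y hy b hb => h.k'.P_fix b (hP hb) y hy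

section in15

variable {A : Subgroup Y} (hA : A ∈ U) (hAH : A ≤ H) (hM : ¬ A ≤ M) (hin : In15 V H H' R P' W₁' c A)
include hA hAH hM hin

/-- `|B₁| = c |K|` -/
theorem card_K : Nat.card ↥(A ⊓ QQ H R) = c * Nat.card ↥(A ⊓ QQ H R ⊓ QQ H' R) := by
  have h1 := hin.one_a
  rw [h.fxB hA hAH hM hin.two_a, h.k'.card_W] at h1
  apply Nat.eq_of_mul_eq_mul_right (Nat.card_pos (α := W₁'))
  rw [← h1]; ring

theorem card_A : Nat.card A = c * c * Nat.card ↥(A ⊓ QQ H R ⊓ QQ H' R) := by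
  rw [h.card_mem hA hAH (h.not_Q hM), h.card_K hA hAH hM hin, mul_assoc]

/-- (4) with (5) -/
theorem four' {y : V} (hy : y ∈ WW V H' R) (hy1 : y ∉ W₁') {u : Y} (hu : u ∈ A) (huy : u • y = y) :
    u ∈ A ⊓ QQ H R ⊓ QQ H' R := by
  rcases hin.four with h1 | h1
  · exact h1 y hy hy1 u hu huy
  · exfalso
    apply hin.five h1
    have h2 : A ⊓ QQ H R ⊓ QQ H' R = ⊥ := by
      rw [eq_bot_iff, ← h1, inf_assoc]
      exact inf_le_right
    rw [h.card_A hA hAH hM hin, h2, Subgroup.card_bot, mul_one]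

/-- `|A| ≤ c²` is impossible -/
theorem small (hW : WW V H' R ≤ Ee V A) (hc : Nat.card A ≤ c * c) : False := by
  have hm := h.amb.cls.mem A hA
  have hc2 := h.k.two_le
  have h1 := h.card_A hA hAH hM hin
  have h2 : Nat.card ↥(A ⊓ QQ H R ⊓ QQ H' R) = 1 := by
    have h3 : 0 < Nat.card ↥(A ⊓ QQ H R ⊓ QQ H' R) := Nat.card_pos
    rw [h1] at hc
    have h4 : c * c * Nat.card ↥(A ⊓ QQ H R ⊓ QQ H' R) ≤ c * c * 1 := by rw [mul_one]; exact hc
    have h5 := Nat.le_of_mul_le_mul_left h4 (by positivity)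
    omega
  have h3 : A ⊓ QQ H R ⊓ QQ H' R = ⊥ := Subgroup.card_eq_one.1 h2
  obtain ⟨y, hy, hy1⟩ := h.exists_y
  obtain ⟨b, hb, hbQ⟩ := h.star hA hAH hM
  obtain ⟨w, hw⟩ := hm.ne
  obtain ⟨s, hs, he⟩ := hm.surj w hw y (hW hy)
  have h4 := h.four' hA hAH hM hin hy hy1 hs (mem_self hm hs he)
  rw [h3, mem_bot] at h4
  rw [h4, one_smul, h.two, zero_add] at he
  exact hy1 (h.fix_W₁' (hin.two_a hb) hbQ hy (he b hb.1))

/-- **(6)** -/
theorem six (hall : ∀ B ∈ U, B ≤ H → WW V H' R ≤ Ee V B) : False := by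
  have hm := h.amb.cls.mem A hA
  have htwo := h.amb.two
  -- `Ψ`, `Ψ'`
  set Ps := PW V H (WW V H' R) with hPs
  set Ps' := PW V H' (WW V H R) with hPs'
  have hPsE : ∀ B ∈ U, B ≤ H → Ps ≤ Ee V B := by
    intro B hB hBH
    apply PW_le
    intro x hx y hy
    have h1 : MulAut.conj x⁻¹ • B ≤ H := by
      intro z hz
      rw [mem_conj, inv_inv] at hz
      have := H.mul_mem (H.mul_mem (H.inv_mem hx) (hBH hz)) hx
      have e : x⁻¹ * (x * z * x⁻¹) * x = z := by group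
      rwa [e] at this
    have h2 := hall _ (h.amb.cls.conj B hB x⁻¹) h1 hy
    rw [Ee_conj, mem_smul_as, inv_inv] at h2
    exact h2
  have hRH' : R ≤ H' := h.a'.RH
  have hWPs' : WW V H R ≤ Ps' := le_PW
  have hWPs : WW V H R ≤ Ps := WW_le fun x hx w hw => smul_mem_PW hx (le_PW (fx_le_WW hw))
  have hW'Ps : WW V H' R ≤ Ps := le_PW
  have htPs : ∀ v ∈ Ps, t • v ∈ Ps' := by
    intro v hv
    have h1 := smul_mem_PW_conj t hv
    rw [← h.H'_eq] at h1
    have h2 : t • WW V H' R = WW V H R := h.swap.W'_eq.symm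
    rwa [h2] at h1
  have htPs' : ∀ v ∈ Ps', t • v ∈ Ps := by
    intro v hv
    have h1 := smul_mem_PW_conj t hv
    rw [← h.H_eq, ← h.W'_eq] at h1
    exact h1
  obtain ⟨I, hIW, hIF, hI⟩ := hin.three
  by_cases hcase : Ps' ≤ Ee V A
  · -- (a)
    have hsub : ∀ u ∈ A, ∀ v ∈ Ps', u • v + v ∈ Ps := by
      intro u hu v hv
      have h1 := hin.one_b v (hcase hv) (fun k hk =>
        (HE.add_eq_zero' htwo).1 (hIF _ (hI v hv k hk) (hm.EB k hk.1.1 _ (hcase hv))))
      obtain ⟨z, hz, f, hf, he⟩ := AddSubgroup.mem_sup.1 h1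
      have hz' : z ∈ Ps := sup_le hWPs hW'Ps hz
      rw [← he]
      have e1 : u • (z + f) + (z + f) = (u • z + z) + (f + f) := by
        rw [smul_add, hf u hu]; abel
      rw [e1, htwo, add_zero]
      exact Ps.add_mem (smul_mem_PW (hAH hu) hz') hz'
    let N : AddSubgroup V := Ps ⊔ Ps'
    have hNR : ∀ r ∈ R, ∀ n ∈ N, r • n ∈ N := by
      intro r hr n hn
      obtain ⟨x, hx, y, hy, rfl⟩ := AddSubgroup.mem_sup.1 hn
      rw [smul_add]
      exact N.add_mem (AddSubgroup.mem_sup_left (smul_mem_PW (h.a.RH hr) hx))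
        (AddSubgroup.mem_sup_right (smul_mem_PW (hRH' hr) hy))
    have hNA : ∀ u ∈ A, ∀ n ∈ N, u • n ∈ N := by
      intro u hu n hn
      obtain ⟨x, hx, y, hy, rfl⟩ := AddSubgroup.mem_sup.1 hn
      rw [smul_add]
      refine N.add_mem (AddSubgroup.mem_sup_left (smul_mem_PW (hAH hu) hx)) ?_
      have h2 : u • y = (u • y + y) + y := by rw [add_assoc, htwo, add_zero]
      rw [h2]
      exact N.add_mem (AddSubgroup.mem_sup_left (hsub u hu y hy)) (AddSubgroup.mem_sup_right hy)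
    have hNH := inv_sup hNR hNA
    rw [h.a.gen hAH hM] at hNH
    have hNt : ∀ n ∈ N, t • n ∈ N := by
      intro n hn
      obtain ⟨x, hx, y, hy, rfl⟩ := AddSubgroup.mem_sup.1 hn
      rw [smul_add]
      exact N.add_mem (AddSubgroup.mem_sup_right (htPs x hx)) (AddSubgroup.mem_sup_left (htPs' y hy))
    have h1 := h.a.no_sub' h.amb hNH hNt hA (sup_le (hPsE A hA hAH) hcase)
    apply Amal.WW_ne_bot h.a h.amb
    rw [eq_bot_iff, ← h1]
    exact hWPs.trans le_sup_left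
  · -- (b)
    obtain ⟨v, hv, hvE⟩ := SetLike.not_le_iff_exists.1 hcase
    obtain ⟨y, hy, hyW⟩ := h.exists_y
    obtain ⟨b, hb, hbQ⟩ := h.star hA hAH hM
    obtain ⟨s, hs, he⟩ := hm.surj _ hvE y (hPsE A hA hAH (hW'Ps hy))
    have hsK := h.four' hA hAH hM hin hy hyW hs (mem_self hm hs he)
    have h1 := hI v hv s hsK
    -- `y ∈ W + F_A`, so `b` fixes `y`
    have h2 : y = (s • v + v) + (s • v + v + y) := by
      rw [← add_assoc, htwo, zero_add]
    have h3 : b • y = y := by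
      rw [h2, smul_add, Amal.QQ_fix h.a h.amb hb.2 (hIW h1), he b hb.1]
    exact hyW (h.fix_W₁' (hin.two_a hb) hbQ hy h3)

end in15

/-- **(7), (9)**: `W' ≰ E_A` for every member `A ≤ H`, `A ≰ M` -/
theorem not_le (hin : ∀ A ∈ U, A ≤ H → ¬ A ≤ M → WW V H' R ≤ Ee V A → In15 V H H' R P' W₁' c A)
    {A : Subgroup Y} (hA : A ∈ U) (hAH : A ≤ H) (hM : ¬ A ≤ M) : ¬ WW V H' R ≤ Ee V A := by
  intro hW
  have hi := hin A hA hAH hM hW
  apply h.six hA hAH hM hi
  intro D hD hDH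
  by_contra hDW
  apply h.small hA hAH hM hi hW
  -- `D ≰ Q`
  have hDQ : ¬ D ≤ QQ H R := fun h1 => hDW (h.we' D hD (h1.trans QQ_le))
  have hmD := h.amb.cls.mem D hD
  have h1 : D ⊓ QQ H R ⊓ QQ H' R = ⊥ := by
    rw [eq_bot_iff]
    rintro s ⟨⟨hs, _⟩, hsQ'⟩
    rw [mem_bot]
    by_contra hs1
    exact hDW fun y hy => mem_E_of_fix hmD h.amb.two hs hs1 (Amal.QQ_fix h.a' h.amb hsQ' hy)
  have h2 := h.k'.ea (D ⊓ QQ H R) (inf_le_right.trans QQ_le) ((Mem.elAb hmD).mono inf_le_left)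
  rw [h1, Subgroup.card_bot, mul_one] at h2
  have h3 := h.card_mem hD hDH hDQ
  obtain ⟨g, rfl⟩ := h.amb.cls.eq D hD A hA
  rw [conj_card, h3]
  exact Nat.mul_le_mul_left _ h2

/-- **(8)**, first part -/
theorem eight {A : Subgroup Y} (hA : A ∈ U) (hAH : A ≤ H) (hM : ¬ A ≤ M) (hW : ¬ WW V H' R ≤ Ee V A) :
    A ⊓ QQ H R ⊓ QQ H' R = ⊥ ∧ Nat.card ↥(A ⊓ QQ H R) = c ∧ Nat.card A = c * c ∧
      ∀ w : V, w ∉ Ee V A → ∀ s : Y, s ∈ A ⊓ QQ H R ↔ s ∈ A ∧ s • w + w ∈ WW V H R ⊔ fx V A := by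
  have hm := h.amb.cls.mem A hA
  have h1 : A ⊓ QQ H R ⊓ QQ H' R = ⊥ := by
    rw [eq_bot_iff]
    rintro s ⟨⟨hs, _⟩, hsQ'⟩
    rw [mem_bot]
    by_contra hs1
    exact hW fun y hy => mem_E_of_fix hm h.amb.two hs hs1 (Amal.QQ_fix h.a' h.amb hsQ' hy)
  have h2 := h.k'.ea (A ⊓ QQ H R) (inf_le_right.trans QQ_le) ((Mem.elAb hm).mono inf_le_left)
  rw [h1, Subgroup.card_bot, mul_one] at h2
  have h3 : Nat.card ↥(A ⊓ QQ H R) = c := by
    apply le_antisymm h2
    obtain ⟨w, hw⟩ := hm.ne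
    rw [← h.card_pre' hA hAH (h.not_Q hM) hw]
    exact Nat.card_mono (Set.toFinite _) (h.pre_sub hA hAH (h.not_Q hM) hw)
  refine ⟨h1, h3, by rw [h.card_mem hA hAH (h.not_Q hM), h3], fun w hw s => ?_⟩
  have h4 : pre A w (WW V H R ⊔ fx V A) = (A ⊓ QQ H R : Subgroup Y) := by
    apply Set.eq_of_subset_of_ncard_le (h.pre_sub hA hAH (h.not_Q hM) hw) _ (Set.toFinite _)
    change Nat.card ↥(A ⊓ QQ H R) ≤ Nat.card (pre A w (WW V H R ⊔ fx V A))
    rw [h.card_pre' hA hAH (h.not_Q hM) hw, h3]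
  have h5 : s ∈ pre A w (WW V H R ⊔ fx V A) ↔ s ∈ (A ⊓ QQ H R : Subgroup Y) := by rw [h4]; rfl
  exact h5.symm

/-- **(8b)**: `B₁ ≤ P'` -/
theorem eight_b {A : Subgroup Y} (hA : A ∈ U) (hAH : A ≤ H) (hM : ¬ A ≤ M) (hW : ¬ WW V H' R ≤ Ee V A) :
    A ⊓ QQ H R ≤ P' := by
  by_contra hP
  have hm := h.amb.cls.mem A hA
  obtain ⟨h1, h2, _, hS⟩ := h.eight hA hAH hM hW
  obtain ⟨hc4, hBP, hRP⟩ := h.k'.fld (A ⊓ QQ H R) (inf_le_right.trans QQ_le) ((Mem.elAb hm).mono inf_le_left) hP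
    (by rw [h1, Subgroup.card_bot, mul_one]; exact h2)
  -- `R = B₁ P'`
  have hR : A ⊓ QQ H R ⊔ P' = R := by
    apply eq_of_le_of_card_ge (sup_le (inf_le_right.trans QQ_le) h.k'.PR)
    have h3 : P' < A ⊓ QQ H R ⊔ P' := lt_of_le_of_ne le_sup_right fun h4 => hP (h4 ▸ le_sup_left)
    have h5 := card_dvd_of_le h3.le
    obtain ⟨n, hn⟩ := h5
    have h6 := Amb.card_lt' h3
    have h7 : 2 ≤ n := by
      by_contra h8
      have : n ≤ 1 := by omega
      nlinarith only [hn, h6, h8]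
    nlinarith only [hRP, hn, h7]
  -- `C_{W'}(B₁) ≤ V₀`
  have hfix : ∀ y ∈ WW V H' R, (∀ b ∈ A ⊓ QQ H R, b • y = y) → y ∈ fx V R := by
    intro y hy hyB
    obtain ⟨b, hb, hbQ⟩ := SetLike.not_le_iff_exists.1 hBP
    have hb' : b ∈ A ⊓ QQ H R ⊓ P' := hb
    have hy1 := h.fix_W₁' hb'.2 hbQ hy (hyB b hb'.1)
    have h3 : R ≤ MulAction.stabilizer Y y := by
      rw [← hR]
      exact sup_le (fun r hr => hyB r hr) (fun r hr => h.k'.P_fix r hr y hy1)
    exact fun r hr => h3 hr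
  -- `|V₀| ≤ 2 |C|`
  have hV0 : Nat.card (fx V R) ≤ 2 * Nat.card (fx V H) := by
    have h3 : fx V R ⊓ D' = fx V H' := by
      apply le_antisymm
      · rintro x ⟨hx, hxD⟩ g hg
        exact h.k'.D_fix x hxD hx g hg
      · intro x hx
        refine ⟨fx_mono h.a'.RH hx, ?_⟩
        -- `x ∈ W'` is fixed by `H'`
        by_contra hxD
        have hxV : x ∈ fx V R := fx_mono h.a'.RH hx
        have hxW : x ∈ WW V H' R := fx_le_WW hxV
        have hx1 : x ∈ W₁' := by
          obtain ⟨b, hb, hbQ⟩ := SetLike.not_le_iff_exists.1 hBP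
          have hb' : b ∈ A ⊓ QQ H R ⊓ P' := hb
          exact h.fix_W₁' hb'.2 hbQ hxW (hxV b (QQ_le hb'.1.2))
        obtain ⟨g, hg, hgM⟩ := SetLike.not_le_iff_exists.1 (Amal.H_not_le h.a' h.amb)
        apply hxD
        apply h.k'.opp g hg hgM x hx1
        rw [hx g hg]
        exact hx1
    have h4 := card_sup_as (fx V R) D'
    rw [h3] at h4
    have h5 : fx V R ⊔ D' < W₁' := by
      refine lt_of_le_of_ne (sup_le ?_ h.k'.DW) ?_
      · intro x hx
        obtain ⟨b, hb, hbQ⟩ := SetLike.not_le_iff_exists.1 hBP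
        have hb' : b ∈ A ⊓ QQ H R ⊓ P' := hb
        exact h.fix_W₁' hb'.2 hbQ (fx_le_WW hx) (hx b (QQ_le hb'.1.2))
      · intro h6
        apply hP
        intro b hb
        apply h.k'.mem_P b (QQ_le hb.2)
        intro w hw
        rw [← h6] at hw
        obtain ⟨x, hx, d, hd, rfl⟩ := AddSubgroup.mem_sup.1 hw
        have e1 : b • (x + d) + (x + d) = (b • x + x) + (b • d + d) := by rw [smul_add]; abel
        rw [e1, hx b (QQ_le hb.2), h.two, zero_add]
        exact add_mem (h.k'.D_H b (h.a'.RH (QQ_le hb.2)) d hd) hd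
    have h6 : 2 * Nat.card ↥(fx V R ⊔ D') ≤ Nat.card W₁' := by
      have h7 := AddSubgroup.card_dvd_of_le h5.le
      obtain ⟨n, hn⟩ := h7
      have h8 : n ≠ 1 := by
        rintro rfl
        rw [mul_one] at hn
        exact h5.ne (eq_of_le_as h5.le hn.le)
      have h9 : n ≠ 0 := by
        rintro rfl
        rw [mul_zero] at hn
        exact absurd hn Nat.card_pos.ne'
      have h10 : 2 ≤ n := by omega
      rw [hn, mul_comm]
      exact Nat.mul_le_mul_left _ h10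
    rw [h.k'.card_W₁, hc4] at h6
    have h7 : Nat.card ↥(fx V R ⊔ D') ≤ 2 * Nat.card D' := by omega
    have h8 : Nat.card (fx V H') = Nat.card (fx V H) := by
      rw [h.H'_eq, fx_conj, card_smul_as]
    rw [h8] at h4
    have h9 : Nat.card (fx V R) * Nat.card D' ≤ 2 * Nat.card (fx V H) * Nat.card D' := by
      rw [← h4]
      calc Nat.card ↥(fx V R ⊔ D') * Nat.card (fx V H) ≤ 2 * Nat.card D' * Nat.card (fx V H) :=
            Nat.mul_le_mul_right _ h7
        _ = _ := by ring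
    exact Nat.le_of_mul_le_mul_right h9 Nat.card_pos
  -- `w ∈ W' - E_A`
  obtain ⟨w, hw, hwE⟩ := SetLike.not_le_iff_exists.1 hW
  have hwB : ∀ b ∈ A ⊓ QQ H R, b • w + w ∈ fx V R := by
    intro b hb
    apply hfix
    · exact add_mem (smul_mem_WW (h.a'.RH (QQ_le hb.2)) hw) hw
    · intro b' hb'
      obtain ⟨x, hx, f, hf, he⟩ := AddSubgroup.mem_sup.1 ((hS w hwE b).1 hb).2
      rw [← he, smul_add, Amal.QQ_fix h.a h.amb hb'.2 hx, hf b' hb'.1]
  -- the end
  have hcap := h.a.fx_inf (V := V) hAH hM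
  have h3 := card_sup_as (fx V H) (fx V H')
  have h4 : fx V H ⊓ fx V H' = ⊥ := by
    rw [eq_bot_iff]
    rintro x ⟨hx, hx'⟩
    have hx' : x ∈ fx V H' := hx'
    rw [AddSubgroup.mem_bot]
    rw [h.H'_eq, fx_conj, mem_smul_as] at hx'
    apply Amal.C_inf h.a h.amb hx
    rwa [← h.a.inv_smul_V0 (h.a.C_le hx)]
  have h8 : Nat.card (fx V H') = Nat.card (fx V H) := by
    rw [h.H'_eq, fx_conj, card_smul_as]
  rw [h4, AddSubgroup.card_bot, mul_one, h8] at h3
  have h5 : Nat.card ↥(fx V H ⊔ fx V H') ≤ Nat.card (fx V R) := Nat.card_le_card_of_injective _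
    (AddSubgroup.inclusion_injective (sup_le h.a.C_le h.a'.C_le))
  rw [h3] at h5
  have hC0 : 0 < Nat.card (fx V H) := Nat.card_pos
  have h6 : Nat.card (fx V H) ≤ 2 := Nat.le_of_mul_le_mul_right (h5.trans hV0) hC0
  let f : ↥(A ⊓ QQ H R) → fx V R := fun b => ⟨(b : Y) • w + w, hwB b b.2⟩
  have hinj : Function.Injective f := by
    rintro ⟨x, hx⟩ ⟨y, hy⟩ hxy
    have h2 : x • w + w = y • w + w := congrArg Subtype.val hxy
    have h3 : x • w = y • w := add_right_cancel h2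
    have h4 : (y * x) • w + w ∈ fx V A := by
      rw [mul_smul, h3, ← mul_smul, hm.sq y hy.1, one_smul, h.two]
      exact zero_mem _
    have h5 := hm.inj _ hwE _ (mul_mem hy.1 hx.1) h4
    apply Subtype.ext
    change x = y
    have : y * (y * x) = y * 1 := by rw [h5]
    rw [← mul_assoc, hm.sq y hy.1, one_mul, mul_one] at this
    exact this
  have h7 : Nat.card ↥(A ⊓ QQ H R) ≤ Nat.card (fx V R) := Nat.card_le_card_of_injective f hinj
  rw [h2, hc4] at h7
  have h9 : Nat.card (fx V H) = 2 := by omega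
  have h10 : Nat.card ↥(A ⊓ QQ H R) = Nat.card (fx V R) := by rw [h2, hc4]; omega
  have hsurj : Function.Surjective f := ((Nat.bijective_iff_injective_and_card f).2 ⟨hinj, h10⟩).2
  have h11 : fx V H = ⊥ := by
    rw [eq_bot_iff]
    intro x hx
    rw [AddSubgroup.mem_bot]
    obtain ⟨⟨b, hb⟩, hbx⟩ := hsurj ⟨x, h.a.C_le hx⟩
    have h12 : b • w + w = x := congrArg Subtype.val hbx
    have h13 := hm.inj w hwE b hb.1 (by rw [h12]; exact fx_mono hAH hx)
    rw [← h12, h13, one_smul, h.two]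
  rw [h11, AddSubgroup.card_bot] at h9
  omega

/-- **THE OUTPUT of bb OMEGA 20297**; `h8a` is (8a). -/
theorem out (hin : ∀ A ∈ U, A ≤ H → ¬ A ≤ M → WW V H' R ≤ Ee V A → In15 V H H' R P' W₁' c A)
    (h8a : ∀ A ∈ U, A ≤ H → ¬ A ≤ M → ¬ WW V H' R ≤ Ee V A → A ⊓ QQ H R ≤ P' →
      ∀ y ∈ WW V H' R, y ∈ Ee V A → y ∈ W₁')
    {A : Subgroup Y} (hA : A ∈ U) (hAH : A ≤ H) (hM : ¬ A ≤ M) : Out8 V H H' R P' W₁' c A := by
  have hW := h.not_le hin hA hAH hM
  obtain ⟨h1, h2, h3, h4⟩ := h.eight hA hAH hM hW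
  have h5 := h.eight_b hA hAH hM hW
  refine ⟨hW, h1, h2, h3, h4, h5, ?_, h8a A hA hAH hM hW h5⟩
  intro r hr
  apply exists_mul_of_card h.k'.QP h5 h.k'.card_P _ hr
  rw [h1, Subgroup.card_bot, mul_one, h2]

end TwoK

end Cfsg.Agent.Omega.NO1.TH
end

-- part: Mrg/Omega/NO1/TH/KOneA
section
prune_inst 0xc0000a105000020000000002800000204800010200000001d0000800004e32604d00a80044800900180284000000000810180010000000000000000000010020802a52001340010426000f803007180c00000000000000000000000000041000000000000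
set_option linter.all false
open scoped Cfsg.Agent.FastGrp

section


/-!
# N1, the amalgam `(H, H^t)`, `k = 1` (bb OMEGA 20297, helper503): (1)-(5)

An opposite member: `A ∈ U`, `A ≤ H`, `A ≰ M`.
-/

set_option autoImplicit false
set_option linter.unusedSectionVars false

namespace Cfsg.Agent.Omega.NO1.TH

open Subgroup Cfsg.Agent.Omega.NO1.AB
open scoped Pointwise

universe u

variable {Y : Type u} [Group Y] {V : Type u} [AddCommGroup V] [DistribMulAction Y V]

/-- `[W, P]` -/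
def cmK (P : Subgroup Y) (W : AddSubgroup V) : AddSubgroup V :=
  AddSubgroup.closure {v | ∃ p ∈ P, ∃ w ∈ W, v = p • w + w}

/-- `⟨W^H⟩` -/
def Psi (H : Subgroup Y) (W : AddSubgroup V) : AddSubgroup V :=
  AddSubgroup.closure {v | ∃ x ∈ H, ∃ w ∈ W, v = x • w}

theorem mem_cm {P : Subgroup Y} {W : AddSubgroup V} {p : Y} {w : V} (hp : p ∈ P) (hw : w ∈ W) :
    p • w + w ∈ cmK P W := AddSubgroup.subset_closure ⟨p, hp, w, hw, rfl⟩

theorem cm_le {P : Subgroup Y} {W X : AddSubgroup V} (h : ∀ p ∈ P, ∀ w ∈ W, p • w + w ∈ X) : cmK P W ≤ X := by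
  refine (AddSubgroup.closure_le _).2 ?_
  rintro _ ⟨p, hp, w, hw, rfl⟩
  exact h p hp w hw

theorem smul_mem_cm {P P₂ : Subgroup Y} {W W₂ : AddSubgroup V} {x : Y} (hP : ∀ p ∈ P, x * p * x⁻¹ ∈ P₂)
    (hW : ∀ w ∈ W, x • w ∈ W₂) {v : V} (hv : v ∈ cmK P W) : x • v ∈ cmK P₂ W₂ := by
  induction hv using AddSubgroup.closure_induction with
  | mem v hv =>
    obtain ⟨p, hp, w, hw, rfl⟩ := hv
    have e : x • (p • w + w) = (x * p * x⁻¹) • (x • w) + x • w := by
      rw [smul_add, ← mul_smul, ← mul_smul]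
      congr 2; group
    rw [e]
    exact mem_cm (hP p hp) (hW w hw)
  | zero => rw [smul_zero]; exact zero_mem _
  | add a b _ _ h1 h2 => rw [smul_add]; exact add_mem h1 h2
  | neg a _ h1 => rw [smul_neg]; exact neg_mem h1

/-- products `B Q`, `Q` normalised by `B` -/
theorem exists_mul_of_sup {B Q : Subgroup Y} (hn : ∀ b ∈ B, ∀ q ∈ Q, b * q * b⁻¹ ∈ Q) {x : Y} (hx : x ∈ B ⊔ Q) :
    ∃ b ∈ B, ∃ q ∈ Q, x = b * q := by
  let S : Subgroup Y :=
    { carrier := {x | ∃ b ∈ B, ∃ q ∈ Q, x = b * q}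
      one_mem' := ⟨1, B.one_mem, 1, Q.one_mem, by group⟩
      mul_mem' := by
        rintro _ _ ⟨b, hb, q, hq, rfl⟩ ⟨b', hb', q', hq', rfl⟩
        have h1 := hn _ (B.inv_mem hb') q hq
        refine ⟨b * b', B.mul_mem hb hb', b'⁻¹ * q * b'⁻¹⁻¹ * q', Q.mul_mem h1 hq', by group⟩
      inv_mem' := by
        rintro _ ⟨b, hb, q, hq, rfl⟩
        exact ⟨b⁻¹, B.inv_mem hb, b * q⁻¹ * b⁻¹, hn b hb _ (Q.inv_mem hq), by group⟩ }
  have h1 : B ⊔ Q ≤ S := sup_le (fun b hb => ⟨b, hb, 1, Q.one_mem, by group⟩)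
    fun q hq => ⟨1, B.one_mem, q, hq, by group⟩
  exact h1 hx

theorem card_of_cover [Finite Y] {P Q B : Subgroup Y} {c : ℕ} (hQP : Q ≤ P) (hBP : B ≤ P)
    (hcov : ∀ p ∈ P, ∃ b ∈ B, ∃ q ∈ Q, p = b * q) (hc : Nat.card P = c * Nat.card Q) :
    Nat.card B = c * Nat.card ↥(B ⊓ Q) := by
  have h1 : Q.relIndex P = c := by
    have h2 := relIndex_mul_relIndex ⊥ Q P bot_le hQP
    rw [relIndex_bot_left, relIndex_bot_left, hc, mul_comm] at h2
    exact Nat.eq_of_mul_eq_mul_right Nat.card_pos h2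
  let φ := quotientSubgroupOfEmbeddingOfLE Q hBP
  have hs : Function.Surjective φ := by
    intro y
    obtain ⟨⟨p, hp⟩, rfl⟩ := QuotientGroup.mk_surjective y
    obtain ⟨b, hb, q, hq, rfl⟩ := hcov p hp
    refine ⟨QuotientGroup.mk ⟨b, hb⟩, ?_⟩
    change (QuotientGroup.mk (⟨b, hBP hb⟩ : P) : P ⧸ Q.subgroupOf P) = QuotientGroup.mk _
    rw [QuotientGroup.eq]
    change b⁻¹ * (b * q) ∈ Q
    have e : b⁻¹ * (b * q) = q := by group
    rwa [e]
  have h7 : Nat.card (P ⧸ Q.subgroupOf P) = Nat.card (B ⧸ Q.subgroupOf B) :=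
    (Nat.card_congr (Equiv.ofBijective φ ⟨φ.injective, hs⟩)).symm
  have h8 : Q.relIndex B = c := by
    rw [← h1]
    exact h7.symm
  have h4 := relIndex_mul_relIndex ⊥ (B ⊓ Q) B bot_le inf_le_left
  rw [relIndex_bot_left, relIndex_bot_left, inf_relIndex_left, h8] at h4
  rw [← h4, mul_comm]

theorem arith_one {w w' i x y z m n k b α f e g c : ℕ} (hw : 0 < w) (hi : 0 < i) (hy : 0 < y) (hm : 0 < m)
    (hn : 0 < n) (hk : 0 < k) (hf : 0 < f) (hc : 0 < c) (h1 : x * i = w * w') (h2 : z * i = w * y)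
    (h3 : z * n = w * m) (h4 : w = c * n) (h5 : k * e ≤ f * α) (h6 : g ≤ e) (h7 : g * m = x * f)
    (h8 : b * y ≤ k * w') (h9 : α = c * b) : k * w' = b * y ∧ e ≤ g := by
  have e1 : z = c * m := by
    apply Nat.eq_of_mul_eq_mul_right hn
    rw [h3, h4]; ring
  have e2 : x * y = z * w' := by
    apply Nat.eq_of_mul_eq_mul_right (Nat.mul_pos hi hw)
    calc x * y * (i * w) = (x * i) * (w * y) := by ring
      _ = w * w' * (z * i) := by rw [h1, h2]
      _ = _ := by ring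
  have e3 : k * x ≤ c * b * m := by
    apply Nat.le_of_mul_le_mul_right _ hf
    calc k * x * f = k * (x * f) := by ring
      _ = k * (g * m) := by rw [h7]
      _ ≤ k * (e * m) := Nat.mul_le_mul_left _ (Nat.mul_le_mul_right _ h6)
      _ = k * e * m := by ring
      _ ≤ f * α * m := Nat.mul_le_mul_right _ h5
      _ = _ := by rw [h9]; ring
  have e4 : k * w' ≤ b * y := by
    apply Nat.le_of_mul_le_mul_left _ (Nat.mul_pos hc hm)
    calc c * m * (k * w') = k * (z * w') := by rw [e1]; ring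
      _ = k * x * y := by rw [← e2]; ring
      _ ≤ c * b * m * y := Nat.mul_le_mul_right _ e3
      _ = _ := by ring
  have e5 := le_antisymm e4 h8
  refine ⟨e5, ?_⟩
  have e6 : c * b * m = k * x := by
    apply Nat.eq_of_mul_eq_mul_right hy
    calc c * b * m * y = c * m * (b * y) := by ring
      _ = c * m * (k * w') := by rw [e5]
      _ = k * (z * w') := by rw [e1]; ring
      _ = _ := by rw [← e2]; ring
  apply Nat.le_of_mul_le_mul_left _ (Nat.mul_pos hk hm)
  calc k * m * e = m * (k * e) := by ring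
    _ ≤ m * (f * α) := Nat.mul_le_mul_left _ h5
    _ = c * b * m * f := by rw [h9]; ring
    _ = k * (x * f) := by rw [e6]; ring
    _ = _ := by rw [← h7]; ring

namespace TwoK

variable [Finite Y] [Finite V] {U : Set (Subgroup Y)} {T : Sylow 2 Y} {M H H' R P P' : Subgroup Y}
  {D D' W₁ W₁' : AddSubgroup V} {c : ℕ} {t : Y} (h : TwoK V U T M H H' R P P' D D' W₁ W₁' c t)
include h

theorem vv0 (v : V) : v + v = 0 := h.amb.two v

theorem c_pos : 0 < c := lt_of_lt_of_le (by norm_num) h.k.two_le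

theorem RM : R ≤ M := h.a.RT.trans h.amb.TM

theorem conj_Q {x : Y} (hx : x ∈ H) : MulAut.conj x • QQ H R = QQ H R := conj_of_mem fun _ hq => conj_mem_QQ hx hq

/-- an opposite member is conjugate in `H` to a member in `R` -/
theorem exists_x {A : Subgroup Y} (hA : A ∈ U) (hAH : A ≤ H) (hAM : ¬ A ≤ M) :
    ∃ x ∈ H, x ∉ M ∧ MulAut.conj x • A ∈ U ∧ MulAut.conj x • A ≤ R ∧ ¬ MulAut.conj x • A ≤ QQ H R := by
  obtain ⟨x, hx, h1, h2⟩ := h.a.exists_conj h.amb hA hAH
  refine ⟨x, hx, fun hxM => hAM ?_, h1, h2, fun h3 => hAM ?_⟩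
  · have h4 := h2.trans h.RM
    rw [conj_le_iff] at h4
    refine h4.trans ?_
    intro y hy
    rw [mem_conj, inv_inv] at hy
    have h5 := M.mul_mem (M.mul_mem (M.inv_mem hxM) hy) hxM
    have e : x⁻¹ * (x * y * x⁻¹) * x = y := by group
    rwa [e] at h5
  · rw [conj_le_iff, h.conj_Q (H.inv_mem hx)] at h3
    exact h3.trans (QQ_le.trans h.RM)

theorem card_memR {B : Subgroup Y} (hB : B ∈ U) (hBR : B ≤ R) (hBQ : ¬ B ≤ QQ H R) :
    Nat.card B = c * Nat.card ↥(B ⊓ QQ H R) := by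
  obtain ⟨h1, h2⟩ := h.k.cover B hB hBR hBQ
  exact card_of_cover h.k.QP h1 (fun p hp => exists_mul_of_sup
    (fun b hb q hq => conj_mem_QQ (h.a.RH (hBR hb)) hq) (h2 hp)) h.k.card_P

theorem fx_W₁ {B : Subgroup Y} (hB : B ∈ U) (hBR : B ≤ R) (hBQ : ¬ B ≤ QQ H R) {w : V} (hw : w ∈ WW V H R)
    (hwB : w ∈ fx V B) : w ∈ W₁ := by
  by_contra hw1
  apply hBQ
  intro b hb
  apply h.k.free b ((h.k.cover B hB hBR hBQ).1 hb) w hw hw1
  rw [hwB b hb, h.vv0]
  exact zero_mem _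

theorem W₁_fx {B : Subgroup Y} (hB : B ∈ U) (hBR : B ≤ R) (hBQ : ¬ B ≤ QQ H R) : W₁ ≤ fx V B :=
  fun w hw b hb => h.k.P_fix b ((h.k.cover B hB hBR hBQ).1 hb) w hw

theorem smul_mem_iff {A : Subgroup Y} {x : Y} {w : V} : x • w ∈ fx V (MulAut.conj x • A) ↔ w ∈ fx V A := by
  rw [fx_conj, mem_smul_as, inv_smul_smul]

theorem D_fx {A : Subgroup Y} (hA : A ∈ U) (hAH : A ≤ H) (hAM : ¬ A ≤ M) : D ≤ fx V A := by
  obtain ⟨x, hx, -, h1, h2, h3⟩ := h.exists_x hA hAH hAM
  intro v hv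
  rw [← h.smul_mem_iff (x := x)]
  exact h.W₁_fx h1 h2 h3 (h.k.DW (h.k.D_H x hx v hv))

theorem fix_D {A : Subgroup Y} (hA : A ∈ U) (hAH : A ≤ H) (hAM : ¬ A ≤ M) {v : V} (hv : v ∈ W₁)
    (hvA : v ∈ fx V A) : v ∈ D := by
  obtain ⟨x, hx, hxM, h1, h2, h3⟩ := h.exists_x hA hAH hAM
  apply h.k.opp x hx hxM v hv
  apply h.fx_W₁ h1 h2 h3 (smul_mem_WW hx (h.k.W₁W hv))
  rwa [h.smul_mem_iff]

theorem free_A' {A : Subgroup Y} (hA : A ∈ U) (hAH : A ≤ H) (hAM : ¬ A ≤ M) {w : V} (hw : w ∈ WW V H R)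
    (hwA : w ∉ fx V A) {u : Y} (hu : u ∈ A) (h0 : u • w + w ∈ D) : u ∈ QQ H R := by
  obtain ⟨x, hx, hxM, h1, h2, h3⟩ := h.exists_x hA hAH hAM
  have h4 := h.k.free (x * u * x⁻¹) ((h.k.cover _ h1 h2 h3).1 (conj_mem_conj hu)) (x • w) (smul_mem_WW hx hw)
    (fun h5 => hwA (by rw [← h.smul_mem_iff (x := x)]; exact h.W₁_fx h1 h2 h3 h5)) (by
      have e : (x * u * x⁻¹) • x • w + x • w = x • (u • w + w) := by
        rw [smul_add, ← mul_smul, ← mul_smul]
        congr 2; group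
      rw [e]
      exact h.k.D_H x hx _ h0)
  have h5 := conj_mem_QQ (H.inv_mem hx) h4
  have e : x⁻¹ * (x * u * x⁻¹) * x⁻¹⁻¹ = u := by group
  rwa [e] at h5

theorem free_A {A : Subgroup Y} (hA : A ∈ U) (hAH : A ≤ H) (hAM : ¬ A ≤ M) {w : V} (hw : w ∈ WW V H R)
    (hwA : w ∉ fx V A) {u : Y} (hu : u ∈ A) (h0 : u • w = w) : u ∈ QQ H R :=
  h.free_A' hA hAH hAM hw hwA hu (by rw [h0, h.vv0]; exact zero_mem _)

theorem card_opp {A : Subgroup Y} (hA : A ∈ U) (hAH : A ≤ H) (hAM : ¬ A ≤ M) :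
    Nat.card A = c * Nat.card ↥(A ⊓ QQ H R) := by
  obtain ⟨x, hx, hxM, h1, h2, h3⟩ := h.exists_x hA hAH hAM
  have h4 := h.card_memR h1 h2 h3
  rw [conj_card] at h4
  rw [h4]
  congr 1
  rw [← conj_card x (A ⊓ QQ H R), conj_inf, h.conj_Q hx]

theorem card_fx {A : Subgroup Y} (hA : A ∈ U) (hAH : A ≤ H) (hAM : ¬ A ≤ M) :
    Nat.card ↥(WW V H R ⊓ fx V A) = Nat.card W₁ := by
  obtain ⟨x, hx, hxM, h1, h2, h3⟩ := h.exists_x hA hAH hAM
  have h4 : WW V H R ⊓ fx V A = x⁻¹ • W₁ := by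
    ext v
    rw [mem_smul_as, inv_inv, AddSubgroup.mem_inf]
    constructor
    · rintro ⟨h5, h6⟩
      exact h.fx_W₁ h1 h2 h3 (smul_mem_WW hx h5) (by rwa [h.smul_mem_iff])
    · intro h5
      refine ⟨?_, ?_⟩
      · have h6 := smul_mem_WW (H.inv_mem hx) (h.k.W₁W h5)
        rwa [inv_smul_smul] at h6
      · rw [← h.smul_mem_iff (x := x)]
        exact h.W₁_fx h1 h2 h3 h5
  rw [h4, card_smul_as]

/-- `u ∈ A - Q` is not in `M` -/
theorem not_M {A : Subgroup Y} (hA : A ∈ U) (hAH : A ≤ H) (hAM : ¬ A ≤ M) {u : Y} (hu : u ∈ A)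
    (huQ : u ∉ QQ H R) : u ∉ M := by
  intro huM
  obtain ⟨x, hx, hxM, h1, h2, h3⟩ := h.exists_x hA hAH hAM
  -- `w ∈ W₁ - D`
  obtain ⟨w, hw, hwD⟩ : ∃ w ∈ W₁, w ∉ D := by
    by_contra hcon
    push Not at hcon
    have h4 : W₁ = D := le_antisymm hcon h.k.DW
    have h5 := h.k.card_W₁
    rw [h4] at h5
    have h6 : 0 < Nat.card D := Nat.card_pos
    have h7 := h.k.two_le
    nlinarith
  have hwA : w ∉ fx V A := fun h4 => hwD (h.fix_D hA hAH hAM hw h4)
  apply huQ
  apply h.free_A' hA hAH hAM (h.k.W₁W hw) hwA hu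
  have h4 : u • w + w ∈ W₁ := add_mem (h.k.stab u (hAH hu) huM w hw) hw
  apply h.fix_D hA hAH hAM h4
  rw [← h.smul_mem_iff (x := x)]
  have e : x • (u • w + w) = (x * u * x⁻¹) • x • w + x • w := by
    rw [smul_add, ← mul_smul, ← mul_smul]
    congr 2; group
  rw [e]
  apply h.W₁_fx h1 h2 h3
  exact h.k.P_comm _ ((h.k.cover _ h1 h2 h3).1 (conj_mem_conj hu)) _ (smul_mem_WW hx (h.k.W₁W hw))

/-- the count of (1) -/
theorem one_aux {A : Subgroup Y} (hA : A ∈ U) (hAH : A ≤ H) (hAM : ¬ A ≤ M) (hE : WW V H' R ≤ Ee V A) :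
    Nat.card ↥(A ⊓ QQ H R ⊓ QQ H' R) * Nat.card ↥(WW V H' R) =
        Nat.card ↥(A ⊓ QQ H R) * Nat.card ↥(fx V (A ⊓ QQ H R) ⊓ WW V H' R) ∧
      fx V (A ⊓ QQ H R ⊓ QQ H' R) ⊓ Ee V A = WW V H R ⊔ WW V H' R ⊔ fx V A := by
  have hm := h.amb.cls.mem A hA
  set W := WW V H R with hW
  set W' := WW V H' R with hW'
  set F := fx V A with hF
  set E := Ee V A with hEd
  set B₁ := A ⊓ QQ H R with hB₁
  set K := B₁ ⊓ QQ H' R with hK
  have hWE : W ≤ E := h.a.WW_le_Ee h.amb h.we hA hAH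
  have hZ : fx V B₁ = W ⊔ F := h.a.fx_eq h.amb h.we hA hAH
  have hWZ : W ≤ fx V B₁ := by rw [hZ]; exact le_sup_left
  have hX : W ⊔ W' ⊔ F ≤ fx V K ⊓ E := by
    refine sup_le (sup_le ?_ ?_) ?_
    · exact le_inf (hWZ.trans (fx_mono inf_le_left)) hWE
    · exact le_inf (fun v hv b hb => Amal.QQ_fix h.a' h.amb hb.2 hv) hE
    · exact le_inf (fx_mono (inf_le_left.trans inf_le_left)) hm.FE
  have c1 := card_sup_as W W'
  have c2 := card_sup_as W (fx V B₁ ⊓ W')
  have i2 : W ⊓ (fx V B₁ ⊓ W') = W ⊓ W' := by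
    rw [← inf_assoc, inf_eq_left.2 hWZ]
  rw [i2] at c2
  have i3 : (W ⊔ W') ⊓ fx V B₁ = W ⊔ fx V B₁ ⊓ W' := by
    rw [sup_inf_assoc_of_le _ hWZ, inf_comm W']
  have i4 : (W ⊔ W') ⊓ fx V B₁ = W ⊔ (W ⊔ W') ⊓ F := by
    rw [hZ, inf_comm, sup_inf_assoc_of_le _ le_sup_left, inf_comm F]
  have c3 := card_sup_as W ((W ⊔ W') ⊓ F)
  have i5 : W ⊓ ((W ⊔ W') ⊓ F) = W ⊓ F := by
    rw [← inf_assoc, inf_eq_left.2 (le_sup_left : W ≤ W ⊔ W')]
  rw [i5, ← i4, i3] at c3
  have c4 : Nat.card W = c * Nat.card ↥(W ⊓ F) := by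
    rw [h.card_fx hA hAH hAM]
    exact h.k.card_W
  have c5 := h.amb.cls.mu A hA K (inf_le_left.trans inf_le_left)
  rw [hm.card_E h.amb.two] at c5
  have c6 := Nat.card_le_card_of_injective _ (AddSubgroup.inclusion_injective hX)
  have c7 := card_sup_as (W ⊔ W') F
  have c8 := h.k'.noOver B₁ (inf_le_right.trans QQ_le) (ElAb.mono (Mem.elAb hm) inf_le_left)
  have c9 := h.card_opp hA hAH hAM
  obtain ⟨r1, r2⟩ := arith_one (w := Nat.card W) (w' := Nat.card W') (i := Nat.card ↥(W ⊓ W'))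
    (x := Nat.card ↥(W ⊔ W')) (y := Nat.card ↥(fx V B₁ ⊓ W')) (z := Nat.card ↥(W ⊔ fx V B₁ ⊓ W'))
    (m := Nat.card ↥((W ⊔ W') ⊓ F)) (n := Nat.card ↥(W ⊓ F)) (k := Nat.card K) (b := Nat.card B₁)
    (α := Nat.card A) (f := Nat.card F) (e := Nat.card ↥(fx V K ⊓ E)) (g := Nat.card ↥(W ⊔ W' ⊔ F)) (c := c)
    Nat.card_pos Nat.card_pos Nat.card_pos Nat.card_pos Nat.card_pos Nat.card_pos Nat.card_pos h.c_pos
    c1 c2 c3 c4 c5 c6 c7 c8 c9
  exact ⟨r1, (eq_of_le_as hX r2).symm⟩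

/-- **(1)** -/
theorem one {A : Subgroup Y} (hA : A ∈ U) (hAH : A ≤ H) (hAM : ¬ A ≤ M) (hE : WW V H' R ≤ Ee V A) :
    fx V (A ⊓ QQ H R ⊓ QQ H' R) ⊓ Ee V A = WW V H R ⊔ WW V H' R ⊔ fx V A := (h.one_aux hA hAH hAM hE).2

/-- **(2)** -/
theorem two_P {A : Subgroup Y} (hA : A ∈ U) (hAH : A ≤ H) (hAM : ¬ A ≤ M) (hE : WW V H' R ≤ Ee V A) :
    A ⊓ QQ H R ≤ P' ∧ P' ≤ (A ⊓ QQ H R) ⊔ QQ H' R := by
  apply h.k'.exactOff _ (inf_le_right.trans QQ_le) (ElAb.mono (Mem.elAb (h.amb.cls.mem A hA)) inf_le_left)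
  · intro h1
    obtain ⟨b, hb, hb'⟩ := h.star hA hAH hAM
    exact hb' (h1 hb)
  · exact (h.one_aux hA hAH hAM hE).1.le

/-- `H` normalises what `R` and `A` normalise -/
theorem gen_induct {A : Subgroup Y} (hAH : A ≤ H) (hAM : ¬ A ≤ M) {S : Subgroup Y} (hR : R ≤ S) (hS : A ≤ S) :
    H ≤ S := by
  rw [← h.a.gen hAH hAM]
  exact sup_le hR hS

theorem cover_mul {A : Subgroup Y} (hA : A ∈ U) (hAH : A ≤ H) (hAM : ¬ A ≤ M) (hP : P' ≤ (A ⊓ QQ H R) ⊔ QQ H' R)
    {p : Y} (hp : p ∈ P') : ∃ b ∈ A ⊓ QQ H R, ∃ q ∈ QQ H' R, p = b * q := by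
  have h1 : ∀ b ∈ A ⊓ QQ H R, ∀ q ∈ QQ H' R, b * q * b⁻¹ ∈ QQ H' R := fun b hb q hq =>
    conj_mem_QQ (h.a'.RH (QQ_le hb.2)) hq
  exact exists_mul_of_sup h1 (hP hp)

/-- a vector `d` of `W₁'` is fixed mod `D'` ... `P'`: `y ∈ W' - W₁'` fixed by `B₁` -/
theorem fixB_W₁' {B : Subgroup Y} (hBP : B ≤ P') (hB : ¬ B ≤ QQ H' R) {y : V} (hy : y ∈ WW V H' R)
    (hyB : ∀ b ∈ B, b • y = y) : y ∈ W₁' := by
  by_contra hy1
  apply hB
  intro b hb
  apply h.k'.free b (hBP hb) y hy hy1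
  rw [hyB b hb, h.vv0]
  exact zero_mem _

/-- **(2)** -/
theorem two_all {A : Subgroup Y} (hA : A ∈ U) (hAH : A ≤ H) (hAM : ¬ A ≤ M) (hE : WW V H' R ≤ Ee V A) :
    A ⊓ QQ H R ≤ P' ∧ P' ≤ (A ⊓ QQ H R) ⊔ QQ H' R ∧
      Nat.card ↥(A ⊓ QQ H R) = c * Nat.card ↥(A ⊓ QQ H R ⊓ QQ H' R) ∧
      (∀ y ∈ WW V H' R, (∀ b ∈ A ⊓ QQ H R, b • y = y) → y ∈ W₁') ∧ cmK P' (WW V H' R) ≤ fx V A := by
  obtain ⟨h1, h2⟩ := h.two_P hA hAH hAM hE
  refine ⟨h1, h2, ?_, ?_, ?_⟩
  · exact card_of_cover h.k'.QP h1 (fun p hp => h.cover_mul hA hAH hAM h2 hp) h.k'.card_P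
  · intro y hy hyB
    refine h.fixB_W₁' h1 (fun h3 => ?_) hy hyB
    obtain ⟨b, hb, hb'⟩ := h.star hA hAH hAM
    exact hb' (h3 hb)
  · apply cm_le
    intro p hp w hw
    obtain ⟨b, hb, q, hq, rfl⟩ := h.cover_mul hA hAH hAM h2 hp
    rw [mul_smul, Amal.QQ_fix h.a' h.amb hq hw]
    exact hE hw b hb.1

theorem cm_R {r : Y} (hr : r ∈ R) {v : V} (hv : v ∈ cmK P' (WW V H' R)) : r • v ∈ cmK P' (WW V H' R) :=
  smul_mem_cm (fun _ hp => h.k'.P_norm h.amb.two hr hp) (fun _ hw => smul_mem_WW (h.a'.RH hr) hw) hv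

/-- `I'` is `H`-invariant -/
theorem cm_H {A : Subgroup Y} (hA : A ∈ U) (hAH : A ≤ H) (hAM : ¬ A ≤ M) (hE : WW V H' R ≤ Ee V A)
    {x : Y} (hx : x ∈ H) {v : V} (hv : v ∈ cmK P' (WW V H' R)) : x • v ∈ cmK P' (WW V H' R) := by
  have h1 := (h.two_all hA hAH hAM hE).2.2.2.2
  let S : Subgroup Y :=
    { carrier := {x | ∀ v ∈ cmK P' (WW V H' R), x • v ∈ cmK P' (WW V H' R) ∧ x⁻¹ • v ∈ cmK P' (WW V H' R)}
      one_mem' := fun v hv => by rw [inv_one, one_smul]; exact ⟨hv, hv⟩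
      mul_mem' := fun {x y} hx hy v hv => by
        rw [mul_inv_rev, mul_smul, mul_smul]
        exact ⟨(hx _ (hy v hv).1).1, (hy _ (hx v hv).2).2⟩
      inv_mem' := fun {x} hx v hv => by
        rw [inv_inv]
        exact ⟨(hx v hv).2, (hx v hv).1⟩ }
  have h2 : H ≤ S := by
    apply h.gen_induct hAH hAM
    · intro r hr v hv
      exact ⟨h.cm_R hr hv, h.cm_R (R.inv_mem hr) hv⟩
    · intro u hu v hv
      rw [h1 hv u hu, h1 hv u⁻¹ (A.inv_mem hu)]
      exact ⟨hv, hv⟩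
  exact (h2 hx v hv).1

/-- `t I = I'` -/
theorem t_cm {v : V} (hv : v ∈ cmK P (WW V H R)) : t • v ∈ cmK P' (WW V H' R) := by
  apply smul_mem_cm _ _ hv
  · intro p hp
    rw [h.P'_eq]
    exact conj_mem_conj hp
  · intro w hw
    rw [h.W'_eq]
    exact smul_mem_smul_as hw

theorem t_cm_inv {v : V} (hv : v ∈ cmK P' (WW V H' R)) : t⁻¹ • v ∈ cmK P (WW V H R) := by
  have h1 := h.swap.t_cm hv
  have h2 := h.swap.cm_R (R.inv_mem h.a.t_sq) h1
  have e : (t * t)⁻¹ • t • v = t⁻¹ • v := by rw [← mul_smul]; congr 1; group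
  rwa [e] at h2

theorem t_D {v : V} (hv : v ∈ D) : t • v ∈ D' := by
  rw [h.D'_eq]; exact smul_mem_smul_as hv

/-- a vector fixed by `H` and by `H'` is `0` -/
theorem fix_zero {v : V} (h1 : v ∈ fx V H) (h2 : t • v ∈ fx V H) : v = 0 := h.a.C_inf h.amb h1 h2

theorem t_fx {v : V} (hv : v ∈ fx V H') : t • v ∈ fx V H := by
  intro x hx
  have h1 : t⁻¹ * x * t ∈ H' := by
    rw [h.H_eq, mem_conj] at hx
    exact hx
  have h2 := hv _ h1
  have e : (t⁻¹ * x * t) • v = t⁻¹ • x • t • v := by rw [← mul_smul, ← mul_smul, mul_assoc]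
  rw [e, inv_smul_eq_iff] at h2
  exact h2

theorem cm_le_W₁ : cmK P (WW V H R) ≤ W₁ := cm_le h.k.P_comm

/-- `W₁ = I + D` -/
theorem W₁_le : W₁ ≤ cmK P (WW V H R) ⊔ D := by
  obtain ⟨w, hw, hw1⟩ : ∃ w ∈ WW V H R, w ∉ W₁ := by
    by_contra hcon
    push Not at hcon
    have h4 : WW V H R = W₁ := le_antisymm hcon h.k.W₁W
    have h5 := h.k.card_W
    rw [h4] at h5
    have h6 : 0 < Nat.card W₁ := Nat.card_pos
    have h7 := h.k.two_le
    nlinarith
  intro v hv
  obtain ⟨p, hp, h1⟩ := h.k.onto w hw hw1 v hv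
  have e : v = (p • w + w) + (p • w + w + v) := by
    rw [← add_assoc, h.vv0, zero_add]
  rw [e]
  exact add_mem (AddSubgroup.mem_sup_left (mem_cm hp hw)) (AddSubgroup.mem_sup_right h1)

/-- `I' ∩ D' = 0` -/
theorem cm_inf_D' {A : Subgroup Y} (hA : A ∈ U) (hAH : A ≤ H) (hAM : ¬ A ≤ M) (hE : WW V H' R ≤ Ee V A) :
    cmK P' (WW V H' R) ⊓ D' = ⊥ := by
  by_contra hne
  have h1 := (h.two_all hA hAH hAM hE).2.2.2.2
  obtain ⟨⟨w, hw⟩, hw1⟩ := AddSubgroup.ne_bot_iff_exists_ne_zero.1 hne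
  have hw0 : w ≠ 0 := fun h2 => hw1 (Subtype.ext h2)
  obtain ⟨v, hv, hv0, hvR⟩ := HE.exists_fixed h.amb.two h.a.R2 (cmK P' (WW V H' R) ⊓ D')
    (fun r hr w hw => ⟨h.cm_R hr hw.1, h.k'.D_H r (h.a'.RH hr) w hw.2⟩) ⟨w, hw, hw0⟩
  apply hv0
  have h2 : v ∈ fx V H := by
    rw [← h.a.fx_inf hAH hAM]
    exact ⟨h1 hv.1, hvR⟩
  have h3 : v ∈ fx V H' := fun x hx => h.k'.D_fix v hv.2 hvR x hx
  exact h.fix_zero h2 (h.t_fx h3)

theorem cm_inf_D {A : Subgroup Y} (hA : A ∈ U) (hAH : A ≤ H) (hAM : ¬ A ≤ M) (hE : WW V H' R ≤ Ee V A) {v : V}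
    (hv : v ∈ cmK P (WW V H R)) (hvD : v ∈ D) : v = 0 := by
  have h1 : t • v ∈ cmK P' (WW V H' R) ⊓ D' := ⟨h.t_cm hv, h.t_D hvD⟩
  rw [h.cm_inf_D' hA hAH hAM hE, AddSubgroup.mem_bot] at h1
  rwa [smul_eq_zero_iff_eq] at h1

/-- `W = W₁ + (W ∩ F₂)` -/
theorem W_le {A : Subgroup Y} (hA : A ∈ U) (hAH : A ≤ H) (hAM : ¬ A ≤ M) : WW V H R ≤ W₁ ⊔ (WW V H R ⊓ fx V A) := by
  have h1 : W₁ ⊔ (WW V H R ⊓ fx V A) = WW V H R := by
    apply eq_of_le_as (sup_le h.k.W₁W inf_le_left)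
    have h2 := card_sup_as W₁ (WW V H R ⊓ fx V A)
    have h3 : W₁ ⊓ (WW V H R ⊓ fx V A) = D := by
      apply le_antisymm
      · rintro v ⟨hv1, hv2⟩
        exact h.fix_D hA hAH hAM hv1 hv2.2
      · exact le_inf h.k.DW (le_inf (h.k.DW.trans h.k.W₁W) (h.D_fx hA hAH hAM))
    rw [h3, h.card_fx hA hAH hAM] at h2
    have h4 : 0 < Nat.card D := Nat.card_pos
    apply Nat.le_of_mul_le_mul_right _ h4
    rw [h2, h.k.card_W, mul_assoc, mul_comm (Nat.card W₁) (Nat.card D), ← mul_assoc, ← h.k.card_W₁]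
  exact h1.ge

/-- (2), the other side -/
theorem two_inf {A : Subgroup Y} (hA : A ∈ U) (hAH : A ≤ H) (hAM : ¬ A ≤ M) (hE : WW V H' R ≤ Ee V A)
    {A₂ : Subgroup Y} (hA₂ : A₂ ∈ U) (hAH₂ : A₂ ≤ H) (hAM₂ : ¬ A₂ ≤ M) :
    cmK P (WW V H R) ⊓ fx V A₂ = ⊥ ∧ WW V H R ≤ cmK P (WW V H R) ⊔ fx V A₂ := by
  refine ⟨?_, ?_⟩
  · rw [eq_bot_iff]
    rintro v ⟨h1, h2⟩
    exact h.cm_inf_D hA hAH hAM hE h1 (h.fix_D hA₂ hAH₂ hAM₂ (h.cm_le_W₁ h1) h2)
  · refine (h.W_le hA₂ hAH₂ hAM₂).trans (sup_le ?_ (inf_le_right.trans le_sup_right))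
    refine h.W₁_le.trans (sup_le le_sup_left ?_)
    exact (h.D_fx hA₂ hAH₂ hAM₂).trans le_sup_right

/-- `I` is `H'`-invariant -/
theorem cm_H' {A : Subgroup Y} (hA : A ∈ U) (hAH : A ≤ H) (hAM : ¬ A ≤ M) (hE : WW V H' R ≤ Ee V A)
    {x : Y} (hx : x ∈ H') {v : V} (hv : v ∈ cmK P (WW V H R)) : x • v ∈ cmK P (WW V H R) := by
  have h1 : t * x * t⁻¹ ∈ H := by
    rw [h.H_eq]; exact conj_mem_conj hx
  have h2 := h.t_cm_inv (h.cm_H hA hAH hAM hE h1 (h.t_cm hv))
  have e : t⁻¹ • (t * x * t⁻¹) • t • v = x • v := by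
    rw [← mul_smul, ← mul_smul]; congr 1; group
  rwa [e] at h2

/-- **(3)** -/
theorem three {A : Subgroup Y} (hA : A ∈ U) (hAH : A ≤ H) (hAM : ¬ A ≤ M) (hE : WW V H' R ≤ Ee V A)
    {n : Y} (hn : n ∈ QQ H R) (hn' : n ∈ QQ H' R) {v : V} (hv : v ∈ Psi H' (WW V H R)) :
    n • v + v ∈ cmK P (WW V H R) := by
  induction hv using AddSubgroup.closure_induction with
  | mem v hv =>
    obtain ⟨x, hx, w, hw, rfl⟩ := hv
    have h1 : x⁻¹ * n * x ∈ QQ H' R := by
      have := conj_mem_QQ (H'.inv_mem hx) hn'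
      simpa using this
    have h2 : x⁻¹ * n * x ∈ P := by
      apply h.k.mem_P _ (QQ_le h1)
      intro u hu
      obtain ⟨i, hi, d, hd, rfl⟩ := AddSubgroup.mem_sup.1 (h.W₁_le hu)
      have h3 : (x⁻¹ * n * x) • i = i := by
        have h4 := Amal.QQ_fix h.a h.amb hn (h.k.W₁W (h.cm_le_W₁ (h.cm_H' hA hAH hAM hE hx hi)))
        rw [mul_smul, mul_smul, h4, inv_smul_smul]
      have e : (x⁻¹ * n * x) • (i + d) + (i + d) = ((x⁻¹ * n * x) • d + d) + (i + i) := by
        rw [smul_add, h3]; abel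
      rw [e, h.vv0, add_zero]
      exact add_mem (h.k.D_H _ (h.a.RH (QQ_le h1)) _ hd) hd
    have e : n • x • w + x • w = x • ((x⁻¹ * n * x) • w + w) := by
      rw [smul_add, ← mul_smul, ← mul_smul]
      congr 2; group
    rw [e]
    exact h.cm_H' hA hAH hAM hE hx (mem_cm h2 hw)
  | zero => rw [smul_zero, add_zero]; exact zero_mem _
  | add a b _ _ h1 h2 =>
    have e : n • (a + b) + (a + b) = (n • a + a) + (n • b + b) := by rw [smul_add]; abel
    rw [e]; exact add_mem h1 h2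
  | neg a _ h1 =>
    have e : n • (-a) + (-a) = -(n • a + a) := by rw [smul_neg]; abel
    rw [e]; exact neg_mem h1

theorem t_Q {q : Y} (hq : q ∈ QQ H R) : t * q * t⁻¹ ∈ QQ H' R := by
  rw [h.Q'_eq]; exact conj_mem_conj hq

theorem t_Q_inv {q : Y} (hq : q ∈ QQ H' R) : t⁻¹ * q * t ∈ QQ H R := by
  rw [h.Q'_eq, mem_conj] at hq; exact hq

/-- **(4)** -/
theorem four {u : Y} (huH : u ∈ H) (huu : u * u = 1) (huM : u ∉ M) {y : V} (hy : y ∈ WW V H' R) (hy1 : y ∉ W₁')
    (huy : u • y = y) (hJ : ∀ x ∈ W₁', ∃ j ∈ W₁', j + x ∈ D' ∧ u • j = j) : QQ H R ⊓ QQ H' R = ⊥ := by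
  have huinv : u⁻¹ = u := inv_eq_of_mul_eq_one_left huu
  have key : ∀ n ∈ QQ H R ⊓ QQ H' R, u * n * u⁻¹ ∈ QQ H R ⊓ QQ H' R := by
    intro n hn
    have h1 := conj_mem_QQ huH hn.1
    refine ⟨h1, ?_⟩
    have h2 : u * n * u⁻¹ ∈ P' := by
      apply h.k'.mem_P _ (QQ_le h1)
      intro x hx
      obtain ⟨j, hj, hd, huj⟩ := hJ x hx
      have h3 : (u * n * u⁻¹) • j = j := by
        rw [mul_smul, mul_smul, huinv, huj, Amal.QQ_fix h.a' h.amb hn.2 (h.k'.W₁W hj), huj]
      have e : (u * n * u⁻¹) • x + x = (u * n * u⁻¹) • (j + x) + (j + x) := by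
        rw [smul_add, h3]
        have : j + (u * n * u⁻¹) • x + (j + x) = (j + j) + ((u * n * u⁻¹) • x + x) := by abel
        rw [this, h.vv0, zero_add]
      rw [e]
      exact add_mem (h.k'.D_H _ (h.a'.RH (QQ_le h1)) _ hd) hd
    apply h.k'.free _ h2 y hy hy1
    have h3 : (u * n * u⁻¹) • y = y := by
      rw [mul_smul, mul_smul, huinv, huy, Amal.QQ_fix h.a' h.amb hn.2 hy, huy]
    rw [h3, h.vv0]
    exact zero_mem _
  have keyR : ∀ r ∈ R, ∀ n ∈ QQ H R ⊓ QQ H' R, r * n * r⁻¹ ∈ QQ H R ⊓ QQ H' R := fun r hr n hn =>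
    ⟨conj_mem_QQ (h.a.RH hr) hn.1, conj_mem_QQ (h.a'.RH hr) hn.2⟩
  let S : Subgroup Y :=
    { carrier := {x | ∀ n ∈ QQ H R ⊓ QQ H' R, x * n * x⁻¹ ∈ QQ H R ⊓ QQ H' R ∧ x⁻¹ * n * x ∈ QQ H R ⊓ QQ H' R}
      one_mem' := fun n hn => by simpa only [_root_.one_mul, _root_.inv_one, _root_.mul_one, _root_.Subgroup.mem_inf, _root_.and_self] using hn
      mul_mem' := fun {x y} hx hy n hn => by
        constructor
        · have h1 := (hx _ (hy n hn).1).1
          have e : x * (y * n * y⁻¹) * x⁻¹ = x * y * n * (x * y)⁻¹ := by group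
          rwa [e] at h1
        · have h1 := (hy _ (hx n hn).2).2
          have e : y⁻¹ * (x⁻¹ * n * x) * y = (x * y)⁻¹ * n * (x * y) := by group
          rwa [e] at h1
      inv_mem' := fun {x} hx n hn => by
        rw [inv_inv]
        exact ⟨(hx n hn).2, (hx n hn).1⟩ }
  have h1 : H ≤ S := by
    rw [← h.a.gen (X := zpowers u) (zpowers_le.2 huH) (fun h2 => huM (h2 (mem_zpowers u)))]
    refine sup_le (fun r hr n hn => ⟨keyR r hr n hn, ?_⟩) (zpowers_le.2 fun n hn => ⟨key n hn, ?_⟩)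
    · have := keyR _ (R.inv_mem hr) n hn
      simpa only [_root_.Subgroup.mem_inf, _root_.inv_inv] using this
    · have := key n hn
      rw [huinv] at this ⊢
      exact this
  apply h.a.no_inv h.amb.core (h.a.R2.to_le (inf_le_left.trans QQ_le)) (fun x hx n hn => (h1 hx n hn).1)
  · intro n hn
    exact ⟨h.swap.t_Q hn.2, h.t_Q hn.1⟩
  · intro n hn
    refine ⟨h.t_Q_inv hn.2, ?_⟩
    exact h.swap.t_Q_inv hn.1

theorem exists_onto {y : V} (hy : y ∈ WW V H' R) (hy1 : y ∉ W₁') {x : V} (hx : x ∈ W₁') :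
    ∃ p ∈ P', p • y + y ∈ W₁' ∧ p • y + y + x ∈ D' := by
  obtain ⟨p, hp, h1⟩ := h.k'.onto y hy hy1 x hx
  exact ⟨p, hp, h.k'.P_comm p hp y hy, h1⟩

/-- **(4)**, under (2) -/
theorem four_opp {A : Subgroup Y} (hA : A ∈ U) (hAH : A ≤ H) (hAM : ¬ A ≤ M) (hE : WW V H' R ≤ Ee V A)
    {u : Y} (hu : u ∈ A) (huQ : u ∉ QQ H R) {y : V} (hy : y ∈ WW V H' R) (hy1 : y ∉ W₁') (huy : u • y = y) :
    QQ H R ⊓ QQ H' R = ⊥ := by
  apply h.four (hAH hu) ((h.amb.cls.mem A hA).sq u hu) (h.not_M hA hAH hAM hu huQ) hy hy1 huy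
  intro x hx
  obtain ⟨p, hp, h1, h2⟩ := h.exists_onto hy hy1 hx
  exact ⟨_, h1, h2, (h.two_all hA hAH hAM hE).2.2.2.2 (mem_cm hp hy) u hu⟩

end TwoK

end Cfsg.Agent.Omega.NO1.TH

end

section


/-!
# N1, the amalgam `(H, H^t)`, `k = 1` (bb OMEGA 20297, helper503): (5) and (8a)
-/

set_option autoImplicit false
set_option linter.unusedSectionVars false
set_option linter.unusedVariables false

namespace Cfsg.Agent.Omega.NO1.TH

open Subgroup Cfsg.Agent.Omega.NO1.AB
open scoped Pointwise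

universe u

variable {Y : Type u} [Group Y] {V : Type u} [AddCommGroup V] [DistribMulAction Y V]

/-- `v ↦ [v, s]` -/
def bk (s : Y) : V →+ V where
  toFun v := s • v + v
  map_zero' := by rw [smul_zero, add_zero]
  map_add' a b := by rw [smul_add]; abel

theorem bk_apply (s : Y) (v : V) : bk s v = s • v + v := rfl

namespace TwoK

variable [Finite Y] [Finite V] {U : Set (Subgroup Y)} {T : Sylow 2 Y} {M H H' R P P' : Subgroup Y}
  {D D' W₁ W₁' : AddSubgroup V} {c : ℕ} {t : Y} (h : TwoK V U T M H H' R P P' D D' W₁ W₁' c t)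
include h

/-- `[v, s] ∈ W + F_B` for `s ∈ B ∩ Q`, when `|B ∩ Q| = c` -/
theorem iso_aux {B : Subgroup Y} (hB : B ∈ U) (hE : WW V H R ≤ Ee V B)
    (hfree : ∀ w ∈ WW V H R, w ∉ fx V B → ∀ u ∈ B, u • w = w → u ∈ QQ H R)
    (hcf : Nat.card ↥(WW V H R ⊓ fx V B) = Nat.card W₁) (hc : Nat.card ↥(B ⊓ QQ H R) = c) (v : V) {s : Y}
    (hs : s ∈ B ⊓ QQ H R) : s • v + v ∈ WW V H R ⊔ fx V B := by
  have hm := h.amb.cls.mem B hB
  by_cases hv : v ∈ Ee V B
  · exact AddSubgroup.mem_sup_right (hv s hs.1)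
  have h1 := card_pre hm h.amb.two hv (le_sup_right : fx V B ≤ WW V H R ⊔ fx V B) (sup_le hE hm.FE)
  have h2 := card_sup_as (WW V H R) (fx V B)
  have h3 : Nat.card ↥(pre B v (WW V H R ⊔ fx V B)) = c := by
    have h4 : 0 < Nat.card ↥(fx V B) := Nat.card_pos
    have h5 : 0 < Nat.card W₁ := Nat.card_pos
    apply Nat.eq_of_mul_eq_mul_right (Nat.mul_pos h4 h5)
    rw [← mul_assoc, h1, ← hcf, h2, h.k.card_W, hcf]
    ring
  have h4 : pre B v (WW V H R ⊔ fx V B) ⊆ ((B ⊓ QQ H R : Subgroup Y) : Set Y) := by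
    rintro u ⟨hu, hu2⟩
    refine ⟨hu, ?_⟩
    obtain ⟨w, hw, f, hf, he⟩ := AddSubgroup.mem_sup.1 hu2
    by_cases hwB : w ∈ fx V B
    · have h5 : u = 1 := hm.inj v hv u hu (by rw [← he]; exact add_mem hwB hf)
      rw [h5]; exact one_mem _
    · apply hfree w hw hwB u hu
      have h5 : u • (u • v + v) = u • v + v := by
        rw [smul_add, ← mul_smul, hm.sq u hu, one_smul, add_comm]
      rw [← he, smul_add, hf u hu] at h5
      exact add_right_cancel h5
  have h5 : pre B v (WW V H R ⊔ fx V B) = ((B ⊓ QQ H R : Subgroup Y) : Set Y) := by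
    apply Set.eq_of_subset_of_ncard_le h4 _ (Set.toFinite _)
    have e1 : Set.ncard ((B ⊓ QQ H R : Subgroup Y) : Set Y) = Nat.card ↥(B ⊓ QQ H R) := rfl
    have e2 : Set.ncard (pre B v (WW V H R ⊔ fx V B)) = Nat.card ↥(pre B v (WW V H R ⊔ fx V B)) := rfl
    rw [e1, e2, h3, hc]
  have h6 : s ∈ pre B v (WW V H R ⊔ fx V B) := by rw [h5]; exact hs
  exact h6.2

theorem inf_fx {B : Subgroup Y} (hB : B ∈ U) (hBR : B ≤ R) (hBQ : ¬ B ≤ QQ H R) :
    WW V H R ⊓ fx V B = W₁ :=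
  le_antisymm (fun _ hw => h.fx_W₁ hB hBR hBQ hw.1 hw.2) (le_inf h.k.W₁W (h.W₁_fx hB hBR hBQ))

theorem iso_R {B : Subgroup Y} (hB : B ∈ U) (hBR : B ≤ R) (hBQ : ¬ B ≤ QQ H R)
    (hc : Nat.card ↥(B ⊓ QQ H R) = c) (v : V) {s : Y} (hs : s ∈ B ⊓ QQ H R) :
    s • v + v ∈ WW V H R ⊔ fx V B := by
  apply h.iso_aux hB (h.we B hB hBR) _ _ hc v hs
  · intro w hw hwB u hu hu0
    apply h.k.free u ((h.k.cover B hB hBR hBQ).1 hu) w hw
    · intro hw1
      exact hwB (h.W₁_fx hB hBR hBQ hw1)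
    · rw [hu0, h.vv0]; exact zero_mem _
  · rw [h.inf_fx hB hBR hBQ]

theorem iso_A {A : Subgroup Y} (hA : A ∈ U) (hAH : A ≤ H) (hAM : ¬ A ≤ M)
    (hc : Nat.card ↥(A ⊓ QQ H R) = c) (v : V) {s : Y} (hs : s ∈ A ⊓ QQ H R) :
    s • v + v ∈ WW V H R ⊔ fx V A :=
  h.iso_aux hA (h.a.WW_le_Ee h.amb h.we hA hAH)
    (fun w hw hwA u hu hu0 => h.free_A hA hAH hAM hw hwA hu hu0) (h.card_fx hA hAH hAM) hc v hs

theorem card_BQ {B : Subgroup Y} (hB : B ∈ U) (hBR : B ≤ R) (hBQ : ¬ B ≤ QQ H R) (hc : Nat.card B = c * c) :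
    Nat.card ↥(B ⊓ QQ H R) = c := by
  have h1 := h.card_memR hB hBR hBQ
  rw [hc] at h1
  exact (Nat.eq_of_mul_eq_mul_left h.c_pos h1).symm

theorem not_le_Q' (hQQ : QQ H R ⊓ QQ H' R = ⊥) {B : Subgroup Y} (hc : Nat.card ↥(B ⊓ QQ H R) = c) :
    ¬ B ≤ QQ H' R := by
  intro h1
  have h2 : B ⊓ QQ H R = ⊥ := by
    rw [eq_bot_iff, ← hQQ]
    exact fun b hb => ⟨hb.2, h1 hb.1⟩
  rw [h2, Subgroup.card_bot] at hc
  have := h.k.two_le
  omega

/-- `P = B Q` -/
theorem cover_R {B : Subgroup Y} (hB : B ∈ U) (hBR : B ≤ R) (hBQ : ¬ B ≤ QQ H R) {p : Y} (hp : p ∈ P) :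
    ∃ b ∈ B, ∃ q ∈ QQ H R, p = b * q := by
  have h1 : ∀ b ∈ B, ∀ q ∈ QQ H R, b * q * b⁻¹ ∈ QQ H R := fun b hb q hq => conj_mem_QQ (h.a.RH (hBR hb)) hq
  exact exists_mul_of_sup h1 ((h.k.cover B hB hBR hBQ).2 hp)

/-- `I ≤ I'` when `Q ∩ Q' = 1`, `|B| = c²` -/
theorem five_le (hQQ : QQ H R ⊓ QQ H' R = ⊥) {B : Subgroup Y} (hB : B ∈ U) (hBR : B ≤ R) (hBQ : ¬ B ≤ QQ H R)
    (hBQ' : ¬ B ≤ QQ H' R) (hc : Nat.card B = c * c) : cmK P (WW V H R) ≤ cmK P' (WW V H' R) := by
  have hm := h.amb.cls.mem B hB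
  have c1 := h.card_BQ hB hBR hBQ hc
  have c2 := h.swap.card_BQ hB hBR hBQ' hc
  -- `B = (B ∩ Q)(B ∩ Q')`
  have hprod : ∀ b ∈ B, ∃ s' ∈ B ⊓ QQ H' R, ∃ s ∈ B ⊓ QQ H R, b = s' * s := by
    let f : ↥(B ⊓ QQ H' R) × ↥(B ⊓ QQ H R) → B := fun p => ⟨(p.1 : Y) * (p.2 : Y), B.mul_mem p.1.2.1 p.2.2.1⟩
    have hinj : Function.Injective f := by
      rintro ⟨⟨a, ha⟩, ⟨b, hb⟩⟩ ⟨⟨a', ha'⟩, ⟨b', hb'⟩⟩ he
      have h1 : a * b = a' * b' := congrArg Subtype.val he
      have h2 : a'⁻¹ * a = b' * b⁻¹ := by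
        have : a'⁻¹ * (a * b) * b⁻¹ = a'⁻¹ * (a' * b') * b⁻¹ := by rw [h1]
        have e1 : a'⁻¹ * (a * b) * b⁻¹ = a'⁻¹ * a := by group
        have e2 : a'⁻¹ * (a' * b') * b⁻¹ = b' * b⁻¹ := by group
        rwa [e1, e2] at this
      have h3 : a'⁻¹ * a ∈ QQ H R ⊓ QQ H' R :=
        ⟨by rw [h2]; exact (QQ H R).mul_mem hb'.2 ((QQ H R).inv_mem hb.2),
          (QQ H' R).mul_mem ((QQ H' R).inv_mem ha'.2) ha.2⟩
      rw [hQQ, mem_bot] at h3
      have h4 : a = a' := by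
        have : a' * (a'⁻¹ * a) = a' * 1 := by rw [h3]
        rwa [mul_inv_cancel_left, mul_one] at this
      subst h4
      have h5 : b = b' := mul_left_cancel h1
      subst h5
      rfl
    have hcard : Nat.card (↥(B ⊓ QQ H' R) × ↥(B ⊓ QQ H R)) = Nat.card B := by
      rw [Nat.card_prod, c1, c2, hc]
    have hs := ((Nat.bijective_iff_injective_and_card f).2 ⟨hinj, hcard⟩).2
    intro b hb
    obtain ⟨⟨s', s⟩, he⟩ := hs ⟨b, hb⟩
    exact ⟨s', s'.2, s, s.2, (congrArg Subtype.val he).symm⟩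
  apply cm_le
  intro p hp w hw
  obtain ⟨b, hb, q, hq, rfl⟩ := h.cover_R hB hBR hBQ hp
  obtain ⟨s', hs', s, hs, rfl⟩ := hprod b hb
  have e : (s' * s * q) • w = s' • w := by
    rw [mul_smul, mul_smul, Amal.QQ_fix h.a h.amb hq hw, Amal.QQ_fix h.a h.amb hs.2 hw]
  rw [e]
  obtain ⟨v, hv⟩ := hm.ne
  obtain ⟨s₁, hs₁, h1⟩ := hm.surj v hv w (h.we B hB hBR hw)
  have h2 := h.swap.iso_R hB hBR hBQ' c2 v hs'
  obtain ⟨w', hw', f, hf, he⟩ := AddSubgroup.mem_sup.1 h2
  have h3 : s' • v + v + w' ∈ fx V B := by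
    rw [← he]
    have : w' + f + w' = f + (w' + w') := by abel
    rw [this, h.vv0, add_zero]
    exact hf
  rw [mem_sym hm h.amb.two hs₁ hs'.1 h1 h3]
  exact mem_cm ((h.k'.cover B hB hBR hBQ').1 hs₁) hw'

/-- `I = I'` in `F_A` is impossible -/
theorem no_common {A : Subgroup Y} (hAH : A ≤ H) (hAM : ¬ A ≤ M) (h1 : cmK P (WW V H R) ≤ cmK P' (WW V H' R))
    (h2 : cmK P' (WW V H' R) ≤ fx V A) : False := by
  have hne : cmK P (WW V H R) ≠ ⊥ := by
    intro h3
    have h4 := h.W₁_le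
    rw [h3, bot_sup_eq] at h4
    have h5 : W₁ = D := le_antisymm h4 h.k.DW
    have h6 := h.k.card_W₁
    rw [h5] at h6
    have h7 : 0 < Nat.card D := Nat.card_pos
    have h8 := h.k.two_le
    nlinarith
  obtain ⟨⟨w, hw⟩, hw1⟩ := AddSubgroup.ne_bot_iff_exists_ne_zero.1 hne
  have hw0 : w ≠ 0 := fun h2 => hw1 (Subtype.ext h2)
  obtain ⟨v, hv, hv0, hvR⟩ := HE.exists_fixed h.amb.two h.a.R2 (cmK P (WW V H R))
    (fun r hr w hw => h.swap.cm_R hr hw) ⟨w, hw, hw0⟩
  apply hv0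
  apply h.fix_zero
  · rw [← h.a.fx_inf hAH hAM]
    exact ⟨h2 (h1 hv), hvR⟩
  · rw [← h.a.fx_inf hAH hAM]
    exact ⟨h2 (h.t_cm hv), h.a.smul_V0 hvR⟩

/-- **(5)** -/
theorem five {A : Subgroup Y} (hA : A ∈ U) (hAH : A ≤ H) (hAM : ¬ A ≤ M) (hE : WW V H' R ≤ Ee V A)
    (hQQ : QQ H R ⊓ QQ H' R = ⊥) (hc : Nat.card A = c * c) : False := by
  obtain ⟨x, hx, hxM, h1, h2, h3⟩ := h.exists_x hA hAH hAM
  have hc' : Nat.card ↥(MulAut.conj x • A) = c * c := by rw [conj_card]; exact hc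
  have c1 := h.card_BQ h1 h2 h3 hc'
  exact h.no_common hAH hAM (h.five_le hQQ h1 h2 h3 (h.not_le_Q' hQQ c1) hc') (h.two_all hA hAH hAM hE).2.2.2.2


/-- `S = A ∩ Q = Q ∩ P'` is normalised by `H` -/
theorem S_norm (hQQ : QQ H R ⊓ QQ H' R = ⊥) {A : Subgroup Y} (hA : A ∈ U) (hAH : A ≤ H) (hAM : ¬ A ≤ M)
    (hP : A ⊓ QQ H R ≤ P') (hc : Nat.card ↥(A ⊓ QQ H R) = c) {x s : Y} (hx : x ∈ H) (hs : s ∈ A ⊓ QQ H R) :
    x * s * x⁻¹ ∈ A ⊓ QQ H R := by
  have hm := h.amb.cls.mem A hA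
  have h1 : A ⊓ QQ H R = P' ⊓ QQ H R := by
    apply eq_of_le_of_card_ge (le_inf hP inf_le_right)
    have h2 := card_le_of_index h.k'.QP (B := P' ⊓ QQ H R) inf_le_left h.k'.card_P
    have h3 : P' ⊓ QQ H R ⊓ QQ H' R = ⊥ := by
      rw [eq_bot_iff, ← hQQ]
      exact fun b hb => ⟨hb.1.2, hb.2⟩
    rw [h3, Subgroup.card_bot, mul_one] at h2
    rw [hc]
    exact h2
  let S : Subgroup Y :=
    { carrier := {x | ∀ n ∈ A ⊓ QQ H R, x * n * x⁻¹ ∈ A ⊓ QQ H R ∧ x⁻¹ * n * x ∈ A ⊓ QQ H R}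
      one_mem' := fun n hn => by simpa only [_root_.one_mul, _root_.inv_one, _root_.mul_one, _root_.Subgroup.mem_inf, _root_.and_self] using hn
      mul_mem' := fun {x y} hx hy n hn => by
        constructor
        · have h1 := (hx _ (hy n hn).1).1
          have e : x * (y * n * y⁻¹) * x⁻¹ = x * y * n * (x * y)⁻¹ := by group
          rwa [e] at h1
        · have h1 := (hy _ (hx n hn).2).2
          have e : y⁻¹ * (x⁻¹ * n * x) * y = (x * y)⁻¹ * n * (x * y) := by group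
          rwa [e] at h1
      inv_mem' := fun {x} hx n hn => by
        rw [inv_inv]
        exact ⟨(hx n hn).2, (hx n hn).1⟩ }
  have h2 : H ≤ S := by
    apply h.gen_induct hAH hAM
    · intro r hr n hn
      rw [h1] at hn ⊢
      refine ⟨⟨h.k'.P_norm h.amb.two hr hn.1, conj_mem_QQ (h.a.RH hr) hn.2⟩, ?_⟩
      have h3 := h.k'.P_norm h.amb.two (R.inv_mem hr) hn.1
      have h4 := conj_mem_QQ (h.a.RH (R.inv_mem hr)) hn.2
      rw [inv_inv] at h3 h4
      exact ⟨h3, h4⟩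
    · intro a ha n hn
      have e1 : a * n * a⁻¹ = n := by rw [hm.comm a ha n hn.1]; group
      have e2 : a⁻¹ * n * a = n := by rw [mul_assoc, ← hm.comm a ha n hn.1]; group
      rw [e1, e2]
      exact ⟨hn, hn⟩
  exact (h2 hx s hs).1

/-- the case `[V, s] ∩ W ≰ D` : `I ∩ D = 0` -/
theorem cm_inf_of {A B : Subgroup Y} (hA : A ∈ U) (hAH : A ≤ H) (hAM : ¬ A ≤ M) (hB : B ∈ U) (hBR : B ≤ R)
    (hBQ : ¬ B ≤ QQ H R) (hc : Nat.card B = c * c) {x : Y} (hx : x ∈ H) (hxA : B = MulAut.conj x • A)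
    {s : Y} (hsA : s ∈ A ⊓ QQ H R) (hsB : s ∈ B ⊓ QQ H R) {v₁ : V} (h1 : s • v₁ + v₁ ∈ WW V H R)
    (h2 : s • v₁ + v₁ ∉ D) {v : V} (hv : v ∈ cmK P (WW V H R)) (hvD : v ∈ D) : v = 0 := by
  have hm := h.amb.cls.mem A hA
  have hmB := h.amb.cls.mem B hB
  have hWf : W₁ ≤ fx V B := h.W₁_fx hB hBR hBQ
  set X : AddSubgroup V := (bk s).range ⊔ D with hX
  -- commutators with `s`
  have comm : ∀ {b : Y}, b * s = s * b → ∀ u : V, b • (bk s u) + bk s u = bk s (b • u + u) := by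
    intro b hb u
    rw [bk_apply, bk_apply, smul_add, ← mul_smul, hb, mul_smul, smul_add]
    abel
  have hDA : D ≤ fx V A := h.D_fx hA hAH hAM
  have stepB : ∀ {b : Y}, b ∈ B → ∀ w ∈ X, b • w + w ∈ (bk s).range := by
    intro b hb w hw
    obtain ⟨_, ⟨u, rfl⟩, d, hd, rfl⟩ := AddSubgroup.mem_sup.1 hw
    have e : b • (bk s u + d) + (bk s u + d) = (b • bk s u + bk s u) + (b • d + d) := by rw [smul_add]; abel
    rw [e, comm (hmB.comm b hb s hsB.1), hWf (h.k.DW hd) b hb, h.vv0, add_zero]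
    exact ⟨_, rfl⟩
  have stepA : ∀ {b : Y}, b ∈ A → ∀ w ∈ X, b • w + w ∈ (bk s).range := by
    intro b hb w hw
    obtain ⟨_, ⟨u, rfl⟩, d, hd, rfl⟩ := AddSubgroup.mem_sup.1 hw
    have e : b • (bk s u + d) + (bk s u + d) = (b • bk s u + bk s u) + (b • d + d) := by rw [smul_add]; abel
    rw [e, comm (hm.comm b hb s hsA.1), hDA hd b hb, h.vv0, add_zero]
    exact ⟨_, rfl⟩
  have hDX : D ≤ X := le_sup_right
  have hRX : (bk s).range ≤ X := le_sup_left
  have claimB : ∀ w ∈ WW V H R, w ∈ X → w ∉ W₁ → W₁ ≤ X := by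
    intro w hw hwX hw1 x₁ hx₁
    obtain ⟨p, hp, h3⟩ := h.k.onto w hw hw1 x₁ hx₁
    obtain ⟨b, hb, q, hq, rfl⟩ := h.cover_R hB hBR hBQ hp
    rw [mul_smul, Amal.QQ_fix h.a h.amb hq hw] at h3
    have e : x₁ = (b • w + w) + (b • w + w + x₁) := by rw [← add_assoc, h.vv0, zero_add]
    rw [e]
    exact add_mem (hRX (stepB hb w hwX)) (hDX h3)
  have claimA : ∀ w ∈ WW V H R, w ∈ X → w ∉ fx V A → WW V H R ⊓ fx V A ≤ X := by
    intro w hw hwX hwA x₂ hx₂
    have h3 : x • w ∉ W₁ := by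
      intro h4
      apply hwA
      rw [← h.smul_mem_iff (x := x), ← hxA]
      exact hWf h4
    have h4 : x • x₂ ∈ W₁ := by
      apply h.fx_W₁ hB hBR hBQ (smul_mem_WW hx hx₂.1)
      rw [hxA, h.smul_mem_iff]
      exact hx₂.2
    obtain ⟨p, hp, h5⟩ := h.k.onto _ (smul_mem_WW hx hw) h3 _ h4
    obtain ⟨b, hb, q, hq, rfl⟩ := h.cover_R hB hBR hBQ hp
    rw [mul_smul, Amal.QQ_fix h.a h.amb hq (smul_mem_WW hx hw)] at h5
    have hb' : x⁻¹ * b * x ∈ A := by rw [hxA, mem_conj] at hb; exact hb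
    have h6 := h.k.D_H x⁻¹ (H.inv_mem hx) _ h5
    have e1 : x⁻¹ • (b • x • w + x • w + x • x₂) = (x⁻¹ * b * x) • w + w + x₂ := by
      rw [smul_add, smul_add, inv_smul_smul, inv_smul_smul, ← mul_smul, ← mul_smul]
    rw [e1] at h6
    have e : x₂ = ((x⁻¹ * b * x) • w + w) + ((x⁻¹ * b * x) • w + w + x₂) := by
      rw [← add_assoc, h.vv0, zero_add]
    rw [e]
    exact add_mem (hRX (stepA hb' w hwX)) (hDX h6)
  have exW : ∃ w ∈ W₁, w ∉ D := by
    by_contra hcon
    push Not at hcon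
    have h4 : W₁ = D := le_antisymm hcon h.k.DW
    have h5 := h.k.card_W₁
    rw [h4] at h5
    have h6 : 0 < Nat.card D := Nat.card_pos
    have h7 := h.k.two_le
    nlinarith only [h5, h6, h7]
  have exF : ∃ w ∈ WW V H R ⊓ fx V A, w ∉ D := by
    by_contra hcon
    push Not at hcon
    have h4 : WW V H R ⊓ fx V A = D := le_antisymm hcon (le_inf (h.k.DW.trans h.k.W₁W) hDA)
    have h5 := h.k.card_W₁
    rw [← h.card_fx hA hAH hAM, h4] at h5
    have h6 : 0 < Nat.card D := Nat.card_pos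
    have h7 := h.k.two_le
    nlinarith only [h5, h6, h7]
  have hWX : WW V H R ≤ X := by
    have h3 : W₁ ≤ X ∧ WW V H R ⊓ fx V A ≤ X := by
      have h4 : s • v₁ + v₁ ∈ X := hRX ⟨v₁, rfl⟩
      by_cases h5 : s • v₁ + v₁ ∈ W₁
      · have h6 := claimA _ h1 h4 (fun h7 => h2 (h.fix_D hA hAH hAM h5 h7))
        obtain ⟨w, hw, hwD⟩ := exF
        exact ⟨claimB w hw.1 (h6 hw) (fun h7 => hwD (h.fix_D hA hAH hAM h7 hw.2)), h6⟩
      · have h6 := claimB _ h1 h4 h5
        obtain ⟨w, hw, hwD⟩ := exW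
        exact ⟨h6, claimA w (h.k.W₁W hw) (h6 hw) (fun h7 => hwD (h.fix_D hA hAH hAM hw h7))⟩
    exact (h.W_le hA hAH hAM).trans (sup_le h3.1 h3.2)
  -- `I ≤ [E_B, s]`
  set ψ : Ee V B →+ V := (bk s).comp (Ee V B).subtype with hψ
  have hI : cmK P (WW V H R) ≤ ψ.range := by
    apply cm_le
    intro p hp w hw
    obtain ⟨b, hb, q, hq, rfl⟩ := h.cover_R hB hBR hBQ hp
    rw [mul_smul, Amal.QQ_fix h.a h.amb hq hw]
    obtain ⟨_, ⟨u, rfl⟩, d, hd, rfl⟩ := AddSubgroup.mem_sup.1 (hWX hw)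
    have e : b • (bk s u + d) + (bk s u + d) = (b • bk s u + bk s u) + (b • d + d) := by rw [smul_add]; abel
    rw [e, comm (hmB.comm b hb s hsB.1), hWf (h.k.DW hd) b hb, h.vv0, add_zero]
    exact ⟨⟨b • u + u, hmB.VB b hb u⟩, rfl⟩
  have hcI : Nat.card ↥(cmK P (WW V H R)) ≤ c := by
    refine (Nat.card_le_card_of_injective _ (AddSubgroup.inclusion_injective hI)).trans ?_
    have c1 := AddSubgroup.card_mul_index ψ.ker
    rw [AddSubgroup.index_ker] at c1
    have hker : WW V H R ⊔ fx V B ≤ Ee V B := sup_le (h.we B hB hBR) hmB.FE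
    have c2 : Nat.card ↥(WW V H R ⊔ fx V B) ≤ Nat.card ψ.ker := by
      let f : ↥(WW V H R ⊔ fx V B) → ψ.ker := fun w => ⟨⟨w, hker w.2⟩, by
        rw [AddMonoidHom.mem_ker]
        change s • (w : V) + (w : V) = 0
        obtain ⟨w₀, hw₀, f₀, hf₀, he⟩ := AddSubgroup.mem_sup.1 w.2
        rw [← he, smul_add, Amal.QQ_fix h.a h.amb hsB.2 hw₀, hf₀ s hsB.1, h.vv0]⟩
      apply Nat.card_le_card_of_injective f
      intro w w' he
      apply Subtype.ext
      exact congrArg (fun z : ψ.ker => ((z : Ee V B) : V)) he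
    have c3 := card_sup_as (WW V H R) (fx V B)
    rw [h.inf_fx hB hBR hBQ, h.k.card_W] at c3
    have c4 := hmB.card_E h.amb.two
    rw [hc] at c4
    have hW0 : 0 < Nat.card W₁ := Nat.card_pos
    have hF0 : 0 < Nat.card ↥(fx V B) := Nat.card_pos
    have c5 : Nat.card ↥(WW V H R ⊔ fx V B) = c * Nat.card ↥(fx V B) := by
      apply Nat.eq_of_mul_eq_mul_right hW0
      rw [c3]; ring
    apply Nat.le_of_mul_le_mul_left _ (Nat.mul_pos h.c_pos hF0)
    calc c * Nat.card ↥(fx V B) * Nat.card ψ.range = Nat.card ↥(WW V H R ⊔ fx V B) * Nat.card ψ.range := by rw [c5]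
      _ ≤ Nat.card ψ.ker * Nat.card ψ.range := Nat.mul_le_mul_right _ c2
      _ = Nat.card ↥(Ee V B) := c1
      _ = _ := by rw [c4]; ring
  have c1 := card_sup_as (cmK P (WW V H R)) D
  have c2 := Nat.card_le_card_of_injective _ (AddSubgroup.inclusion_injective h.W₁_le)
  rw [h.k.card_W₁] at c2
  have hD0 : 0 < Nat.card D := Nat.card_pos
  have c3 : Nat.card ↥(cmK P (WW V H R) ⊓ D) ≤ 1 := by
    apply Nat.le_of_mul_le_mul_left _ (Nat.mul_pos h.c_pos hD0)
    calc c * Nat.card D * Nat.card ↥(cmK P (WW V H R) ⊓ D)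
        ≤ Nat.card ↥(cmK P (WW V H R) ⊔ D) * Nat.card ↥(cmK P (WW V H R) ⊓ D) := Nat.mul_le_mul_right _ c2
      _ = Nat.card ↥(cmK P (WW V H R)) * Nat.card D := c1
      _ ≤ c * Nat.card D := Nat.mul_le_mul_right _ hcI
      _ = _ := (mul_one _).symm
  have h4 : cmK P (WW V H R) ⊓ D = ⊥ := (AddSubgroup.card_le_one_iff_eq_bot _).1 c3
  have h5 : v ∈ cmK P (WW V H R) ⊓ D := ⟨hv, hvD⟩
  rw [h4, AddSubgroup.mem_bot] at h5
  exact h5


/-- the case `[V, s] ∩ W ≤ D` for all `s ∈ S` : `W' ≤ E_A` -/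
theorem le_Ee_of {A B : Subgroup Y} (hA : A ∈ U) (hAH : A ≤ H) (hAM : ¬ A ≤ M) (hB : B ∈ U) (hBR : B ≤ R)
    (hBQ : ¬ B ≤ QQ H R) {x : Y} (hx : x ∈ H) (hxA : B = MulAut.conj x • A)
    (hcA : Nat.card ↥(A ⊓ QQ H R) = c)
    (hSn : ∀ y ∈ H, ∀ s ∈ A ⊓ QQ H R, y * s * y⁻¹ ∈ A ⊓ QQ H R)
    (hcase : ∀ s ∈ A ⊓ QQ H R, ∀ v : V, s • v + v ∈ WW V H R → s • v + v ∈ D) : WW V H' R ≤ Ee V A := by
  have hm := h.amb.cls.mem A hA
  have hDA : D ≤ fx V A := h.D_fx hA hAH hAM
  have hcs : ∀ {s : Y}, s ∈ A ⊓ QQ H R → ∀ {r : Y}, r ∈ H → r⁻¹ * s * r ∈ A ⊓ QQ H R := by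
    intro s hs r hr
    have := hSn r⁻¹ (H.inv_mem hr) s hs
    rwa [inv_inv] at this
  -- the group `L`
  let L : Subgroup Y :=
    { carrier := {l | l ∈ H ∧ (∀ s ∈ A ⊓ QQ H R, l * s = s * l) ∧ (∀ d ∈ D, l • d = d) ∧
        ∀ s ∈ A ⊓ QQ H R, ∀ v : V, l • (s • v + v) + (s • v + v) ∈ D}
      one_mem' := ⟨H.one_mem, fun s _ => by rw [one_mul, mul_one], fun d _ => one_smul Y d, fun s _ v => by
        rw [one_smul, h.vv0]; exact zero_mem _⟩
      mul_mem' := by
        rintro l l' ⟨h1, h2, h3, h4⟩ ⟨h1', h2', h3', h4'⟩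
        refine ⟨H.mul_mem h1 h1', fun s hs => ?_, fun d hd => ?_, fun s hs v => ?_⟩
        · rw [mul_assoc, h2' s hs, ← mul_assoc, h2 s hs, mul_assoc]
        · rw [mul_smul, h3' d hd, h3 d hd]
        · have h5 := h4' s hs v
          have e : (l * l') • (s • v + v) + (s • v + v) =
              l • (l' • (s • v + v) + (s • v + v)) + (l • (s • v + v) + (s • v + v)) := by
            rw [mul_smul, smul_add l (l' • (s • v + v))]
            have : l • l' • (s • v + v) + l • (s • v + v) + (l • (s • v + v) + (s • v + v)) =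
              l • l' • (s • v + v) + (l • (s • v + v) + l • (s • v + v)) + (s • v + v) := by abel
            rw [this, h.vv0, add_zero]
          rw [e, h3 _ h5]
          exact add_mem h5 (h4 s hs v)
      inv_mem' := by
        rintro l ⟨h1, h2, h3, h4⟩
        refine ⟨H.inv_mem h1, fun s hs => ?_, fun d hd => ?_, fun s hs v => ?_⟩
        · have h5 := h2 s hs
          have e : l⁻¹ * (l * s) * l⁻¹ = l⁻¹ * (s * l) * l⁻¹ := by rw [h5]
          have e1 : l⁻¹ * (l * s) * l⁻¹ = s * l⁻¹ := by group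
          have e2 : l⁻¹ * (s * l) * l⁻¹ = l⁻¹ * s := by group
          rw [e1, e2] at e
          exact e.symm
        · rw [inv_smul_eq_iff, h3 d hd]
        · have h5 := h4 s hs v
          have e : l⁻¹ • (s • v + v) + (s • v + v) = l⁻¹ • (l • (s • v + v) + (s • v + v)) := by
            rw [smul_add l⁻¹ (l • (s • v + v)), inv_smul_smul, add_comm]
          rw [e]
          exact h.k.D_H _ (H.inv_mem h1) _ h5 }
  have hAL : A ≤ L := by
    intro a ha
    refine ⟨hAH ha, fun s hs => hm.comm a ha s hs.1, fun d hd => hDA hd a ha, fun s hs v => ?_⟩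
    have h1 := h.iso_A hA hAH hAM hcA v hs
    obtain ⟨w, hw, f, hf, he⟩ := AddSubgroup.mem_sup.1 h1
    have e : a • (s • v + v) + (s • v + v) = s • (a • v + v) + (a • v + v) := by
      rw [smul_add, smul_add, ← mul_smul, ← mul_smul, hm.comm a ha s hs.1]
      abel
    have h2 : a • (s • v + v) + (s • v + v) ∈ WW V H R := by
      rw [← he, smul_add, hf a ha]
      have : a • w + f + (w + f) = (a • w + w) + (f + f) := by abel
      rw [this, h.vv0, add_zero]
      exact add_mem (smul_mem_WW (hAH ha) hw) hw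
    rw [e] at h2 ⊢
    exact hcase s hs _ h2
  have hLR : ∀ r ∈ R, ∀ l ∈ L, r * l * r⁻¹ ∈ L := by
    rintro r hr l ⟨h1, h2, h3, h4⟩
    have hrH := h.a.RH hr
    refine ⟨H.mul_mem (H.mul_mem hrH h1) (H.inv_mem hrH), fun s hs => ?_, fun d hd => ?_, fun s hs v => ?_⟩
    · have h5 := h2 _ (hcs hs hrH)
      have e : r * (l * (r⁻¹ * s * r)) * r⁻¹ = r * (r⁻¹ * s * r * l) * r⁻¹ := by rw [h5]
      have e1 : r * (l * (r⁻¹ * s * r)) * r⁻¹ = r * l * r⁻¹ * s := by group
      have e2 : r * (r⁻¹ * s * r * l) * r⁻¹ = s * (r * l * r⁻¹) := by group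
      rwa [e1, e2] at e
    · rw [mul_smul, mul_smul, h3 _ (h.k.D_H _ (H.inv_mem hrH) d hd), smul_inv_smul]
    · have h5 := h4 _ (hcs hs hrH) (r⁻¹ • v)
      have e1 : (r⁻¹ * s * r) • r⁻¹ • v + r⁻¹ • v = r⁻¹ • (s • v + v) := by
        rw [smul_add, ← mul_smul, ← mul_smul]
        congr 2; group
      rw [e1] at h5
      have h6 := h.k.D_H r hrH _ h5
      have e2 : r • (l • r⁻¹ • (s • v + v) + r⁻¹ • (s • v + v)) =
          (r * l * r⁻¹) • (s • v + v) + (s • v + v) := by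
        rw [smul_add r (l • r⁻¹ • (s • v + v)), smul_inv_smul, ← mul_smul, ← mul_smul]
      rwa [e2] at h6
  have hHL : H ≤ R ⊔ L := by
    rw [← h.a.gen hAH hAM]
    exact sup_le le_sup_left (hAL.trans le_sup_right)
  obtain ⟨r, hr, l, hl, hxrl⟩ := exists_mul_of_sup hLR (hHL hx)
  -- `B₂ = B^{r⁻¹}`
  have hrH := h.a.RH hr
  have hB₂ : MulAut.conj r⁻¹ • B ∈ U := h.amb.cls.conj B hB r⁻¹
  have hB₂R : MulAut.conj r⁻¹ • B ≤ R := by
    intro y hy
    rw [mem_conj, inv_inv] at hy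
    have h1 := R.mul_mem (R.mul_mem (R.inv_mem hr) (hBR hy)) hr
    have e : r⁻¹ * (r * y * r⁻¹) * r = y := by group
    rwa [e] at h1
  have hB₂Q : ¬ MulAut.conj r⁻¹ • B ≤ QQ H R := by
    intro h1
    apply hBQ
    rw [conj_le_iff, inv_inv, h.conj_Q hrH] at h1
    exact h1
  have hmB₂ := h.amb.cls.mem _ hB₂
  have hAB₂ : ∀ a ∈ A, l * a * l⁻¹ ∈ MulAut.conj r⁻¹ • B := by
    intro a ha
    rw [mem_conj, inv_inv, hxA, mem_conj, hxrl]
    have e : (r * l)⁻¹ * (r * (l * a * l⁻¹) * r⁻¹) * (r * l) = a := by group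
    rwa [e]
  obtain ⟨s, hs, hs1⟩ : ∃ s ∈ A ⊓ QQ H R, s ≠ 1 := by
    by_contra hcon
    push Not at hcon
    have h1 : A ⊓ QQ H R = ⊥ := by
      rw [eq_bot_iff]
      intro s hs
      rw [mem_bot]
      exact hcon s hs
    rw [h1, Subgroup.card_bot] at hcA
    have := h.k.two_le
    omega
  have hsB₂ : s ∈ MulAut.conj r⁻¹ • B := by
    have h1 : l⁻¹ * s * l = s := by
      rw [mul_assoc, ← hl.2.1 s hs]; group
    have h2 := hAB₂ s hs.1
    rw [hl.2.1 s hs] at h2
    have e : s * l * l⁻¹ = s := by group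
    rwa [e] at h2
  intro v hv
  have hv2 : v ∈ Ee V (MulAut.conj r⁻¹ • B) := h.we' _ hB₂ hB₂R hv
  have hu : s • v + v ∈ fx V (MulAut.conj r⁻¹ • B) := hv2 s hsB₂
  have huA : s • v + v ∈ fx V A := by
    intro a ha
    have h1 := hAB₂ a ha
    have h2 := hl.2.2.2 s hs v
    have e1 : l • (s • v + v) = (s • v + v) + (l • (s • v + v) + (s • v + v)) := by
      have : (s • v + v) + (l • (s • v + v) + (s • v + v)) =
        l • (s • v + v) + ((s • v + v) + (s • v + v)) := by abel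
      rw [this, h.vv0, add_zero]
    have h3 : (l * a * l⁻¹) • (l • (s • v + v)) = l • (s • v + v) := by
      rw [e1, smul_add, hu _ h1, h.W₁_fx hB₂ hB₂R hB₂Q (h.k.DW h2) _ h1]
    have e2 : (l * a * l⁻¹) • (l • (s • v + v)) = l • a • (s • v + v) := by
      rw [← mul_smul, ← mul_smul]
      congr 1; group
    rw [e2, smul_left_cancel_iff] at h3
    exact h3
  by_contra hvA
  exact hs1 (hm.inj v hvA s hs.1 huA)

/-- **(8a)** -/
theorem eight_a {A : Subgroup Y} (hA : A ∈ U) (hAH : A ≤ H) (hAM : ¬ A ≤ M) (hE : ¬ WW V H' R ≤ Ee V A)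
    (hP : A ⊓ QQ H R ≤ P') (hP2 : P' ≤ (A ⊓ QQ H R) ⊔ QQ H' R) (hK : A ⊓ QQ H R ⊓ QQ H' R = ⊥)
    (hc : Nat.card ↥(A ⊓ QQ H R) = c) : WW V H' R ⊓ Ee V A ≤ W₁' := by
  have hm := h.amb.cls.mem A hA
  rintro y ⟨hy, hyE⟩
  by_contra hy1
  have hcA : Nat.card A = c * c := by rw [h.card_opp hA hAH hAM, hc]
  have hmemK : ∀ s ∈ A, s ∈ QQ H R → s • y = y → s = 1 := by
    intro s hs hsQ hsy
    have h1 : s ∈ QQ H' R := by
      apply h.k'.free s (hP ⟨hs, hsQ⟩) y hy hy1
      rw [hsy, h.vv0]; exact zero_mem _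
    have h2 : s ∈ A ⊓ QQ H R ⊓ QQ H' R := ⟨⟨hs, hsQ⟩, h1⟩
    rwa [hK, mem_bot] at h2
  obtain ⟨w₀, hw₀⟩ := hm.ne
  obtain ⟨u, hu, h1⟩ := hm.surj w₀ hw₀ y hyE
  have huy : u • y = y := mem_self hm hu h1
  have hu1 : u ≠ 1 := by
    rintro rfl
    rw [one_smul, h.vv0, zero_add] at h1
    have h2 : A ⊓ QQ H R = ⊥ := by
      rw [eq_bot_iff]
      intro b hb
      rw [mem_bot]
      exact hmemK b hb.1 hb.2 (h1 b hb.1)
    rw [h2, Subgroup.card_bot] at hc
    have := h.k.two_le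
    omega
  have huQ : u ∉ QQ H R := fun h2 => hu1 (hmemK u hu h2 huy)
  have hJ : ∀ x ∈ W₁', ∃ b ∈ A ⊓ QQ H R, b • y + y ∈ W₁' ∧ b • y + y + x ∈ D' := by
    intro x hx
    obtain ⟨p, hp, h2, h3⟩ := h.exists_onto hy hy1 hx
    obtain ⟨b, hb, q, hq, rfl⟩ := h.cover_mul hA hAH hAM hP2 hp
    rw [mul_smul, Amal.QQ_fix h.a' h.amb hq hy] at h2 h3
    exact ⟨b, hb, h2, h3⟩
  have hQQ : QQ H R ⊓ QQ H' R = ⊥ := by
    apply h.four (hAH hu) (hm.sq u hu) (h.not_M hA hAH hAM hu huQ) hy hy1 huy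
    intro x hx
    obtain ⟨b, hb, h2, h3⟩ := hJ x hx
    exact ⟨_, h2, h3, hyE b hb.1 u hu⟩
  obtain ⟨x, hx, hxM, h1', h2', h3'⟩ := h.exists_x hA hAH hAM
  obtain ⟨B, hBeq⟩ : ∃ B, B = MulAut.conj x • A := ⟨_, rfl⟩
  rw [← hBeq] at h1' h2' h3'
  have hcB : Nat.card B = c * c := by rw [hBeq, conj_card]; exact hcA
  have c1 := h.card_BQ h1' h2' h3' hcB
  have hBQ' := h.not_le_Q' hQQ c1
  have hSn : ∀ z ∈ H, ∀ s ∈ A ⊓ QQ H R, z * s * z⁻¹ ∈ A ⊓ QQ H R := fun z hz s hs =>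
    h.S_norm hQQ hA hAH hAM hP hc hz hs
  have le1 := h.five_le hQQ h1' h2' h3' hBQ' hcB
  have le2 := h.swap.five_le (by rw [inf_comm]; exact hQQ) h1' h2' hBQ' h3' hcB
  -- `I ∩ D = 0`
  have hID : ∀ v ∈ cmK P (WW V H R), v ∈ D → v = 0 := by
    by_cases hcase : ∀ s ∈ A ⊓ QQ H R, ∀ v : V, s • v + v ∈ WW V H R → s • v + v ∈ D
    · exact absurd (h.le_Ee_of hA hAH hAM h1' h2' h3' hx hBeq hc hSn hcase) hE
    · push Not at hcase
      obtain ⟨s, hs, v₁, hv1, hv2⟩ := hcase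
      have hsB' : s ∈ B := by
        rw [hBeq, mem_conj]
        have := hSn x⁻¹ (H.inv_mem hx) s hs
        rw [inv_inv] at this
        exact this.1
      have hsB : s ∈ B ⊓ QQ H R := ⟨hsB', hs.2⟩
      exact fun v hv hvD => h.cm_inf_of hA hAH hAM h1' h2' h3' hcB hx hBeq hs hsB hv1 hv2 hv hvD
  apply h.no_common hAH hAM le1
  intro j hj
  obtain ⟨b, hb, h2, h3⟩ := hJ j (h.swap.cm_le_W₁ hj)
  have h4 : b • y + y ∈ cmK P' (WW V H' R) := mem_cm (hP hb) hy
  have h5 : t • (b • y + y + j) = 0 := hID _ (h.swap.t_cm (add_mem h4 hj)) (h.swap.t_D h3)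
  rw [smul_eq_zero_iff_eq, HE.add_eq_zero' h.amb.two] at h5
  rw [← h5]
  exact hyE b hb.1

end TwoK

end Cfsg.Agent.Omega.NO1.TH

end

section


/-!
# N1, the amalgam `(H, H^t)`, `k = 1` (bb OMEGA 20297, helper503): the theorem

`TwoK.main` : for every opposite member `A` : `W' ≰ E_A`, `A ∩ Q ∩ Q' = 1`, `|A ∩ Q| = c`, `|A| = c²`,
`P' = (A ∩ Q) Q'`, `W' ∩ E_A ≤ W₁'`; `TwoK.main_top` : with `|V : E_A|² ≤ |A|` also `|V : E_A| = c`, `V = W' + E_A`.
-/

set_option autoImplicit false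
set_option linter.unusedSectionVars false

namespace Cfsg.Agent.Omega.NO1.TH

open Subgroup Cfsg.Agent.Omega.NO1.AB
open scoped Pointwise

universe u

variable {Y : Type u} [Group Y] {V : Type u} [AddCommGroup V] [DistribMulAction Y V]

namespace TwoK

variable [Finite Y] [Finite V] {U : Set (Subgroup Y)} {T : Sylow 2 Y} {M H H' R P P' : Subgroup Y}
  {D D' W₁ W₁' : AddSubgroup V} {c : ℕ} {t : Y} (h : TwoK V U T M H H' R P P' D D' W₁ W₁' c t)
include h

theorem in15 {A : Subgroup Y} (hA : A ∈ U) (hAH : A ≤ H) (hAM : ¬ A ≤ M) (hE : WW V H' R ≤ Ee V A) :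
    In15 V H H' R P' W₁' c A where
  one_a := by
    rw [mul_comm, (h.one_aux hA hAH hAM hE).1, inf_comm (WW V H' R)]
  one_b := fun v hv hK => by
    rw [← h.one hA hAH hAM hE]
    exact ⟨fun k hk => hK k hk, hv⟩
  two_a := (h.two_all hA hAH hAM hE).1
  three := by
    refine ⟨cmK P (WW V H R), h.cm_le_W₁.trans h.k.W₁W, ?_, ?_⟩
    · intro x hx hxA
      have h1 : x ∈ cmK P (WW V H R) ⊓ fx V A := ⟨hx, hxA⟩
      rw [(h.two_inf hA hAH hAM hE hA hAH hAM).1, AddSubgroup.mem_bot] at h1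
      exact h1
    · intro v hv k hk
      apply h.three hA hAH hAM hE hk.1.2 hk.2
      exact hv
  four := by
    by_cases hQ : QQ H R ⊓ QQ H' R = ⊥
    · exact Or.inr hQ
    · refine Or.inl fun y hy hy1 u hu huy => ?_
      have huQ : u ∈ QQ H R := by
        by_contra huQ
        exact hQ (h.four_opp hA hAH hAM hE hu huQ hy hy1 huy)
      refine ⟨⟨hu, huQ⟩, ?_⟩
      apply h.k'.free u ((h.two_all hA hAH hAM hE).1 ⟨hu, huQ⟩) y hy hy1
      rw [huy, h.vv0]
      exact zero_mem _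
  five := fun hQQ hc => h.five hA hAH hAM hE hQQ hc

/-- **bb OMEGA 20297** -/
theorem main {A : Subgroup Y} (hA : A ∈ U) (hAH : A ≤ H) (hAM : ¬ A ≤ M) : Out8 V H H' R P' W₁' c A := by
  apply h.out (fun A hA hAH hAM hE => h.in15 hA hAH hAM hE) _ hA hAH hAM
  intro B hB hBH hBM hE hP y hy hyE
  obtain ⟨h1, h2, h3, -⟩ := h.eight hB hBH hBM hE
  refine h.eight_a hB hBH hBM hE hP ?_ h1 h2 ⟨hy, hyE⟩
  intro r hr
  obtain ⟨b, hb, q, hq, rfl⟩ := exists_mul_of_card h.k'.QP hP h.k'.card_P (by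
    rw [h1, Subgroup.card_bot, mul_one, h2]) hr
  exact mul_mem (mem_sup_left hb) (mem_sup_right hq)

/-- **bb OMEGA 20297**, `c = a`, `V = W' + E_A` -/
theorem main_top {A : Subgroup Y} (hA : A ∈ U) (hAH : A ≤ H) (hAM : ¬ A ≤ M) {a : ℕ}
    (hV : Nat.card V = a * Nat.card ↥(Ee V A)) (hpf : a * a ≤ Nat.card A) :
    a = c ∧ WW V H' R ⊔ Ee V A = ⊤ ∧ WW V H' R ⊓ Ee V A = W₁' := by
  have o := h.main hA hAH hAM
  have hm := h.amb.cls.mem A hA
  have h1 : a ≤ c := by
    rw [o.cA] at hpf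
    by_contra h2
    push Not at h2
    nlinarith only [hpf, h2, h.c_pos]
  have h2 := card_sup_as (WW V H' R) (Ee V A)
  have h3 : WW V H' R ⊓ Ee V A ≤ W₁' := fun y hy => o.cap y hy.1 hy.2
  have h4 := Nat.card_le_card_of_injective _ (AddSubgroup.inclusion_injective h3)
  have h5 : Nat.card ↥(WW V H' R ⊔ Ee V A) ≤ Nat.card V :=
    Nat.card_le_card_of_injective _ Subtype.val_injective
  have hE0 : 0 < Nat.card ↥(Ee V A) := Nat.card_pos
  have hW0 : 0 < Nat.card W₁' := Nat.card_pos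
  have hI0 : 0 < Nat.card ↥(WW V H' R ⊓ Ee V A) := Nat.card_pos
  rw [h.k'.card_W] at h2
  rw [hV] at h5
  have h6 : c ≤ a := by
    apply Nat.le_of_mul_le_mul_right _ (Nat.mul_pos hW0 hE0)
    calc c * (Nat.card W₁' * Nat.card ↥(Ee V A)) = c * Nat.card W₁' * Nat.card ↥(Ee V A) := by ring
      _ = Nat.card ↥(WW V H' R ⊔ Ee V A) * Nat.card ↥(WW V H' R ⊓ Ee V A) := h2.symm
      _ ≤ a * Nat.card ↥(Ee V A) * Nat.card W₁' := Nat.mul_le_mul h5 h4
      _ = _ := by ring
  have h7 : a = c := le_antisymm h1 h6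
  subst h7
  have h8 : Nat.card ↥(WW V H' R ⊔ Ee V A) = a * Nat.card ↥(Ee V A) ∧
      Nat.card ↥(WW V H' R ⊓ Ee V A) = Nat.card W₁' := by
    have h9 : a * Nat.card ↥(Ee V A) * Nat.card W₁' =
        Nat.card ↥(WW V H' R ⊔ Ee V A) * Nat.card ↥(WW V H' R ⊓ Ee V A) := by rw [h2]; ring
    have ha0 : 0 < a * Nat.card ↥(Ee V A) := Nat.mul_pos h.c_pos hE0
    constructor
    · apply le_antisymm h5
      apply Nat.le_of_mul_le_mul_right _ hW0
      rw [h9]
      exact Nat.mul_le_mul_left _ h4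
    · apply le_antisymm h4
      apply Nat.le_of_mul_le_mul_left _ ha0
      rw [h9]
      exact Nat.mul_le_mul_right _ h5
  refine ⟨rfl, ?_, ?_⟩
  · apply eq_of_le_as le_top
    have : Nat.card ↥(⊤ : AddSubgroup V) = Nat.card V := AddSubgroup.card_top
    rw [this, h8.1, hV]
  · exact eq_of_le_as h3 h8.2.ge

end TwoK

end Cfsg.Agent.Omega.NO1.TH

end

section


/-!
# N1, the amalgam `(H, H^t)`, `k = 1`: THE END, (0'), (1') (bb OMEGA 20698, 21741)

`TwoE` : the input; (1') a member in `R` is in none or in both of `Q`, `Q'`.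
-/

set_option autoImplicit false
set_option linter.unusedSectionVars false
set_option linter.unusedVariables false

namespace Cfsg.Agent.Omega.NO1.TH

open Subgroup Cfsg.Agent.Omega.NO1.AB
open scoped Pointwise

universe u

variable {Y : Type u} [Group Y] {V : Type u} [AddCommGroup V] [DistribMulAction Y V]

/-- The input of THE END: `TwoK`, `c ≥ 4`, `|V : E_A| = c`, no offender. -/
structure TwoE (V : Type u) [AddCommGroup V] [DistribMulAction Y V] (U : Set (Subgroup Y)) (T : Sylow 2 Y)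
    (M H H' R P P' : Subgroup Y) (D D' W₁ W₁' : AddSubgroup V) (c : ℕ) (t : Y) : Prop
    extends TwoK V U T M H H' R P P' D D' W₁ W₁' c t where
  four : 4 ≤ c
  ind : ∀ A ∈ U, Nat.card V = c * Nat.card ↥(Ee V A)
  noff : ∀ A : Subgroup Y, ElAb A → A ≠ ⊥ → Nat.card A < (fx V A).index

theorem TwoE.swap {U : Set (Subgroup Y)} {T : Sylow 2 Y} {M H H' R P P' : Subgroup Y} {D D' W₁ W₁' : AddSubgroup V}
    {c : ℕ} {t : Y} (h : TwoE V U T M H H' R P P' D D' W₁ W₁' c t) :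
    TwoE V U T M H' H R P' P D' D W₁' W₁ c t :=
  { h.toTwoK.swap with
    four := h.four
    ind := h.ind
    noff := h.noff }

theorem bk_comm {a b : Y} (hab : a * b = b * a) (v : V) : bk a (bk b v) = bk b (bk a v) := by
  simp only [bk_apply, smul_add, ← mul_smul, hab]
  abel

namespace TwoK

variable [Finite Y] [Finite V] {U : Set (Subgroup Y)} {T : Sylow 2 Y} {M H H' R P P' : Subgroup Y}
  {D D' W₁ W₁' : AddSubgroup V} {c : ℕ} {t : Y} (h : TwoK V U T M H H' R P P' D D' W₁ W₁' c t)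
include h

theorem exists_W₁ : ∃ w ∈ W₁, w ∉ D := by
  by_contra hcon
  push Not at hcon
  have h4 : W₁ = D := le_antisymm hcon h.k.DW
  have h5 := h.k.card_W₁
  rw [h4] at h5
  have h6 : 0 < Nat.card D := Nat.card_pos
  have h7 := h.k.two_le
  nlinarith

theorem smul_W₁ {x : Y} (hx : x ∈ H) (hxM : x ∈ M) : x • W₁ = W₁ := smul_of_mem fun w hw => h.k.stab x hx hxM w hw

theorem conj_le_H {A : Subgroup Y} {x : Y} (hx : x ∈ H) (hAH : A ≤ H) : MulAut.conj x • A ≤ H := by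
  intro y hy
  rw [mem_conj] at hy
  have h1 := H.mul_mem (H.mul_mem hx (hAH hy)) (H.inv_mem hx)
  have e : x * (x⁻¹ * y * x) * x⁻¹ = y := by group
  rwa [e] at h1

theorem conj_not_Q {A : Subgroup Y} {x : Y} (hx : x ∈ H) (hAQ : ¬ A ≤ QQ H R) : ¬ MulAut.conj x • A ≤ QQ H R := by
  intro h1
  apply hAQ
  rw [conj_le_iff, h.conj_Q (H.inv_mem hx)] at h1
  exact h1

theorem WF_conj {A : Subgroup Y} {x : Y} (hx : x ∈ H) :
    WW V H R ⊓ fx V (MulAut.conj x • A) = x • (WW V H R ⊓ fx V A) := by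
  rw [fx_conj, smul_inf_as, smul_WW hx]

/-- a member in `H ∩ M` fixes `W₁` -/
theorem WF_M {A : Subgroup Y} (hA : A ∈ U) (hAH : A ≤ H) (hAQ : ¬ A ≤ QQ H R) (hAM : A ≤ M) :
    WW V H R ⊓ fx V A = W₁ := by
  obtain ⟨m, hm, hmR⟩ := conj_into (X := H ⊓ M) (le_inf h.a.RH h.RM) h.a.R2
    (fun R' h1 h2 => h.a.card_le h.a.bad.ne le_rfl (h1.trans inf_le_left) h2) (le_inf hAH hAM)
    (h.amb.cls.mem A hA).isPGroup
  have h1 := h.WF_conj (A := A) hm.1
  have h2 := h.conj_not_Q hm.1 hAQ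
  have hU := h.amb.cls.conj A hA m
  have h3 : WW V H R ⊓ fx V (MulAut.conj m • A) = W₁ := by
    apply le_antisymm
    · rintro w ⟨hw, hwF⟩
      exact h.fx_W₁ hU hmR h2 hw hwF
    · exact le_inf h.k.W₁W (h.W₁_fx hU hmR h2)
  rw [h3] at h1
  have h4 : m⁻¹ • W₁ = m⁻¹ • m • (WW V H R ⊓ fx V A) := by rw [← h1]
  rw [smul_smul_as, inv_mul_cancel, one_smul, h.smul_W₁ (H.inv_mem hm.1) (M.inv_mem hm.2)] at h4
  exact h4.symm

theorem exists_H : ∃ x ∈ H, x ∉ M := SetLike.not_le_iff_exists.1 (Amal.H_not_le h.a h.amb)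

/-- a member in `H` which is not in `Q` has an opposite conjugate -/
theorem exists_opp {A : Subgroup Y} (hA : A ∈ U) (hAH : A ≤ H) (hAQ : ¬ A ≤ QQ H R) :
    ∃ x ∈ H, MulAut.conj x • A ∈ U ∧ MulAut.conj x • A ≤ H ∧ ¬ MulAut.conj x • A ≤ M := by
  by_contra hcon
  have hcon' : ∀ x ∈ H, MulAut.conj x • A ≤ M := by
    intro x hx
    by_contra h1
    exact hcon ⟨x, hx, h.amb.cls.conj A hA x, h.conj_le_H hx hAH, h1⟩
  obtain ⟨x, hx, hxM⟩ := h.exists_H
  have h1 : A ≤ M := by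
    have := hcon' 1 H.one_mem
    rwa [map_one, one_smul] at this
  have h2 := h.WF_conj (A := A) hx
  rw [h.WF_M hA hAH hAQ h1, h.WF_M (h.amb.cls.conj A hA x) (h.conj_le_H hx hAH) (h.conj_not_Q hx hAQ) (hcon' x hx)] at h2
  obtain ⟨w, hw, hwD⟩ := h.exists_W₁
  apply hwD
  apply h.k.opp x hx hxM w hw
  rw [h2]
  exact smul_mem_smul_as hw

/-- an opposite member -/
theorem exists_A : ∃ A ∈ U, A ≤ H ∧ ¬ A ≤ M := by
  obtain ⟨B, hB, hBR, hBQ⟩ := Amal.exists_not_QQ h.a h.amb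
  obtain ⟨x, -, h1, h2, h3⟩ := h.exists_opp hB (hBR.trans h.a.RH) hBQ
  exact ⟨_, h1, h2, h3⟩

theorem card_AQ {A : Subgroup Y} (hA : A ∈ U) (hAH : A ≤ H) (hAQ : ¬ A ≤ QQ H R) :
    Nat.card ↥(A ⊓ QQ H R) = c := by
  obtain ⟨x, hx, h1, h2, h3⟩ := h.exists_opp hA hAH hAQ
  rw [← (h.main h1 h2 h3).cB, ← conj_card x (A ⊓ QQ H R), conj_inf, h.conj_Q hx]

theorem card_A' {A : Subgroup Y} (hA : A ∈ U) (hAH : A ≤ H) (hAQ : ¬ A ≤ QQ H R) :
    Nat.card A = c * c := by
  rw [h.card_mem hA hAH hAQ, h.card_AQ hA hAH hAQ]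

theorem pre_eq {A : Subgroup Y} (hA : A ∈ U) (hAH : A ≤ H) (hAQ : ¬ A ≤ QQ H R) {w : V} (hw : w ∉ Ee V A) :
    pre A w (WW V H R ⊔ fx V A) = (A ⊓ QQ H R : Subgroup Y) := by
  apply Set.eq_of_subset_of_ncard_le (h.pre_sub hA hAH hAQ hw) _ (Set.toFinite _)
  change Nat.card ↥(A ⊓ QQ H R) ≤ Nat.card (pre A w (WW V H R ⊔ fx V A))
  rw [h.card_pre' hA hAH hAQ hw, h.card_AQ hA hAH hAQ]

theorem mem_Q_of {A : Subgroup Y} (hA : A ∈ U) (hAH : A ≤ H) (hAQ : ¬ A ≤ QQ H R) {w : V} (hw : w ∉ Ee V A)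
    {s : Y} (hs : s ∈ A) (h1 : s • w + w ∈ WW V H R ⊔ fx V A) : s ∈ QQ H R := by
  have h2 : s ∈ pre A w (WW V H R ⊔ fx V A) := ⟨hs, h1⟩
  rw [h.pre_eq hA hAH hAQ hw] at h2
  exact h2.2

theorem comm_Q {A : Subgroup Y} (hA : A ∈ U) (hAH : A ≤ H) (hAQ : ¬ A ≤ QQ H R) (w : V)
    {s : Y} (hs : s ∈ A) (hsQ : s ∈ QQ H R) : s • w + w ∈ WW V H R ⊔ fx V A := by
  by_cases hw : w ∈ Ee V A
  · exact AddSubgroup.mem_sup_right (hw s hs)
  have h2 : s ∈ ((A ⊓ QQ H R : Subgroup Y) : Set Y) := ⟨hs, hsQ⟩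
  rw [← h.pre_eq hA hAH hAQ hw] at h2
  exact h2.2

/-- `[E_A, A ∩ Q] ≤ W` -/
theorem comm_E {A : Subgroup Y} (hA : A ∈ U) (hAH : A ≤ H) (hAQ : ¬ A ≤ QQ H R) {e : V} (he : e ∈ Ee V A)
    {b : Y} (hb : b ∈ A) (hbQ : b ∈ QQ H R) : b • e + e ∈ WW V H R := by
  have hm := h.amb.cls.mem A hA
  obtain ⟨w, hw⟩ := hm.ne
  obtain ⟨s, hs, h1⟩ := hm.surj w hw e he
  have e1 : e = bk s w + (s • w + w + e) := by
    rw [bk_apply, ← add_assoc, h.two, zero_add]
  obtain ⟨x, hx, f, hf, hxf⟩ := AddSubgroup.mem_sup.1 (h.comm_Q hA hAH hAQ w hb hbQ)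
  have e2 : b • e + e = bk b (bk s w) := by
    change bk b e = _
    conv_lhs => rw [e1]
    rw [map_add, bk_apply b (s • w + w + e), h1 b hb, h.two, add_zero]
  have e3 : bk b w = x + f := by rw [bk_apply, hxf]
  rw [e2, bk_comm (hm.comm b hb s hs), e3, map_add, bk_apply s f, hf s hs, h.two, add_zero, bk_apply]
  exact add_mem (smul_mem_WW (hAH hs) hx) hx

/-- `C_V(b) = W + F_A` for `1 ≠ b ∈ A ∩ Q` -/
theorem cent_b {A : Subgroup Y} (hA : A ∈ U) (hAH : A ≤ H) (hAQ : ¬ A ≤ QQ H R) {b : Y} (hb : b ∈ A)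
    (hbQ : b ∈ QQ H R) (hb1 : b ≠ 1) {v : V} (hv : b • v = v) : v ∈ WW V H R ⊔ fx V A := by
  have hm := h.amb.cls.mem A hA
  have hvE := mem_E_of_fix hm h.two hb hb1 hv
  obtain ⟨w, hw⟩ := hm.ne
  obtain ⟨s, hs, h1⟩ := hm.surj w hw v hvE
  obtain ⟨x, hx, f, hf, hxf⟩ := AddSubgroup.mem_sup.1 (h.comm_Q hA hAH hAQ w hb hbQ)
  have hxF : x ∉ fx V A := by
    intro h2
    exact hb1 (hm.inj w hw b hb (by rw [← hxf]; exact add_mem h2 hf))
  have e1 : v = bk s w + (s • w + w + v) := by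
    rw [bk_apply, ← add_assoc, h.two, zero_add]
  -- `[x, s] = 0`
  have e2 : bk b v = bk s x := by
    have e3 : bk b w = x + f := by rw [bk_apply, hxf]
    conv_lhs => rw [e1]
    rw [map_add, bk_apply b (s • w + w + v), h1 b hb, h.two, add_zero, bk_comm (hm.comm b hb s hs), e3, map_add,
      bk_apply s f, hf s hs, h.two, add_zero]
  have e4 : s • x = x := by
    rw [bk_apply, bk_apply, hv, h.two] at e2
    exact (HE.add_eq_zero' h.two).1 e2.symm
  have h3 := h.cent hA hAH hAQ hx hxF hs e4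
  rw [e1]
  exact add_mem (h.comm_Q hA hAH hAQ w hs h3) (AddSubgroup.mem_sup_right h1)

/-- members which are not in `Q'` and fix ... : `cmK P W = cmK B W` -/
theorem cm_eq {B : Subgroup Y} (hB : B ∈ U) (hBR : B ≤ R) (hBQ : ¬ B ≤ QQ H R) :
    cmK P (WW V H R) = cmK B (WW V H R) := by
  obtain ⟨h1, h2⟩ := h.k.cover B hB hBR hBQ
  apply le_antisymm
  · apply cm_le
    intro p hp w hw
    obtain ⟨b, hb, q, hq, rfl⟩ := exists_mul_of_sup
      (fun b hb q hq => conj_mem_QQ (h.a.RH (hBR hb)) hq) (h2 hp)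
    rw [mul_smul, Amal.QQ_fix h.a h.amb hq hw]
    exact mem_cm hb hw
  · apply cm_le
    intro p hp w hw
    exact mem_cm (h1 hp) hw

end TwoK

namespace TwoE

variable [Finite Y] [Finite V] {U : Set (Subgroup Y)} {T : Sylow 2 Y} {M H H' R P P' : Subgroup Y}
  {D D' W₁ W₁' : AddSubgroup V} {c : ℕ} {t : Y} (h : TwoE V U T M H H' R P P' D D' W₁ W₁' c t)
include h

theorem top {A : Subgroup Y} (hA : A ∈ U) (hAH : A ≤ H) (hAM : ¬ A ≤ M) : WW V H' R ⊔ Ee V A = ⊤ :=
  (h.main_top hA hAH hAM (h.ind A hA) (h.main hA hAH hAM).cA.ge).2.1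

/-- `[V, A ∩ Q] ≤ W + [W', P']` -/
theorem comm_opp {A : Subgroup Y} (hA : A ∈ U) (hAH : A ≤ H) (hAM : ¬ A ≤ M) {b : Y} (hb : b ∈ A)
    (hbQ : b ∈ QQ H R) (v : V) : b • v + v ∈ WW V H R ⊔ cmK P' (WW V H' R) := by
  have hv : v ∈ WW V H' R ⊔ Ee V A := by rw [h.top hA hAH hAM]; exact AddSubgroup.mem_top v
  obtain ⟨w, hw, e, he, rfl⟩ := AddSubgroup.mem_sup.1 hv
  have e1 : b • (w + e) + (w + e) = (b • e + e) + (b • w + w) := by rw [smul_add]; abel
  rw [e1]
  exact AddSubgroup.add_mem_sup (h.comm_E hA hAH (h.not_Q hAM) he hb hbQ)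
    (mem_cm ((h.main hA hAH hAM).BP ⟨hb, hbQ⟩) hw)

/-- `[[W', P'], A] ≤ W` -/
theorem cm_opp {A : Subgroup Y} (hA : A ∈ U) (hAH : A ≤ H) (hAM : ¬ A ≤ M) {a : Y} (ha : a ∈ A) {z : V}
    (hz : z ∈ cmK P' (WW V H' R)) : a • z + z ∈ WW V H R := by
  have hm := h.amb.cls.mem A hA
  have key : cmK P' (WW V H' R) ≤ (WW V H R).comap (bk a) := by
    apply cm_le
    intro p hp w hw
    obtain ⟨b, hb, q, hq, rfl⟩ := (h.main hA hAH hAM).mul p hp
    rw [mul_smul, Amal.QQ_fix h.a' h.amb hq hw]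
    change bk a (bk b w) ∈ WW V H R
    rw [bk_comm (hm.comm a ha b hb.1)]
    exact h.comm_E hA hAH (h.not_Q hAM) (hm.VB a ha w) hb.1 hb.2
  exact key hz

/-- `W + [W', P']` is `H`-invariant -/
theorem Wp_H {x : Y} (hx : x ∈ H) {v : V} (hv : v ∈ WW V H R ⊔ cmK P' (WW V H' R)) :
    x • v ∈ WW V H R ⊔ cmK P' (WW V H' R) := by
  obtain ⟨A, hA, hAH, hAM⟩ := h.exists_A
  have h1 : ∀ u ∈ R, ∀ n ∈ WW V H R ⊔ cmK P' (WW V H' R), u • n ∈ WW V H R ⊔ cmK P' (WW V H' R) := by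
    intro u hu n hn
    obtain ⟨w, hw, z, hz, rfl⟩ := AddSubgroup.mem_sup.1 hn
    rw [smul_add]
    exact AddSubgroup.add_mem_sup (smul_mem_WW (h.a.RH hu) hw) (h.cm_R hu hz)
  have h2 : ∀ u ∈ A, ∀ n ∈ WW V H R ⊔ cmK P' (WW V H' R), u • n ∈ WW V H R ⊔ cmK P' (WW V H' R) := by
    intro u hu n hn
    obtain ⟨w, hw, z, hz, rfl⟩ := AddSubgroup.mem_sup.1 hn
    have e1 : u • (w + z) = (u • w + (u • z + z)) + z := by
      rw [smul_add, add_assoc, add_assoc, h.two, add_zero]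
    rw [e1]
    exact AddSubgroup.add_mem_sup (add_mem (smul_mem_WW (hAH hu) hw) (h.cm_opp hA hAH hAM hu hz)) hz
  have h3 := inv_sup h1 h2
  rw [h.a.gen hAH hAM] at h3
  exact h3 x hx v hv

theorem smul_Wp {x : Y} (hx : x ∈ H) : x • (WW V H R ⊔ cmK P' (WW V H' R)) = WW V H R ⊔ cmK P' (WW V H' R) :=
  smul_of_mem fun _ hv => h.Wp_H hx hv

theorem comm_Wp {A : Subgroup Y} (hA : A ∈ U) (hAH : A ≤ H) (hAQ : ¬ A ≤ QQ H R) {b : Y} (hb : b ∈ A)
    (hbQ : b ∈ QQ H R) (v : V) : b • v + v ∈ WW V H R ⊔ cmK P' (WW V H' R) := by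
  obtain ⟨x, hx, h1, h2, h3⟩ := h.exists_opp hA hAH hAQ
  have h4 := h.comm_opp h1 h2 h3 (conj_mem_conj (g := x) hb) (conj_mem_QQ hx hbQ) (x • v)
  have e : (x * b * x⁻¹) • x • v + x • v = x • (b • v + v) := by
    rw [smul_add, ← mul_smul, ← mul_smul]
    congr 2; group
  rw [e, ← h.smul_Wp hx, mem_smul_as, inv_smul_smul] at h4
  exact h4

/-- `A ∩ Q` centralises `W + [W', P']` -/
theorem fix_Wp {A : Subgroup Y} (hA : A ∈ U) (hAH : A ≤ H) (hAQ : ¬ A ≤ QQ H R) {b : Y} (hb : b ∈ A)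
    (hbQ : b ∈ QQ H R) {v : V} (hv : v ∈ WW V H R ⊔ cmK P' (WW V H' R)) : b • v = v := by
  obtain ⟨x, hx, h1, h2, h3⟩ := h.exists_opp hA hAH hAQ
  have h5 := h.Wp_H hx hv
  obtain ⟨w, hw, z, hz, hwz⟩ := AddSubgroup.mem_sup.1 h5
  have h6 : x * b * x⁻¹ ∈ P' := (h.main h1 h2 h3).BP ⟨conj_mem_conj hb, conj_mem_QQ hx hbQ⟩
  have h7 : (x * b * x⁻¹) • x • v = x • v := by
    rw [← hwz, smul_add, Amal.QQ_fix h.a h.amb (conj_mem_QQ hx hbQ) hw,
      h.k'.P_fix _ h6 z (h.swap.cm_le_W₁ hz)]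
  have e : (x * b * x⁻¹) • x • v = x • b • v := by
    rw [← mul_smul, ← mul_smul]; congr 1; group
  rw [e] at h7
  exact smul_left_cancel x h7

/-- **(1')** a member in `R` which is not in `Q` is not in `Q'` -/
theorem not_Q' {B : Subgroup Y} (hB : B ∈ U) (hBR : B ≤ R) (hBQ : ¬ B ≤ QQ H R) : ¬ B ≤ QQ H' R := by
  intro hBQ'
  have hm := h.amb.cls.mem B hB
  have hBH : B ≤ H := hBR.trans h.a.RH
  obtain ⟨hBP, -⟩ := h.k.cover B hB hBR hBQ
  obtain ⟨A, hA, hAH, hAM⟩ := h.swap.exists_A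
  obtain ⟨a, ha, haQ⟩ := h.swap.star hA hAH hAM
  have haP : a ∈ P := (h.swap.main hA hAH hAM).BP ha
  have haa : a * a = 1 := (h.amb.cls.mem A hA).sq a ha.1
  -- `B` centralises `[V, a]`
  have hba : ∀ b ∈ B, ∀ v : V, bk b (bk a v) = 0 := by
    intro b hb v
    obtain ⟨w, hw, z, hz, hwz⟩ := AddSubgroup.mem_sup.1 (h.swap.comm_opp hA hAH hAM ha.1 ha.2 v)
    rw [bk_apply a, ← hwz, bk_apply, smul_add, Amal.QQ_fix h.a' h.amb (hBQ' hb) hw,
      h.k.P_fix b (hBP hb) z (h.cm_le_W₁ hz), h.two]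
  have hbb : ∀ b ∈ B ⊓ QQ H R, ∀ b' ∈ B ⊓ QQ H R, ∀ v : V, bk b (bk b' v) = 0 := by
    intro b hb b' hb' v
    rw [bk_apply b, bk_apply b', h.fix_Wp hB hBH hBQ hb.1 hb.2 (h.comm_Wp hB hBH hBQ hb'.1 hb'.2 v), h.two]
  have hy : ∀ b ∈ B, ∀ v : V, (a * b * a * b) • v = v + bk a (bk b v) := by
    intro b hb v
    have h1 := hba b hb (b • v)
    rw [bk_apply b] at h1
    have h2 : b • bk a (b • v) = bk a (b • v) := (HE.add_eq_zero' h.two).1 h1
    have h3 : a • b • v = bk a (b • v) + b • v := by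
      rw [bk_apply, add_assoc, h.two, add_zero]
    have h4 : b • b • v = v := by rw [← mul_smul, hm.sq b hb, one_smul]
    have h5 : a • a • b • v = b • v := by rw [← mul_smul, haa, one_smul]
    rw [mul_smul, mul_smul, mul_smul, h3, smul_add, h2, h4, bk_apply, bk_apply, bk_apply]
    simp only [smul_add]
    rw [h5]
    have e : b • v + a • b • v + a • v = v + v + (b • v + a • b • v + a • v) := by rw [h.two, zero_add]
    rw [e]
    abel
  have hmul : ∀ b ∈ B ⊓ QQ H R, ∀ b' ∈ B ⊓ QQ H R, ∀ v : V, bk (b * b') v = bk b v + bk b' v := by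
    intro b hb b' hb' v
    have h1 := hbb b hb b' hb' v
    have h2 : bk (b * b') v = bk b v + bk b' v + bk b (bk b' v) := by
      simp only [bk_apply, smul_add, mul_smul]
      have e : b • v + v + (b' • v + v) + (b • b' • v + b • v + (b' • v + v)) =
        (b • v + b • v) + (v + v) + (b' • v + b' • v) + (b • b' • v + v) := by abel
      rw [e]
      simp only [h.two, zero_add]
    rw [h2, h1, add_zero]
  let f : ↥(B ⊓ QQ H R) →* Y := MonoidHom.mk' (fun b => a * b * a * b) (by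
    intro b b'
    have key : ∀ v : V, ((a * (b * b' : Y) * a * (b * b' : Y)) * (a * b * a * b * (a * b' * a * b'))⁻¹) • v = v := by
      intro v
      obtain ⟨x, hx⟩ : ∃ x : V, v = (a * b * a * b * (a * b' * a * b')) • x :=
        ⟨_, (smul_inv_smul _ v).symm⟩
      rw [hx, ← mul_smul, inv_mul_cancel_right, hy _ (B.mul_mem b.2.1 b'.2.1), hmul b b.2 b' b'.2,
        mul_smul (a * (b : Y) * a * b), hy b' b'.2.1, hy b b.2.1]
      simp only [map_add]
      rw [hba b b.2.1, map_zero, add_zero]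
      abel
    have h1 := h.amb.faith _ key
    rw [mul_inv_eq_one] at h1
    exact h1)
  have hf : ∀ b : ↥(B ⊓ QQ H R), ∀ v : V, f b • v = v + bk a (bk (b : Y) v) := fun b v => hy b b.2.1 v
  have hinj : Function.Injective f := by
    rw [injective_iff_map_eq_one]
    intro b hb
    by_contra hb1
    have hb1' : (b : Y) ≠ 1 := fun h1 => hb1 (Subtype.ext h1)
    obtain ⟨v, hv⟩ := hm.ne
    have h1 := hf b v
    rw [hb, one_smul] at h1
    have h2 : bk a (bk (b : Y) v) = 0 := by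
      have := h1
      nth_rewrite 1 [← add_zero v] at this
      exact (add_left_cancel this).symm
    obtain ⟨x, hx, z, hz, hxz⟩ := AddSubgroup.mem_sup.1 (h.comm_Wp hB hBH hBQ b.2.1 b.2.2 v)
    have hz' : z ∈ WW V H' R := h.k'.W₁W (h.swap.cm_le_W₁ hz)
    have hzF : z ∈ fx V B := fun y hy => Amal.QQ_fix h.a' h.amb (hBQ' hy) hz'
    have hxF : x ∉ fx V B := by
      intro h3
      exact hb1' (hm.inj v hv b b.2.1 (by rw [← hxz]; exact add_mem h3 hzF))
    have h3 : bk a x = 0 := by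
      rw [bk_apply (b : Y), ← hxz, map_add, bk_apply a z, Amal.QQ_fix h.a' h.amb ha.2 hz', h.two, add_zero] at h2
      exact h2
    apply haQ
    apply h.k.free a haP x hx (fun h4 => hxF fun y hy => h.k.P_fix y (hBP hy) x h4)
    rw [bk_apply] at h3
    rw [h3]
    exact zero_mem _
  have hE : Ee V B ≤ fx V f.range := by
    rintro e he _ ⟨b, rfl⟩
    have h1 : bk (b : Y) e ∈ W₁ := h.fx_W₁ hB hBR hBQ (h.comm_E hB hBH hBQ he b.2.1 b.2.2)
      (hm.EB b b.2.1 e he)
    rw [hf, bk_apply a, h.k.P_fix a haP _ h1, h.two, add_zero]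
  have hel : ElAb f.range := by
    constructor
    · rintro _ ⟨b, rfl⟩ _ ⟨b', rfl⟩
      rw [← map_mul, ← map_mul]
      congr 1
      exact Subtype.ext (hm.comm b b.2.1 b' b'.2.1)
    · rintro _ ⟨b, rfl⟩
      rw [← map_mul]
      have h1 : b * b = 1 := Subtype.ext (hm.sq b b.2.1)
      rw [h1, map_one]
  have hcard : Nat.card f.range = c := by
    rw [← h.card_AQ hB hBH hBQ]
    exact (Nat.card_congr (MonoidHom.ofInjective hinj).toEquiv).symm
  have hne : f.range ≠ ⊥ := by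
    intro h1
    rw [h1, Subgroup.card_bot] at hcard
    have := h.four
    omega
  have h1 := h.noff f.range hel hne
  have h2 := (fx V f.range).index_mul_card
  have h3 := Nat.card_le_card_of_injective _ (AddSubgroup.inclusion_injective hE)
  rw [h.ind B hB] at h2
  have h4 : (fx V f.range).index ≤ c := by
    apply Nat.le_of_mul_le_mul_right _ (Nat.card_pos (α := ↥(Ee V B)))
    rw [← h2]
    exact Nat.mul_le_mul_left _ h3
  omega

end TwoE

end Cfsg.Agent.Omega.NO1.TH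

end

section


/-!
# N1, the amalgam `(H, H^t)`, `k = 1`: THE END, (2') (bb OMEGA 20698, 21741)

`I = [W, P] = [W', P']` has order `c`; `[V, b] = N` for all members `A ≤ H`, `A ≰ Q`, `1 ≠ b ∈ A ∩ Q`; `W = D ⊕ N`.
-/

set_option autoImplicit false
set_option linter.unusedSectionVars false
set_option linter.unusedVariables false

namespace Cfsg.Agent.Omega.NO1.TH

open Subgroup Cfsg.Agent.Omega.NO1.AB
open scoped Pointwise

universe u

variable {Y : Type u} [Group Y] {V : Type u} [AddCommGroup V] [DistribMulAction Y V]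

/-- `B = K K'` if `K ∩ K' = 1`, `|K| = |K'| = c`, `|B| = c²` -/
theorem exists_mul_card [Finite Y] {B K K' : Subgroup Y} {c : ℕ} (hK : K ≤ B) (hK' : K' ≤ B) (hi : K ⊓ K' = ⊥)
    (h1 : Nat.card K = c) (h2 : Nat.card K' = c) (h3 : Nat.card B = c * c) {u : Y} (hu : u ∈ B) :
    ∃ q ∈ K, ∃ q' ∈ K', u = q * q' := by
  let f : K × K' → B := fun p => ⟨(p.1 : Y) * p.2, B.mul_mem (hK p.1.2) (hK' p.2.2)⟩
  have hf : Function.Injective f := by
    rintro ⟨a, b⟩ ⟨a', b'⟩ hab
    have h4 : (a : Y) * b = a' * b' := congrArg Subtype.val hab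
    have h5 : (a' : Y)⁻¹ * a = b' * (b : Y)⁻¹ := by
      rw [eq_mul_inv_iff_mul_eq, mul_assoc, h4]; group
    have h6 : (a' : Y)⁻¹ * a ∈ K ⊓ K' := ⟨K.mul_mem (K.inv_mem a'.2) a.2, by
      rw [h5]; exact K'.mul_mem b'.2 (K'.inv_mem b.2)⟩
    rw [hi, mem_bot] at h6
    have h7 : (a : Y) = a' := (inv_mul_eq_one.1 h6).symm
    rw [h6] at h5
    have h8 : (b : Y) = b' := (mul_inv_eq_one.1 h5.symm).symm
    exact Prod.ext (Subtype.ext h7) (Subtype.ext h8)
  have hs : Function.Surjective f := by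
    have h4 : Nat.card (K × K') = Nat.card B := by rw [Nat.card_prod, h1, h2, h3]
    exact ((Nat.bijective_iff_injective_and_card f).2 ⟨hf, h4⟩).2
  obtain ⟨⟨a, b⟩, hab⟩ := hs ⟨u, hu⟩
  exact ⟨a, a.2, b, b.2, (congrArg Subtype.val hab).symm⟩

/-- `|φ X| |X ∩ ker φ| = |X|` -/
theorem card_map_bk [Finite V] (b : Y) (X : AddSubgroup V) :
    Nat.card ↥(X.map (bk b)) * Nat.card ↥(X ⊓ (bk b : V →+ V).ker) = Nat.card X := by
  have h1 := ((bk b : V →+ V).comp X.subtype).ker.card_eq_card_quotient_mul_card_addSubgroup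
  rw [Nat.card_congr (QuotientAddGroup.quotientKerEquivRange _).toEquiv] at h1
  have h2 : ((bk b : V →+ V).comp X.subtype).range = X.map (bk b) := by
    ext v
    constructor
    · rintro ⟨x, rfl⟩
      exact ⟨x, x.2, rfl⟩
    · rintro ⟨x, hx, rfl⟩
      exact ⟨⟨x, hx⟩, rfl⟩
  have h3 : Nat.card ↥(X ⊓ (bk b : V →+ V).ker) = Nat.card ((bk b : V →+ V).comp X.subtype).ker := by
    apply Nat.card_congr
    exact
      { toFun := fun v => ⟨⟨v, v.2.1⟩, v.2.2⟩
        invFun := fun v => ⟨v.1, v.1.2, v.2⟩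
        left_inv := fun v => rfl
        right_inv := fun v => rfl }
  rw [h2, ← h3] at h1
  exact h1.symm

theorem map_bk_conj (x b : Y) (X : AddSubgroup V) : (x • X).map (bk (x * b * x⁻¹)) = x • X.map (bk b) := by
  ext v
  rw [mem_smul_as]
  constructor
  · rintro ⟨y, hy, rfl⟩
    rw [SetLike.mem_coe, mem_smul_as] at hy
    refine ⟨x⁻¹ • y, hy, ?_⟩
    simp only [bk_apply, smul_add, ← mul_smul]
    congr 2
    group
  · rintro ⟨y, hy, hyv⟩
    refine ⟨x • y, smul_mem_smul_as hy, ?_⟩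
    rw [eq_inv_smul_iff] at hyv
    rw [← hyv]
    simp only [bk_apply, smul_add, ← mul_smul]
    congr 2
    group

theorem cm_conj {P : Subgroup Y} {W : AddSubgroup V} (x : Y) : cmK (MulAut.conj x • P) (x • W) = x • cmK P W := by
  apply le_antisymm
  · apply cm_le
    intro p hp w hw
    rw [mem_conj] at hp
    rw [mem_smul_as] at hw ⊢
    have e : x⁻¹ • (p • w + w) = (x⁻¹ * p * x) • x⁻¹ • w + x⁻¹ • w := by
      rw [smul_add, ← mul_smul, ← mul_smul]; congr 2; group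
    rw [e]
    exact mem_cm hp hw
  · intro v hv
    rw [mem_smul_as] at hv
    have h1 := smul_mem_cm (x := x) (P₂ := MulAut.conj x • P) (W₂ := x • W) (fun p hp => conj_mem_conj hp)
      (fun w hw => smul_mem_smul_as hw) hv
    rwa [smul_inv_smul] at h1

theorem bot_of_card_le [Finite V] {X Z : AddSubgroup V} (h : Nat.card ↥(X ⊔ Z) * Nat.card ↥(X ⊓ Z) = Nat.card X * Nat.card Z)
    (h1 : X ⊓ Z = ⊥) : Nat.card ↥(X ⊔ Z) = Nat.card X * Nat.card Z := by
  rw [← h, h1]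
  have : Nat.card ↥(⊥ : AddSubgroup V) = 1 := AddSubgroup.card_bot
  rw [this, mul_one]

theorem card_sup_dis [Finite V] {X Z : AddSubgroup V} (h1 : X ⊓ Z = ⊥) :
    Nat.card ↥(X ⊔ Z) = Nat.card X * Nat.card Z := bot_of_card_le (card_sup_as X Z) h1

namespace TwoE

variable [Finite Y] [Finite V] {U : Set (Subgroup Y)} {T : Sylow 2 Y} {M H H' R P P' : Subgroup Y}
  {D D' W₁ W₁' : AddSubgroup V} {c : ℕ} {t : Y} (h : TwoE V U T M H H' R P P' D D' W₁ W₁' c t)
include h

theorem mul_of_bot {B : Subgroup Y} (hB : B ∈ U) (hBR : B ≤ R) (hBQ : ¬ B ≤ QQ H R)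
    (hi : B ⊓ QQ H R ⊓ (B ⊓ QQ H' R) = ⊥) {u : Y} (hu : u ∈ B) :
    ∃ q ∈ B ⊓ QQ H R, ∃ q' ∈ B ⊓ QQ H' R, u = q * q' :=
  exists_mul_card inf_le_left inf_le_left hi (h.card_AQ hB (hBR.trans h.a.RH) hBQ)
    (h.swap.card_AQ hB (hBR.trans h.a'.RH) (h.not_Q' hB hBR hBQ)) (h.card_A' hB (hBR.trans h.a.RH) hBQ) hu

/-- `[W, B] ≤ [W', B]` -/
theorem cm_le_B {B : Subgroup Y} (hB : B ∈ U) (hBR : B ≤ R) (hBQ : ¬ B ≤ QQ H R) :
    cmK B (WW V H R) ≤ cmK B (WW V H' R) := by
  have hm := h.amb.cls.mem B hB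
  have hBQ' := h.not_Q' hB hBR hBQ
  have hBH := hBR.trans h.a.RH
  have hBH' := hBR.trans h.a'.RH
  by_cases hi : B ⊓ QQ H R ⊓ (B ⊓ QQ H' R) = ⊥
  · apply cm_le
    intro u hu w hw
    obtain ⟨q, hq, q', hq', rfl⟩ := h.mul_of_bot hB hBR hBQ hi hu
    obtain ⟨w0, hw0⟩ := hm.ne
    obtain ⟨s, hs, h1⟩ := hm.surj w0 hw0 w (h.a.WW_le_Ee h.amb h.we hB hBH hw)
    have h2 : s • w0 + w0 ∈ WW V H R ⊔ fx V B := by
      have e : s • w0 + w0 = w + (s • w0 + w0 + w) := by
        have e1 : w + (s • w0 + w0 + w) = s • w0 + w0 + (w + w) := by abel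
        rw [e1, h.two, add_zero]
      rw [e]
      exact AddSubgroup.add_mem_sup hw h1
    have hsQ := h.mem_Q_of hB hBH hBQ hw0 hs h2
    have e1 : (q * q') • w + w = bk q' (bk s w0) := by
      rw [hm.comm q hq.1 q' hq'.1, mul_smul, Amal.QQ_fix h.a h.amb hq.2 hw, ← bk_apply]
      have e2 : w = bk s w0 + (s • w0 + w0 + w) := by rw [bk_apply, ← add_assoc, h.two, zero_add]
      conv_lhs => rw [e2]
      rw [map_add, bk_apply q' (s • w0 + w0 + w), h1 q' hq'.1, h.two, add_zero]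
    obtain ⟨x, hx, f, hf, hxf⟩ := AddSubgroup.mem_sup.1 (h.swap.comm_Q hB hBH' hBQ' w0 hq'.1 hq'.2)
    have e3 : bk q' w0 = x + f := by rw [bk_apply, hxf]
    rw [e1, bk_comm (hm.comm q' hq'.1 s hs), e3, map_add, bk_apply s f, hf s hs, h.two, add_zero]
    exact mem_cm hs hx
  · obtain ⟨⟨b, hb⟩, hb1'⟩ := ne_bot_iff_exists_ne_one.1 hi
    have hb1 : b ≠ 1 := fun h2 => hb1' (Subtype.ext h2)
    apply cm_le
    intro u hu w hw
    obtain ⟨x, hx, f, hf, hxf⟩ := AddSubgroup.mem_sup.1 (h.swap.cent_b hB hBH' hBQ' hb.2.1 hb.2.2 hb1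
      (Amal.QQ_fix h.a h.amb hb.1.2 hw))
    have e1 : u • w + w = u • x + x := by
      rw [← hxf, smul_add, hf u hu]
      have e : u • x + f + (x + f) = u • x + x + (f + f) := by abel
      rw [e, h.two, add_zero]
    rw [e1]
    exact mem_cm hu hx

/-- **`I = [W, P] = [W', P']`** -/
theorem cm_eq' : cmK P (WW V H R) = cmK P' (WW V H' R) := by
  obtain ⟨B, hB, hBR, hBQ⟩ := Amal.exists_not_QQ h.a h.amb
  have hBQ' := h.not_Q' hB hBR hBQ
  rw [h.cm_eq hB hBR hBQ, h.swap.cm_eq hB hBR hBQ']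
  exact le_antisymm (h.cm_le_B hB hBR hBQ) (h.swap.cm_le_B hB hBR hBQ')

theorem Wp_eq : WW V H R ⊔ cmK P' (WW V H' R) = WW V H R := by
  rw [← h.cm_eq']
  exact sup_eq_left.2 (h.cm_le_W₁.trans h.k.W₁W)

/-- `[V, A ∩ Q] ≤ W` -/
theorem comm_W {A : Subgroup Y} (hA : A ∈ U) (hAH : A ≤ H) (hAQ : ¬ A ≤ QQ H R) {b : Y} (hb : b ∈ A)
    (hbQ : b ∈ QQ H R) (v : V) : b • v + v ∈ WW V H R := by
  rw [← h.Wp_eq]
  exact h.comm_Wp hA hAH hAQ hb hbQ v

section opp

variable {A : Subgroup Y} (hA : A ∈ U) (hAH : A ≤ H) (hAM : ¬ A ≤ M) {b : Y} (hb : b ∈ A) (hbQ : b ∈ QQ H R)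
  (hb1 : b ≠ 1)
include hA hAH hAM hb hbQ hb1

/-- `[E_A, b]` -/
theorem J_le : (Ee V A).map (bk b) ≤ cmK A (WW V H R) := by
  have hm := h.amb.cls.mem A hA
  rintro _ ⟨e, he, rfl⟩
  obtain ⟨w, hw⟩ := hm.ne
  obtain ⟨s, hs, h1⟩ := hm.surj w hw e he
  have e1 : e = bk s w + (s • w + w + e) := by
    rw [bk_apply, ← add_assoc, h.two, zero_add]
  obtain ⟨x, hx, f, hf, hxf⟩ := AddSubgroup.mem_sup.1 (h.comm_Q hA hAH (h.not_Q hAM) w hb hbQ)
  have e2 : bk b e = bk b (bk s w) := by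
    conv_lhs => rw [e1]
    rw [map_add, bk_apply b (s • w + w + e), h1 b hb, h.two, add_zero]
  have e3 : bk b w = x + f := by rw [bk_apply, hxf]
  rw [e2, bk_comm (hm.comm b hb s hs), e3, map_add, bk_apply s f, hf s hs, h.two, add_zero, bk_apply]
  exact mem_cm hs hx

theorem J_D : (Ee V A).map (bk b) ⊓ D = ⊥ := by
  have hm := h.amb.cls.mem A hA
  rw [eq_bot_iff]
  rintro _ ⟨⟨e, he, rfl⟩, hD⟩
  rw [AddSubgroup.mem_bot]
  obtain ⟨w, hw⟩ := hm.ne
  obtain ⟨s, hs, h1⟩ := hm.surj w hw e he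
  have e1 : e = bk s w + (s • w + w + e) := by
    rw [bk_apply, ← add_assoc, h.two, zero_add]
  obtain ⟨x, hx, f, hf, hxf⟩ := AddSubgroup.mem_sup.1 (h.comm_Q hA hAH (h.not_Q hAM) w hb hbQ)
  have hxF : x ∉ fx V A := by
    intro h2
    exact hb1 (hm.inj w hw b hb (by rw [← hxf]; exact add_mem h2 hf))
  have e2 : bk b e = bk s x := by
    have e3 : bk b w = x + f := by rw [bk_apply, hxf]
    conv_lhs => rw [e1]
    rw [map_add, bk_apply b (s • w + w + e), h1 b hb, h.two, add_zero, bk_comm (hm.comm b hb s hs), e3, map_add,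
      bk_apply s f, hf s hs, h.two, add_zero]
  rw [e2] at hD ⊢
  have h3 := h.free_A' hA hAH hAM hx hxF hs hD
  rw [bk_apply, Amal.QQ_fix h.a h.amb h3 hx, h.two]

theorem card_J : Nat.card ↥((Ee V A).map (bk b)) = c := by
  have hm := h.amb.cls.mem A hA
  have h1 := card_map_bk b (Ee V A)
  have h2 : Ee V A ⊓ (bk b : V →+ V).ker = WW V H R ⊔ fx V A := by
    apply le_antisymm
    · rintro v ⟨hv, hvb⟩
      apply h.cent_b hA hAH (h.not_Q hAM) hb hbQ hb1
      exact (HE.add_eq_zero' h.two).1 hvb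
    · refine sup_le (le_inf (h.a.WW_le_Ee h.amb h.we hA hAH) ?_) (le_inf hm.FE ?_)
      · intro w hw
        change b • w + w = 0
        rw [Amal.QQ_fix h.a h.amb hbQ hw, h.two]
      · intro w hw
        change b • w + w = 0
        rw [hw b hb, h.two]
  have h3 := card_sup_as (WW V H R) (fx V A)
  rw [h.card_WF hA hAH (h.not_Q hAM)] at h3
  have h4 : Nat.card ↥(WW V H R ⊔ fx V A) = c * Nat.card (fx V A) := by
    apply Nat.eq_of_mul_eq_mul_right (Nat.card_pos (α := ↥(WW V H R ⊓ fx V A)))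
    rw [h3]; ring
  rw [h2, h4, hm.card_E h.two, h.card_A' hA hAH (h.not_Q hAM)] at h1
  apply Nat.eq_of_mul_eq_mul_right (Nat.mul_pos h.c_pos (Nat.card_pos (α := ↥(fx V A))))
  rw [h1]; ring

theorem J'_le : (WW V H' R).map (bk b) ≤ cmK P (WW V H R) := by
  rw [h.cm_eq']
  rintro _ ⟨w, hw, rfl⟩
  exact mem_cm ((h.main hA hAH hAM).BP ⟨hb, hbQ⟩) hw

theorem not_Q'_b : b ∉ QQ H' R := by
  intro h1
  have h2 : b ∈ A ⊓ QQ H R ⊓ QQ H' R := ⟨⟨hb, hbQ⟩, h1⟩
  rw [(h.main hA hAH hAM).K, mem_bot] at h2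
  exact hb1 h2

theorem card_J' : Nat.card ↥((WW V H' R).map (bk b)) = c := by
  have h1 := card_map_bk b (WW V H' R)
  have hP := (h.main hA hAH hAM).BP ⟨hb, hbQ⟩
  have h2 : WW V H' R ⊓ (bk b : V →+ V).ker = W₁' := by
    apply le_antisymm
    · rintro v ⟨hv, hvb⟩
      exact h.fix_W₁' hP (h.not_Q'_b hA hAH hAM hb hbQ hb1) hv ((HE.add_eq_zero' h.two).1 hvb)
    · refine le_inf h.k'.W₁W fun w hw => ?_
      change b • w + w = 0
      rw [h.k'.P_fix b hP w hw, h.two]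
  rw [h2, h.k'.card_W] at h1
  exact Nat.eq_of_mul_eq_mul_right Nat.card_pos h1

theorem J'_F : (WW V H' R).map (bk b) ⊓ fx V A = ⊥ := by
  have hm := h.amb.cls.mem A hA
  rw [eq_bot_iff]
  rintro _ ⟨⟨w, hw, rfl⟩, hF⟩
  rw [AddSubgroup.mem_bot]
  by_cases hwE : w ∈ Ee V A
  · have h1 := (h.main hA hAH hAM).cap w hw hwE
    rw [bk_apply, h.k'.P_fix b ((h.main hA hAH hAM).BP ⟨hb, hbQ⟩) w h1, h.two]
  · exact absurd (hm.inj w hwE b hb hF) hb1

theorem range_eq : (bk b : V →+ V).range = (WW V H' R).map (bk b) ⊔ (Ee V A).map (bk b) := by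
  rw [← AddSubgroup.map_sup, h.top hA hAH hAM]
  ext v
  constructor
  · rintro ⟨x, rfl⟩
    exact ⟨x, AddSubgroup.mem_top x, rfl⟩
  · rintro ⟨x, -, rfl⟩
    exact ⟨x, rfl⟩

theorem J_F : (Ee V A).map (bk b) ≤ fx V A := by
  rintro _ ⟨e, he, rfl⟩
  exact he b hb

theorem J_J' : (WW V H' R).map (bk b) ⊓ (Ee V A).map (bk b) = ⊥ := by
  rw [eq_bot_iff, ← h.J'_F hA hAH hAM hb hbQ hb1]
  exact inf_le_inf_left _ (h.J_F hA hAH hAM hb hbQ hb1)

theorem card_X : Nat.card ↥(bk b : V →+ V).range = c * c := by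
  rw [h.range_eq hA hAH hAM hb hbQ hb1, card_sup_dis (h.J_J' hA hAH hAM hb hbQ hb1),
    h.card_J hA hAH hAM hb hbQ hb1, h.card_J' hA hAH hAM hb hbQ hb1]

theorem X_D : D ⊓ (bk b : V →+ V).range = ⊥ := by
  rw [h.range_eq hA hAH hAM hb hbQ hb1, eq_bot_iff]
  rintro v ⟨hvD, hv⟩
  obtain ⟨x, hx, y, hy, rfl⟩ := AddSubgroup.mem_sup.1 hv
  have h1 : x ∈ fx V A := by
    have h2 := h.D_fx hA hAH hAM hvD
    have e : x = (x + y) + y := by rw [add_assoc, h.two, add_zero]
    rw [e]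
    exact add_mem h2 (h.J_F hA hAH hAM hb hbQ hb1 hy)
  have h2 : x ∈ (WW V H' R).map (bk b) ⊓ fx V A := ⟨hx, h1⟩
  rw [h.J'_F hA hAH hAM hb hbQ hb1, AddSubgroup.mem_bot] at h2
  subst h2
  rw [zero_add] at hvD ⊢
  have h3 : y ∈ (Ee V A).map (bk b) ⊓ D := ⟨hy, hvD⟩
  rw [h.J_D hA hAH hAM hb hbQ hb1] at h3
  exact h3

theorem X_sup : D ⊔ (bk b : V →+ V).range = WW V H R := by
  apply eq_of_le_as
  · refine sup_le (h.k.DW.trans h.k.W₁W) ?_
    rintro _ ⟨v, rfl⟩
    exact h.comm_W hA hAH (h.not_Q hAM) hb hbQ v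
  · rw [card_sup_dis (h.X_D hA hAH hAM hb hbQ hb1), h.card_X hA hAH hAM hb hbQ hb1, h.k.card_W, h.k.card_W₁]
    apply le_of_eq; ring

theorem X_A {a : Y} (ha : a ∈ A) {v : V} (hv : v ∈ (bk b : V →+ V).range) : a • v ∈ (bk b : V →+ V).range := by
  obtain ⟨v, rfl⟩ := hv
  refine ⟨a • v, ?_⟩
  have hm := h.amb.cls.mem A hA
  simp only [bk_apply, smul_add, ← mul_smul, hm.comm a ha b hb]

theorem cm_A_le : cmK A (WW V H R) ≤ (Ee V A).map (bk b) := by
  have hm := h.amb.cls.mem A hA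
  have h1 : cmK A (WW V H R) ≤ fx V A :=
    cm_le fun a ha w hw => h.a.WW_le_Ee h.amb h.we hA hAH hw a ha
  have h2 : cmK A (WW V H R) ≤ (bk b : V →+ V).range := by
    apply cm_le
    intro a ha w hw
    rw [← h.X_sup hA hAH hAM hb hbQ hb1] at hw
    obtain ⟨d, hd, x, hx, rfl⟩ := AddSubgroup.mem_sup.1 hw
    have e : a • (d + x) + (d + x) = a • x + x := by
      rw [smul_add, h.D_fx hA hAH hAM hd a ha]
      have e : d + a • x + (d + x) = (d + d) + (a • x + x) := by abel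
      rw [e, h.two, zero_add]
    rw [e]
    exact add_mem (h.X_A hA hAH hAM hb hbQ hb1 ha hx) hx
  intro v hv
  have h3 := h2 hv
  have h4 := h1 hv
  rw [h.range_eq hA hAH hAM hb hbQ hb1] at h3
  obtain ⟨x, hx, y, hy, rfl⟩ := AddSubgroup.mem_sup.1 h3
  have h5 : x ∈ fx V A := by
    have e : x = (x + y) + y := by rw [add_assoc, h.two, add_zero]
    rw [e]
    exact add_mem h4 (h.J_F hA hAH hAM hb hbQ hb1 hy)
  have h2 : x ∈ (WW V H' R).map (bk b) ⊓ fx V A := ⟨hx, h5⟩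
  rw [h.J'_F hA hAH hAM hb hbQ hb1, AddSubgroup.mem_bot] at h2
  subst h2
  rw [zero_add]
  exact hy

theorem J_eq : (Ee V A).map (bk b) = cmK A (WW V H R) :=
  le_antisymm (h.J_le hA hAH hAM hb hbQ hb1) (h.cm_A_le hA hAH hAM hb hbQ hb1)

end opp

theorem exists_b {A : Subgroup Y} (hA : A ∈ U) (hAH : A ≤ H) (hAQ : ¬ A ≤ QQ H R) :
    ∃ b ∈ A, b ∈ QQ H R ∧ b ≠ 1 := by
  by_contra hcon
  push Not at hcon
  have h1 : A ⊓ QQ H R = ⊥ := by
    rw [eq_bot_iff]
    rintro b ⟨hb, hbQ⟩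
    exact hcon b hb hbQ
  have h2 := h.card_AQ hA hAH hAQ
  rw [h1, Subgroup.card_bot] at h2
  have := h.four
  omega

theorem cm_A {A : Subgroup Y} (hA : A ∈ U) (hAH : A ≤ H) (hAM : ¬ A ≤ M) :
    Nat.card ↥(cmK A (WW V H R)) = c ∧ cmK A (WW V H R) ⊓ D = ⊥ := by
  obtain ⟨b, hb, hbQ, hb1⟩ := h.exists_b hA hAH (h.not_Q hAM)
  rw [← h.J_eq hA hAH hAM hb hbQ hb1]
  exact ⟨h.card_J hA hAH hAM hb hbQ hb1, h.J_D hA hAH hAM hb hbQ hb1⟩

/-- `|I| = c`, `I ∩ D = 0` -/
theorem I_aux : Nat.card ↥(cmK P (WW V H R)) = c ∧ cmK P (WW V H R) ⊓ D = ⊥ := by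
  obtain ⟨B, hB, hBR, hBQ⟩ := Amal.exists_not_QQ h.a h.amb
  obtain ⟨x, hx, h1, h2, h3⟩ := h.exists_opp hB (hBR.trans h.a.RH) hBQ
  obtain ⟨h4, h5⟩ := h.cm_A h1 h2 h3
  have h6 : cmK (MulAut.conj x • B) (WW V H R) = x • cmK P (WW V H R) := by
    rw [h.cm_eq hB hBR hBQ, ← cm_conj, smul_WW hx]
  rw [h6] at h4 h5
  rw [card_smul_as] at h4
  refine ⟨h4, ?_⟩
  rw [eq_bot_iff]
  rintro v ⟨hv, hvD⟩
  have h7 : x • v ∈ x • cmK P (WW V H R) ⊓ D := ⟨smul_mem_smul_as hv, h.k.D_H x hx v hvD⟩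
  rw [h5, AddSubgroup.mem_bot, smul_eq_zero_iff_eq] at h7
  exact h7

theorem card_I : Nat.card ↥(cmK P (WW V H R)) = c := h.I_aux.1

theorem W₁_eq_sup : D ⊔ cmK P (WW V H R) = W₁ := by
  apply eq_of_le_as (sup_le h.k.DW h.cm_le_W₁)
  rw [card_sup_dis (by rw [inf_comm]; exact h.I_aux.2), h.card_I, h.k.card_W₁, mul_comm]

theorem X_eq {A : Subgroup Y} (hA : A ∈ U) (hAH : A ≤ H) (hAM : ¬ A ≤ M) {b : Y} (hb : b ∈ A) (hbQ : b ∈ QQ H R)
    (hb1 : b ≠ 1) : (bk b : V →+ V).range = cmK P (WW V H R) ⊔ cmK A (WW V H R) := by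
  rw [h.range_eq hA hAH hAM hb hbQ hb1, h.J_eq hA hAH hAM hb hbQ hb1]
  congr 1
  apply eq_of_le_as (h.J'_le hA hAH hAM hb hbQ hb1)
  rw [h.card_I, h.card_J' hA hAH hAM hb hbQ hb1]

theorem range_conj (x b : Y) : (bk (x * b * x⁻¹) : V →+ V).range = x • (bk b : V →+ V).range := by
  rw [AddMonoidHom.range_eq_map, AddMonoidHom.range_eq_map, ← map_bk_conj]
  congr 1
  ext v
  rw [mem_smul_as]
  simp

theorem card_XA {A : Subgroup Y} (hA : A ∈ U) (hAH : A ≤ H) (hAM : ¬ A ≤ M) :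
    Nat.card ↥(cmK P (WW V H R) ⊔ cmK A (WW V H R)) = c * c := by
  obtain ⟨b, hb, hbQ, hb1⟩ := h.exists_b hA hAH (h.not_Q hAM)
  rw [← h.X_eq hA hAH hAM hb hbQ hb1]
  exact h.card_X hA hAH hAM hb hbQ hb1

/-- `x I ≤ X_{A₂}` if `A₂ ≰ M^x` -/
theorem smul_I_le {A₂ : Subgroup Y} (hA₂ : A₂ ∈ U) (hA₂H : A₂ ≤ H) (hA₂M : ¬ A₂ ≤ M) {x : Y} (hx : x ∈ H)
    (hx2 : ¬ MulAut.conj x⁻¹ • A₂ ≤ M) : x • cmK P (WW V H R) ≤ cmK P (WW V H R) ⊔ cmK A₂ (WW V H R) := by
  have h1 := h.amb.cls.conj A₂ hA₂ x⁻¹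
  have h2 := h.conj_le_H (H.inv_mem hx) hA₂H
  obtain ⟨b, hb, hbQ, hb1⟩ := h.exists_b h1 h2 (h.not_Q hx2)
  have hb' := hb
  rw [mem_conj, inv_inv] at hb'
  have h3 := h.X_eq h1 h2 hx2 hb hbQ hb1
  have h4 := h.X_eq hA₂ hA₂H hA₂M (b := x * b * x⁻¹) hb' (conj_mem_QQ hx hbQ) (by
    intro h5
    apply hb1
    have h6 : x⁻¹ * (x * b * x⁻¹) * x = 1 := by rw [h5]; group
    have e : x⁻¹ * (x * b * x⁻¹) * x = b := by group
    rwa [e] at h6)
  rw [← h4, h.range_conj, h3]
  exact smul_le_smul_as le_sup_left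

theorem exists_a {A A₂ : Subgroup Y} (hA : A ∈ U) (hAH : A ≤ H) (hAM : ¬ A ≤ M) (hA₂ : A₂ ∈ U) (hA₂H : A₂ ≤ H)
    (hA₂M : ¬ A₂ ≤ M) : ∃ a ∈ A, a ∉ QQ H R ∧ ¬ MulAut.conj a⁻¹ • A₂ ≤ M := by
  by_contra hcon
  push Not at hcon
  obtain ⟨a, ha, haQ⟩ := SetLike.not_le_iff_exists.1 (h.not_Q hAM)
  have h1 : ∃ a' ∈ A, a' ∉ QQ H R ∧ a⁻¹ * a' ∉ QQ H R := by
    by_contra hc
    push Not at hc
    have h2 : (A : Set Y) ⊆ ((A ⊓ QQ H R : Subgroup Y) : Set Y) ∪
        (fun y => a * y) '' ((A ⊓ QQ H R : Subgroup Y) : Set Y) := by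
      intro y hy
      by_cases hyQ : y ∈ QQ H R
      · exact Or.inl ⟨hy, hyQ⟩
      · exact Or.inr ⟨a⁻¹ * y, ⟨A.mul_mem (A.inv_mem ha) hy, hc y hy hyQ⟩, mul_inv_cancel_left a y⟩
    have h3 := Set.ncard_le_ncard h2 (Set.toFinite _)
    have h4 := Set.ncard_union_le ((A ⊓ QQ H R : Subgroup Y) : Set Y)
      ((fun y => a * y) '' ((A ⊓ QQ H R : Subgroup Y) : Set Y))
    have h5 := Set.ncard_image_le (f := fun y => a * y) (Set.toFinite ((A ⊓ QQ H R : Subgroup Y) : Set Y))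
    have e1 : Set.ncard (A : Set Y) = c * c := h.card_A' hA hAH (h.not_Q hAM)
    have e2 : Set.ncard ((A ⊓ QQ H R : Subgroup Y) : Set Y) = c := h.card_AQ hA hAH (h.not_Q hAM)
    have h6 := h.four
    rw [e1] at h3
    rw [e2] at h4 h5
    nlinarith only [h3, h4, h5, h6]
  obtain ⟨a', ha', ha'Q, h2⟩ := h1
  have key : ∀ y ∈ A, y ∉ QQ H R → y • W₁ = WW V H R ⊓ fx V A₂ := by
    intro y hy hyQ
    have h3 := h.WF_M (h.amb.cls.conj A₂ hA₂ y⁻¹) (h.conj_le_H (H.inv_mem (hAH hy)) hA₂H)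
      (h.conj_not_Q (H.inv_mem (hAH hy)) (h.not_Q hA₂M)) (hcon y hy hyQ)
    rw [h.WF_conj (H.inv_mem (hAH hy))] at h3
    rw [← h3, smul_smul_as, mul_inv_cancel, one_smul]
  have h3 : (a⁻¹ * a') • W₁ = W₁ := by
    rw [← smul_smul_as, key a' ha' ha'Q, ← key a ha haQ, smul_smul_as, inv_mul_cancel, one_smul]
  have h5 := h.not_M hA hAH hAM (A.mul_mem (A.inv_mem ha) ha') h2
  obtain ⟨w, hw, hwD⟩ := h.exists_W₁
  exact hwD (h.k.opp _ (hAH (A.mul_mem (A.inv_mem ha) ha')) h5 w hw (by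
    have h6 : (a⁻¹ * a') • w ∈ (a⁻¹ * a') • W₁ := smul_mem_smul_as hw
    rwa [h3] at h6))

theorem I_inf {x : Y} (hx : x ∈ H) (hxM : x ∉ M) : cmK P (WW V H R) ⊓ x • cmK P (WW V H R) = ⊥ := by
  rw [eq_bot_iff]
  rintro v ⟨hv, hvx'⟩
  have hvx : v ∈ x • cmK P (WW V H R) := hvx'
  rw [mem_smul_as] at hvx
  have h1 : x⁻¹ • v ∈ D := h.k.opp x hx hxM _ (h.cm_le_W₁ hvx) (by rw [smul_inv_smul]; exact h.cm_le_W₁ hv)
  have h2 : x⁻¹ • v ∈ cmK P (WW V H R) ⊓ D := ⟨hvx, h1⟩
  rw [h.I_aux.2, AddSubgroup.mem_bot, smul_eq_zero_iff_eq] at h2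
  rw [AddSubgroup.mem_bot]
  exact h2

theorem X_indep {A A₂ : Subgroup Y} (hA : A ∈ U) (hAH : A ≤ H) (hAM : ¬ A ≤ M) (hA₂ : A₂ ∈ U) (hA₂H : A₂ ≤ H)
    (hA₂M : ¬ A₂ ≤ M) : cmK P (WW V H R) ⊔ cmK A (WW V H R) = cmK P (WW V H R) ⊔ cmK A₂ (WW V H R) := by
  obtain ⟨a, ha, haQ, h1⟩ := h.exists_a hA hAH hAM hA₂ hA₂H hA₂M
  have haM := h.not_M hA hAH hAM ha haQ
  have h2 := h.smul_I_le hA₂ hA₂H hA₂M (hAH ha) h1
  have h3 : a • cmK P (WW V H R) ≤ cmK P (WW V H R) ⊔ cmK A (WW V H R) := by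
    obtain ⟨b, hb, hbQ, hb1⟩ := h.exists_b hA hAH (h.not_Q hAM)
    intro v hv
    rw [mem_smul_as] at hv
    have h4 : a⁻¹ • v ∈ cmK P (WW V H R) ⊔ cmK A (WW V H R) := AddSubgroup.mem_sup_left hv
    rw [← h.X_eq hA hAH hAM hb hbQ hb1] at h4 ⊢
    have h5 := h.X_A hA hAH hAM hb hbQ hb1 ha h4
    rwa [smul_inv_smul] at h5
  have h4 : Nat.card ↥(cmK P (WW V H R) ⊔ a • cmK P (WW V H R)) = c * c := by
    rw [card_sup_dis (h.I_inf (hAH ha) haM), card_smul_as, h.card_I]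
  have h5 := eq_of_le_as (sup_le le_sup_left h3) (by rw [h4, h.card_XA hA hAH hAM])
  have h6 := eq_of_le_as (sup_le le_sup_left h2) (by rw [h4, h.card_XA hA₂ hA₂H hA₂M])
  rw [← h5, h6]

end TwoE

/-- The module `N` of one side. -/
structure HasN (V : Type u) [AddCommGroup V] [DistribMulAction Y V] (U : Set (Subgroup Y)) (H R P : Subgroup Y)
    (D W₁ : AddSubgroup V) (c : ℕ) (N : AddSubgroup V) : Prop where
  inv : ∀ x ∈ H, ∀ n ∈ N, x • n ∈ N
  card : Nat.card N = c * c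
  le : N ≤ WW V H R
  inf : D ⊓ N = ⊥
  sup : D ⊔ N = WW V H R
  I_le : cmK P (WW V H R) ≤ N
  inf₁ : N ⊓ W₁ = cmK P (WW V H R)
  range : ∀ A ∈ U, A ≤ H → ¬ A ≤ QQ H R → ∀ b ∈ A, b ∈ QQ H R → b ≠ 1 → (bk b : V →+ V).range = N

namespace TwoE

variable [Finite Y] [Finite V] {U : Set (Subgroup Y)} {T : Sylow 2 Y} {M H H' R P P' : Subgroup Y}
  {D D' W₁ W₁' : AddSubgroup V} {c : ℕ} {t : Y} (h : TwoE V U T M H H' R P P' D D' W₁ W₁' c t)
include h

theorem range_opp {A : Subgroup Y} (hA : A ∈ U) (hAH : A ≤ H) (hAM : ¬ A ≤ M) {b : Y} (hb : b ∈ A)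
    (hbQ : b ∈ QQ H R) (hb1 : b ≠ 1) {A₂ : Subgroup Y} (hA₂ : A₂ ∈ U) (hA₂H : A₂ ≤ H)
    (hA₂M : ¬ A₂ ≤ M) : (bk b : V →+ V).range = cmK P (WW V H R) ⊔ cmK A₂ (WW V H R) := by
  rw [h.X_eq hA hAH hAM hb hbQ hb1]
  exact h.X_indep hA hAH hAM hA₂ hA₂H hA₂M

/-- **`N`** -/
theorem exists_N : ∃ N : AddSubgroup V, HasN V U H R P D W₁ c N := by
  obtain ⟨A, hA, hAH, hAM⟩ := h.exists_A
  obtain ⟨b, hb, hbQ, hb1⟩ := h.exists_b hA hAH (h.not_Q hAM)
  have hX := h.X_eq hA hAH hAM hb hbQ hb1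
  have hinv : ∀ x ∈ H, ∀ n ∈ (bk b : V →+ V).range, x • n ∈ (bk b : V →+ V).range := by
    have h1 : ∀ u ∈ R, ∀ n ∈ (bk b : V →+ V).range, u • n ∈ (bk b : V →+ V).range := by
      intro u hu n hn
      have huH := h.a.RH hu
      have h2 : ¬ MulAut.conj u • A ≤ M := by
        intro h3
        apply hAM
        intro y hy
        have h4 := M.mul_mem (M.mul_mem (M.inv_mem (h.RM hu)) (h3 (conj_mem_conj (g := u) hy))) (h.RM hu)
        have e : u⁻¹ * (u * y * u⁻¹) * u = y := by group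
        rwa [e] at h4
      have h3 := h.range_opp (h.amb.cls.conj A hA u) (h.conj_le_H huH hAH) h2 (conj_mem_conj (g := u) hb)
        (conj_mem_QQ huH hbQ) (by
          intro h5
          apply hb1
          have h6 : u⁻¹ * (u * b * u⁻¹) * u = 1 := by rw [h5]; group
          have e : u⁻¹ * (u * b * u⁻¹) * u = b := by group
          rwa [e] at h6) hA hAH hAM
      rw [← hX, h.range_conj] at h3
      rw [← h3]
      exact smul_mem_smul_as hn
    have h2 := inv_sup h1 (fun u hu n hn => h.X_A hA hAH hAM hb hbQ hb1 hu hn)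
    rwa [h.a.gen hAH hAM] at h2
  refine ⟨(bk b : V →+ V).range, ?_⟩
  have hinf := h.X_D hA hAH hAM hb hbQ hb1
  have hle : (bk b : V →+ V).range ≤ WW V H R := by
    rw [← h.X_sup hA hAH hAM hb hbQ hb1]
    exact le_sup_right
  have hI : cmK P (WW V H R) ≤ (bk b : V →+ V).range := by rw [hX]; exact le_sup_left
  refine
    { inv := hinv
      card := h.card_X hA hAH hAM hb hbQ hb1
      le := hle
      inf := hinf
      sup := h.X_sup hA hAH hAM hb hbQ hb1
      I_le := hI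
      inf₁ := ?_
      range := ?_ }
  · apply le_antisymm
    · rintro v ⟨hv, hv1⟩
      rw [SetLike.mem_coe, ← h.W₁_eq_sup] at hv1
      obtain ⟨d, hd, i, hi, rfl⟩ := AddSubgroup.mem_sup.1 hv1
      have h1 : d ∈ D ⊓ (bk b : V →+ V).range := by
        refine ⟨hd, ?_⟩
        have e : d = (d + i) + i := by rw [add_assoc, h.two, add_zero]
        rw [e]
        exact add_mem hv (hI hi)
      rw [hinf, AddSubgroup.mem_bot] at h1
      subst h1
      rw [zero_add]
      exact hi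
    · exact le_inf hI h.cm_le_W₁
  · intro A₂ hA₂ hA₂H hA₂Q b₂ hb₂ hb₂Q hb₂1
    obtain ⟨x, hx, h1, h2, h3⟩ := h.exists_opp hA₂ hA₂H hA₂Q
    have h4 := h.range_opp h1 h2 h3 (conj_mem_conj (g := x) hb₂) (conj_mem_QQ hx hb₂Q) (by
      intro h5
      apply hb₂1
      have h6 : x⁻¹ * (x * b₂ * x⁻¹) * x = 1 := by rw [h5]; group
      have e : x⁻¹ * (x * b₂ * x⁻¹) * x = b₂ := by group
      rwa [e] at h6) hA hAH hAM
    rw [← hX, h.range_conj] at h4
    have h5 : x • (bk b : V →+ V).range = (bk b : V →+ V).range := smul_of_mem fun w hw => hinv x hx w hw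
    rw [← h5] at h4
    have h6 : x⁻¹ • x • (bk b₂ : V →+ V).range = x⁻¹ • x • (bk b : V →+ V).range := by rw [h4]
    rwa [smul_smul_as, smul_smul_as, inv_mul_cancel, one_smul, one_smul] at h6

end TwoE

end Cfsg.Agent.Omega.NO1.TH

end
end

-- part: Mrg/Omega/NO1/TH/K/Root
section
prune_inst 0x20000210402202000000000220001c628a000102000800000000000004c80e604d002821b4000000180200040030000810100000000000000000000001180080002810000140000000000e000000000000000000000000000000000000000000000000000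
set_option linter.all false
open scoped Cfsg.Agent.FastGrp

-- merged: Cfsg.Agent.Mrg.Omega.NO1.TH.K.Base
section

section


/-!
# N1, natural type, `k` factors: supports and opposite members (bb OMEGA 20646 (a), (c))

`Supp B I` : `B` acts on `W` as the product of the root groups `R_i`, `i ∈ I`;  `Opp B I` : as the product of the
opposite root groups.  For a member `B ≤ R`, `B ≰ Q`: `exists_supp`, `Supp.fx_iff`, `Supp.card`; `exists_opp`.
`mem_Q_of_shift` : (a) of #20646.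
-/

set_option autoImplicit false
set_option linter.unusedSectionVars false
set_option linter.dupNamespace false

namespace Cfsg.Agent.Omega.NO1.TH.K

open Subgroup Cfsg.Agent.Omega.NO1.AB Cfsg.Agent.Omega.FFBr Cfsg.Agent.Lib.SL2Mat
open Cfsg.Agent.Omega.NatPair (ap)
open scoped Pointwise

universe u

theorem ap_up {F : Type} [Field F] (b : F) (x : Fin 2 → F) : ap (up b) x = ![x 0 + b * x 1, x 1] := by
  apply NatPair.ext2
  · rw [NatPair.ap_zero', up_00, up_01, one_mul]; rfl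
  · rw [NatPair.ap_one', up_10, up_11, zero_mul, zero_add, one_mul]; rfl

theorem ap_lo {F : Type} [Field F] (b : F) (x : Fin 2 → F) : ap (lo b) x = ![x 0, b * x 0 + x 1] := by
  apply NatPair.ext2
  · rw [NatPair.ap_zero', lo_00, lo_01, zero_mul, add_zero, one_mul]; rfl
  · rw [NatPair.ap_one', lo_10, lo_11, one_mul]; rfl

variable {Y : Type u} [Group Y] {V : Type u} [AddCommGroup V] [DistribMulAction Y V]

section coords

variable {H R : Subgroup Y} {F : Type} [Field F] {k : ℕ} {co : V → Fin k → Fin 2 → F}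

/-- `B` acts on `W` as the full product of the root groups `R_i`, `i ∈ I` -/
structure Supp (V : Type u) [AddCommGroup V] [DistribMulAction Y V] (H R : Subgroup Y) {F : Type} [Field F] {k : ℕ}
    (co : V → Fin k → Fin 2 → F) (B : Subgroup Y) (I : Set (Fin k)) : Prop where
  act : ∀ u ∈ B, ∃ b : Fin k → F, (∀ i, i ∉ I → b i = 0) ∧ Acts V H R co u fun i => up (b i)
  full : ∀ b : Fin k → F, (∀ i, i ∉ I → b i = 0) → ∃ u ∈ B, Acts V H R co u fun i => up (b i)

/-- `B` acts on `W` as the full product of the opposite root groups, `i ∈ I` -/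
structure Opp (V : Type u) [AddCommGroup V] [DistribMulAction Y V] (H R : Subgroup Y) {F : Type} [Field F] {k : ℕ}
    (co : V → Fin k → Fin 2 → F) (B : Subgroup Y) (I : Set (Fin k)) : Prop where
  act : ∀ u ∈ B, ∃ b : Fin k → F, (∀ i, i ∉ I → b i = 0) ∧ Acts V H R co u fun i => lo (b i)
  full : ∀ b : Fin k → F, (∀ i, i ∉ I → b i = 0) → ∃ u ∈ B, Acts V H R co u fun i => lo (b i)

theorem Acts.up_fst {g : Y} {b : Fin k → F} (h : Acts V H R co g fun i => up (b i)) {v : V} (hv : v ∈ WW V H R)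
    (i : Fin k) : co (g • v) i 0 = co v i 0 + b i * co v i 1 := by
  rw [h.1 v hv i, ap_up]; rfl

theorem Acts.up_snd {g : Y} {b : Fin k → F} (h : Acts V H R co g fun i => up (b i)) {v : V} (hv : v ∈ WW V H R)
    (i : Fin k) : co (g • v) i 1 = co v i 1 := by
  rw [h.1 v hv i, ap_up]; rfl

theorem Acts.lo_fst {g : Y} {b : Fin k → F} (h : Acts V H R co g fun i => lo (b i)) {v : V} (hv : v ∈ WW V H R)
    (i : Fin k) : co (g • v) i 0 = co v i 0 := by
  rw [h.1 v hv i, ap_lo]; rfl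

theorem Acts.lo_snd {g : Y} {b : Fin k → F} (h : Acts V H R co g fun i => lo (b i)) {v : V} (hv : v ∈ WW V H R)
    (i : Fin k) : co (g • v) i 1 = b i * co v i 0 + co v i 1 := by
  rw [h.1 v hv i, ap_lo]; rfl

theorem Acts.up_mul {g h : Y} {b c : Fin k → F} (hh : h ∈ H) (h1 : Acts V H R co g fun i => up (b i))
    (h2 : Acts V H R co h fun i => up (c i)) : Acts V H R co (g * h) fun i => up (b i + c i) := by
  have h3 := h1.mul hh h2
  have e : ((fun i => up (b i)) * fun i => up (c i)) = fun i => up (b i + c i) := by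
    funext i
    exact Cfsg.Agent.Lib.SL2Mat.up_mul _ _
  rwa [e] at h3

namespace KNat

variable (K : KNat V H R F k co)
include K

theorem zero : co 0 = 0 := by
  have h := K.add 0 (zero_mem _) 0 (zero_mem _)
  rw [add_zero] at h
  exact left_eq_add.1 h

theorem add_apply {v w : V} (hv : v ∈ WW V H R) (hw : w ∈ WW V H R) (i : Fin k) (j : Fin 2) :
    co (v + w) i j = co v i j + co w i j := by
  rw [K.add v hv w hw]; rfl

theorem neg {v : V} (hv : v ∈ WW V H R) : co (-v) = - co v := by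
  have h := K.add v hv (-v) (neg_mem hv)
  rw [add_neg_cancel, K.zero] at h
  exact (neg_eq_of_add_eq_zero_right h.symm).symm

theorem exists_at (i : Fin k) (x : Fin 2 → F) : ∃ v ∈ WW V H R, co v i = x ∧ ∀ j, j ≠ i → co v j = 0 := by
  obtain ⟨v, hv, h⟩ := K.surj (Function.update 0 i x)
  refine ⟨v, hv, ?_, fun j hj => ?_⟩
  · rw [h, Function.update_self]
  · rw [h, Function.update_of_ne hj]; rfl

theorem up_inj {g : Y} {b c : Fin k → F} (h1 : Acts V H R co g fun i => up (b i))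
    (h2 : Acts V H R co g fun i => up (c i)) : b = c := by
  funext i
  obtain ⟨v, hv, hvi, _⟩ := K.exists_at i ![0, 1]
  have h3 := h1.up_fst hv i
  rw [h2.up_fst hv i, hvi] at h3
  simpa using h3.symm

theorem ff (two : ∀ v : V, v + v = 0) (i : Fin k) (x : F) : x + x = 0 := by
  obtain ⟨v, hv, hvi, _⟩ := K.exists_at i ![x, 0]
  have h := K.add_apply hv hv i 0
  rw [two, K.zero, hvi] at h
  simpa using h.symm

theorem co_add_self (two : ∀ v : V, v + v = 0) {v w : V} (hv : v ∈ WW V H R) (hw : w ∈ WW V H R)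
    (h : co v = co w) : co (v + w) = 0 := by
  rw [K.add v hv w hw, h, ← K.add w hw w hw, two, K.zero]

theorem co_eq_of_add (two : ∀ v : V, v + v = 0) {v w : V} (hv : v ∈ WW V H R) (hw : w ∈ WW V H R)
    (h : co (v + w) = 0) : co v = co w := by
  have h1 := K.add (v + w) (add_mem hv hw) w hw
  rw [add_assoc, two, add_zero, h, zero_add] at h1
  exact h1

/-- an element of `H` acting as `1` is trivial on `W` -/
theorem fix_of_one {x : Y} (h : Acts V H R co x fun _ => 1) (hx : x ∈ H) {w : V} (hw : w ∈ WW V H R) : x • w = w := by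
  apply K.trivH x hx _ w hw
  intro w hw
  funext i
  rw [h.1 w hw i, NatPair.ap_one]

theorem mem_Q_of_up_zero (two : ∀ v : V, v + v = 0) (hRH : R ≤ H) {x : Y} (hx : x ∈ R) {b : Fin k → F}
    (h : Acts V H R co x fun i => up (b i)) (hb : ∀ i, b i = 0) : x ∈ QQ H R := by
  apply K.triv x hx
  intro w hw
  apply K.co_add_self two (smul_mem_WW (hRH hx) hw) hw
  funext i
  rw [h.1 w hw i]
  simp only [hb, up_zero, NatPair.ap_one]

/-- `A ≤ R` elementary abelian and exact: `A` has a support -/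
theorem exists_supp_of (two : ∀ v : V, v + v = 0) (hRH : R ≤ H) {A : Subgroup Y} (hAR : A ≤ R) (hel : ElAb A)
    (hAQ : ¬ A ≤ QQ H R)
    (hex : Nat.card ↥(A ⊓ QQ H R) * Nat.card ↥(WW V H R) ≤ Nat.card A * Nat.card ↥(fx V A ⊓ WW V H R)) :
    ∃ I : Set (Fin k), I.Nonempty ∧ Supp V H R co A I := by
  obtain ⟨I, h1, h2⟩ := K.off A hAR hel hAQ hex
  refine ⟨I, ?_, ⟨h1, h2⟩⟩
  by_contra hI
  rw [Set.not_nonempty_iff_eq_empty] at hI
  subst hI
  apply hAQ
  intro x hx
  obtain ⟨b, hb, hbx⟩ := h1 x hx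
  exact K.mem_Q_of_up_zero two hRH (hAR hx) hbx fun i => hb i (by simp)

end KNat

/-- the cut by the second coordinates in `I` -/
def cut (K : KNat V H R F k co) (I : Set (Fin k)) (j : Fin 2) : AddSubgroup V where
  carrier := {w | w ∈ WW V H R ∧ ∀ i ∈ I, co w i j = 0}
  add_mem' := fun {v w} hv hw => ⟨add_mem hv.1 hw.1, fun i hi => by
    rw [K.add_apply hv.1 hw.1, hv.2 i hi, hw.2 i hi, add_zero]⟩
  zero_mem' := ⟨zero_mem _, fun i _ => by rw [K.zero]; rfl⟩
  neg_mem' := fun {v} hv => ⟨neg_mem hv.1, fun i hi => by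
    rw [K.neg hv.1]
    change -(co v i j) = 0
    rw [hv.2 i hi, neg_zero]⟩

theorem card_cut [Finite V] (K : KNat V H R F k co) (I : Set (Fin k)) (j : Fin 2) :
    Nat.card ↥(WW V H R) = Nat.card ↥(cut K I j) * Nat.card (I → F) := by
  let f : ↥(WW V H R) →+ (I → F) :=
    { toFun := fun w i => co w i j
      map_zero' := by
        funext i
        change co (0 : V) i j = 0
        rw [K.zero]; rfl
      map_add' := fun v w => by
        funext i
        exact K.add_apply v.2 w.2 i j }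
  have hs : Function.Surjective f := by
    intro x
    classical
    obtain ⟨v, hv, h⟩ := K.surj fun i _ => if h : i ∈ I then x ⟨i, h⟩ else 0
    refine ⟨⟨v, hv⟩, ?_⟩
    funext i
    change co v i j = x i
    rw [h]
    exact dif_pos i.2
  have h1 := f.ker.card_mul_index
  rw [AddSubgroup.index_ker, AddMonoidHom.range_eq_top.2 hs] at h1
  have h2 : Nat.card f.ker = Nat.card ↥(cut K I j) := by
    refine Nat.card_congr
      { toFun := fun w => ⟨w.1, w.1.2, fun i hi => congrFun (show f w.1 = 0 from w.2) ⟨i, hi⟩⟩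
        invFun := fun w => ⟨⟨w.1, w.2.1⟩, ?_⟩
        left_inv := fun w => rfl
        right_inv := fun w => rfl }
    change f ⟨w.1, w.2.1⟩ = 0
    funext i
    exact w.2.2 i i.2
  rw [← h1, h2]
  congr 1
  exact (Nat.card_congr (AddSubgroup.topEquiv (G := I → F)).toEquiv)

/-- `|A| = |A ∩ Q| |F|^|I|` -/
theorem Supp.card [Finite Y] [Finite V] (K : KNat V H R F k co) (two : ∀ v : V, v + v = 0) (hRH : R ≤ H)
    (hQ : ∀ q ∈ QQ H R, ∀ w ∈ WW V H R, q • w = w) {A : Subgroup Y} {I : Set (Fin k)} (hAR : A ≤ R)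
    (hS : Supp V H R co A I) : Nat.card A = Nat.card ↥(A ⊓ QQ H R) * Nat.card (I → F) := by
  choose! β hβ0 hβ using hS.act
  let f : A →* Multiplicative (I → F) :=
    { toFun := fun u => Multiplicative.ofAdd fun i => β u i
      map_one' := by
        have h1 : β ((1 : A) : Y) = 0 := K.up_inj (hβ _ (1 : A).2) (by
          refine ⟨fun v _ i => ?_, fun d _ _ => one_smul Y d⟩
          change co ((1 : Y) • v) i = ap (up ((0 : Fin k → F) i)) (co v i)
          rw [one_smul, Pi.zero_apply, up_zero, NatPair.ap_one])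
        apply congrArg Multiplicative.ofAdd
        funext i
        rw [h1]; rfl
      map_mul' := fun x y => by
        have h1 : β ((x * y : A) : Y) = fun i => β x i + β y i :=
          K.up_inj (hβ _ (x * y).2) ((hβ _ x.2).up_mul (hRH (hAR y.2)) (hβ _ y.2))
        apply congrArg Multiplicative.ofAdd
        funext i
        rw [h1]; rfl }
  have hs : Function.Surjective f := by
    intro x
    classical
    obtain ⟨u, hu, h⟩ := hS.full (fun i => if h : i ∈ I then Multiplicative.toAdd x ⟨i, h⟩ else 0)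
      fun i hi => dif_neg hi
    refine ⟨⟨u, hu⟩, ?_⟩
    apply Multiplicative.toAdd.injective
    funext i
    change β u i = _
    rw [K.up_inj (hβ u hu) h]
    exact dif_pos i.2
  have h2 : f.ker.map A.subtype = A ⊓ QQ H R := by
    ext x
    constructor
    · rintro ⟨u, hu, rfl⟩
      refine ⟨u.2, ?_⟩
      have h3 : f u = 1 := hu
      apply K.mem_Q_of_up_zero two hRH (hAR u.2) (hβ _ u.2)
      intro i
      by_cases hi : i ∈ I
      · exact congrFun (congrArg Multiplicative.toAdd h3) ⟨i, hi⟩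
      · exact hβ0 u u.2 i hi
    · rintro ⟨h3, h4⟩
      refine ⟨⟨x, h3⟩, ?_, rfl⟩
      have h5 : β x = 0 := K.up_inj (hβ x h3) (by
          refine ⟨fun v hv i => ?_, fun d hd _ => hQ x h4 d hd⟩
          change co (x • v) i = ap (up ((0 : Fin k → F) i)) (co v i)
          rw [hQ x h4 v hv, Pi.zero_apply, up_zero, NatPair.ap_one])
      change f ⟨x, h3⟩ = 1
      apply Multiplicative.toAdd.injective
      funext i
      change β x i = 0
      rw [h5]; rfl
  rw [← h2, Nat.card_congr (f.ker.equivMapOfInjective _ A.subtype_injective).symm.toEquiv]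
  have h3 := f.ker.card_mul_index
  rw [index_ker, MonoidHom.range_eq_top.2 hs] at h3
  rw [← h3]
  congr 1
  exact Nat.card_congr ((Subgroup.topEquiv (G := Multiplicative (I → F))).toEquiv.trans Multiplicative.toAdd)

/-- `C_W(A)` for `A` with support `I` and exact -/
theorem Supp.fx_iff [Finite Y] [Finite V] [Finite F] (K : KNat V H R F k co) (two : ∀ v : V, v + v = 0) (hRH : R ≤ H)
    (hQ : ∀ q ∈ QQ H R, ∀ w ∈ WW V H R, q • w = w) {A : Subgroup Y} {I : Set (Fin k)} (hAR : A ≤ R)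
    (hS : Supp V H R co A I)
    (hex : Nat.card ↥(A ⊓ QQ H R) * Nat.card ↥(WW V H R) ≤ Nat.card A * Nat.card ↥(fx V A ⊓ WW V H R)) {w : V}
    (hw : w ∈ WW V H R) : w ∈ fx V A ↔ ∀ i ∈ I, co w i 1 = 0 := by
  have h1 : fx V A ⊓ WW V H R ≤ cut K I 1 := by
    rintro v ⟨h2, h3⟩
    refine ⟨h3, fun i hi => ?_⟩
    classical
    obtain ⟨u, hu, h4⟩ := hS.full (Pi.single i 1) fun j hj => by
      rw [Pi.single_eq_of_ne]
      rintro rfl
      exact hj hi
    have h5 := h4.up_fst h3 i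
    rw [h2 u hu, Pi.single_eq_same, one_mul] at h5
    exact left_eq_add.1 h5
  have h2 : fx V A ⊓ WW V H R = cut K I 1 := by
    apply eq_of_le_as h1
    have h3 := card_cut K I 1
    have h4 := hS.card K two hRH hQ hAR
    rw [h3, h4] at hex
    have h5 : 0 < Nat.card ↥(A ⊓ QQ H R) := Nat.card_pos
    have h6 : 0 < Nat.card (I → F) := Nat.card_pos
    apply Nat.le_of_mul_le_mul_left _ (Nat.mul_pos h5 h6)
    calc _ = Nat.card ↥(A ⊓ QQ H R) * (Nat.card ↥(cut K I 1) * Nat.card (I → F)) := by ring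
      _ ≤ _ := hex
      _ = _ := by ring
  constructor
  · intro h3
    exact (h1 ⟨h3, hw⟩).2
  · intro h3
    have h4 : w ∈ cut K I 1 := ⟨hw, h3⟩
    rw [← h2] at h4
    exact h4.1

/-! ### (a) : `s_x ∈ Q` -/

theorem shift_mul (two : ∀ v : V, v + v = 0) {B : Subgroup Y} (hm : Mem B (Ee V B) (fx V B)) {w x y : V} {s s' : Y}
    (hs : s ∈ B) (hs' : s' ∈ B) (h1 : s • w + w + x ∈ fx V B) (h2 : s' • w + w + y ∈ fx V B) :
    (s * s') • w + w + (x + y) ∈ fx V B := by
  have h3 : s • (s' • w + w) + (s' • w + w) ∈ fx V B := hm.EB s hs _ (hm.VB s' hs' w)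
  have e : (s * s') • w + w + (x + y) =
      (s • (s' • w + w) + (s' • w + w)) + (s • w + w + x) + (s' • w + w + y) := by
    rw [mul_smul, smul_add]
    have e1 : s • s' • w + s • w + (s' • w + w) + (s • w + w + x) + (s' • w + w + y) =
        s • s' • w + w + (x + y) + (s • w + s • w) + (s' • w + s' • w) + (w + w) := by abel
    rw [e1, two, two, two, add_zero, add_zero, add_zero]
  rw [e]
  exact add_mem (add_mem h3 h1) h2

theorem shift_R (K : KNat V H R F k co) (two : ∀ v : V, v + v = 0) (hRH : R ≤ H) {B : Subgroup Y}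
    (hm : Mem B (Ee V B) (fx V B)) (hBR : B ≤ R) {I : Set (Fin k)} (hS : Supp V H R co B I)
    (hW : WW V H R ≤ Ee V B) {w x : V} (hw : w ∉ Ee V B) (hx : x ∈ WW V H R) {s : Y} (hs : s ∈ B)
    (h1 : s • w + w + x ∈ fx V B) : s ∈ QQ H R := by
  obtain ⟨b, hb0, hb⟩ := hS.act s hs
  apply K.mem_Q_of_up_zero two hRH (hBR hs) hb
  -- the key: `x_{i1} ≠ 0` implies `b_i = 0`
  have key : ∀ {x : V} {s : Y} {b : Fin k → F}, x ∈ WW V H R → s ∈ B → s • w + w + x ∈ fx V B →
      (Acts V H R co s fun i => up (b i)) → ∀ i, co x i 1 ≠ 0 → b i = 0 := by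
    intro x s b hx hs h1 hb i hi
    have h2 := Amal.smul_self_of hm hs h1
    have h3 := hb.up_fst hx i
    rw [h2] at h3
    rcases mul_eq_zero.1 (left_eq_add.1 h3) with h4 | h4
    · exact h4
    · exact absurd h4 hi
  intro i
  by_cases hi : co x i 1 = 0
  · obtain ⟨y, hy, hyi, _⟩ := K.exists_at i ![0, 1]
    have hy1 : co y i 1 ≠ 0 := by
      rw [hyi]
      change (1 : F) ≠ 0
      exact one_ne_zero
    obtain ⟨s', hs', h2⟩ := hm.surj w hw y (hW hy)
    obtain ⟨b', hb0', hb'⟩ := hS.act s' hs'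
    have h3 := key hy hs' h2 hb' i hy1
    have h4 := key (add_mem hx hy) (B.mul_mem hs hs') (shift_mul two hm hs hs' h1 h2)
      (hb.up_mul (hRH (hBR hs')) hb') i (by
        rw [K.add_apply hx hy, hi, zero_add]
        exact hy1)
    rw [h3, add_zero] at h4
    exact h4
  · exact key hx hs h1 hb i hi

/-! ### Opposite members -/

theorem Acts.inv {h : Y} {A : Fin k → Matrix.SpecialLinearGroup (Fin 2) F} (hh : h ∈ H)
    (hA : Acts V H R co h A) : Acts V H R co h⁻¹ fun i => (A i)⁻¹ := by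
  refine ⟨fun v hv i => ?_, fun d hd h0 => ?_⟩
  · have h1 := hA.1 _ (smul_mem_WW (H.inv_mem hh) hv) i
    rw [smul_inv_smul] at h1
    rw [h1, NatPair.ap_inv_ap]
  · rw [inv_smul_eq_iff, hA.2 d hd h0]

theorem wm_up_wm (b : F) : wm (1 : F) one_ne_zero * up (-b) * (wm (1 : F) one_ne_zero)⁻¹ = lo b := by
  rw [wm_up, one_pow, div_one, neg_neg, mul_inv_cancel_right]

theorem Supp.opp {h : Y} (hh : h ∈ H) (hA : Acts V H R co h fun _ => wm 1 one_ne_zero) {B : Subgroup Y}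
    (hBH : B ≤ H) {I : Set (Fin k)} (hS : Supp V H R co B I) : Opp V H R co (MulAut.conj h • B) I := by
  have key : ∀ {u : Y} {b : Fin k → F}, u ∈ H → (Acts V H R co u fun i => up (b i)) →
      Acts V H R co (h * u * h⁻¹) fun i => lo (-b i) := by
    intro u b hu hb
    have h1 := (hA.mul hu hb).mul (H.inv_mem hh) (hA.inv hh)
    have e : (((fun _ => wm (1 : F) one_ne_zero) * fun i => up (b i)) * fun i : Fin k => (wm (1 : F) one_ne_zero)⁻¹) =
        fun i => lo (-b i) := by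
      funext i
      rw [← wm_up_wm (-b i), neg_neg]
      rfl
    rwa [e] at h1
  refine ⟨fun u hu => ?_, fun b hb => ?_⟩
  · rw [mem_conj] at hu
    obtain ⟨b, hb0, hb⟩ := hS.act _ hu
    refine ⟨fun i => -b i, fun i hi => by rw [neg_eq_zero, hb0 i hi], ?_⟩
    have h1 := key (hBH hu) hb
    have e : h * (h⁻¹ * u * h) * h⁻¹ = u := by group
    rwa [e] at h1
  · obtain ⟨u, hu, hub⟩ := hS.full (fun i => -b i) fun i hi => by rw [neg_eq_zero, hb i hi]
    refine ⟨h * u * h⁻¹, conj_mem_conj hu, ?_⟩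
    have h1 := key (hBH hu) hub
    simp only [neg_neg] at h1
    exact h1

/-- `C_W(U₁) ⊆ {w_{i0} = 0}` -/
theorem Opp.fx_le {B : Subgroup Y} {I : Set (Fin k)} (hO : Opp V H R co B I) {w : V} (hw : w ∈ WW V H R)
    (hf : w ∈ fx V B) {i : Fin k} (hi : i ∈ I) : co w i 0 = 0 := by
  classical
  obtain ⟨u, hu, h4⟩ := hO.full (Pi.single i 1) fun j hj => by
    rw [Pi.single_eq_of_ne]
    rintro rfl
    exact hj hi
  have h5 := h4.lo_snd hw i
  rw [hf u hu, Pi.single_eq_same, one_mul] at h5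
  exact right_eq_add.1 h5

/-- (c): vectors of `W_R ∩ F₁` have no `I`-components -/
theorem Opp.inf {B : Subgroup Y} {I : Set (Fin k)} (hO : Opp V H R co B I) {w : V} (hw : w ∈ WW V H R)
    (hf : w ∈ fx V B) (hR : ∀ i, co w i 1 = 0) {i : Fin k} (hi : i ∈ I) : co w i = 0 :=
  NatPair.ext2 (hO.fx_le hw hf hi) (hR i)

/-- `[W, U₁]` has only `I`-components -/
theorem Opp.comm {B : Subgroup Y} {I : Set (Fin k)} (K : KNat V H R F k co) (hBH : B ≤ H) (two : ∀ v : V, v + v = 0)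
    (hO : Opp V H R co B I) {w : V} (hw : w ∈ WW V H R) {u : Y} (hu : u ∈ B) {i : Fin k} (hi : i ∉ I) :
    co (u • w + w) i = 0 := by
  obtain ⟨b, hb0, hb⟩ := hO.act u hu
  have h1 : co (u • w) i = co w i := by
    rw [hb.1 w hw i]
    simp only [hb0 i hi, lo_zero, NatPair.ap_one]
  have h2 : co (u • w + w) i = co (u • w) i + co w i := by
    rw [K.add _ (smul_mem_WW (hBH hu) hw) _ hw]; rfl
  rw [h2, h1]
  funext j
  exact K.ff two i _

end coords

/-! ### Members -/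

section members

variable [Finite Y] [Finite V] {U : Set (Subgroup Y)} {T : Sylow 2 Y} {M H R : Subgroup Y} {t : Y} {F : Type} [Field F]
  {k : ℕ} {co : V → Fin k → Fin 2 → F}

theorem member_exact (amb : Amb V U T M) (a : Amal U T M H R t) (we : WE V U H R) {B : Subgroup Y} (hB : B ∈ U)
    (hBH : B ≤ H) : Nat.card ↥(B ⊓ QQ H R) * Nat.card ↥(WW V H R) ≤ Nat.card B * Nat.card ↥(fx V B ⊓ WW V H R) := by
  rw [mul_comm, a.exact' amb we hB hBH, inf_comm]

/-- **(B1)** a member `B ≤ R`, `B ≰ Q`, has a support -/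
theorem exists_supp (K : KNat V H R F k co) (amb : Amb V U T M) (a : Amal U T M H R t) (we : WE V U H R)
    {B : Subgroup Y} (hB : B ∈ U) (hBR : B ≤ R) (hBQ : ¬ B ≤ QQ H R) :
    ∃ I : Set (Fin k), I.Nonempty ∧ Supp V H R co B I :=
  K.exists_supp_of amb.two a.RH hBR (Mem.elAb (amb.cls.mem B hB)) hBQ (member_exact amb a we hB (hBR.trans a.RH))

theorem Q_fix (amb : Amb V U T M) (a : Amal U T M H R t) : ∀ q ∈ QQ H R, ∀ w ∈ WW V H R, q • w = w :=
  fun _ hq _ hw => Amal.QQ_fix a amb hq hw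

/-- **(B1)** `C_W(B) = {w | w_{i1} = 0, i ∈ I}` -/
theorem member_fx_iff [Finite F] (K : KNat V H R F k co) (amb : Amb V U T M) (a : Amal U T M H R t)
    (we : WE V U H R) {B : Subgroup Y} (hB : B ∈ U) (hBR : B ≤ R) {I : Set (Fin k)} (hS : Supp V H R co B I) {w : V}
    (hw : w ∈ WW V H R) : w ∈ fx V B ↔ ∀ i ∈ I, co w i 1 = 0 :=
  hS.fx_iff K amb.two a.RH (Q_fix amb a) hBR (member_exact amb a we hB (hBR.trans a.RH)) hw

theorem member_card (K : KNat V H R F k co) (amb : Amb V U T M) (a : Amal U T M H R t)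
    {B : Subgroup Y} (hBR : B ≤ R) {I : Set (Fin k)} (hS : Supp V H R co B I) :
    Nat.card B = Nat.card ↥(B ⊓ QQ H R) * Nat.card (I → F) :=
  hS.card K amb.two a.RH (Q_fix amb a) hBR

/-- **(a)**: `s_x ∈ Q` for `x ∈ W` -/
theorem mem_Q_of_shift (K : KNat V H R F k co) (amb : Amb V U T M) (a : Amal U T M H R t) (we : WE V U H R)
    {B : Subgroup Y} (hB : B ∈ U) (hBH : B ≤ H) {w x : V} (hw : w ∉ Ee V B) (hx : x ∈ WW V H R) {s : Y}
    (hs : s ∈ B) (h1 : s • w + w + x ∈ fx V B) : s ∈ QQ H R := by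
  obtain ⟨y, hy, hyU, hyR⟩ := Amal.exists_conj a amb hB hBH
  have hback : ∀ {q : Y}, y * q * y⁻¹ ∈ QQ H R → q ∈ QQ H R := by
    intro q hq
    have h5 := conj_mem_QQ (H.inv_mem hy) hq
    have e : y⁻¹ * (y * q * y⁻¹) * y⁻¹⁻¹ = q := by group
    rwa [e] at h5
  by_cases hQ : MulAut.conj y • B ≤ QQ H R
  · exact hback (hQ (conj_mem_conj hs))
  · obtain ⟨I, _, hS⟩ := exists_supp K amb a we hyU hyR hQ
    apply hback
    apply shift_R K amb.two a.RH (amb.cls.mem _ hyU) hyR hS (we _ hyU hyR) (w := y • w) (x := y • x)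
    · rw [Ee_conj, mem_smul_as, inv_smul_smul]
      exact hw
    · exact smul_mem_WW hy hx
    · exact conj_mem_conj hs
    · rw [fx_conj, mem_smul_as, smul_add, smul_add, ← mul_smul, ← mul_smul, inv_smul_smul, inv_smul_smul]
      have e : y⁻¹ * (y * s * y⁻¹) * y = s := by group
      rw [e]
      exact h1

/-- **(B2)** every block lies in the support of a member of `R` -/
theorem exists_member_at (K : KNat V H R F k co) (amb : Amb V U T M) (a : Amal U T M H R t) (we : WE V U H R)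
    (j : Fin k) : ∃ B ∈ U, B ≤ R ∧ ¬ B ≤ QQ H R ∧ ∃ I : Set (Fin k), j ∈ I ∧ Supp V H R co B I := by
  obtain ⟨B, hB, hBR, hBQ⟩ := Amal.exists_not_QQ a amb
  obtain ⟨I, ⟨i, hi⟩, hS⟩ := exists_supp K amb a we hB hBR hBQ
  obtain ⟨r, hr, hrs⟩ := K.trans i j
  have hBr : MulAut.conj r • B ≤ R := by
    intro x hx
    rw [mem_conj] at hx
    have h1 := R.mul_mem (R.mul_mem hr (hBR hx)) (R.inv_mem hr)
    have e : r * (r⁻¹ * x * r) * r⁻¹ = x := by group
    rwa [e] at h1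
  have hQr : ¬ MulAut.conj r • B ≤ QQ H R := by
    intro h1
    apply hBQ
    intro b hb
    have h5 := conj_mem_QQ (H.inv_mem (a.RH hr)) (h1 (conj_mem_conj hb))
    have e : r⁻¹ * (r * b * r⁻¹) * r⁻¹⁻¹ = b := by group
    rwa [e] at h5
  obtain ⟨J, _, hJ⟩ := exists_supp K amb a we (amb.cls.conj B hB r) hBr hQr
  refine ⟨_, amb.cls.conj B hB r, hBr, hQr, J, ?_, hJ⟩
  by_contra hj
  -- `B` acts trivially on block `i`
  classical
  obtain ⟨u, hu, h4⟩ := hS.full (Pi.single i 1) fun l hl => by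
    rw [Pi.single_eq_of_ne]
    rintro rfl
    exact hl hi
  obtain ⟨v, hv, hvi, _⟩ := K.exists_at i ![0, 1]
  obtain ⟨b, hb0, hb⟩ := hJ.act _ (conj_mem_conj (g := r) hu)
  have huH : u ∈ H := a.RH (hBR hu)
  have hrH : r ∈ H := a.RH hr
  have h1 : co (r • (u • v + v)) j = 0 := by
    have e : r • (u • v + v) = (r * u * r⁻¹) • (r • v) + r • v := by
      rw [smul_add, ← mul_smul, ← mul_smul]
      congr 2
      group
    have h2 := hb.1 (r • v) (smul_mem_WW hrH hv) j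
    simp only [hb0 j hj, up_zero, NatPair.ap_one] at h2
    rw [e, K.add _ (smul_mem_WW (H.mul_mem (H.mul_mem hrH huH) (H.inv_mem hrH)) (smul_mem_WW hrH hv)) _
      (smul_mem_WW hrH hv), Pi.add_apply, h2]
    funext l
    exact K.ff amb.two i _
  have h2 := (hrs _ (add_mem (smul_mem_WW huH hv) hv)).1 h1
  have h3 : co (u • v + v) i 0 = 1 := by
    rw [K.add_apply (smul_mem_WW huH hv) hv, h4.up_fst hv i, hvi, Pi.single_eq_same]
    simp
  rw [h2] at h3
  exact zero_ne_one h3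

end members

end Cfsg.Agent.Omega.NO1.TH.K

end

section


/-!
# N1, (L1) of bb OMEGA 20646, natural type: the structure `LFac` (bb OMEGA 21480, 21659, helper411)

`KNat V H R F k co`.  `Pp i` = the preimage in `R` of the `i`-th root group, `Ps i = {w ∈ W | co w j 1 = 0, j ≠ i}`.
* `mem_fx` : the fixed points in `W` of a member `B ≤ R`, `B ≰ Q`; `mem_WJ`, `mem_D0` : the groups `C_W(J)`, `D₀`;
* `fix_Pp` : `co x i 1 = 0` ⟹ `Pp i` centralises `x`; `mem_iSup` : `C_R(C_W(J)) = ⟨Pp i⟩`;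
* `lfac` : `LFac V U H R Pp Ps`; `faith`, `mov`, `exact_of` : fields of `LIn`.
-/

set_option autoImplicit false
set_option linter.unusedSectionVars false

namespace Cfsg.Agent.Omega.NO1.TH.K.LF

open Subgroup Cfsg.Agent.Omega.NO1.AB Cfsg.Agent.Omega.FFBr Cfsg.Agent.Lib.SL2Mat
open Cfsg.Agent.Omega.NatPair (ap ap_mul ap_one ap_add ap_inv_ap ap_ap_inv ap_zero' ap_one' ext2)
open scoped Pointwise

universe u

/-- the action of the root elements -/
theorem apup {F : Type*} [Field F] (a : F) (x : Fin 2 → F) : ap (up a) x = ![x 0 + a * x 1, x 1] := by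
  apply ext2
  · rw [ap_zero']; simp
  · rw [ap_one']; simp

theorem aplo {F : Type*} [Field F] (a : F) (x : Fin 2 → F) : ap (lo a) x = ![x 0, a * x 0 + x 1] := by
  apply ext2
  · rw [ap_zero']; simp
  · rw [ap_one']; simp

variable {Y : Type u} [Group Y] {V : Type u} [AddCommGroup V] [DistribMulAction Y V]
  {H R : Subgroup Y} {F : Type} [Field F] {k : ℕ} {co : V → Fin k → Fin 2 → F}

section basic

theorem co_zero (K : KNat V H R F k co) : co 0 = 0 := by
  have h := K.add 0 (zero_mem _) 0 (zero_mem _)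
  rw [add_zero] at h
  simpa using h

theorem add_self (K : KNat V H R F k co) (h2 : ∀ v : V, v + v = 0) (x : Fin k → Fin 2 → F) : x + x = 0 := by
  obtain ⟨v, hv, rfl⟩ := K.surj x
  rw [← K.add v hv v hv, h2, co_zero K]

theorem add_self' (K : KNat V H R F k co) (h2 : ∀ v : V, v + v = 0) (i : Fin k) (x : F) : x + x = 0 :=
  congrFun (congrFun (add_self K h2 (fun _ _ => x)) i) 0

theorem acts_inv {g : Y} {A : Fin k → Matrix.SpecialLinearGroup (Fin 2) F} (hgH : g ∈ H)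
    (hg : Acts V H R co g A) : Acts V H R co g⁻¹ A⁻¹ := by
  refine ⟨fun v hv i => ?_, fun d hd h0 => ?_⟩
  · have h1 := hg.1 _ (smul_mem_WW (H.inv_mem hgH) hv) i
    rw [smul_inv_smul] at h1
    rw [h1, Pi.inv_apply, ap_inv_ap]
  · rw [inv_smul_eq_iff, hg.2 d hd h0]

/-- the action on `W` is determined by the tuple -/
theorem acts_eq (K : KNat V H R F k co) {g h : Y} {A : Fin k → Matrix.SpecialLinearGroup (Fin 2) F}
    (hgH : g ∈ H) (hhH : h ∈ H) (hg : Acts V H R co g A) (hh : Acts V H R co h A) {w : V} (hw : w ∈ WW V H R) :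
    g • w = h • w := by
  have h1 : ∀ w ∈ WW V H R, (h⁻¹ * g) • w = w := by
    apply K.trivH _ (H.mul_mem (H.inv_mem hhH) hgH)
    intro w hw
    have h2 := ((acts_inv hhH hh).mul hgH hg).1 w hw
    funext i
    rw [h2 i, inv_mul_cancel]
    exact ap_one _
  have h2 := h1 w hw
  rw [mul_smul, inv_smul_eq_iff] at h2
  exact h2

end basic

section amb

/-- the coordinates of a unipotent element -/
theorem acts_up {g : Y} {b : Fin k → F} (hg : Acts V H R co g fun i => up (b i)) {v : V} (hv : v ∈ WW V H R)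
    (i : Fin k) : co (g • v) i = ![co v i 0 + b i * co v i 1, co v i 1] := by
  rw [hg.1 v hv i, apup]

theorem mem_QQ_of_zero (K : KNat V H R F k co) (h2 : ∀ v : V, v + v = 0) (hRH : R ≤ H) {g : Y} (hgR : g ∈ R)
    {b : Fin k → F} (hg : Acts V H R co g fun i => up (b i)) (hb : ∀ i, b i = 0) : g ∈ QQ H R := by
  apply K.triv g hgR
  intro w hw
  rw [K.add _ (smul_mem_WW (hRH hgR) hw) _ hw]
  funext i
  rw [Pi.add_apply, acts_up hg hw i, hb i]
  have h3 : (![co w i 0 + 0 * co w i 1, co w i 1] : Fin 2 → F) = co w i := by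
    apply ext2
    · simp
    · simp
  rw [h3]
  exact congrFun (add_self K h2 (co w)) i

theorem acts_upmul {g h : Y} {b c : Fin k → F} (hhH : h ∈ H) (hg : Acts V H R co g fun i => up (b i))
    (hh : Acts V H R co h fun i => up (c i)) : Acts V H R co (g * h) fun i => up ((b + c) i) := by
  have h1 := hg.mul hhH hh
  have e : ((fun i => up (b i)) * fun i => up (c i) : Fin k → Matrix.SpecialLinearGroup (Fin 2) F) =
      fun i => up ((b + c) i) := by
    funext i
    rw [Pi.mul_apply, up_mul, Pi.add_apply]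
  rwa [e] at h1

theorem acts_upinv {g : Y} {b : Fin k → F} (hgH : g ∈ H) (hg : Acts V H R co g fun i => up (b i)) :
    Acts V H R co g⁻¹ fun i => up ((-b) i) := by
  have h1 := acts_inv hgH hg
  have e : ((fun i => up (b i))⁻¹ : Fin k → Matrix.SpecialLinearGroup (Fin 2) F) = fun i => up ((-b) i) := by
    funext i
    rw [Pi.inv_apply, up_inv, Pi.neg_apply]
  rwa [e] at h1

variable [Finite Y] [Finite V] {U : Set (Subgroup Y)} {T : Sylow 2 Y} {M : Subgroup Y} {t : Y}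

/-- **the fixed points in `W` of a member `B ≤ R`, `B ≰ Q`** -/
theorem exists_I (amb : Amb V U T M) (a : Amal U T M H R t) (we : WE V U H R) (K : KNat V H R F k co)
    {B : Subgroup Y} (hB : B ∈ U) (hBR : B ≤ R) (hBQ : ¬ B ≤ QQ H R) :
    ∃ I : Set (Fin k), (∃ i, i ∈ I) ∧
      (∀ x ∈ B, ∃ b : Fin k → F, (∀ i, i ∉ I → b i = 0) ∧ Acts V H R co x fun i => up (b i)) ∧
      (∀ b : Fin k → F, (∀ i, i ∉ I → b i = 0) → ∃ x ∈ B, Acts V H R co x fun i => up (b i)) ∧
      ∀ w ∈ WW V H R, (∀ x ∈ B, x • w = w) ↔ ∀ i ∈ I, co w i 1 = 0 := by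
  classical
  have hel : ElAb B := Mem.elAb (amb.cls.mem B hB)
  have ex := Amal.exact' a amb we hB (hBR.trans a.RH)
  obtain ⟨I, hI1, hI2⟩ := K.off B hBR hel hBQ (by
    rw [inf_comm (fx V B), mul_comm (Nat.card ↥(B ⊓ QQ H R))]
    exact ex.le)
  have hfx : ∀ w ∈ WW V H R, (∀ x ∈ B, x • w = w) → ∀ i ∈ I, co w i 1 = 0 := by
    intro w hw hx i hi
    obtain ⟨x, hxB, hxA⟩ := hI2 (Pi.single i 1) (fun j hj => by
      rw [Pi.single_eq_of_ne]
      rintro rfl
      exact hj hi)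
    have h1 := acts_up hxA hw i
    rw [hx x hxB] at h1
    have h3 := congrFun h1 0
    simp at h3
    exact h3
  refine ⟨I, ?_, hI1, hI2, fun w hw => ⟨hfx w hw, ?_⟩⟩
  · by_contra hI
    push Not at hI
    apply hBQ
    intro x hx
    obtain ⟨b, hb, hxb⟩ := hI1 x hx
    exact mem_QQ_of_zero K amb.cls.two a.RH (hBR hx) hxb fun i => hb i (hI i)
  -- counting
  let X : AddSubgroup V :=
    { carrier := {w | w ∈ WW V H R ∧ ∀ i ∈ I, co w i 1 = 0}
      zero_mem' := ⟨zero_mem _, fun i _ => by rw [co_zero K]; rfl⟩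
      add_mem' := fun {v w} hv hw => ⟨add_mem hv.1 hw.1, fun i hi => by
        rw [K.add v hv.1 w hw.1, Pi.add_apply, Pi.add_apply, hv.2 i hi, hw.2 i hi, add_zero]⟩
      neg_mem' := fun {v} hv => by
        have h1 : -v = v := by rw [neg_eq_iff_add_eq_zero, amb.cls.two]
        change -v ∈ WW V H R ∧ ∀ i ∈ I, co (-v) i 1 = 0
        rw [h1]
        exact hv }
  have hX : ∀ w, w ∈ X ↔ w ∈ WW V H R ∧ ∀ i ∈ I, co w i 1 = 0 := fun w => Iff.rfl
  let Z := {z : Fin k → F // ∀ i, i ∉ I → z i = 0}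
  have hs : ∀ z : Z, ∃ v ∈ WW V H R, ∀ i, co v i 1 = z.1 i := by
    intro z
    obtain ⟨v, hv, hvz⟩ := K.surj fun i => ![0, z.1 i]
    exact ⟨v, hv, fun i => by rw [hvz]; rfl⟩
  choose s hsW hsz using hs
  let f : Z × X → WW V H R := fun p => ⟨s p.1 + p.2, add_mem (hsW p.1) p.2.2.1⟩
  have hf : Function.Injective f := by
    rintro ⟨z, x⟩ ⟨z', x'⟩ h
    have h1 : s z + x = s z' + x' := congrArg Subtype.val h
    have h3 : z = z' := by
      apply Subtype.ext
      funext i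
      by_cases hi : i ∈ I
      · have h4 := congrFun (congrFun (congrArg co h1) i) 1
        rw [K.add _ (hsW z) _ x.2.1, K.add _ (hsW z') _ x'.2.1, Pi.add_apply, Pi.add_apply, Pi.add_apply,
          Pi.add_apply, hsz, hsz, x.2.2 i hi, x'.2.2 i hi, add_zero, add_zero] at h4
        exact h4
      · rw [z.2 i hi, z'.2 i hi]
    subst h3
    have h4 := add_left_cancel h1
    rw [Subtype.ext h4]
  have : Finite (Z × X) := Finite.of_injective f hf
  have : Finite Z := by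
    have h0 : Function.Injective fun z : Z => ((z, 0) : Z × X) := fun z z' h => (Prod.mk.inj h).1
    exact Finite.of_injective _ h0
  choose σ hσB hσ using hI2
  choose b hb0 hb using hI1
  let g : B → Z × ↥(B ⊓ QQ H R) := fun x => (⟨b x x.2, hb0 x x.2⟩, ⟨x * (σ (b x x.2) (hb0 x x.2))⁻¹,
    B.mul_mem x.2 (B.inv_mem (hσB _ _)), by
      have h1 := acts_upmul (H.inv_mem (a.RH (hBR (hσB (b x x.2) (hb0 x x.2))))) (hb x x.2)
        (acts_upinv (a.RH (hBR (hσB (b x x.2) (hb0 x x.2)))) (hσ (b x x.2) (hb0 x x.2)))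
      exact mem_QQ_of_zero K amb.cls.two a.RH (R.mul_mem (hBR x.2) (R.inv_mem (hBR (hσB _ _)))) h1
        fun i => by rw [Pi.add_apply, Pi.neg_apply, add_neg_cancel]⟩)
  have hg : Function.Injective g := by
    intro x x' h
    have h1 := (Prod.mk.inj h).1
    have h3 := congrArg Subtype.val (Prod.mk.inj h).2
    have h4 : b x x.2 = b x' x'.2 := congrArg Subtype.val h1
    have h5 : (x : Y) * (σ (b x x.2) (hb0 x x.2))⁻¹ = x' * (σ (b x' x'.2) (hb0 x' x'.2))⁻¹ := h3
    have h6 : σ (b x x.2) (hb0 x x.2) = σ (b x' x'.2) (hb0 x' x'.2) := by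
      congr 1
    rw [h6] at h5
    exact Subtype.ext (mul_right_cancel h5)
  have c1 := Nat.card_le_card_of_injective f hf
  have c2 := Nat.card_le_card_of_injective g hg
  rw [Nat.card_prod] at c1 c2
  have hle : WW V H R ⊓ fx V B ≤ X := fun w hw => ⟨hw.1, hfx w hw.1 fun x hx => hw.2 x hx⟩
  have hcard : Nat.card X ≤ Nat.card ↥(WW V H R ⊓ fx V B) := by
    have p1 : 0 < Nat.card Z := by
      have : Nonempty Z := ⟨⟨0, fun _ _ => rfl⟩⟩
      exact Nat.card_pos
    have p2 : 0 < Nat.card ↥(B ⊓ QQ H R) := Nat.card_pos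
    apply Nat.le_of_mul_le_mul_left _ (Nat.mul_pos p1 p2)
    calc _ = Nat.card Z * Nat.card X * Nat.card ↥(B ⊓ QQ H R) := by ring
      _ ≤ Nat.card ↥(WW V H R) * Nat.card ↥(B ⊓ QQ H R) := Nat.mul_le_mul_right _ c1
      _ = _ := ex
      _ ≤ _ := Nat.mul_le_mul_right _ c2
  have heq : WW V H R ⊓ fx V B = X := by
    apply SetLike.coe_injective
    apply Set.eq_of_subset_of_ncard_le (SetLike.coe_subset_coe.2 hle) _ (Set.toFinite _)
    rw [← Nat.card_coe_set_eq, ← Nat.card_coe_set_eq]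
    exact hcard
  intro hi x hx
  have h1 : w ∈ X := ⟨hw, hi⟩
  rw [← heq] at h1
  exact h1.2 x hx

/-- every index belongs to a member -/
theorem exists_mem_I (amb : Amb V U T M) (a : Amal U T M H R t) (we : WE V U H R) (K : KNat V H R F k co)
    (i : Fin k) : ∃ B ∈ U, B ≤ R ∧ ∃ I : Set (Fin k), i ∈ I ∧
      (∀ b : Fin k → F, (∀ i, i ∉ I → b i = 0) → ∃ x ∈ B, Acts V H R co x fun i => up (b i)) ∧
      ∀ w ∈ WW V H R, (∀ x ∈ B, x • w = w) ↔ ∀ i ∈ I, co w i 1 = 0 := by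
  classical
  obtain ⟨B, hB, hBR, hBQ⟩ := Amal.exists_not_QQ a amb
  obtain ⟨I, ⟨j, hj⟩, -, hI2, -⟩ := exists_I amb a we K hB hBR hBQ
  obtain ⟨r, hr, hrij⟩ := K.trans j i
  have hB' : MulAut.conj r • B ≤ R := by
    intro y hy
    rw [mem_conj] at hy
    have h1 := R.mul_mem (R.mul_mem hr (hBR hy)) (R.inv_mem hr)
    have e : r * (r⁻¹ * y * r) * r⁻¹ = y := by group
    rwa [e] at h1
  have hBQ' : ¬ MulAut.conj r • B ≤ QQ H R := by
    intro h1
    apply hBQ
    intro y hy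
    have h2 := conj_mem_QQ (H.inv_mem (a.RH hr)) (h1 (conj_mem_conj (g := r) hy))
    have e : r⁻¹ * (r * y * r⁻¹) * r⁻¹⁻¹ = y := by group
    rwa [e] at h2
  obtain ⟨I', -, hI1', hI2', hI3'⟩ := exists_I amb a we K (amb.cls.conj B hB r) hB' hBQ'
  refine ⟨_, amb.cls.conj B hB r, hB', I', ?_, hI2', hI3'⟩
  by_contra hi
  obtain ⟨x, hxB, hx⟩ := hI2 (Pi.single j 1) (fun l hl => by
    rw [Pi.single_eq_of_ne]
    rintro rfl
    exact hl hj)
  obtain ⟨b, hb0, hb⟩ := hI1' _ (conj_mem_conj (g := r) hxB)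
  obtain ⟨w, hw, hwc⟩ := K.surj (Pi.single j ![0, 1])
  have hxH : x ∈ H := a.RH (hBR hxB)
  have h1 := acts_up hb (smul_mem_WW (a.RH hr) hw) i
  rw [hb0 i hi] at h1
  have e1 : (r * x * r⁻¹) • r • w = r • x • w := by
    rw [mul_smul, mul_smul, inv_smul_smul]
  rw [e1] at h1
  have h3 : co (r • (x • w + w)) i = 0 := by
    rw [smul_add, K.add _ (smul_mem_WW (a.RH hr) (smul_mem_WW hxH hw)) _ (smul_mem_WW (a.RH hr) hw), Pi.add_apply, h1]
    have h4 : (![co (r • w) i 0 + 0 * co (r • w) i 1, co (r • w) i 1] : Fin 2 → F) = co (r • w) i := by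
      apply ext2
      · simp
      · simp
    rw [h4]
    exact congrFun (add_self K amb.cls.two (co (r • w))) i
  rw [hrij _ (add_mem (smul_mem_WW hxH hw) hw), K.add _ (smul_mem_WW hxH hw) _ hw, Pi.add_apply, acts_up hx hw] at h3
  have h5 := congrFun h3 0
  rw [hwc] at h5
  simp at h5

/-- **`C_W(J)`** -/
theorem mem_WJ (amb : Amb V U T M) (a : Amal U T M H R t) (we : WE V U H R) (K : KNat V H R F k co) {w : V} :
    w ∈ WJ V U H R ↔ w ∈ WW V H R ∧ ∀ i, co w i 1 = 0 := by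
  constructor
  · rintro ⟨h1, h2⟩
    refine ⟨h1, fun i => ?_⟩
    obtain ⟨B, hB, hBR, I, hi, -, h3⟩ := exists_mem_I amb a we K i
    exact (h3 w h1).1 (h2 B hB hBR) i hi
  · rintro ⟨h1, h2⟩
    refine ⟨h1, fun B hB hBR b hb => ?_⟩
    by_cases hBQ : B ≤ QQ H R
    · exact Amal.QQ_fix a amb (hBQ hb) h1
    · obtain ⟨I, -, -, -, h3⟩ := exists_I amb a we K hB hBR hBQ
      exact (h3 w h1).2 (fun i _ => h2 i) b hb

/-- the preimage in `R` of the `i`-th root group -/
def Pp (V : Type u) [AddCommGroup V] [DistribMulAction Y V] (H R : Subgroup Y) {F : Type} [Field F] {k : ℕ}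
    (co : V → Fin k → Fin 2 → F) (hRH : R ≤ H) (i : Fin k) : Subgroup Y where
  carrier := {r | r ∈ R ∧ ∃ b : F, Acts V H R co r fun j => up ((Pi.single i b : Fin k → F) j)}
  one_mem' := ⟨R.one_mem, 0, by
    have e : (fun j => up ((Pi.single i (0 : F) : Fin k → F) j)) = 1 := by
      funext j
      rw [Pi.single_zero, Pi.zero_apply, up_zero, Pi.one_apply]
    rw [e]
    exact Acts.one⟩
  mul_mem' := by
    rintro x y ⟨hx, b, hb⟩ ⟨hy, c, hc⟩
    refine ⟨R.mul_mem hx hy, b + c, ?_⟩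
    have h1 := acts_upmul (hRH hy) hb hc
    rwa [← Pi.single_add] at h1
  inv_mem' := by
    rintro x ⟨hx, b, hb⟩
    refine ⟨R.inv_mem hx, -b, ?_⟩
    have h1 := acts_upinv (hRH hx) hb
    rwa [← Pi.single_neg] at h1

/-- the elements which act trivially except on the blocks in `s` lie in the product of the root groups -/
theorem mem_iSup (K : KNat V H R F k co) (h2 : ∀ v : V, v + v = 0) (hRH : R ≤ H) (s : Finset (Fin k)) :
    ∀ r ∈ R, ∀ b : Fin k → F, (∀ i, i ∉ s → b i = 0) → (Acts V H R co r fun i => up (b i)) →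
      r ∈ QQ H R ⊔ ⨆ p ∈ s, Pp V H R co hRH p := by
  classical
  induction s using Finset.induction_on with
  | empty =>
    intro r hr b hb hrb
    exact mem_sup_left (mem_QQ_of_zero K h2 hRH hr hrb fun i => hb i (Finset.notMem_empty i))
  | insert i s his ih =>
    intro r hr b hb hrb
    obtain ⟨x, hx, hxb⟩ := K.unip (Pi.single i (b i))
    have h1 := acts_upmul (H.inv_mem (hRH hx)) hrb (acts_upinv (hRH hx) hxb)
    have h3 := ih (r * x⁻¹) (R.mul_mem hr (R.inv_mem hx)) _ (fun j hj => by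
      rw [Pi.add_apply, Pi.neg_apply]
      by_cases hji : j = i
      · subst hji
        rw [Pi.single_eq_same, add_neg_cancel]
      · rw [hb j (by rw [Finset.mem_insert, not_or]; exact ⟨hji, hj⟩), Pi.single_eq_of_ne hji, neg_zero, add_zero]) h1
    have h4 : x ∈ QQ H R ⊔ ⨆ p ∈ insert i s, Pp V H R co hRH p :=
      mem_sup_right (mem_iSup_of_mem i (mem_iSup_of_mem (Finset.mem_insert_self i s) ⟨hx, _, hxb⟩))
    have h5 : QQ H R ⊔ ⨆ p ∈ s, Pp V H R co hRH p ≤ QQ H R ⊔ ⨆ p ∈ insert i s, Pp V H R co hRH p :=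
      sup_le_sup_left (biSup_mono fun p hp => Finset.mem_insert_of_mem hp) _
    have h6 := mul_mem (h5 h3) h4
    rwa [inv_mul_cancel_right] at h6

/-- commuting tuples -/
theorem comm_tuple {i l : Fin k} (hil : i ≠ l) (b : F) (A : Matrix.SpecialLinearGroup (Fin 2) F) :
    ((fun j => up ((Pi.single i b : Fin k → F) j)) * Pi.mulSingle l A :
      Fin k → Matrix.SpecialLinearGroup (Fin 2) F) =
      Pi.mulSingle l A * fun j => up ((Pi.single i b : Fin k → F) j) := by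
  funext j
  rw [Pi.mul_apply, Pi.mul_apply]
  by_cases hj : j = l
  · subst hj
    rw [Pi.single_eq_of_ne (Ne.symm hil), up_zero, one_mul, mul_one]
  · rw [Pi.mulSingle_eq_of_ne hj, one_mul, mul_one]

/-- a vector of the block `l` which is centralised by the `i`-th root group -/
theorem exists_fixed (K : KNat V H R F k co) (h2 : ∀ v : V, v + v = 0) {i l : Fin k} (hil : i ≠ l) {r : Y}
    (hrH : r ∈ H) {b : F} (hr : Acts V H R co r fun j => up ((Pi.single i b : Fin k → F) j)) (y : Fin 2 → F) :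
    ∃ z ∈ WW V H R, co z = Pi.single l y ∧ r • z = z := by
  have key : ∀ (A : Matrix.SpecialLinearGroup (Fin 2) F) (x : Fin 2 → F),
      ∃ z ∈ WW V H R, co z = Pi.single l (ap A x + x) ∧ r • z = z := by
    intro A x
    obtain ⟨g, hg, hgA⟩ := K.lift (Pi.mulSingle l A)
    obtain ⟨w, hw, hwx⟩ := K.surj (Pi.single l x)
    have hgw := smul_mem_WW hg hw
    refine ⟨g • w + w, add_mem hgw hw, ?_, ?_⟩
    · rw [K.add _ hgw _ hw]
      funext j
      rw [Pi.add_apply, hgA.1 w hw j, hwx]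
      by_cases hj : j = l
      · subst hj
        rw [Pi.single_eq_same, Pi.single_eq_same, Pi.mulSingle_eq_same]
      · rw [Pi.single_eq_of_ne hj, Pi.single_eq_of_ne hj, Pi.mulSingle_eq_of_ne hj, ap_one, add_zero]
    · -- `r w = w + e`, `e ∈ D₀`
      have he : co (r • w + w) = 0 := by
        rw [K.add _ (smul_mem_WW hrH hw) _ hw]
        funext j
        rw [Pi.add_apply, acts_up hr hw j, hwx]
        by_cases hj : j = l
        · subst hj
          rw [Pi.single_eq_of_ne (Ne.symm hil), Pi.single_eq_same, zero_mul, add_zero]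
          have e1 : (![x 0, x 1] : Fin 2 → F) = x := by
            apply ext2
            · rfl
            · rfl
          rw [e1]
          have e2 := congrFun (add_self K h2 (fun _ => x)) j
          exact e2
        · rw [Pi.single_eq_of_ne hj]
          have e1 : (![(0 : Fin 2 → F) 0 + (Pi.single i b : Fin k → F) j * (0 : Fin 2 → F) 1, (0 : Fin 2 → F) 1] :
              Fin 2 → F) = 0 := by
            apply ext2
            · simp
            · simp
          rw [e1, add_zero]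
          rfl
      have hc : r • g • w = g • r • w := by
        have h3 := acts_eq K (H.mul_mem hrH hg) (H.mul_mem hg hrH) (hr.mul hg hgA) (by
          rw [comm_tuple hil]
          exact hgA.mul hrH hr) hw
        rwa [mul_smul, mul_smul] at h3
      have h4 : g • (r • w + w) = r • w + w := hgA.2 _ (add_mem (smul_mem_WW hrH hw) hw) he
      rw [smul_add] at h4
      rw [smul_add, hc]
      -- `g r w + r w = g w + w`
      have h5 : g • r • w + g • w + (g • w + r • w) = r • w + w + (g • w + r • w) := by rw [h4]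
      have e3 : g • r • w + g • w + (g • w + r • w) = g • r • w + r • w + (g • w + g • w) := by abel
      have e4 : r • w + w + (g • w + r • w) = g • w + w + (r • w + r • w) := by abel
      rw [e3, e4, h2, h2, add_zero, add_zero] at h5
      exact h5
  obtain ⟨z1, hz1, hc1, hf1⟩ := key (up 1) ![0, y 0]
  obtain ⟨z2, hz2, hc2, hf2⟩ := key (lo 1) ![y 1, 0]
  refine ⟨z1 + z2, add_mem hz1 hz2, ?_, by rw [smul_add, hf1, hf2]⟩
  rw [K.add _ hz1 _ hz2, hc1, hc2, ← Pi.single_add]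
  congr 1
  have hy : ∀ x : F, x + x = 0 := fun x => add_self' K h2 l x
  apply ext2
  · rw [apup, aplo]
    simp only [Pi.add_apply, Matrix.cons_val_zero, Matrix.cons_val_one, one_mul, zero_add, add_zero, hy]
  · rw [apup, aplo]
    simp only [Pi.add_apply, Matrix.cons_val_zero, Matrix.cons_val_one, one_mul, zero_add, add_zero, hy]

/-- **`C_W` of the `i`-th root group** -/
theorem fix_Pp (amb : Amb V U T M) (a : Amal U T M H R t) (we : WE V U H R) (K : KNat V H R F k co) {i : Fin k}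
    {r : Y} (hr : r ∈ Pp V H R co a.RH i) {x : V} (hx : x ∈ WW V H R) (hxi : co x i 1 = 0) : r • x = x := by
  classical
  obtain ⟨hrR, b, hrb⟩ := hr
  have hrH := a.RH hrR
  -- the vectors of `C_W(J)`
  have h0 : ∀ x ∈ WW V H R, (∀ j, co x j 1 = 0) → r • x = x := by
    intro x hx hxj
    obtain ⟨B, hB, hBR, I, hi, h3, h4⟩ := exists_mem_I amb a we K i
    obtain ⟨y, hyB, hy⟩ := h3 (Pi.single i b) (fun j hj => by
      rw [Pi.single_eq_of_ne]
      rintro rfl
      exact hj hi)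
    rw [acts_eq K hrH (a.RH (hBR hyB)) hrb hy hx]
    exact (h4 x hx).2 (fun j _ => hxj j) y hyB
  have key : ∀ s : Finset (Fin k), ∀ x ∈ WW V H R, co x i 1 = 0 → (∀ j, j ∉ s → co x j 1 = 0) → r • x = x := by
    intro s
    induction s using Finset.induction_on with
    | empty =>
      intro x hx _ h
      exact h0 x hx fun j => h j (Finset.notMem_empty j)
    | insert l s hls ih =>
      intro x hx hxi h
      by_cases hli : i = l
      · subst hli
        refine ih x hx hxi fun j hj => ?_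
        by_cases hji : j = i
        · rw [hji, hxi]
        · exact h j (by rw [Finset.mem_insert, not_or]; exact ⟨hji, hj⟩)
      · obtain ⟨z, hz, hzc, hzr⟩ := exists_fixed K amb.cls.two hli hrH hrb (co x l)
        have h5 := ih (x + z) (add_mem hx hz) (by
          rw [K.add _ hx _ hz, hzc, Pi.add_apply, Pi.single_eq_of_ne hli, add_zero, hxi]) (fun j hj => by
          rw [K.add _ hx _ hz, hzc, Pi.add_apply]
          by_cases hjl : j = l
          · subst hjl
            rw [Pi.single_eq_same, Pi.add_apply]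
            exact add_self' K amb.cls.two j _
          · rw [Pi.single_eq_of_ne hjl, add_zero]
            exact h j (by rw [Finset.mem_insert, not_or]; exact ⟨hjl, hj⟩))
        rw [smul_add, hzr] at h5
        exact add_right_cancel h5
  exact key Finset.univ x hx hxi fun j hj => absurd (Finset.mem_univ j) hj

/-- the part of `W` which is moved by the `i`-th root group only -/
def Ps (V : Type u) [AddCommGroup V] [DistribMulAction Y V] (H R : Subgroup Y) {F : Type} [Field F] {k : ℕ}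
    (co : V → Fin k → Fin 2 → F) (K : KNat V H R F k co) (h2 : ∀ v : V, v + v = 0) (i : Fin k) : AddSubgroup V where
  carrier := {w | w ∈ WW V H R ∧ ∀ j, j ≠ i → co w j 1 = 0}
  zero_mem' := ⟨zero_mem _, fun j _ => by rw [co_zero K]; rfl⟩
  add_mem' := fun {v w} hv hw => ⟨add_mem hv.1 hw.1, fun j hj => by
    rw [K.add v hv.1 w hw.1, Pi.add_apply, Pi.add_apply, hv.2 j hj, hw.2 j hj, add_zero]⟩
  neg_mem' := fun {v} hv => by
    have h1 : -v = v := by rw [neg_eq_iff_add_eq_zero, h2]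
    change -v ∈ WW V H R ∧ ∀ j, j ≠ i → co (-v) j 1 = 0
    rw [h1]
    exact hv

/-- an element of `R` which centralises `{w | co w j 1 = 0}` acts as a product of root elements -/
theorem exists_up (K : KNat V H R F k co) (h2 : ∀ v : V, v + v = 0) (hRH : R ≤ H) (hR2 : IsPGroup 2 R) {r : Y}
    (hrR : r ∈ R) (hr : ∀ x ∈ WW V H R, (∀ j, co x j 1 = 0) → r • x = x) :
    ∃ b : Fin k → F, Acts V H R co r fun i => up (b i) := by
  classical
  have hrH := hRH hrR
  have hWr : ∀ w ∈ WW V H R, r • w ∈ WW V H R := fun w hw => smul_mem_WW hrH hw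
  -- `r` fixes the blocks
  obtain ⟨σ, hσ⟩ := K.perm r hrH
  have hσi : ∀ i, σ i = i := by
    intro i
    by_contra hi
    obtain ⟨v, hv, hvc⟩ := K.surj (Pi.single i ![1, 0])
    have h1 : r • v = v := hr v hv fun j => by
      rw [hvc]
      by_cases hj : j = i
      · subst hj
        rw [Pi.single_eq_same]
        rfl
      · rw [Pi.single_eq_of_ne hj]
        rfl
    have h3 : co v i = 0 := (hσ v hv i).1 (by rw [h1, hvc, Pi.single_eq_of_ne hi])
    rw [hvc, Pi.single_eq_same] at h3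
    have h4 := congrFun h3 0
    simp at h4
  have hblock : ∀ v ∈ WW V H R, ∀ i, co v i = 0 → co (r • v) i = 0 := by
    intro v hv i h1
    have h3 := (hσ v hv i).2 h1
    rwa [hσi] at h3
  have hdep : ∀ v ∈ WW V H R, ∀ w ∈ WW V H R, ∀ i, co v i = co w i → co (r • v) i = co (r • w) i := by
    intro v hv w hw i h1
    have h3 := hblock (v + w) (add_mem hv hw) i (by
      rw [K.add v hv w hw, Pi.add_apply, h1]
      exact congrFun (add_self K h2 (co w)) i)
    rw [smul_add, K.add _ (hWr v hv) _ (hWr w hw), Pi.add_apply] at h3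
    have h4 : co (r • w) i + co (r • w) i = 0 := congrFun (add_self K h2 (co (r • w))) i
    exact add_right_cancel (h3.trans h4.symm)
  -- the map on the blocks
  have hv1 : ∃ v ∈ WW V H R, co v = fun _ => ![0, 1] := K.surj _
  obtain ⟨v1, hv1W, hv1c⟩ := hv1
  -- the vectors with second coordinate `0` are fixed
  have hx0 : ∀ w ∈ WW V H R, ∀ i, co w i 1 = 0 → co (r • w) i = co w i := by
    intro w hw i h1
    obtain ⟨w', hw', hc⟩ := K.surj (Pi.single i (co w i))
    have h3 : r • w' = w' := hr w' hw' fun j => by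
      rw [hc]
      by_cases hj : j = i
      · subst hj
        rw [Pi.single_eq_same]
        exact h1
      · rw [Pi.single_eq_of_ne hj]
        rfl
    rw [hdep w hw w' hw' i (by rw [hc, Pi.single_eq_same]), h3, hc, Pi.single_eq_same]
  -- the relation given by the normaliser
  have hrel : ∀ h ∈ H, ∀ A : Fin k → Matrix.SpecialLinearGroup (Fin 2) F, Acts V H R co h A →
      ∀ i, ∃ B : Matrix.SpecialLinearGroup (Fin 2) F, ∀ v ∈ WW V H R, co (r • h • v) i = ap B (co (r • v) i) := by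
    intro h hh A hA i
    obtain ⟨B, hB⟩ := K.norm r hrH h hh A hA.1
    refine ⟨B i, fun v hv => ?_⟩
    have h3 := hB _ (hWr v hv) i
    rwa [mul_smul, mul_smul, inv_smul_smul] at h3
  have hadd : ∀ v ∈ WW V H R, ∀ w ∈ WW V H R, ∀ i, co (r • (v + w)) i = co (r • v) i + co (r • w) i := by
    intro v hv w hw i
    rw [smul_add, K.add _ (hWr v hv) _ (hWr w hw), Pi.add_apply]
  -- the second coordinate
  have hdel : ∀ i, ∃ d : F, ∀ w ∈ WW V H R, co (r • w) i 1 = d * co w i 1 := by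
    intro i
    obtain ⟨u, hu, huA⟩ := K.unip fun _ => 1
    obtain ⟨B, hB⟩ := hrel u (hRH hu) _ huA i
    have hB0 : ap B ![1, 0] = ![1, 0] := by
      obtain ⟨w, hw, hwc⟩ := K.surj fun _ => ![1, 0]
      have hwi : co w i = ![1, 0] := by rw [hwc]
      have h3 := hB w hw
      rw [hx0 w hw i (by rw [hwi]; rfl), hwi] at h3
      rw [← h3, hdep _ (smul_mem_WW (hRH hu) hw) w hw i (by
        rw [acts_up huA hw, hwi]
        apply ext2
        · simp
        · rfl), hx0 w hw i (by rw [hwi]; rfl), hwi]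
    have e0 : ent B 0 0 = 1 := by
      have h3 := congrFun hB0 0
      rw [ap_zero'] at h3
      simpa using h3
    have e1 : ent B 1 0 = 0 := by
      have h3 := congrFun hB0 1
      rw [ap_one'] at h3
      simpa using h3
    -- `y = β c₁`
    have h3 : ∀ w ∈ WW V H R, co w i 1 = ent B 0 1 * co (r • w) i 1 := by
      intro w hw
      obtain ⟨z, hz, hzc⟩ := K.surj fun _ => ![co w i 1, 0]
      have hzi : co z i = ![co w i 1, 0] := by rw [hzc]
      have h4 := hB w hw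
      rw [hdep _ (smul_mem_WW (hRH hu) hw) (w + z) (add_mem hw hz) i (by
        rw [acts_up huA hw, K.add w hw z hz, Pi.add_apply, hzi]
        apply ext2
        · simp
        · simp), hadd w hw z hz i, hx0 z hz i (by rw [hzi]; rfl), hzi] at h4
      have h5 := congrFun h4 0
      rw [ap_zero', e0, one_mul, Pi.add_apply] at h5
      exact add_left_cancel h5
    have h4 : ent B 0 1 ≠ 0 := by
      intro h5
      obtain ⟨w, hw, hwc⟩ := K.surj fun _ => ![0, 1]
      have h6 := h3 w hw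
      rw [h5, zero_mul, hwc] at h6
      simp at h6
    refine ⟨(ent B 0 1)⁻¹, fun w hw => ?_⟩
    rw [h3 w hw, inv_mul_cancel_left₀ h4]
  -- the first coordinate
  have hbet : ∀ i, ∃ b : F, ∀ w ∈ WW V H R, co (r • w) i 0 = co w i 0 + b * co w i 1 := by
    intro i
    obtain ⟨u, hu, huA⟩ := K.lift fun _ => lo 1
    obtain ⟨B, hB⟩ := hrel u hu _ huA i
    refine ⟨ent B 0 0 - 1, fun w hw => ?_⟩
    -- `w = z + (u v - v)` in the block `i`, `v = (y, 0)`
    obtain ⟨v, hv, hvc⟩ := K.surj fun _ => ![co w i 1, 0]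
    obtain ⟨z, hz, hzc⟩ := K.surj fun _ => ![co w i 0 - co w i 1, 0]
    have hvi : co v i = ![co w i 1, 0] := by rw [hvc]
    have hzi : co z i = ![co w i 0 - co w i 1, 0] := by rw [hzc]
    have huv := smul_mem_WW hu hv
    have h4 := hB v hv
    rw [hx0 v hv i (by rw [hvi]; rfl), hvi] at h4
    rw [hdep w hw (z + u • v) (add_mem hz huv) i (by
      rw [K.add z hz _ huv, Pi.add_apply, hzi, huA.1 v hv, hvi, aplo]
      apply ext2
      · simp
      · simp), hadd z hz _ huv i, hx0 z hz i (by rw [hzi]; rfl), hzi, h4, Pi.add_apply, ap_zero']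
    simp
    ring
  choose d hd using hdel
  choose b hb using hbet
  have hpow : ∀ n : ℕ, ∀ w ∈ WW V H R, ∀ i, co (r ^ n • w) i 1 = d i ^ n * co w i 1 := by
    intro n
    induction n with
    | zero =>
      intro w _ i
      rw [pow_zero, one_smul, pow_zero, one_mul]
    | succ n ih =>
      intro w hw i
      rw [pow_succ, mul_smul, ih _ (hWr w hw) i, hd i w hw, pow_succ]
      ring
  have hd1 : ∀ i, d i = 1 := by
    intro i
    obtain ⟨n, hn⟩ := hR2 ⟨r, hrR⟩
    have hn' : r ^ 2 ^ n = 1 := congrArg Subtype.val hn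
    obtain ⟨w, hw, hwc⟩ := K.surj fun _ => ![0, 1]
    have h3 := hpow (2 ^ n) w hw i
    rw [hn', one_smul, hwc] at h3
    have h4 : d i ^ 2 ^ n = 1 := by simpa using h3.symm
    have key : ∀ m : ℕ, ∀ x : F, x ^ 2 ^ m = 1 → x = 1 := by
      intro m
      induction m with
      | zero => intro x hx; simpa using hx
      | succ m ih =>
        intro x hx
        apply ih
        rw [pow_succ, pow_mul] at hx
        have h5 : (x ^ 2 ^ m + 1) * (x ^ 2 ^ m + 1) = 0 := by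
          have h6 := add_self' K h2 i (x ^ 2 ^ m)
          have h7 := add_self' K h2 i (1 : F)
          linear_combination hx + h6 + h7
        have h6 := mul_self_eq_zero.1 h5
        have h7 := add_self' K h2 i (1 : F)
        exact add_right_cancel (h6.trans h7.symm)
    exact key n _ h4
  refine ⟨b, fun v hv i => ?_, fun x hx h0 => ?_⟩
  · rw [apup]
    apply ext2
    · rw [hb i v hv]; rfl
    · rw [hd i v hv, hd1, one_mul]; rfl
  · exact hr x hx fun j => by rw [h0]; rfl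

/-- the root groups in terms of their fixed points -/
theorem mem_Pp_iff (amb : Amb V U T M) (a : Amal U T M H R t) (we : WE V U H R) (K : KNat V H R F k co) {i : Fin k}
    {y : Y} : y ∈ Pp V H R co a.RH i ↔ y ∈ R ∧ ∀ w ∈ WW V H R, co w i 1 = 0 → y • w = w := by
  classical
  refine ⟨fun h => ⟨h.1, fun w hw hwi => fix_Pp amb a we K h hw hwi⟩, ?_⟩
  rintro ⟨hyR, hy⟩
  obtain ⟨b, hb⟩ := exists_up K amb.cls.two a.RH a.R2 hyR fun x hx h => hy x hx (h i)
  have h1 : b = Pi.single i (b i) := by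
    funext j
    by_cases hj : j = i
    · subst hj
      rw [Pi.single_eq_same]
    · rw [Pi.single_eq_of_ne hj]
      obtain ⟨w, hw, hwc⟩ := K.surj (Pi.single j ![0, 1])
      have h3 := hy w hw (by rw [hwc, Pi.single_eq_of_ne (Ne.symm hj)]; rfl)
      have h4 := acts_up hb hw j
      rw [h3, hwc, Pi.single_eq_same] at h4
      have h5 := congrFun h4 0
      simpa using h5.symm
  refine ⟨hyR, b i, ?_⟩
  rw [← h1]
  exact hb

/-- **`LFac` for the natural type** -/
theorem lfac (amb : Amb V U T M) (a : Amal U T M H R t) (we : WE V U H R) (K : KNat V H R F k co) :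
    LFac V U H R (Pp V H R co a.RH) (Ps V H R co K amb.cls.two) where
  le := fun p r hr => hr.1
  fixJ := fun p r hr x hx => by
    have h1 := (mem_WJ amb a we K).1 hx
    exact fix_Pp amb a we K hr h1.1 (h1.2 p)
  ofJ := fun r hr h => by
    classical
    obtain ⟨b, hb⟩ := exists_up K amb.cls.two a.RH a.R2 hr fun x hx h1 => h x ((mem_WJ amb a we K).2 ⟨hx, h1⟩)
    have h1 := mem_iSup K amb.cls.two a.RH Finset.univ r hr b (fun i hi => absurd (Finset.mem_univ i) hi) hb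
    have h2 : QQ H R ≤ ⨆ p, Pp V H R co a.RH p := by
      obtain ⟨B, hB, hBR, hBQ⟩ := Amal.exists_not_QQ a amb
      obtain ⟨I, ⟨i, -⟩, -⟩ := exists_I amb a we K hB hBR hBQ
      refine le_trans ?_ (le_iSup _ i)
      intro q hq
      refine ⟨QQ_le hq, 0, ?_⟩
      have e : (fun j => up ((Pi.single i (0 : F) : Fin k → F) j)) = 1 := by
        funext j
        rw [Pi.single_zero, Pi.zero_apply, up_zero, Pi.one_apply]
      rw [e]
      exact Acts.of_triv fun w hw => Amal.QQ_fix a amb hq hw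
    have h3 : QQ H R ⊔ ⨆ p ∈ (Finset.univ : Finset (Fin k)), Pp V H R co a.RH p ≤ ⨆ p, Pp V H R co a.RH p :=
      sup_le h2 (iSup₂_le fun p _ => le_iSup _ p)
    exact h3 h1
  Ψle := fun p w hw => hw.1
  sup := by
    classical
    have key : ∀ s : Finset (Fin k), ∀ w ∈ WW V H R, (∀ j, j ∉ s → co w j 1 = 0) →
        w ∈ WJ V U H R ⊔ ⨆ p, Ps V H R co K amb.cls.two p := by
      intro s
      induction s using Finset.induction_on with
      | empty =>
        intro w hw h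
        exact AddSubgroup.mem_sup_left ((mem_WJ amb a we K).2 ⟨hw, fun i => h i (Finset.notMem_empty i)⟩)
      | insert i s his ih =>
        intro w hw h
        obtain ⟨z, hz, hzc⟩ := K.surj (Pi.single i (co w i))
        have h1 := ih (w + z) (add_mem hw hz) (fun j hj => by
          rw [K.add _ hw _ hz, hzc, Pi.add_apply]
          by_cases hji : j = i
          · subst hji
            rw [Pi.single_eq_same, Pi.add_apply]
            exact add_self' K amb.cls.two j _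
          · rw [Pi.single_eq_of_ne hji, add_zero]
            exact h j (by rw [Finset.mem_insert, not_or]; exact ⟨hji, hj⟩))
        have h2 : z ∈ WJ V U H R ⊔ ⨆ p, Ps V H R co K amb.cls.two p := by
          refine AddSubgroup.mem_sup_right (AddSubgroup.mem_iSup_of_mem i ⟨hz, fun j hj => ?_⟩)
          rw [hzc, Pi.single_eq_of_ne hj]
          rfl
        have h3 := add_mem h1 h2
        rwa [add_assoc, amb.cls.two, add_zero] at h3
    exact fun w hw => key Finset.univ w hw fun j hj => absurd (Finset.mem_univ j) hj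
  orth := fun p p' hpp r hr x hx => fix_Pp amb a we K hr hx.1 (hx.2 p hpp)
  quad := fun p r hr x hx => by
    obtain ⟨hrR, b, hb⟩ := hr
    rw [mem_WJ amb a we K]
    have h1 := smul_mem_WW (a.RH hrR) hx.1
    refine ⟨add_mem h1 hx.1, fun i => ?_⟩
    rw [K.add _ h1 _ hx.1, Pi.add_apply, acts_up hb hx.1 i]
    exact add_self' K amb.cls.two i _
  trans := fun p p' => by
    obtain ⟨r, hr, hrp⟩ := K.trans p p'
    obtain ⟨σ, hσ⟩ := K.line r hr
    obtain ⟨τ, hτ⟩ := K.perm r (a.RH hr)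
    have hσp : σ p = p' := by
      obtain ⟨v, hv, hvc⟩ := K.surj (Pi.single p ![0, 1])
      have h1 : co (r • v) p' ≠ 0 := fun h2 => by
        have h3 := (hrp v hv).1 h2
        rw [hvc, Pi.single_eq_same] at h3
        have h4 := congrFun h3 1
        simp at h4
      have h2 : co (r • v) (σ p) ≠ 0 := fun h2 => by
        have h3 := (hσ v hv p).1 (by rw [h2]; rfl)
        rw [hvc, Pi.single_eq_same] at h3
        simp at h3
      have h3 : ∀ j, co (r • v) j ≠ 0 → j = τ p := by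
        intro j hj
        by_contra h4
        apply hj
        have h5 := (hτ v hv (τ.symm j)).2 (by
          rw [hvc, Pi.single_eq_of_ne]
          intro h6
          apply h4
          rw [← h6, Equiv.apply_symm_apply])
        rwa [Equiv.apply_symm_apply] at h5
      rw [h3 _ h1, h3 _ h2]
    have hinv := H.inv_mem (a.RH hr)
    refine ⟨r, hr, ?_, ?_⟩
    · ext y
      rw [mem_conj, mem_Pp_iff amb a we K, mem_Pp_iff amb a we K]
      constructor
      · rintro ⟨h1, h2⟩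
        refine ⟨R.mul_mem (R.mul_mem (R.inv_mem hr) h1) hr, fun w hw hwp => ?_⟩
        have h3 := h2 (r • w) (smul_mem_WW (a.RH hr) hw) (by rw [← hσp, hσ w hw p]; exact hwp)
        rw [mul_smul, mul_smul, h3, inv_smul_smul]
      · rintro ⟨h1, h2⟩
        have e : r * (r⁻¹ * y * r) * r⁻¹ = y := by group
        refine ⟨?_, fun w hw hwp => ?_⟩
        · have h3 := R.mul_mem (R.mul_mem hr h1) (R.inv_mem hr)
          rwa [e] at h3
        · have h4 := smul_mem_WW hinv hw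
          have h3 := h2 (r⁻¹ • w) h4 (by
            rw [← hσ _ h4 p, hσp, smul_inv_smul]
            exact hwp)
          rw [mul_smul, mul_smul, smul_inv_smul, smul_left_cancel_iff] at h3
          exact h3
    · ext w
      rw [mem_smul_as]
      constructor
      · rintro ⟨h1, h2⟩
        refine ⟨smul_mem_WW hinv h1, fun j hj => ?_⟩
        rw [← hσ _ (smul_mem_WW hinv h1) j, smul_inv_smul]
        apply h2
        intro h3
        apply hj
        rw [← hσp] at h3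
        exact σ.injective h3
      · rintro ⟨h1, h2⟩
        have h3 := smul_mem_WW (a.RH hr) h1
        rw [smul_inv_smul] at h3
        refine ⟨h3, fun j hj => ?_⟩
        have h4 := (hσ _ h1 (σ.symm j)).2 (h2 _ (by
          intro h5
          apply hj
          rw [← h5, Equiv.apply_symm_apply] at hσp
          exact hσp))
        rwa [smul_inv_smul, Equiv.apply_symm_apply] at h4

/-- **`D₀`** -/
theorem mem_D0 (amb : Amb V U T M) (a : Amal U T M H R t) (we : WE V U H R) (K : KNat V H R F k co) {w : V} :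
    w ∈ D0 V U H R ↔ w ∈ WW V H R ∧ co w = 0 := by
  constructor
  · rintro ⟨h1, h2⟩
    refine ⟨h1, ?_⟩
    have h3 : ∀ g ∈ H, ∀ i, co (g • w) i 1 = 0 := by
      intro g hg
      apply ((mem_WJ amb a we K).1 _).2
      refine ⟨smul_mem_WW hg h1, fun B hB hBR b hb => ?_⟩
      have h4 := h2 _ (amb.cls.conj B hB g⁻¹) (by
        intro y hy
        rw [mem_conj, inv_inv] at hy
        have h5 := H.mul_mem (H.mul_mem (H.inv_mem hg) (a.RH (hBR hy))) hg
        have e : g⁻¹ * (g * y * g⁻¹) * g = y := by group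
        rwa [e] at h5) _ (conj_mem_conj (g := g⁻¹) hb)
      rw [inv_inv, mul_smul, mul_smul, inv_smul_eq_iff] at h4
      exact h4
    obtain ⟨g, hg, hgA⟩ := K.lift fun _ => lo 1
    funext i
    have h4 := h3 1 H.one_mem i
    rw [one_smul] at h4
    have h5 := h3 g hg i
    rw [hgA.1 w h1 i, aplo] at h5
    simp only [Matrix.cons_val_one, one_mul, h4, add_zero] at h5
    exact ext2 h5 h4
  · rintro ⟨h1, h2⟩
    refine ⟨h1, fun B hB hBH b hb => ?_⟩
    obtain ⟨x, hx, hxU, hxR⟩ := Amal.exists_conj a amb hB hBH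
    have h3 := smul_mem_WW hx h1
    have h4 : co (x • w) = 0 := by
      obtain ⟨σ, hσ⟩ := K.perm x hx
      funext i
      have h5 := (hσ w h1 (σ.symm i)).2 (by rw [h2]; rfl)
      rwa [Equiv.apply_symm_apply] at h5
    have h5 : x • w ∈ WJ V U H R := (mem_WJ amb a we K).2 ⟨h3, fun i => by rw [h4]; rfl⟩
    have h6 := h5.2 _ hxU hxR _ (conj_mem_conj (g := x) hb)
    rw [mul_smul, mul_smul, inv_smul_smul, smul_left_cancel_iff] at h6
    exact h6

/-- the field `faith` of `LIn` -/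
theorem faith (amb : Amb V U T M) (a : Amal U T M H R t) (we : WE V U H R) (K : KNat V H R F k co)
    {A : Subgroup Y} (hA : A ∈ U) (hAH : A ≤ H) :
    ∀ u ∈ A, (∀ w ∈ WW V H R, u • w + w ∈ D0 V U H R) → u ∈ QQ H R := by
  intro u hu h
  have h1 : ∀ w ∈ WW V H R, u • w = w := by
    apply K.trivH u (hAH hu)
    intro w hw
    have h2 := ((mem_D0 amb a we K).1 (h w hw)).2
    rw [K.add _ (smul_mem_WW (hAH hu) hw) _ hw] at h2
    have h3 := add_self K amb.cls.two (co w)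
    exact add_right_cancel (h2.trans h3.symm)
  have h2 : u ∈ A ⊓ CW V H R := ⟨hu, h1⟩
  rw [Amal.inf_CW' a amb hA hAH] at h2
  exact h2.2

/-- the group `[Ψ_i, P_i]` in coordinates -/
theorem brk_le (amb : Amb V U T M) (a : Amal U T M H R t) (K : KNat V H R F k co) {i : Fin k} {x : V}
    (hx : x ∈ brk (Ps V H R co K amb.cls.two i) (Pp V H R co a.RH i)) :
    x ∈ WW V H R ∧ ∃ s : F, co x = Pi.single i ![s, 0] := by
  unfold brk at hx
  have hz : (![0, 0] : Fin 2 → F) = 0 := ext2 rfl rfl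
  induction hx using AddSubgroup.closure_induction with
  | mem x hx =>
    obtain ⟨w, hw, p, ⟨hpR, b, hb⟩, rfl⟩ := hx
    have h1 := smul_mem_WW (a.RH hpR) hw.1
    refine ⟨add_mem h1 hw.1, b * co w i 1, ?_⟩
    rw [K.add _ h1 _ hw.1]
    funext j
    rw [Pi.add_apply, acts_up hb hw.1 j]
    have h3 := fun y : F => add_self' K amb.cls.two j y
    by_cases hj : j = i
    · subst hj
      rw [Pi.single_eq_same, Pi.single_eq_same]
      apply ext2
      · simp only [Pi.add_apply, Matrix.cons_val_zero]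
        linear_combination h3 (co w j 0)
      · change co w j 1 + co w j 1 = 0
        exact h3 _
    · rw [Pi.single_eq_of_ne hj, Pi.single_eq_of_ne hj]
      apply ext2
      · simp only [Pi.add_apply, Matrix.cons_val_zero, Pi.zero_apply, zero_mul, add_zero, h3]
      · change co w j 1 + co w j 1 = 0
        exact h3 _
  | zero => exact ⟨zero_mem _, 0, by rw [co_zero K, hz, Pi.single_zero]⟩
  | add x y _ _ h1 h2 =>
    obtain ⟨h3, s, hs⟩ := h1
    obtain ⟨h4, s', hs'⟩ := h2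
    refine ⟨add_mem h3 h4, s + s', ?_⟩
    rw [K.add _ h3 _ h4, hs, hs', ← Pi.single_add]
    congr 1
    apply ext2
    · rfl
    · simp
  | neg x _ h1 =>
    have h3 : -x = x := by rw [neg_eq_iff_add_eq_zero, amb.cls.two]
    rw [h3]
    exact h1

/-- the field `mov` of `LIn` -/
theorem mov (amb : Amb V U T M) (a : Amal U T M H R t) (we : WE V U H R) (K : KNat V H R F k co)
    {A : Subgroup Y} {i : Fin k}
    (hi : ∀ w ∈ WW V H R, ∀ s : F, s ≠ 0 → co w = Pi.single i ![s, 0] → ∃ u ∈ A, co (u • w) i 1 ≠ 0) :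
    (∀ x ∈ brk (Ps V H R co K amb.cls.two i) (Pp V H R co a.RH i), x ∈ fx V A → x ∈ D0 V U H R) ∧
      (∃ u ∈ A, ∃ x ∈ brk (Ps V H R co K amb.cls.two i) (Pp V H R co a.RH i),
        u • x ∉ brk (Ps V H R co K amb.cls.two i) (Pp V H R co a.RH i)) ∧
      ∀ r ∈ Pp V H R co a.RH i, (∃ x ∈ Ps V H R co K amb.cls.two i, r • x ≠ x) →
        ∀ z ∈ brk (Ps V H R co K amb.cls.two i) (Pp V H R co a.RH i),
          ∃ x ∈ Ps V H R co K amb.cls.two i, r • x + x + z ∈ D0 V U H R := by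
  classical
  refine ⟨fun x hx hxA => ?_, ?_, ?_⟩
  · obtain ⟨hxW, s, hs⟩ := brk_le amb a K hx
    rw [mem_D0 amb a we K]
    refine ⟨hxW, ?_⟩
    by_cases h0 : s = 0
    · have hz : (![0, 0] : Fin 2 → F) = 0 := ext2 rfl rfl
      rw [hs, h0, hz, Pi.single_zero]
    · obtain ⟨u, hu, h1⟩ := hi x hxW s h0 hs
      rw [hxA u hu, hs, Pi.single_eq_same] at h1
      exact absurd rfl h1
  · -- `x = r w + w`, `w` with coordinates `(0, 1)`, `r = up 1`
    obtain ⟨r, hr, hrA⟩ := K.unip (Pi.single i 1)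
    obtain ⟨w, hw, hwc⟩ := K.surj (Pi.single i ![0, 1])
    have hx : r • w + w ∈ brk (Ps V H R co K amb.cls.two i) (Pp V H R co a.RH i) := by
      refine AddSubgroup.subset_closure ⟨w, ⟨hw, fun j hj => ?_⟩, r, ⟨hr, 1, hrA⟩, rfl⟩
      rw [hwc, Pi.single_eq_of_ne hj]
      rfl
    have h1 := smul_mem_WW (a.RH hr) hw
    obtain ⟨u, hu, h3⟩ := hi (r • w + w) (add_mem h1 hw) 1 one_ne_zero (by
      rw [K.add _ h1 _ hw]
      funext j
      rw [Pi.add_apply, acts_up hrA hw j, hwc]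
      have h3 := fun y : F => add_self' K amb.cls.two j y
      by_cases hj : j = i
      · subst hj
        rw [Pi.single_eq_same, Pi.single_eq_same, Pi.single_eq_same]
        apply ext2
        · simp
        · change (1 : F) + 1 = 0
          exact h3 _
      · rw [Pi.single_eq_of_ne hj, Pi.single_eq_of_ne hj, Pi.single_eq_of_ne hj]
        apply ext2
        · simp
        · simp)
    refine ⟨u, hu, _, hx, fun h4 => h3 ?_⟩
    obtain ⟨-, s, hs⟩ := brk_le amb a K h4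
    rw [hs, Pi.single_eq_same]
    rfl
  · rintro r ⟨hrR, b, hb⟩ ⟨x, hx, hrx⟩ z hz
    obtain ⟨hzW, s, hs⟩ := brk_le amb a K hz
    have hb0 : b ≠ 0 := by
      rintro rfl
      apply hrx
      exact Amal.QQ_fix a amb (mem_QQ_of_zero K amb.cls.two a.RH hrR hb fun j => by
        rw [Pi.single_zero, Pi.zero_apply]) hx.1
    obtain ⟨w, hw, hwc⟩ := K.surj (Pi.single i ![0, s / b])
    have h1 := smul_mem_WW (a.RH hrR) hw
    refine ⟨w, ⟨hw, fun j hj => by rw [hwc, Pi.single_eq_of_ne hj]; rfl⟩, ?_⟩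
    rw [mem_D0 amb a we K]
    refine ⟨add_mem (add_mem h1 hw) hzW, ?_⟩
    rw [K.add _ (add_mem h1 hw) _ hzW, K.add _ h1 _ hw, hs]
    funext j
    rw [Pi.add_apply, Pi.add_apply, acts_up hb hw j, hwc]
    have h3 := fun y : F => add_self' K amb.cls.two j y
    by_cases hj : j = i
    · subst hj
      rw [Pi.single_eq_same, Pi.single_eq_same, Pi.single_eq_same]
      apply ext2
      · simp [mul_div_cancel₀ _ hb0, h3]
      · simp [h3]
    · rw [Pi.single_eq_of_ne hj, Pi.single_eq_of_ne hj, Pi.single_eq_of_ne hj]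
      apply ext2
      · simp
      · simp

/-- `mov` for an opposite member -/
theorem mov_opp (amb : Amb V U T M) (a : Amal U T M H R t) (we : WE V U H R) (K : KNat V H R F k co)
    {A : Subgroup Y} {I : Set (Fin k)} (hO : Opp V H R co A I) {i : Fin k} (hi : i ∈ I) :
    (∀ x ∈ brk (Ps V H R co K amb.cls.two i) (Pp V H R co a.RH i), x ∈ fx V A → x ∈ D0 V U H R) ∧
      (∃ u ∈ A, ∃ x ∈ brk (Ps V H R co K amb.cls.two i) (Pp V H R co a.RH i),
        u • x ∉ brk (Ps V H R co K amb.cls.two i) (Pp V H R co a.RH i)) ∧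
      ∀ r ∈ Pp V H R co a.RH i, (∃ x ∈ Ps V H R co K amb.cls.two i, r • x ≠ x) →
        ∀ z ∈ brk (Ps V H R co K amb.cls.two i) (Pp V H R co a.RH i),
          ∃ x ∈ Ps V H R co K amb.cls.two i, r • x + x + z ∈ D0 V U H R := by
  classical
  apply mov amb a we K
  intro w hw s hs hwc
  obtain ⟨u, hu, huA⟩ := hO.full (Pi.single i 1) fun j hj => by
    rw [Pi.single_eq_of_ne]
    rintro rfl
    exact hj hi
  refine ⟨u, hu, ?_⟩
  rw [huA.1 w hw i, aplo, hwc, Pi.single_eq_same, Pi.single_eq_same]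
  simpa using hs

/-- the field `exact` of `LIn`, from an offender `B₁ ≤ R` (used for `H' = H^t`, `B₁ = A ⊓ Q`) -/
theorem exact_of (amb : Amb V U T M) (a : Amal U T M H R t) (K : KNat V H R F k co)
    {B₁ : Subgroup Y} (hB : B₁ ≤ R) (hel : ElAb B₁) (hQ : ¬ B₁ ≤ QQ H R)
    (hoff : Nat.card ↥(B₁ ⊓ QQ H R) * Nat.card ↥(WW V H R) ≤ Nat.card B₁ * Nat.card ↥(fx V B₁ ⊓ WW V H R)) :
    ∃ Δ : Set (Fin k), Δ.Nonempty ∧ (∀ b ∈ B₁, b ∈ ⨆ p ∈ Δ, Pp V H R co a.RH p) ∧
      ∀ p ∈ Δ, ∀ r ∈ Pp V H R co a.RH p, ∃ b ∈ B₁, b⁻¹ * r ∈ QQ H R := by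
  classical
  obtain ⟨I, hI1, hI2⟩ := K.off B₁ hB hel hQ hoff
  have hne : ∃ i, i ∈ I := by
    by_contra hI
    push Not at hI
    apply hQ
    intro x hx
    obtain ⟨b, hb, hxb⟩ := hI1 x hx
    exact mem_QQ_of_zero K amb.cls.two a.RH (hB hx) hxb fun i => hb i (hI i)
  obtain ⟨i₀, hi₀⟩ := hne
  refine ⟨I, ⟨i₀, hi₀⟩, fun x hx => ?_, fun p hp r hr => ?_⟩
  · obtain ⟨b, hb, hxb⟩ := hI1 x hx
    have h1 := mem_iSup K amb.cls.two a.RH (Finset.univ.filter fun i => i ∈ I) x (hB hx) b (fun i hi => hb i (by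
      intro h2
      apply hi
      rw [Finset.mem_filter]
      exact ⟨Finset.mem_univ i, h2⟩)) hxb
    have h2 : QQ H R ≤ ⨆ p ∈ I, Pp V H R co a.RH p := by
      refine le_trans ?_ (le_iSup₂_of_le i₀ hi₀ le_rfl)
      intro q hq
      refine ⟨QQ_le hq, 0, ?_⟩
      have e : (fun j => up ((Pi.single i₀ (0 : F) : Fin k → F) j)) = 1 := by
        funext j
        rw [Pi.single_zero, Pi.zero_apply, up_zero, Pi.one_apply]
      rw [e]
      exact Acts.of_triv fun w hw => Amal.QQ_fix a amb hq hw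
    have h3 : (⨆ p ∈ Finset.univ.filter fun i => i ∈ I, Pp V H R co a.RH p) ≤ ⨆ p ∈ I, Pp V H R co a.RH p :=
      iSup₂_le fun p hp => le_iSup₂_of_le p (Finset.mem_filter.1 hp).2 le_rfl
    exact sup_le h2 h3 h1
  · obtain ⟨hrR, b, hb⟩ := hr
    obtain ⟨x, hx, hxb⟩ := hI2 (Pi.single p b) fun i hi => by
      rw [Pi.single_eq_of_ne]
      rintro rfl
      exact hi hp
    refine ⟨x, hx, ?_⟩
    have h1 := acts_upmul (a.RH hrR) (acts_upinv (a.RH (hB hx)) hxb) hb
    exact mem_QQ_of_zero K amb.cls.two a.RH (R.mul_mem (R.inv_mem (hB hx)) hrR) h1 fun i => by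
      rw [Pi.add_apply, Pi.neg_apply, neg_add_cancel]

end amb

end Cfsg.Agent.Omega.NO1.TH.K.LF

end

section


/-!
# N1, natural type, `k` factors: an opposite member generates `H` with `R`

`Opp.not_le` : a subgroup of `H` which acts on `W` as the product of the opposite root groups `i ∈ I ≠ ∅` is not in `M`.
`exists_opp` : opposite members exist, with the support of a given member of `R`.
-/

set_option autoImplicit false
set_option linter.unusedSectionVars false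
set_option linter.dupNamespace false

namespace Cfsg.Agent.Omega.NO1.TH.K

open Subgroup Cfsg.Agent.Omega.NO1.AB Cfsg.Agent.Omega.FFBr Cfsg.Agent.Lib.SL2Mat
open Cfsg.Agent.Omega.NatPair (ap)
open scoped Pointwise

universe u

variable {Y : Type u} [Group Y] {V : Type u} [AddCommGroup V] [DistribMulAction Y V]

section coords

variable {H R : Subgroup Y} {F : Type} [Field F] {k : ℕ} {co : V → Fin k → Fin 2 → F}

/-- the elements of `SL₂(F)^k` which are induced by elements of `L` -/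
def ind (_ : KNat V H R F k co) {L : Subgroup Y} (hL : L ≤ H) :
    Subgroup (Fin k → Matrix.SpecialLinearGroup (Fin 2) F) where
  carrier := {A | ∃ g ∈ L, Acts V H R co g A}
  one_mem' := ⟨1, L.one_mem, Acts.one⟩
  mul_mem' := by
    rintro A B ⟨g, hg, h1⟩ ⟨h, hh, h2⟩
    exact ⟨g * h, L.mul_mem hg hh, h1.mul (hL hh) h2⟩
  inv_mem' := by
    rintro A ⟨g, hg, h1⟩
    exact ⟨g⁻¹, L.inv_mem hg, h1.inv (hL hg)⟩

theorem Acts.inj (K : KNat V H R F k co) {g : Y} {A B : Fin k → Matrix.SpecialLinearGroup (Fin 2) F}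
    (h1 : Acts V H R co g A) (h2 : Acts V H R co g B) : A = B := by
  funext i
  apply NatPair.ap_inj
  intro x
  obtain ⟨v, hv, hvi, _⟩ := K.exists_at i x
  rw [← hvi, ← h1.1 v hv i, ← h2.1 v hv i]

theorem mulSingle_up [DecidableEq (Fin k)] (i : Fin k) (b : F) :
    (fun l => up ((Pi.single i b : Fin k → F) l)) = Pi.mulSingle i (up b) := by
  funext l
  by_cases h : l = i
  · subst h
    rw [Pi.single_eq_same, Pi.mulSingle_eq_same]
  · rw [Pi.single_eq_of_ne h, Pi.mulSingle_eq_of_ne h, up_zero]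

theorem mulSingle_lo [DecidableEq (Fin k)] (i : Fin k) (b : F) :
    (fun l => lo ((Pi.single i b : Fin k → F) l)) = Pi.mulSingle i (lo b) := by
  funext l
  by_cases h : l = i
  · subst h
    rw [Pi.single_eq_same, Pi.mulSingle_eq_same]
  · rw [Pi.single_eq_of_ne h, Pi.mulSingle_eq_of_ne h, lo_zero]

theorem inv_mul_one (A : Fin k → Matrix.SpecialLinearGroup (Fin 2) F) : (fun l => (A l)⁻¹) * A = fun _ => 1 := by
  funext l
  exact inv_mul_cancel _

/-- `SL₂(F)` in one block is generated by `R` and an opposite group -/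
theorem ind_single (K : KNat V H R F k co) {L : Subgroup Y} (hL : L ≤ H) (hR : R ≤ L) {B : Subgroup Y} (hB : B ≤ L)
    {I : Set (Fin k)} (hO : Opp V H R co B I) {i : Fin k} (hi : i ∈ I)
    (A : Matrix.SpecialLinearGroup (Fin 2) F) : Pi.mulSingle i A ∈ ind K hL := by
  obtain ⟨p, q, r, s, rfl⟩ := exists_up_lo A
  have hup : ∀ b : F, Pi.mulSingle i (up b) ∈ ind K hL := by
    intro b
    obtain ⟨g, hg, h1⟩ := K.unip (Pi.single i b)
    refine ⟨g, hR hg, ?_⟩
    rw [← mulSingle_up]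
    exact h1
  have hlo : ∀ b : F, Pi.mulSingle i (lo b) ∈ ind K hL := by
    intro b
    obtain ⟨g, hg, h1⟩ := hO.full (Pi.single i b) fun l hl => by
      rw [Pi.single_eq_of_ne]
      rintro rfl
      exact hl hi
    refine ⟨g, hB hg, ?_⟩
    rw [← mulSingle_lo]
    exact h1
  rw [Pi.mulSingle_mul, Pi.mulSingle_mul, Pi.mulSingle_mul]
  exact mul_mem (mul_mem (mul_mem (hup p) (hlo q)) (hup r)) (hlo s)

/-- transport to another block -/
theorem ind_trans [Finite F] (K : KNat V H R F k co) (two : ∀ v : V, v + v = 0) {L : Subgroup Y} (hL : L ≤ H)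
    (hR : R ≤ L) {i : Fin k} (hi : ∀ A, Pi.mulSingle i A ∈ ind K hL) (j : Fin k)
    (A : Matrix.SpecialLinearGroup (Fin 2) F) : Pi.mulSingle j A ∈ ind K hL := by
  classical
  obtain ⟨r, hr, hrs⟩ := K.trans i j
  have hrH : r ∈ H := hL (hR hr)
  obtain ⟨σ, hσ⟩ := K.perm r hrH
  have hσi : σ i = j := by
    by_contra hne
    obtain ⟨v, hv, hvi, hv0⟩ := K.exists_at i ![1, 0]
    have h1 : co (r • v) j ≠ 0 := by
      rw [Ne, hrs v hv, hvi]
      intro h2
      have h3 : (1 : F) = 0 := congrFun h2 0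
      exact one_ne_zero h3
    apply h1
    have h2 := (hσ v hv (σ.symm j)).2 (hv0 _ fun h3 => hne (by rw [← h3, Equiv.apply_symm_apply]))
    rwa [Equiv.apply_symm_apply] at h2
  -- conjugation with `r`
  have key : ∀ A : Matrix.SpecialLinearGroup (Fin 2) F, ∃ (g : Y) (B : Matrix.SpecialLinearGroup (Fin 2) F), g ∈ L ∧
      Acts V H R co g (Pi.mulSingle i A) ∧ Acts V H R co (r * g * r⁻¹) (Pi.mulSingle j B) := by
    intro A
    obtain ⟨g, hg, h1⟩ := hi A
    have hgH := hL hg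
    obtain ⟨B, hB⟩ := K.norm r hrH g hgH _ h1.1
    have hcH : r * g * r⁻¹ ∈ H := H.mul_mem (H.mul_mem hrH hgH) (H.inv_mem hrH)
    have h2 : B = Pi.mulSingle j (B j) := by
      funext l
      by_cases h : l = j
      · subst h
        rw [Pi.mulSingle_eq_same]
      · rw [Pi.mulSingle_eq_of_ne h]
        apply NatPair.ap_inj
        intro x
        obtain ⟨v, hv, hvl, _⟩ := K.exists_at l x
        have h3 := hB v hv l
        rw [hvl] at h3
        rw [← h3, NatPair.ap_one]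
        -- the block `σ⁻¹ l ≠ i` of `g` is trivial
        have h4 : σ.symm l ≠ i := by
          intro h5
          apply h
          rw [← hσi, ← h5, Equiv.apply_symm_apply]
        have hvr : r⁻¹ • v ∈ WW V H R := smul_mem_WW (H.inv_mem hrH) hv
        have h5 : co (g • r⁻¹ • v + r⁻¹ • v) (σ.symm l) = 0 := by
          rw [K.add _ (smul_mem_WW hgH hvr) _ hvr, Pi.add_apply, h1.1 _ hvr, Pi.mulSingle_eq_of_ne h4,
            NatPair.ap_one]
          funext m
          exact K.ff two i _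
        have h6 := (hσ _ (add_mem (smul_mem_WW hgH hvr) hvr) (σ.symm l)).2 h5
        rw [Equiv.apply_symm_apply, smul_add, smul_inv_smul, ← mul_smul, ← mul_smul,
          K.add _ (smul_mem_WW hcH hv) _ hv, Pi.add_apply] at h6
        have h7 : co ((r * g * r⁻¹) • v) l + co v l + co v l = co v l := by rw [h6, zero_add]
        rw [add_assoc] at h7
        have h8 : co v l + co v l = 0 := by
          funext m
          exact K.ff two i _
        rw [h8, add_zero, hvl] at h7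
        exact h7
    refine ⟨g, B j, hg, h1, ?_, fun d hd h0 => ?_⟩
    · rw [← h2]; exact hB
    · have h3 : r⁻¹ • d ∈ WW V H R := smul_mem_WW (H.inv_mem hrH) hd
      have h4 : co (r⁻¹ • d) = 0 := by
        funext l
        exact (hσ _ h3 l).1 (by rw [smul_inv_smul, h0]; rfl)
      rw [mul_smul, mul_smul, h1.2 _ h3 h4, smul_inv_smul]
  choose g B hg h1 h2 using key
  have hinj : Function.Injective B := by
    intro A A' hAA
    -- `r g r⁻¹` and `r g' r⁻¹` act alike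
    have h3 : ∀ w ∈ WW V H R, (g A) • w = (g A') • w := by
      intro w hw
      have h4 := h2 A
      have h5 := h2 A'
      rw [← hAA] at h5
      have hrw : r • w ∈ WW V H R := smul_mem_WW hrH hw
      have hcH : ∀ A, r * g A * r⁻¹ ∈ H := fun A => H.mul_mem (H.mul_mem hrH (hL (hg A))) (H.inv_mem hrH)
      have h6 := K.fix_of_one (x := (r * g A' * r⁻¹)⁻¹ * (r * g A * r⁻¹)) (by
        have h7 := (h5.inv (hcH A')).mul (hcH A) h4
        rwa [inv_mul_one] at h7) (H.mul_mem (H.inv_mem (hcH A')) (hcH A)) hrw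
      rw [mul_smul, inv_smul_eq_iff] at h6
      have e : ∀ x : Y, (r * x * r⁻¹) • r • w = r • x • w := by
        intro x
        rw [← mul_smul, ← mul_smul]
        congr 1
        group
      rw [e, e, smul_left_cancel_iff] at h6
      exact h6
    have h4 : Acts V H R co (g A) (Pi.mulSingle i A') := by
      refine ⟨fun v hv l => ?_, fun d hd h0 => ?_⟩
      · rw [h3 v hv]
        exact (h1 A').1 v hv l
      · rw [h3 d hd]
        exact (h1 A').2 d hd h0
    have h5 := Acts.inj K (h1 A) h4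
    have h6 := congrFun h5 i
    rwa [Pi.mulSingle_eq_same, Pi.mulSingle_eq_same] at h6
  obtain ⟨A', hA'⟩ := Finite.surjective_of_injective hinj A
  refine ⟨r * g A' * r⁻¹, L.mul_mem (L.mul_mem (hR hr) (hg A')) (L.inv_mem (hR hr)), ?_⟩
  rw [← hA']
  exact h2 A'

theorem ind_top [Finite F] (K : KNat V H R F k co) (two : ∀ v : V, v + v = 0) {L : Subgroup Y} (hL : L ≤ H)
    (hR : R ≤ L) {B : Subgroup Y} (hB : B ≤ L) {I : Set (Fin k)} (hI : I.Nonempty) (hO : Opp V H R co B I)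
    (A : Fin k → Matrix.SpecialLinearGroup (Fin 2) F) : ∃ g ∈ L, Acts V H R co g A := by
  classical
  obtain ⟨i, hi⟩ := hI
  have h1 : A ∈ ind K hL := Subgroup.pi_mem_of_mulSingle_mem A fun j =>
    ind_trans K two hL hR (fun A => ind_single K hL hR hB hO hi A) j (A j)
  exact h1

end coords

section members

variable [Finite Y] [Finite V] {U : Set (Subgroup Y)} {T : Sylow 2 Y} {M H R : Subgroup Y} {t : Y} {F : Type} [Field F]
  {k : ℕ} {co : V → Fin k → Fin 2 → F}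

/-- **an opposite group is not in `M`** -/
theorem Opp.not_le [Finite F] (K : KNat V H R F k co) (amb : Amb V U T M) (a : Amal U T M H R t) {B : Subgroup Y}
    (hBH : B ≤ H) {I : Set (Fin k)} (hI : I.Nonempty) (hO : Opp V H R co B I) : ¬ B ≤ M := by
  intro hBM
  have hRM : R ≤ M := a.RT.trans amb.TM
  have h1 := K.gen (M ⊓ H) (le_inf hRM a.RH) inf_le_right fun h hh A hA => by
    obtain ⟨g, hg, h2⟩ := ind_top K amb.two (L := M ⊓ H) inf_le_right (le_inf hRM a.RH) (le_inf hBM hBH) hI hO A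
    have h3 : Acts V H R co (g⁻¹ * h) fun _ => 1 := by
      have h4 := (h2.inv hg.2).mul hh hA
      rwa [inv_mul_one] at h4
    have h4 : ∀ w ∈ WW V H R, (g⁻¹ * h) • w = w := fun w hw =>
      K.fix_of_one h3 (H.mul_mem (H.inv_mem hg.2) hh) hw
    have h5 : zpowers (g⁻¹ * h) ≤ M := Amal.ker_le_M a amb (by
      intro x hx v hv
      have h6 : zpowers (g⁻¹ * h) ≤ MulAction.stabilizer Y v := by
        rw [zpowers_le, MulAction.mem_stabilizer_iff]
        exact h4 v (fx_le_WW hv)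
      exact h6 hx)
    have h6 := M.mul_mem hg.1 (h5 (mem_zpowers _))
    rw [mul_inv_cancel_left] at h6
    exact ⟨h6, hh⟩
  apply Amal.H_not_le a amb
  rw [← h1]
  exact inf_le_left

/-- `⟨R, U₁⟩ = H` -/
theorem Opp.gen [Finite F] (K : KNat V H R F k co) (amb : Amb V U T M) (a : Amal U T M H R t) {B : Subgroup Y}
    (hBH : B ≤ H) {I : Set (Fin k)} (hI : I.Nonempty) (hO : Opp V H R co B I) : R ⊔ B = H :=
  a.gen hBH (hO.not_le K amb a hBH hI)

/-- opposite members -/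
theorem exists_opp (K : KNat V H R F k co) {B : Subgroup Y} (hBH : B ≤ H) {I : Set (Fin k)}
    (hS : Supp V H R co B I) : ∃ h ∈ H, (Acts V H R co h fun _ => wm 1 one_ne_zero) ∧
      Opp V H R co (MulAut.conj h • B) I := by
  obtain ⟨h, hh, hA⟩ := K.lift fun _ => wm 1 one_ne_zero
  exact ⟨h, hh, hA, hS.opp hh hA hBH⟩

end members

end Cfsg.Agent.Omega.NO1.TH.K

end

end

-- merged: Cfsg.Agent.Mrg.Omega.NO1.TH.K.Root
section

section


/-!
# N1, natural type, `k` factors: `R / Q` (bb OMEGA 20646 (b))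

`acts_of_lin` : an element of `R` acting on `W / D₀` as an element of `SL₂(F)^k` is a root element;
`acts_of_comm` : so is an element of `R` commuting with all root elements (`C_{R/Q}(∏ R_i) = ∏ R_i`);
`exists_root` : a normal subgroup `N ≰ Q` of `R` contains root elements `≠ 1`;
`co_one_of_fix` : a vector of `W` fixed by such an `N` lies in `W_R`;
`TwoN.inf_le` : `W ∩ W' ⊆ W_R` (#20646 (b)).
-/

set_option autoImplicit false
set_option linter.unusedSectionVars false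
set_option linter.dupNamespace false

namespace Cfsg.Agent.Omega.NO1.TH.K

open Subgroup Cfsg.Agent.Omega.NO1.AB Cfsg.Agent.Omega.FFBr Cfsg.Agent.Lib.SL2Mat
open Cfsg.Agent.Omega.NatPair (ap)
open scoped Pointwise

universe u

variable {Y : Type u} [Group Y] {V : Type u} [AddCommGroup V] [DistribMulAction Y V]

section coords

variable {H R : Subgroup Y} {F : Type} [Field F] {k : ℕ} {co : V → Fin k → Fin 2 → F}

theorem KNat.add' (K : KNat V H R F k co) {v w : V} (hv : v ∈ WW V H R) (hw : w ∈ WW V H R) (i : Fin k) :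
    co (v + w) i = co v i + co w i := by
  rw [K.add v hv w hw]; rfl

theorem KNat.ff' (K : KNat V H R F k co) (two : ∀ v : V, v + v = 0) (i : Fin k) (x : Fin 2 → F) : x + x = 0 := by
  funext m
  exact K.ff two i _

theorem KNat.charP (K : KNat V H R F k co) (two : ∀ v : V, v + v = 0) (i : Fin k) : CharP F 2 :=
  CharTwo.of_one_ne_zero_of_two_eq_zero one_ne_zero (by
    have h := K.ff two i (1 : F)
    rwa [one_add_one_eq_two] at h)

/-- `r ∈ R` acting as the scalar `δ` on the second coordinates: `δ = 1` -/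
theorem KNat.scal_eq_one (K : KNat V H R F k co) (two : ∀ v : V, v + v = 0) (hRH : R ≤ H) (hR2 : IsPGroup 2 R) {r : Y}
    (hr : r ∈ R) {i : Fin k} {δ : F} (h : ∀ v ∈ WW V H R, co (r • v) i 1 = δ * co v i 1) : δ = 1 := by
  have : Fact (Nat.Prime 2) := ⟨Nat.prime_two⟩
  have := K.charP two i
  have h1 : ∀ n : ℕ, ∀ v ∈ WW V H R, co (r ^ n • v) i 1 = δ ^ n * co v i 1 := by
    intro n
    induction n with
    | zero => intro v _; rw [pow_zero, pow_zero, one_smul, one_mul]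
    | succ n ih =>
      intro v hv
      rw [pow_succ, mul_smul, ih _ (smul_mem_WW (hRH hr) hv), h v hv, pow_succ, mul_assoc]
  obtain ⟨m, hm⟩ := hR2 ⟨r, hr⟩
  have h2 : r ^ 2 ^ m = 1 := congrArg Subtype.val hm
  obtain ⟨v, hv, hvi, _⟩ := K.exists_at i ![0, 1]
  have h3 := h1 (2 ^ m) v hv
  rw [h2, one_smul, hvi] at h3
  have h4 : δ ^ 2 ^ m = 1 := by
    have h5 : (![0, 1] : Fin 2 → F) 1 = 1 := rfl
    rw [h5, mul_one] at h3
    exact h3.symm
  have h5 : (δ - 1) ^ 2 ^ m = 0 := by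
    rw [sub_pow_char_pow, h4, one_pow, sub_self]
  exact sub_eq_zero.1 (pow_eq_zero_iff (by positivity) |>.1 h5)

/-- an element of `R` which acts on `W / D₀` as a root element is one -/
theorem KNat.acts_of_up (K : KNat V H R F k co) (hRH : R ≤ H) {r : Y} (hr : r ∈ R) {b : Fin k → F}
    (h : ∀ v ∈ WW V H R, ∀ i, co (r • v) i = ap (up (b i)) (co v i)) : Acts V H R co r fun i => up (b i) := by
  obtain ⟨r', hr', h1⟩ := K.unip b
  refine ⟨h, fun d hd h0 => ?_⟩
  have h2 := K.trivH (r'⁻¹ * r) (H.mul_mem (H.inv_mem (hRH hr')) (hRH hr)) (by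
    intro w hw
    funext i
    have h3 := (h1.inv (hRH hr')).1 (r • w) (smul_mem_WW (hRH hr) hw) i
    rw [mul_smul, h3, h w hw, NatPair.ap_inv_ap]) d hd
  rw [mul_smul, inv_smul_eq_iff, h1.2 d hd h0] at h2
  exact h2

/-- an element of `R` acting on `W / D₀` as an element of `SL₂(F)^k` is a root element -/
theorem KNat.acts_of_lin (K : KNat V H R F k co) (two : ∀ v : V, v + v = 0) (hRH : R ≤ H) (hR2 : IsPGroup 2 R) {r : Y}
    (hr : r ∈ R) {C : Fin k → Matrix.SpecialLinearGroup (Fin 2) F}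
    (h : ∀ v ∈ WW V H R, ∀ i, co (r • v) i = ap (C i) (co v i)) :
    ∃ b : Fin k → F, Acts V H R co r fun i => up (b i) := by
  obtain ⟨σ, hσ⟩ := K.line r hr
  have h1 : ∀ i, σ i = i := by
    intro i
    by_contra hne
    obtain ⟨v, hv, hvi, hv0⟩ := K.exists_at i ![0, 1]
    have h2 : co (r • v) (σ i) 1 = 0 := by
      rw [h v hv, hv0 _ hne, NatPair.ap_one']
      simp
    rw [hσ v hv, hvi] at h2
    exact one_ne_zero (show (1 : F) = 0 from h2)
  have h2 : ∀ i, ent (C i) 1 0 = 0 := by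
    intro i
    obtain ⟨v, hv, hvi, hv0⟩ := K.exists_at i ![1, 0]
    have h3 := (hσ v hv i).2 (by rw [hvi]; rfl)
    rw [h1, h v hv, NatPair.ap_one', hvi] at h3
    simpa using h3
  have h3 : ∀ i, ent (C i) 1 1 = 1 := by
    intro i
    apply K.scal_eq_one two hRH hR2 hr (i := i)
    intro v hv
    rw [h v hv, NatPair.ap_one', h2, zero_mul, zero_add]
  have h4 : ∀ i, C i = up (ent (C i) 0 1) := by
    intro i
    have h5 := det_eq (C i)
    rw [h2, h3, mul_zero, sub_zero, mul_one] at h5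
    refine ext_ent ?_ ?_ ?_ ?_
    · rw [up_00, h5]
    · rw [up_01]
    · rw [up_10, h2]
    · rw [up_11, h3]
  refine ⟨fun i => ent (C i) 0 1, K.acts_of_up hRH hr fun v hv i => ?_⟩
  rw [h v hv i]
  exact congrArg (fun D => ap D (co v i)) (h4 i)

/-- an element of `R` commuting on `W` with all root elements is a root element -/
theorem KNat.acts_of_comm [Finite F] (K : KNat V H R F k co) (two : ∀ v : V, v + v = 0) (hRH : R ≤ H)
    (hR2 : IsPGroup 2 R) {n : Y} (hn : n ∈ R)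
    (h : ∀ r ∈ R, ∀ b : Fin k → F, (Acts V H R co r fun i => up (b i)) → ∀ w ∈ WW V H R, n • r • w = r • n • w) :
    ∃ b : Fin k → F, Acts V H R co n fun i => up (b i) := by
  classical
  have hnH : n ∈ H := hRH hn
  have hnH' : n⁻¹ ∈ H := H.inv_mem hnH
  obtain ⟨σ, hσ⟩ := K.perm n hnH
  -- `n` fixes every block
  have h1 : ∀ i, σ i = i := by
    intro i
    by_contra hne
    obtain ⟨r, hr, hrb⟩ := K.unip (Pi.single i 1)
    obtain ⟨v, hv, hvi, hv0⟩ := K.exists_at i ![0, 1]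
    have hrv : r • v ∈ WW V H R := smul_mem_WW (hRH hr) hv
    have hnv : n • v ∈ WW V H R := smul_mem_WW hnH hv
    have h2 : co (n • (r • v + v)) (σ i) = 0 := by
      rw [smul_add, h r hr _ hrb v hv, K.add' (smul_mem_WW (hRH hr) hnv) hnv, hrb.1 _ hnv]
      have e : up ((Pi.single i (1 : F) : Fin k → F) (σ i)) = 1 := by
        rw [Pi.single_eq_of_ne hne, up_zero]
      simp only [e, NatPair.ap_one]
      exact K.ff' two i _
    rw [hσ _ (add_mem hrv hv), K.add' hrv hv] at h2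
    have h3 := congrFun h2 0
    rw [Pi.add_apply, hrb.up_fst hv, hvi, Pi.single_eq_same] at h3
    simp at h3
  -- the block maps
  have hblk : ∀ i, ∃ μ : F, ∀ v ∈ WW V H R, co (n • v) i = ap (up μ) (co v i) := by
    intro i
    choose ve hve hvei _ using K.exists_at i
    have hdep : ∀ v ∈ WW V H R, ∀ w ∈ WW V H R, co v i = co w i → co (n • v) i = co (n • w) i := by
      intro v hv w hw hvw
      have h2 := (hσ (v + w) (add_mem hv hw) i).2 (by rw [K.add' hv hw, hvw]; exact K.ff' two i _)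
      rw [h1, smul_add, K.add' (smul_mem_WW hnH hv) (smul_mem_WW hnH hw)] at h2
      have h3 : co (n • v) i + co (n • w) i + co (n • w) i = co (n • w) i := by rw [h2, zero_add]
      rwa [add_assoc, K.ff' two i, add_zero] at h3
    have hdep' : ∀ v ∈ WW V H R, ∀ w ∈ WW V H R, co v i = co w i → co (n⁻¹ • v) i = co (n⁻¹ • w) i := by
      intro v hv w hw hvw
      have hv' := smul_mem_WW hnH' hv
      have hw' := smul_mem_WW hnH' hw
      have h2 := (hσ (n⁻¹ • v + n⁻¹ • w) (add_mem hv' hw') i).1 (by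
        rw [h1, smul_add, smul_inv_smul, smul_inv_smul, K.add' hv hw, hvw]
        exact K.ff' two i _)
      rw [K.add' hv' hw'] at h2
      have h3 : co (n⁻¹ • v) i + co (n⁻¹ • w) i + co (n⁻¹ • w) i = co (n⁻¹ • w) i := by rw [h2, zero_add]
      rwa [add_assoc, K.ff' two i, add_zero] at h3
    set α : (Fin 2 → F) → (Fin 2 → F) := fun x => co (n • ve x) i with hα
    set β : (Fin 2 → F) → (Fin 2 → F) := fun x => co (n⁻¹ • ve x) i with hβ
    have hαv : ∀ v ∈ WW V H R, co (n • v) i = α (co v i) := fun v hv => hdep v hv _ (hve _) (hvei _).symm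
    have hβv : ∀ v ∈ WW V H R, co (n⁻¹ • v) i = β (co v i) := fun v hv => hdep' v hv _ (hve _) (hvei _).symm
    have hadd : ∀ x y, α (x + y) = α x + α y := by
      intro x y
      rw [← hvei x, ← hvei y, ← K.add' (hve x) (hve y), ← hαv _ (add_mem (hve x) (hve y)), ← hαv _ (hve x),
        ← hαv _ (hve y), smul_add, K.add' (smul_mem_WW hnH (hve x)) (smul_mem_WW hnH (hve y))]
    have hβα : ∀ x, β (α x) = x := by
      intro x
      rw [← hvei x, ← hαv _ (hve x), ← hβv _ (smul_mem_WW hnH (hve x)), inv_smul_smul]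
    have hαβ : ∀ x, α (β x) = x := by
      intro x
      rw [← hvei x, ← hβv _ (hve x), ← hαv _ (smul_mem_WW hnH' (hve x)), smul_inv_smul]
    obtain ⟨s, hs⟩ := NatPair.exists_semi α β hadd hβα hαβ (by
      intro A
      obtain ⟨g, hg, hgA⟩ := K.lift fun _ => A
      obtain ⟨B, hB⟩ := K.norm n⁻¹ hnH' g hg _ hgA.1
      refine ⟨B i, fun x => ?_⟩
      have h2 := hB _ (hve x) i
      rw [hvei, inv_inv, mul_smul, mul_smul] at h2
      rw [← h2]
      have h3 := hgA.1 (n • ve x) (smul_mem_WW hnH (hve x)) i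
      rw [← h3, ← hβv _ (smul_mem_WW hg (smul_mem_WW hnH (hve x)))])
    -- commuting with the root elements
    have hcom : ∀ (β' : F) (x : Fin 2 → F), α ![β' * x 1, 0] = ![β' * α x 1, 0] := by
      intro β' x
      obtain ⟨r, hr, hrb⟩ := K.unip (Pi.single i β')
      have hrv : r • ve x ∈ WW V H R := smul_mem_WW (hRH hr) (hve x)
      have hnv : n • ve x ∈ WW V H R := smul_mem_WW hnH (hve x)
      have h2 := congrArg (fun v => co v i) (h r hr _ hrb _ (hve x))
      change co (n • r • ve x) i = co (r • n • ve x) i at h2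
      rw [hαv _ hrv, hrb.1 _ (hve x), hrb.1 _ hnv, hαv _ (hve x), hvei] at h2
      simp only [Pi.single_eq_same] at h2
      rw [ap_up, ap_up] at h2
      have e1 : (![x 0 + β' * x 1, x 1] : Fin 2 → F) = x + ![β' * x 1, 0] := by
        apply NatPair.ext2
        · rfl
        · change x 1 = x 1 + 0
          rw [add_zero]
      have e2 : (![α x 0 + β' * α x 1, α x 1] : Fin 2 → F) = α x + ![β' * α x 1, 0] := by
        apply NatPair.ext2
        · rfl
        · change α x 1 = α x 1 + 0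
          rw [add_zero]
      rw [e1, e2, hadd] at h2
      exact add_left_cancel h2
    set ν : F := α ![0, 1] 1 with hν
    set μ : F := α ![0, 1] 0 with hμ
    have h5 : ∀ c : F, α ![c, 0] = ![c * ν, 0] := by
      intro c
      have h6 := hcom c ![0, 1]
      have e : (![0, 1] : Fin 2 → F) 1 = 1 := rfl
      rwa [e, mul_one] at h6
    have hν0 : ν ≠ 0 := by
      intro h0
      have h6 := h5 1
      rw [h0, mul_zero] at h6
      have h7 : α (0 : Fin 2 → F) = 0 := by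
        have := hadd 0 0
        rw [add_zero] at this
        exact left_eq_add.1 this
      have e : (![0, 0] : Fin 2 → F) = 0 := by
        apply NatPair.ext2 <;> rfl
      rw [e, ← h7] at h6
      have h8 := congrArg β h6
      rw [hβα, hβα] at h8
      exact one_ne_zero (show (1 : F) = 0 from congrFun h8 0)
    have hs1 : ∀ c, s c = c := by
      intro c
      have h6 := hs c ![1, 0]
      have e : c • (![1, 0] : Fin 2 → F) = ![c, 0] := by
        apply NatPair.ext2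
        · change c * 1 = c
          rw [mul_one]
        · change c * 0 = 0
          rw [mul_zero]
      rw [e, h5, h5] at h6
      have h7 := congrFun h6 0
      change c * ν = s c * (1 * ν) at h7
      rw [one_mul] at h7
      exact (mul_right_cancel₀ hν0 h7).symm
    have hlin : ∀ x, α x = ![x 0 * ν + x 1 * μ, x 1 * ν] := by
      intro x
      have e : x = ![x 0, 0] + x 1 • ![0, 1] := by
        apply NatPair.ext2
        · change x 0 = x 0 + x 1 * 0
          rw [mul_zero, add_zero]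
        · change x 1 = 0 + x 1 * 1
          rw [mul_one, zero_add]
      rw [e, hadd, hs, hs1, h5, ← e]
      apply NatPair.ext2
      · change x 0 * ν + x 1 * α ![0, 1] 0 = x 0 * ν + x 1 * μ
        rfl
      · change 0 + x 1 * α ![0, 1] 1 = x 1 * ν
        rw [zero_add]
    have hν1 : ν = 1 := by
      apply K.scal_eq_one two hRH hR2 hn (i := i)
      intro v hv
      rw [hαv v hv, hlin, mul_comm ν]
      rfl
    refine ⟨μ, fun v hv => ?_⟩
    rw [hαv v hv, hlin, ap_up, hν1, mul_one, mul_one, mul_comm]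
  choose b hb using hblk
  exact ⟨b, K.acts_of_up hRH hn fun v hv i => hb i v hv⟩

/-- **a normal subgroup `N ≰ Q` of `R` contains root elements `≠ 1`** -/
theorem KNat.exists_root [Finite F] (K : KNat V H R F k co) (two : ∀ v : V, v + v = 0) (hRH : R ≤ H)
    (hR2 : IsPGroup 2 R) {N : Subgroup Y} (hNR : N ≤ R) (hNn : ∀ r ∈ R, ∀ n ∈ N, r * n * r⁻¹ ∈ N)
    (hNQ : ¬ N ≤ QQ H R) :
    ∃ n ∈ N, ∃ b : Fin k → F, (Acts V H R co n fun i => up (b i)) ∧ ∃ i, b i ≠ 0 := by
  by_contra hcon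
  push Not at hcon
  apply hNQ
  intro n hn
  have hnR := hNR hn
  obtain ⟨b, hb⟩ := K.acts_of_comm two hRH hR2 hnR (by
    intro r hr b hb
    have hnH := hRH hnR
    have hrH := hRH hr
    have hc : n * r * n⁻¹ * r⁻¹ ∈ N := by
      have h1 := N.mul_mem hn (hNn r hr _ (N.inv_mem hn))
      have e : n * (r * n⁻¹ * r⁻¹) = n * r * n⁻¹ * r⁻¹ := by group
      rwa [e] at h1
    have hcH := hRH (hNR hc)
    obtain ⟨B, hB⟩ := K.norm n hnH r hrH _ hb.1
    have hri := (hb.inv hrH).1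
    obtain ⟨c, hcc⟩ := K.acts_of_lin two hRH hR2 (hNR hc) (C := fun i => B i * (up (b i))⁻¹) (by
      intro v hv i
      rw [mul_smul, hB _ (smul_mem_WW (H.inv_mem hrH) hv), hri v hv, ← NatPair.ap_mul])
    have hc0 := hcon _ hc c hcc
    have hone : ∀ w ∈ WW V H R, (n * r * n⁻¹ * r⁻¹) • w = w := by
      intro w hw
      apply K.fix_of_one _ hcH hw
      have e : (fun i => up (c i)) = fun _ : Fin k => (1 : Matrix.SpecialLinearGroup (Fin 2) F) := by
        funext i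
        rw [hc0 i, up_zero]
      rwa [e] at hcc
    intro w hw
    have h1 := hone (r • n • w) (smul_mem_WW hrH (smul_mem_WW hnH hw))
    have e : (n * r * n⁻¹ * r⁻¹) • r • n • w = n • r • w := by
      rw [← mul_smul, ← mul_smul, ← mul_smul]
      congr 1
      group
    rw [e] at h1
    exact h1)
  exact K.mem_Q_of_up_zero two hRH hnR hb (hcon n hn b hb)

/-- the permutation of the lines is the permutation of the blocks -/
theorem KNat.line_eq (K : KNat V H R F k co) (hRH : R ≤ H) {r : Y} (hr : r ∈ R) {i j : Fin k}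
    (hij : ∀ v ∈ WW V H R, co (r • v) j = 0 ↔ co v i = 0) {v : V} (hv : v ∈ WW V H R) :
    co (r • v) j 1 = 0 ↔ co v i 1 = 0 := by
  obtain ⟨σ, hσ⟩ := K.perm r (hRH hr)
  obtain ⟨τ, hτ⟩ := K.line r hr
  have h1 : σ i = j := by
    by_contra hne
    obtain ⟨v, hv, hvi, hv0⟩ := K.exists_at i ![1, 0]
    have h1 : co (r • v) j ≠ 0 := by
      rw [Ne, hij v hv, hvi]
      intro h2
      have h3 : (1 : F) = 0 := congrFun h2 0
      exact one_ne_zero h3
    apply h1
    have h2 := (hσ v hv (σ.symm j)).2 (hv0 _ fun h3 => hne (by rw [← h3, Equiv.apply_symm_apply]))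
    rwa [Equiv.apply_symm_apply] at h2
  have h2 : τ i = j := by
    rw [← h1]
    by_contra hne
    obtain ⟨v, hv, hvi, hv0⟩ := K.exists_at i ![0, 1]
    have h2 : co (r • v) (τ i) 1 ≠ 0 := by
      rw [Ne, hτ v hv, hvi]
      exact one_ne_zero
    apply h2
    have h3 := (hσ v hv (σ.symm (τ i))).2 (hv0 _ fun h3 => hne ((Equiv.symm_apply_eq σ).1 h3))
    rw [Equiv.apply_symm_apply] at h3
    rw [h3]; rfl
  rw [← h2]
  exact hτ v hv i

/-- **a vector of `W` fixed by a normal subgroup `N ≰ Q` of `R` lies in `W_R`** -/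
theorem KNat.co_one_of_fix [Finite F] (K : KNat V H R F k co) (two : ∀ v : V, v + v = 0) (hRH : R ≤ H)
    (hR2 : IsPGroup 2 R) {N : Subgroup Y} (hNR : N ≤ R) (hNn : ∀ r ∈ R, ∀ n ∈ N, r * n * r⁻¹ ∈ N)
    (hNQ : ¬ N ≤ QQ H R) {w : V} (hw : w ∈ WW V H R) (hfix : ∀ n ∈ N, n • w = w) (j : Fin k) : co w j 1 = 0 := by
  obtain ⟨n, hn, b, hb, i, hi⟩ := K.exists_root two hRH hR2 hNR hNn hNQ
  obtain ⟨r, hr, hrs⟩ := K.trans i j
  have hw' : r⁻¹ • w ∈ WW V H R := smul_mem_WW (H.inv_mem (hRH hr)) hw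
  have h1 : n • r⁻¹ • w = r⁻¹ • w := by
    have h2 := hfix _ (hNn r hr n hn)
    rw [mul_smul, mul_smul] at h2
    rw [eq_inv_smul_iff]
    exact h2
  have h2 := hb.up_fst hw' i
  rw [h1] at h2
  have h3 : co (r⁻¹ • w) i 1 = 0 := (mul_eq_zero.1 (left_eq_add.1 h2)).resolve_left hi
  have h4 := (K.line_eq hRH hr hrs hw').2 h3
  rwa [smul_inv_smul] at h4

end coords

namespace TwoN

variable [Finite Y] [Finite V] {U : Set (Subgroup Y)} {T : Sylow 2 Y} {M H H' R : Subgroup Y} {F : Type} [Field F]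
  {k : ℕ} {co co' : V → Fin k → Fin 2 → F} {t : Y} (h : TwoN V U T M H H' R F k co co' t)
include h

theorem Q'_eq : QQ H' R = MulAut.conj t • QQ H R := by
  rw [h.H'_eq]
  exact QQ_conj h.a.t_norm fun r hr => h.a.symm_smul hr

/-- **(*)** -/
theorem star {B : Subgroup Y} (hB : B ∈ U) (hBH : B ≤ H) (hBM : ¬ B ≤ M) :
    ∃ b ∈ B ⊓ QQ H R, b ∉ QQ H' R := by
  rw [h.Q'_eq]
  exact h.a.star h.amb h.we hB hBH hBM

theorem two (v : V) : v + v = 0 := h.amb.two v

theorem Q_norm {r q : Y} (hr : r ∈ R) (hq : q ∈ QQ H R) : r * q * r⁻¹ ∈ QQ H R := conj_mem_QQ (h.a.RH hr) hq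

/-- `Q' ≰ Q` -/
theorem Q'_not_le : ¬ QQ H' R ≤ QQ H R := by
  intro h1
  have h2 : QQ H' R = QQ H R := by
    apply eq_of_le_of_card_ge h1
    rw [h.Q'_eq, conj_card]
  have h3 : QQ H R = ⊥ := by
    apply h.a.no_inv h.amb.core (T.2.to_le (QQ_le.trans h.a.RT))
    · intro x hx y hy
      exact conj_mem_QQ hx hy
    · intro y hy
      have h4 := conj_mem_conj (g := t) hy
      rw [← h.Q'_eq, h2] at h4
      exact h4
    · intro y hy
      rw [← h2, h.Q'_eq, mem_conj] at hy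
      exact hy
  obtain ⟨B, hB, hBR⟩ := h.a.memR
  apply Amal.ne_bot h.a h.amb h.we hB (hBR.trans h.a.RH)
  rw [h3, inf_bot_eq]

/-- **(b)** : `W ∩ W' ⊆ W_R` -/
theorem inf_le [Finite F] {w : V} (hw : w ∈ WW V H R) (hw' : w ∈ WW V H' R) (j : Fin k) : co w j 1 = 0 :=
  h.K.co_one_of_fix h.two h.a.RH h.a.R2 (N := QQ H' R) QQ_le (fun _ hr _ hn => h.swap.Q_norm hr hn) h.Q'_not_le hw
    (fun _ hn => Amal.QQ_fix h.a' h.amb hn hw') j

end TwoN

end Cfsg.Agent.Omega.NO1.TH.K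

end

section


/-!
# N1-ONE, natural type: the output of (d) of bb OMEGA 20646, and first consequences (bb OMEGA 20937, helper476)

`DOut B A i j` : the output of (d) for the opposite member `A = B^g`, `B ≤ R` : `B` acts on `W` as the root group
`R_i`, `|B| = c²`, `A ∩ Q` has order `c = |F|` and acts on `W'` as the root group `R'_j`, `V = W' + E_A`,
`W' ∩ E_A ≤ C(A ∩ Q)`, `A ∩ Q = {s_x | x ∈ W}`.
`DD` : this holds for all members `B ≤ R`, `B ≰ Q`, and all `g` which act on all blocks as `w`.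

`II = [W, J]`, `J` the join of the members in `R`.
* `MB` : the consequences for `B ≤ R` itself: `[V, B ∩ Q] ≤ W + I'`, `[V, B ∩ Q, B ∩ Q] = 0`, `C_V(b) = W + F_B`.
-/

set_option autoImplicit false
set_option linter.unusedSectionVars false
set_option linter.dupNamespace false

namespace Cfsg.Agent.Omega.NO1.TH.K

open Subgroup Cfsg.Agent.Omega.NO1.AB Cfsg.Agent.Omega.FFBr Cfsg.Agent.Lib.SL2Mat
open Cfsg.Agent.Omega.NatPair (ap)
open scoped Pointwise

universe u

variable {Y : Type u} [Group Y] {V : Type u} [AddCommGroup V] [DistribMulAction Y V]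

/-- the output of (d) of #20646 for the opposite member `A` of `B ≤ R` -/
structure DOut (V : Type u) [AddCommGroup V] [DistribMulAction Y V] (H H' R : Subgroup Y) {F : Type} [Field F] {k : ℕ}
    (co co' : V → Fin k → Fin 2 → F) (B A : Subgroup Y) (i j : Fin k) : Prop where
  supp : Supp V H R co B {i}
  supp' : Supp V H' R co' (A ⊓ QQ H R) {j}
  card : Nat.card A = Nat.card F ^ 2
  cardB : Nat.card ↥(A ⊓ QQ H R) = Nat.card F
  top : WW V H' R ⊔ Ee V A = ⊤
  inf : ∀ v ∈ WW V H' R, v ∈ Ee V A → v ∈ fx V (A ⊓ QQ H R)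
  shift : ∀ s ∈ A ⊓ QQ H R, ∀ w, w ∉ Ee V A → ∃ x ∈ WW V H R, s • w + w + x ∈ fx V A

/-- (d) of #20646 holds for all opposite members (of the side `H`) -/
def DD (V : Type u) [AddCommGroup V] [DistribMulAction Y V] (U : Set (Subgroup Y)) (H H' R : Subgroup Y) {F : Type}
    [Field F] {k : ℕ} (co co' : V → Fin k → Fin 2 → F) : Prop :=
  ∀ B ∈ U, B ≤ R → ¬ B ≤ QQ H R → ∀ g ∈ H, (Acts V H R co g fun _ => wm 1 one_ne_zero) →
    R ⊔ MulAut.conj g • B = H ∧ ∃ i j, DOut V H H' R co co' B (MulAut.conj g • B) i j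

/-- `[W, J]` -/
def II (V : Type u) [AddCommGroup V] [DistribMulAction Y V] (U : Set (Subgroup Y)) (H R : Subgroup Y) : AddSubgroup V :=
  AddSubgroup.closure {v | ∃ B ∈ U, B ≤ R ∧ ∃ b ∈ B, ∃ w ∈ WW V H R, v = b • w + w}

section one

variable {U : Set (Subgroup Y)} {T : Sylow 2 Y} {M H H' R : Subgroup Y} {t : Y} {F : Type} [Field F]
  {k : ℕ} {co co' : V → Fin k → Fin 2 → F}

theorem Supp.mem_iff (K : KNat V H R F k co) {B : Subgroup Y} {I : Set (Fin k)} {i : Fin k}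
    (h1 : Supp V H R co B I) (h2 : Supp V H R co B {i}) {l : Fin k} (hl : l ∈ I) : l = i := by
  classical
  by_contra hne
  obtain ⟨u, hu, h3⟩ := h1.full (Pi.single l 1) fun m hm => by
    rw [Pi.single_eq_of_ne]
    rintro rfl
    exact hm hl
  obtain ⟨b, hb0, hb⟩ := h2.act u hu
  have h4 := congrFun (K.up_inj h3 hb) l
  rw [Pi.single_eq_same, hb0 l (by simpa using hne)] at h4
  exact one_ne_zero h4

theorem II_le_WW (hRH : R ≤ H) : II V U H R ≤ WW V H R := by
  refine (AddSubgroup.closure_le _).2 ?_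
  rintro _ ⟨B, -, hBR, b, hb, w, hw, rfl⟩
  exact add_mem (smul_mem_WW (hRH (hBR hb)) hw) hw

theorem smul_mem_II (hc : Cls V U) (hRH : R ≤ H) {r : Y} (hr : r ∈ R) {v : V} (hv : v ∈ II V U H R) :
    r • v ∈ II V U H R := by
  induction hv using AddSubgroup.closure_induction with
  | mem v hv =>
    obtain ⟨B, hB, hBR, b, hb, w, hw, rfl⟩ := hv
    refine AddSubgroup.subset_closure ⟨MulAut.conj r • B, hc.conj B hB r, ?_, r * b * r⁻¹, conj_mem_conj hb, r • w,
      smul_mem_WW (hRH hr) hw, ?_⟩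
    · intro x hx
      rw [mem_conj] at hx
      have h1 := R.mul_mem (R.mul_mem hr (hBR hx)) (R.inv_mem hr)
      have e : r * (r⁻¹ * x * r) * r⁻¹ = x := by group
      rwa [e] at h1
    · rw [smul_add, ← mul_smul, ← mul_smul]
      congr 2
      group
  | zero => rw [smul_zero]; exact zero_mem _
  | add a b _ _ h1 h2 => rw [smul_add]; exact add_mem h1 h2
  | neg a _ h1 => rw [smul_neg]; exact neg_mem h1

variable [Finite Y] [Finite V]

theorem II_line (K : KNat V H R F k co) (amb : Amb V U T M) (a : Amal U T M H R t) (we : WE V U H R)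
    {v : V} (hv : v ∈ II V U H R) (l : Fin k) : co v l 1 = 0 := by
  have key : v ∈ WW V H R ∧ co v l 1 = 0 := by
    refine AddSubgroup.closure_induction ?_ ?_ ?_ ?_ hv
    · rintro _ ⟨B, hB, hBR, b, hb, w, hw, rfl⟩
      have hbH := a.RH (hBR hb)
      refine ⟨add_mem (smul_mem_WW hbH hw) hw, ?_⟩
      by_cases hQ : B ≤ QQ H R
      · rw [Amal.QQ_fix a amb (hQ hb) hw, amb.two, K.zero]; rfl
      · obtain ⟨I, _, hS⟩ := exists_supp K amb a we hB hBR hQ
        obtain ⟨β, _, hβ⟩ := hS.act b hb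
        rw [K.add_apply (smul_mem_WW hbH hw) hw, hβ.up_snd hw, K.ff amb.two l]
    · exact ⟨zero_mem _, by rw [K.zero]; rfl⟩
    · rintro x y - - ⟨hx, hx'⟩ ⟨hy, hy'⟩
      exact ⟨add_mem hx hy, by rw [K.add_apply hx hy, hx', hy', add_zero]⟩
    · rintro x - ⟨hx, hx'⟩
      refine ⟨neg_mem hx, ?_⟩
      rw [K.neg hx, Pi.neg_apply, Pi.neg_apply, hx', neg_zero]
  exact key.2

theorem exists_single_member (K : KNat V H R F k co) (amb : Amb V U T M) (a : Amal U T M H R t) (we : WE V U H R)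
    (hD : DD V U H H' R co co') (l : Fin k) : ∃ B ∈ U, B ≤ R ∧ ¬ B ≤ QQ H R ∧ Supp V H R co B {l} := by
  obtain ⟨B, hB, hBR, hBQ, I, hl, hI⟩ := exists_member_at K amb a we l
  obtain ⟨g, hg, hgA⟩ := K.lift fun _ => wm 1 one_ne_zero
  obtain ⟨-, i, j, d⟩ := hD B hB hBR hBQ g hg hgA
  have h1 := Supp.mem_iff K hI d.supp hl
  subst h1
  exact ⟨B, hB, hBR, hBQ, d.supp⟩

/-- two elements of `H` with the same unipotent action act on `W` in the same way -/
theorem eq_of_up (K : KNat V H R F k co) (two : ∀ v : V, v + v = 0) {g u : Y} (hg : g ∈ H) (hu : u ∈ H)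
    (huu : u * u = 1) {b : Fin k → F} (h1 : Acts V H R co g fun i => up (b i)) (h2 : Acts V H R co u fun i => up (b i))
    {w : V} (hw : w ∈ WW V H R) : g • w = u • w := by
  have h3 := h2.up_mul hg h1
  have h4 : Acts V H R co (u * g) fun _ => 1 := by
    have e : (fun i => up (b i + b i)) = fun _ : Fin k => (1 : Matrix.SpecialLinearGroup (Fin 2) F) := by
      funext i
      rw [K.ff two i, up_zero]
    rwa [e] at h3
  have h5 := K.fix_of_one h4 (H.mul_mem hu hg) hw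
  have h6 : u • (u * g) • w = g • w := by
    rw [← mul_smul, ← mul_assoc, huu, one_mul]
  rw [← h6, h5]

/-- an element acting as a root element at `l` fixes the vectors with coordinate `0` at `(l, 1)` -/
theorem root_fix [Finite F] (K : KNat V H R F k co) (amb : Amb V U T M) (a : Amal U T M H R t) (we : WE V U H R)
    (hD : DD V U H H' R co co') {l : Fin k} {g : Y} (hg : g ∈ H) {b : Fin k → F} (hb : ∀ i, i ≠ l → b i = 0)
    (hA : Acts V H R co g fun i => up (b i)) {w : V} (hw : w ∈ WW V H R) (h0 : co w l 1 = 0) : g • w = w := by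
  obtain ⟨B, hB, hBR, hBQ, hS⟩ := exists_single_member K amb a we hD l
  obtain ⟨u, hu, huA⟩ := hS.full b fun i hi => hb i (by simpa using hi)
  have hm := amb.cls.mem B hB
  rw [eq_of_up K amb.two hg (a.RH (hBR hu)) (hm.sq u hu) hA huA hw]
  have h1 : w ∈ fx V B := (member_fx_iff K amb a we hB hBR hS hw).2 fun i hi => by
    rw [Set.mem_singleton_iff] at hi
    rw [hi, h0]
  exact h1 u hu

/-- an element acting on `W` as a root element at `l`: commutators lie in `II` -/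
theorem comm_mem_II (K : KNat V H R F k co) (amb : Amb V U T M) (a : Amal U T M H R t) (we : WE V U H R)
    (hD : DD V U H H' R co co') {l : Fin k} {g : Y} (hg : g ∈ H) {b : Fin k → F} (hb : ∀ i, i ≠ l → b i = 0)
    (hA : Acts V H R co g fun i => up (b i)) {w : V} (hw : w ∈ WW V H R) : g • w + w ∈ II V U H R := by
  obtain ⟨B, hB, hBR, hBQ, hS⟩ := exists_single_member K amb a we hD l
  obtain ⟨u, hu, huA⟩ := hS.full b fun i hi => hb i (by simpa using hi)
  have hm := amb.cls.mem B hB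
  rw [eq_of_up K amb.two hg (a.RH (hBR hu)) (hm.sq u hu) hA huA hw]
  exact AddSubgroup.subset_closure ⟨B, hB, hBR, u, hu, w, hw, rfl⟩

end one

end Cfsg.Agent.Omega.NO1.TH.K

end

section


/-!
# N1-ONE, natural type, `k ≥ 2`: case (d) is impossible (bb OMEGA 20937, helper476), (0) - (2)

* `MB` : facts for the members `B ≤ R`, `B ≰ Q`; `mb` : they follow from `DD`;
* `not_le_Q'` (1) : `B ≰ Q'`;
* `exists_of_comm` (2) : `[W, B] ⊆ [W', B]`;  `II_le` : `[W', J] ≤ W`;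
* `inf_eq_bot` : `B ∩ Q ∩ Q' = 1`.
-/

set_option autoImplicit false
set_option linter.unusedSectionVars false
set_option linter.dupNamespace false

namespace Cfsg.Agent.Omega.NO1.TH.K.L2K

open Subgroup Cfsg.Agent.Omega.NO1.TH.K Cfsg.Agent.Omega.NO1.AB Cfsg.Agent.Omega.FFBr Cfsg.Agent.Lib.SL2Mat
open Cfsg.Agent.Omega.NatPair (ap)
open scoped Pointwise

universe u

variable {Y : Type u} [Group Y] {V : Type u} [AddCommGroup V] [DistribMulAction Y V]

/-- facts for a member `B ≤ R`, `B ≰ Q` -/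
structure MB (V : Type u) [AddCommGroup V] [DistribMulAction Y V] (U : Set (Subgroup Y)) (H H' R : Subgroup Y)
    {F : Type} [Field F] {k : ℕ} (co : V → Fin k → Fin 2 → F) (B : Subgroup Y) (i : Fin k) : Prop where
  supp : Supp V H R co B {i}
  card : Nat.card B = Nat.card F ^ 2
  cardB : Nat.card ↥(B ⊓ QQ H R) = Nat.card F
  shift : ∀ s ∈ B ⊓ QQ H R, ∀ w, w ∉ Ee V B → ∃ x ∈ WW V H R, s • w + w + x ∈ fx V B
  quad : ∀ s ∈ B ⊓ QQ H R, ∀ r ∈ B ⊓ QQ H R, ∀ v : V, s • (r • v + v) = r • v + v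
  cmem : ∀ s ∈ B ⊓ QQ H R, ∀ v : V, s • v + v ∈ WW V H R ⊔ II V U H' R

theorem conj_QQ_inf {H R : Subgroup Y} {g : Y} (hg : g ∈ H) (B : Subgroup Y) :
    MulAut.conj g • B ⊓ QQ H R = MulAut.conj g • (B ⊓ QQ H R) := by
  ext y
  constructor
  · intro h0
    have h1 : y ∈ MulAut.conj g • B := h0.1
    have h2 : y ∈ QQ H R := h0.2
    rw [mem_conj] at h1 ⊢
    refine ⟨h1, ?_⟩
    have := conj_mem_QQ (H.inv_mem hg) h2
    rwa [inv_inv] at this
  · intro h1
    rw [mem_conj] at h1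
    refine ⟨mem_conj.2 h1.1, ?_⟩
    have := conj_mem_QQ hg h1.2
    have e : g * (g⁻¹ * y * g) * g⁻¹ = y := by group
    rwa [e] at this

theorem add_swap (two : ∀ v : V, v + v = 0) {a b c : V} (h : a + b = c) : a = c + b := by
  rw [← h, add_assoc, two, add_zero]

section one

variable {U : Set (Subgroup Y)} {T : Sylow 2 Y} {M H H' R : Subgroup Y} {t : Y} {F : Type} [Field F]
  {k : ℕ} {co co' : V → Fin k → Fin 2 → F} [Finite Y] [Finite V] [Finite F]

/-- `I' ≤ C(A ∩ Q)` -/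
theorem II_fix (h : TwoN V U T M H H' R F k co co' t) (hD' : DD V U H' H R co' co) {A : Subgroup Y} {j : Fin k}
    (hS : Supp V H' R co' (A ⊓ QQ H R) {j}) {y : V} (hy : y ∈ II V U H' R) : y ∈ fx V (A ⊓ QQ H R) := by
  intro b hb
  obtain ⟨β, hβ0, hβ⟩ := hS.act b hb
  exact root_fix h.K' h.amb h.a' h.we' hD' (h.a'.RH (QQ_le hb.2)) (fun i hi => hβ0 i (by simpa using hi)) hβ
    (II_le_WW h.a'.RH hy) (II_line h.K' h.amb h.a' h.we' hy j)

/-- **(0)** `W + I'` is `H`-invariant -/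
theorem plus_inv (h : TwoN V U T M H H' R F k co co' t) (hD : DD V U H H' R co co') (hD' : DD V U H' H R co' co) :
    ∀ x ∈ H, ∀ v ∈ WW V H R ⊔ II V U H' R, x • v ∈ WW V H R ⊔ II V U H' R := by
  obtain ⟨B, hB, hBR, hBQ⟩ := Amal.exists_not_QQ h.a h.amb
  obtain ⟨g, hg, hgA⟩ := h.K.lift fun _ => wm 1 one_ne_zero
  obtain ⟨hgen, i, j, d⟩ := hD B hB hBR hBQ g hg hgA
  have hA : MulAut.conj g • B ∈ U := h.amb.cls.conj B hB g
  have hAH : MulAut.conj g • B ≤ H := by rw [← hgen]; exact le_sup_right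
  have key : R ⊔ MulAut.conj g • B ≤ MulAction.stabilizer Y (WW V H R ⊔ II V U H' R) := by
    refine sup_le (fun r hr => smul_of_mem fun v hv => ?_) fun u hu => smul_of_mem fun v hv => ?_
    · rw [AddSubgroup.mem_sup] at hv
      obtain ⟨x, hx, y, hy, rfl⟩ := hv
      rw [smul_add]
      exact add_mem (AddSubgroup.mem_sup_left (smul_mem_WW (h.a.RH hr) hx))
        (AddSubgroup.mem_sup_right (smul_mem_II h.amb.cls h.a'.RH hr hy))
    · rw [AddSubgroup.mem_sup] at hv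
      obtain ⟨x, hx, y, hy, rfl⟩ := hv
      rw [smul_add]
      refine add_mem (AddSubgroup.mem_sup_left (smul_mem_WW (hAH hu) hx)) ?_
      have h1 := II_fix h hD' d.supp' hy
      rw [Amal.fx_eq h.a h.amb h.we hA hAH, AddSubgroup.mem_sup] at h1
      obtain ⟨x', hx', f, hf, rfl⟩ := h1
      have h2 : u • (x' + f) = (u • x' + x') + (x' + f) := by
        rw [smul_add, hf u hu]
        have e : u • x' + x' + (x' + f) = u • x' + f + (x' + x') := by abel
        rw [e, h.amb.two, add_zero]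
      rw [h2]
      exact add_mem (AddSubgroup.mem_sup_left (add_mem (smul_mem_WW (hAH hu) hx') hx'))
        (AddSubgroup.mem_sup_right hy)
  rw [hgen] at key
  intro x hx v hv
  have h1 : x • (WW V H R ⊔ II V U H' R) = WW V H R ⊔ II V U H' R := key hx
  rw [← h1]
  exact smul_mem_smul_as hv

/-- **(0)** -/
theorem mb (h : TwoN V U T M H H' R F k co co' t) (hD : DD V U H H' R co co') (hD' : DD V U H' H R co' co)
    {B : Subgroup Y} (hB : B ∈ U) (hBR : B ≤ R) (hBQ : ¬ B ≤ QQ H R) : ∃ i, MB V U H H' R co B i := by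
  have two := h.amb.two
  obtain ⟨g, hg, hgA⟩ := h.K.lift fun _ => wm 1 one_ne_zero
  obtain ⟨hgen, i, j, d⟩ := hD B hB hBR hBQ g hg hgA
  have hA : MulAut.conj g • B ∈ U := h.amb.cls.conj B hB g
  have hAH : MulAut.conj g • B ≤ H := by rw [← hgen]; exact le_sup_right
  have hm := h.amb.cls.mem _ hA
  have hcj : ∀ {s : Y}, s ∈ B ⊓ QQ H R → g * s * g⁻¹ ∈ MulAut.conj g • B ⊓ QQ H R := by
    intro s hs
    rw [conj_QQ_inf hg]
    exact conj_mem_conj hs
  have hback : ∀ (s : Y) (v : V), (g * s * g⁻¹) • g • v = g • s • v := by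
    intro s v
    rw [← mul_smul, ← mul_smul]; congr 1; group
  have hgi := H.inv_mem hg
  -- the facts for `A`
  have hquad : ∀ s ∈ MulAut.conj g • B ⊓ QQ H R, ∀ r ∈ MulAut.conj g • B ⊓ QQ H R, ∀ v : V,
      s • (r • v + v) = r • v + v := by
    intro s hs r hr v
    have hv : v ∈ WW V H' R ⊔ Ee V (MulAut.conj g • B) := by rw [d.top]; exact AddSubgroup.mem_top v
    rw [AddSubgroup.mem_sup] at hv
    obtain ⟨y, hy, e, he, rfl⟩ := hv
    have h1 : r • (y + e) + (y + e) = (r • y + y) + (r • e + e) := by rw [smul_add]; abel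
    have h2 : r • y + y ∈ WW V H' R := add_mem (smul_mem_WW (h.a'.RH (QQ_le hr.2)) hy) hy
    have h3 := d.inf _ h2 (hm.VB r hr.1 y) s hs
    have h4 := he r hr.1 s hs.1
    rw [h1, smul_add, h3, h4]
  have hcm : ∀ s ∈ MulAut.conj g • B ⊓ QQ H R, ∀ v : V, s • v + v ∈ WW V H R ⊔ II V U H' R := by
    intro s hs v
    have hv : v ∈ WW V H' R ⊔ Ee V (MulAut.conj g • B) := by rw [d.top]; exact AddSubgroup.mem_top v
    rw [AddSubgroup.mem_sup] at hv
    obtain ⟨y, hy, e, he, rfl⟩ := hv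
    have h1 : s • (y + e) + (y + e) = (s • e + e) + (s • y + y) := by rw [smul_add]; abel
    rw [h1]
    apply add_mem
    · obtain ⟨w, hw⟩ := hm.ne
      obtain ⟨x, hx, hsx⟩ := d.shift s hs w hw
      obtain ⟨u, hu, hue⟩ := hm.surj w hw e he
      rw [mem_sym hm two hu hs.1 hue hsx]
      exact AddSubgroup.mem_sup_left (add_mem (smul_mem_WW (hAH hu) hx) hx)
    · obtain ⟨β, hβ0, hβ⟩ := d.supp'.act s hs
      exact AddSubgroup.mem_sup_right (comm_mem_II h.K' h.amb h.a' h.we' hD' (h.a'.RH (QQ_le hs.2))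
        (fun i hi => hβ0 i (by simpa using hi)) hβ hy)
  refine ⟨i, d.supp, ?_, ?_, fun s hs w hw => ?_, fun s hs r hr v => ?_, fun s hs v => ?_⟩
  · rw [← conj_card g, d.card]
  · rw [← conj_card g, ← conj_QQ_inf hg, d.cardB]
  · obtain ⟨x, hx, h1⟩ := d.shift _ (hcj hs) (g • w) (by
      rw [Ee_conj, mem_smul_as, inv_smul_smul]; exact hw)
    refine ⟨g⁻¹ • x, smul_mem_WW hgi hx, ?_⟩
    rw [fx_conj, mem_smul_as, hback, smul_add, smul_add, inv_smul_smul, inv_smul_smul] at h1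
    exact h1
  · have h1 := hquad _ (hcj hs) _ (hcj hr) (g • v)
    rw [hback, ← smul_add, hback, smul_left_cancel_iff] at h1
    exact h1
  · have h1 := plus_inv h hD hD' g⁻¹ hgi _ (hcm _ (hcj hs) (g • v))
    rw [hback, ← smul_add, inv_smul_smul] at h1
    exact h1

/-- **(0)** `C_V(b) ≤ W + F_B` -/
theorem MB.cent (h : TwoN V U T M H H' R F k co co' t) {B : Subgroup Y} (hB : B ∈ U) (hBR : B ≤ R) {i : Fin k}
    (m : MB V U H H' R co B i) {b : Y} (hb : b ∈ B ⊓ QQ H R) (hb1 : b ≠ 1) {v : V} (hv : b • v = v) :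
    v ∈ WW V H R ⊔ fx V B := by
  have two := h.amb.two
  have hm := h.amb.cls.mem B hB
  have hvE : v ∈ Ee V B := by
    by_contra hvE
    exact hb1 (hm.inj v hvE b hb.1 (by rw [hv, two]; exact zero_mem _))
  obtain ⟨w, hw⟩ := hm.ne
  obtain ⟨x, hx, hbx⟩ := m.shift b hb w hw
  obtain ⟨s, hs, hsv⟩ := hm.surj w hw v hvE
  have h1 := mem_sym hm two hs hb.1 hsv hbx
  rw [hv, two] at h1
  -- `s` fixes `x`
  have h2 : s • x = x := ((HE.add_eq_zero' two).1 h1.symm)
  have hxF : x ∉ fx V B := by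
    intro hxF
    apply hb1
    apply hm.inj w hw b hb.1
    have h3 := sub_mem hbx hxF
    rwa [add_sub_cancel_right] at h3
  have hx1 : co x i 1 ≠ 0 := by
    intro h0
    apply hxF
    rw [member_fx_iff h.K h.amb h.a h.we hB hBR m.supp hx]
    intro l hl
    rw [Set.mem_singleton_iff] at hl
    rw [hl, h0]
  obtain ⟨β, hβ0, hβ⟩ := m.supp.act s hs
  have h4 := hβ.up_fst hx i
  rw [h2] at h4
  have h5 : β i = 0 := (mul_eq_zero.1 (left_eq_add.1 h4)).resolve_right hx1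
  have hsQ : s ∈ QQ H R := h.K.mem_Q_of_up_zero two h.a.RH (hBR hs) hβ fun l => by
    by_cases hl : l = i
    · rw [hl, h5]
    · exact hβ0 l (by simpa using hl)
  obtain ⟨y, hy, hsy⟩ := m.shift s ⟨hs, hsQ⟩ w hw
  have h6 : y + v ∈ fx V B := by
    have h7 := add_mem hsy hsv
    have e : s • w + w + y + (s • w + w + v) = (s • w + s • w) + (w + w) + (y + v) := by abel
    rw [e, two, two, add_zero, zero_add] at h7
    exact h7
  have h8 : v = y + (y + v) := by rw [← add_assoc, two, zero_add]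
  rw [h8]
  exact add_mem (AddSubgroup.mem_sup_left hy) (AddSubgroup.mem_sup_right h6)

/-- permutation and line -/
theorem perm_line (K : KNat V H R F k co) (hRH : R ≤ H) {r : Y} (hr : r ∈ R) {i j : Fin k}
    (hij : ∀ v ∈ WW V H R, co (r • v) j = 0 ↔ co v i = 0) {v : V} (hv : v ∈ WW V H R) :
    co (r • v) j 1 = 0 ↔ co v i 1 = 0 := by
  obtain ⟨τ, hτ⟩ := K.perm r (hRH hr)
  obtain ⟨σ, hσ⟩ := K.line r hr
  have hτi : τ i = j := by
    obtain ⟨x, hx, hxi, hx0⟩ := K.exists_at i ![0, 1]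
    by_contra hne
    obtain ⟨l, hl⟩ := τ.surjective j
    have hli : l ≠ i := by
      rintro rfl
      exact hne hl
    have h1 := (hτ x hx l).2 (hx0 l hli)
    rw [hl, hij x hx, hxi] at h1
    have h2 := congrFun h1 1
    simp at h2
  have hσi : σ i = j := by
    obtain ⟨x, hx, hxi, hx0⟩ := K.exists_at i ![0, 1]
    by_contra hne
    obtain ⟨l, hl⟩ := τ.surjective (σ i)
    have hli : l ≠ i := by
      rintro rfl
      exact hne (hl.symm.trans hτi)
    have h1 := (hτ x hx l).2 (hx0 l hli)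
    have h2 := (hσ x hx i).1 (by rw [← hl, h1]; rfl)
    rw [hxi] at h2
    simp at h2
  rw [← hσi]
  exact hσ v hv i

/-- a root element at `i` in `Q'` -/
theorem exists_elt (h : TwoN V U T M H H' R F k co co' t) (hD : DD V U H H' R co co') (hD' : DD V U H' H R co' co)
    (i : Fin k) : ∃ a ∈ QQ H' R, a * a = 1 ∧ (∀ y ∈ WW V H R, a • y = y ↔ co y i 1 = 0) ∧
      ∀ v : V, ∃ x ∈ WW V H' R, ∃ y ∈ WW V H R, (∀ l, co y l 1 = 0) ∧ a • v + v = x + y := by
  have two := h.amb.two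
  obtain ⟨B, hB, hBR, hBQ⟩ := Amal.exists_not_QQ h.a' h.amb
  obtain ⟨g, hg, hgA⟩ := h.K'.lift fun _ => wm 1 one_ne_zero
  obtain ⟨hgen, i', j, d⟩ := hD' B hB hBR hBQ g hg hgA
  have hA : MulAut.conj g • B ∈ U := h.amb.cls.conj B hB g
  have hAH : MulAut.conj g • B ≤ H' := by rw [← hgen]; exact le_sup_right
  have hm := h.amb.cls.mem _ hA
  classical
  obtain ⟨a, ha, haA⟩ := d.supp'.full (Pi.single j 1) fun l hl => Pi.single_eq_of_ne (by simpa using hl) _
  have haH : a ∈ H := h.a.RH (QQ_le ha.2)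
  have hfix : ∀ y ∈ WW V H R, a • y = y ↔ co y j 1 = 0 := by
    intro y hy
    constructor
    · intro h1
      have h2 := haA.up_fst hy j
      rw [h1, Pi.single_eq_same, one_mul] at h2
      exact left_eq_add.1 h2
    · exact root_fix h.K h.amb h.a h.we hD haH (fun l hl => Pi.single_eq_of_ne hl _) haA hy
  have hcomm : ∀ v : V, ∃ x ∈ WW V H' R, ∃ y ∈ WW V H R, (∀ l, co y l 1 = 0) ∧ a • v + v = x + y := by
    intro v
    have hv : v ∈ WW V H R ⊔ Ee V (MulAut.conj g • B) := by rw [d.top]; exact AddSubgroup.mem_top v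
    rw [AddSubgroup.mem_sup] at hv
    obtain ⟨y, hy, e, he, rfl⟩ := hv
    have h1 : a • (y + e) + (y + e) = (a • e + e) + (a • y + y) := by rw [smul_add]; abel
    obtain ⟨w, hw⟩ := hm.ne
    obtain ⟨x, hx, hsx⟩ := d.shift a ha w hw
    obtain ⟨u, hu, hue⟩ := hm.surj w hw e he
    refine ⟨a • e + e, ?_, a • y + y, add_mem (smul_mem_WW haH hy) hy, fun l => ?_, h1⟩
    · rw [mem_sym hm two hu ha.1 hue hsx]
      exact add_mem (smul_mem_WW (hAH hu) hx) hx
    · rw [h.K.add_apply (smul_mem_WW haH hy) hy, haA.up_snd hy, h.K.ff two l]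
  -- conjugate with `r`
  obtain ⟨r, hr, hrs⟩ := h.K.trans j i
  have hri := R.inv_mem hr
  have hback : ∀ v : V, (r * a * r⁻¹) • v = r • a • r⁻¹ • v := by
    intro v
    rw [mul_smul, mul_smul]
  refine ⟨r * a * r⁻¹, conj_mem_QQ (h.a'.RH hr) ha.2, ?_, fun y hy => ?_, fun v => ?_⟩
  · have h1 := hm.sq a ha.1
    have e : r * a * r⁻¹ * (r * a * r⁻¹) = r * (a * a) * r⁻¹ := by group
    rw [e, h1, mul_one, mul_inv_cancel]
  · rw [hback]
    have h1 : r • a • r⁻¹ • y = y ↔ a • r⁻¹ • y = r⁻¹ • y := by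
      rw [smul_eq_iff_eq_inv_smul]
    have hyr := smul_mem_WW (h.a.RH hri) hy
    rw [h1, hfix _ hyr, ← perm_line h.K h.a.RH hr hrs hyr, smul_inv_smul]
  · obtain ⟨x, hx, y, hy, hy1, h1⟩ := hcomm (r⁻¹ • v)
    refine ⟨r • x, smul_mem_WW (h.a'.RH hr) hx, r • y, smul_mem_WW (h.a.RH hr) hy, fun l => ?_, ?_⟩
    · obtain ⟨σ, hσ⟩ := h.K.line r hr
      obtain ⟨m, rfl⟩ := σ.surjective l
      exact (hσ y hy m).2 (hy1 m)
    · rw [hback, ← smul_add, ← h1, smul_add, smul_inv_smul]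

/-- **(1)** a member in `R` which is not in `Q` is not in `Q'` -/
theorem not_le_Q' (h : TwoN V U T M H H' R F k co co' t) {a : ℕ} (w : World V U T M a)
    (hD : DD V U H H' R co co') (hD' : DD V U H' H R co' co)
    {B : Subgroup Y} (hB : B ∈ U) (hBR : B ≤ R) (hBQ : ¬ B ≤ QQ H R) : ¬ B ≤ QQ H' R := by
  intro hQ'
  have two := h.amb.two
  have hm := h.amb.cls.mem B hB
  obtain ⟨i, m⟩ := mb h hD hD' hB hBR hBQ
  obtain ⟨x, hx, hxx, hfix, hcomm⟩ := exists_elt h hD hD' i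
  have hfx : ∀ y ∈ WW V H R, co y i 1 = 0 → y ∈ fx V B := fun y hy h0 =>
    (member_fx_iff h.K h.amb h.a h.we hB hBR m.supp hy).2 fun l hl => by
      rw [Set.mem_singleton_iff] at hl
      rw [hl, h0]
  have hW' : ∀ y ∈ WW V H' R, y ∈ fx V B := fun y hy b hb => Amal.QQ_fix h.a' h.amb (hQ' hb) hy
  -- `[V, x] ≤ F_B`
  have h1 : ∀ v : V, x • v + v ∈ fx V B := by
    intro v
    obtain ⟨z, hz, y, hy, hy1, h2⟩ := hcomm v
    rw [h2]
    exact add_mem (hW' z hz) (hfx y hy (hy1 i))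
  -- `x` fixes `[e, b]`
  have h2 : ∀ b ∈ B ⊓ QQ H R, ∀ e ∈ Ee V B, x • (b • e + e) = b • e + e := by
    intro b hb e he
    obtain ⟨v, hv⟩ := hm.ne
    obtain ⟨z, hz, hbz⟩ := m.shift b hb v hv
    obtain ⟨u, hu, hue⟩ := hm.surj v hv e he
    rw [mem_sym hm two hu hb.1 hue hbz]
    have huH := h.a.RH (hBR hu)
    rw [hfix _ (add_mem (smul_mem_WW huH hz) hz)]
    obtain ⟨β, hβ0, hβ⟩ := m.supp.act u hu
    rw [h.K.add_apply (smul_mem_WW huH hz) hz, hβ.up_snd hz, h.K.ff two i]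
  -- `x` moves `[v, b]`
  have h3 : ∀ b ∈ B ⊓ QQ H R, b ≠ 1 → ∀ v, v ∉ Ee V B → x • (b • v + v) ≠ b • v + v := by
    intro b hb hb1 v hv h4
    have h5 := m.cmem b hb v
    rw [AddSubgroup.mem_sup] at h5
    obtain ⟨z, hz, y, hy, hzy⟩ := h5
    have hy' : y ∈ WW V H' R := II_le_WW h.a'.RH hy
    rw [← hzy, smul_add, Amal.QQ_fix h.a' h.amb hx hy'] at h4
    have h6 : x • z = z := add_right_cancel h4
    apply hb1
    apply hm.inj v hv b hb.1
    rw [← hzy]
    exact add_mem (hfx z hz ((hfix z hz).1 h6)) (hW' y hy')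
  have hact : ∀ b ∈ B ⊓ QQ H R, ∀ v : V, (x * b * x * b) • v = v + (x • (b • v + v) + (b • v + v)) := by
    intro b hb v
    have h4 := h1 (b • v) b hb.1
    rw [smul_add, ← mul_smul b b, hm.sq b hb.1, one_smul] at h4
    -- `b x b v = x b v + b v + v`
    have h5 : b • x • b • v = x • b • v + b • v + v := add_swap two h4
    rw [mul_smul, mul_smul, mul_smul, h5, smul_add, smul_add, ← mul_smul x x, hxx, one_smul, smul_add]
    have e : v + (x • b • v + x • v + (b • v + v)) = b • v + x • b • v + x • v + (v + v) := by abel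
    rw [e, two, add_zero]
  have heq : ∀ {y z : Y}, (∀ v : V, y • v = z • v) → y = z := by
    intro y z hyz
    have h4 : y⁻¹ * z = 1 := h.amb.faith _ fun v => by rw [mul_smul, ← hyz, inv_smul_smul]
    exact (inv_mul_eq_one.1 h4)
  let f : ↥(B ⊓ QQ H R) →* Y :=
    { toFun := fun b => x * b * x * b
      map_one' := by
        change x * (1 : Y) * x * 1 = 1
        rw [mul_one, mul_one, hxx]
      map_mul' := fun b c => by
        change x * ((b : Y) * c) * x * (b * c) = x * b * x * b * (x * c * x * c)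
        apply heq
        intro v
        have hbc := (B ⊓ QQ H R).mul_mem b.2 c.2
        have h4 : (b : Y) • ((c : Y) • v + v) = (c : Y) • v + v := m.quad b b.2 c c.2 v
        have h5 : ((b : Y) * c) • v + v = ((c : Y) • v + v) + ((b : Y) • v + v) := by
          rw [smul_add] at h4
          have h6 : (b : Y) • (c : Y) • v = (c : Y) • v + v + (b : Y) • v := add_swap two h4
          rw [mul_smul, h6]
          abel
        have h7 : (x * (c : Y) * x * c) • v = v + (x • ((c : Y) • v + v) + ((c : Y) • v + v)) := hact c c.2 v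
        rw [hact _ hbc v, mul_smul (x * (b : Y) * x * b), h7, hact b b.2, h5]
        have h8 := h1 ((c : Y) • v + v) b b.2.1
        have h9 : (b : Y) • (v + (x • ((c : Y) • v + v) + ((c : Y) • v + v))) +
            (v + (x • ((c : Y) • v + v) + ((c : Y) • v + v))) = (b : Y) • v + v := by
          rw [smul_add, h8]
          have e : (b : Y) • v + (x • ((c : Y) • v + v) + ((c : Y) • v + v)) +
              (v + (x • ((c : Y) • v + v) + ((c : Y) • v + v))) = (b : Y) • v + v +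
                ((x • ((c : Y) • v + v) + ((c : Y) • v + v)) + (x • ((c : Y) • v + v) + ((c : Y) • v + v))) := by abel
          rw [e, two, add_zero]
        rw [h9, smul_add x ((c : Y) • v + v) ((b : Y) • v + v)]
        abel }
  have hf : ∀ b : ↥(B ⊓ QQ H R), f b = x * b * x * b := fun _ => rfl
  have hinj : Function.Injective f := by
    rw [injective_iff_map_eq_one]
    intro b hb
    by_contra hb1
    obtain ⟨v, hv⟩ := hm.ne
    apply h3 b b.2 (fun h4 => hb1 (Subtype.ext h4)) v hv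
    have h4 := hact b b.2 v
    rw [← hf, hb, one_smul] at h4
    exact (HE.add_eq_zero' two).1 (left_eq_add.1 h4)
  have hcard : Nat.card f.range = Nat.card F := by
    rw [← m.cardB]
    exact (Nat.card_congr (Equiv.ofInjective f hinj)).symm
  have h10 := w.noff f.range (by
    rintro _ ⟨b, rfl⟩ _ ⟨c, rfl⟩
    rw [← map_mul, ← map_mul]
    congr 1
    exact Subtype.ext (hm.comm b b.2.1 c c.2.1)) (by
    rintro _ ⟨b, rfl⟩
    rw [← map_mul]
    have : b * b = 1 := Subtype.ext (hm.sq b b.2.1)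
    rw [this, map_one]) (by
    intro h4
    rw [h4, Subgroup.card_bot] at hcard
    have := Finite.one_lt_card (α := F)
    omega)
  have h11 : Ee V B ≤ fx V f.range := by
    intro e he
    rintro _ ⟨b, rfl⟩
    rw [hf, hact b b.2, h2 b b.2 e he, two, add_zero]
  have h12 := AddSubgroup.index_antitone h11
  rw [w.ind B hB] at h12
  have h13 := w.pf B hB
  rw [m.card] at h13
  have h14 : a ≤ Nat.card F := by
    by_contra h15
    push Not at h15
    exact absurd h13 (not_le.2 (Nat.pow_lt_pow_left h15 two_ne_zero))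
  rw [hcard] at h10
  omega

end one

end Cfsg.Agent.Omega.NO1.TH.K.L2K

end

section


/-!
# N1-ONE, natural type, `k ≥ 2`: case (d) is impossible (bb OMEGA 20937, helper476), the end

* `exists_of_comm` (2) : `[W, B] ⊆ [W', B]`;  `II_le` : `[W', J] ≤ W`;
* `inf_eq_bot` (4) : `B ∩ Q ∩ Q' = 1`;
* `kill_soc` (5) : SOC for `X = ⟨B, B^h, B^h'⟩`;
* `lTwo` : (L2) of bb OMEGA 20646.
-/

set_option autoImplicit false
set_option linter.unusedSectionVars false
set_option linter.dupNamespace false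

namespace Cfsg.Agent.Omega.NO1.TH.K.L2K

open Subgroup Cfsg.Agent.Omega.NO1.TH.K Cfsg.Agent.Omega.NO1.AB Cfsg.Agent.Omega.FFBr Cfsg.Agent.Lib.SL2Mat
open Cfsg.Agent.Omega.NatPair (ap)
open scoped Pointwise

universe u

variable {Y : Type u} [Group Y] {V : Type u} [AddCommGroup V] [DistribMulAction Y V]

section one

variable {U : Set (Subgroup Y)} {T : Sylow 2 Y} {M H H' R : Subgroup Y} {t : Y} {F : Type} [Field F]
  {k : ℕ} {co co' : V → Fin k → Fin 2 → F} [Finite Y] [Finite V] [Finite F]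

/-- `|B₁| |B₂| = |B|`, `B₁ ∩ B₂ = 1`: `B = B₁ B₂` -/
theorem exists_mul_of_inf {B B₁ B₂ : Subgroup Y} (h1 : B₁ ≤ B) (h2 : B₂ ≤ B)
    (hi : ∀ b ∈ B₁, b ∈ B₂ → b = 1) (hc : Nat.card B ≤ Nat.card B₁ * Nat.card B₂) {u : Y} (hu : u ∈ B) :
    ∃ b ∈ B₁, ∃ c ∈ B₂, u = b * c := by
  let f : B₁ × B₂ → B := fun p => ⟨p.1 * p.2, B.mul_mem (h1 p.1.2) (h2 p.2.2)⟩
  have hinj : Function.Injective f := by
    rintro ⟨⟨b, hb⟩, ⟨c, hc⟩⟩ ⟨⟨b', hb'⟩, ⟨c', hc'⟩⟩ h
    have h3 : b * c = b' * c' := congrArg Subtype.val h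
    have h4 : b'⁻¹ * b = c' * c⁻¹ := by
      rw [inv_mul_eq_iff_eq_mul, ← mul_assoc, ← h3, mul_assoc, mul_inv_cancel, mul_one]
    have h5 : b'⁻¹ * b = 1 := hi _ (B₁.mul_mem (B₁.inv_mem hb') hb) (by
      rw [h4]; exact B₂.mul_mem hc' (B₂.inv_mem hc))
    have h6 : b = b' := (inv_mul_eq_one.1 h5).symm
    subst h6
    have h7 : c = c' := mul_left_cancel h3
    subst h7
    rfl
  have hb := hinj.bijective_of_nat_card_le (by rw [Nat.card_prod]; exact hc)
  obtain ⟨⟨b, c⟩, hbc⟩ := hb.2 ⟨u, hu⟩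
  exact ⟨b, b.2, c, c.2, (congrArg Subtype.val hbc).symm⟩

/-- **(2)** `[W, B] ⊆ [W', B]` -/
theorem exists_of_comm (h : TwoN V U T M H H' R F k co co' t)
    {B : Subgroup Y} (hB : B ∈ U) (hBR : B ≤ R) {i i' : Fin k}
    (m : MB V U H H' R co B i) (m' : MB V U H' H R co' B i') {x : V} (hx : x ∈ WW V H R) {u : Y} (hu : u ∈ B) :
    ∃ y ∈ WW V H' R, ∃ s ∈ B, u • x + x = s • y + y := by
  have two := h.amb.two
  have hm := h.amb.cls.mem B hB
  by_cases hbb : ∃ b ∈ B ⊓ QQ H R, b ∈ QQ H' R ∧ b ≠ 1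
  · obtain ⟨b, hb, hb', hb1⟩ := hbb
    have h1 := m'.cent h.swap hB hBR ⟨hb.1, hb'⟩ hb1 (Amal.QQ_fix h.a h.amb hb.2 hx)
    rw [AddSubgroup.mem_sup] at h1
    obtain ⟨y, hy, f, hf, rfl⟩ := h1
    refine ⟨y, hy, u, hu, ?_⟩
    rw [smul_add, hf u hu]
    have e : u • y + f + (y + f) = u • y + y + (f + f) := by abel
    rw [e, two, add_zero]
  · push Not at hbb
    obtain ⟨b, hb, c, hc, rfl⟩ := exists_mul_of_inf (B₁ := B ⊓ QQ H R) (B₂ := B ⊓ QQ H' R) inf_le_left inf_le_left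
      (fun b hb hb' => hbb b hb hb'.2) (by rw [m.card, m.cardB, m'.cardB, pow_two]) hu
    obtain ⟨w, hw⟩ := hm.ne
    obtain ⟨s, hs, hsx⟩ := hm.surj w hw x (h.we B hB hBR hx)
    obtain ⟨y, hy, hcy⟩ := m'.shift c hc w hw
    refine ⟨y, hy, s, hs, ?_⟩
    rw [mul_smul, Amal.QQ_fix h.a h.amb hb.2 (smul_mem_WW (h.a.RH (hBR hc.1)) hx)]
    exact mem_sym hm two hs hc.1 hsx hcy

/-- **(2)** `I' ≤ W` -/
theorem II_le (h : TwoN V U T M H H' R F k co co' t) {a : ℕ} (w : World V U T M a)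
    (hD : DD V U H H' R co co') (hD' : DD V U H' H R co' co) : II V U H' R ≤ WW V H R := by
  refine (AddSubgroup.closure_le _).2 ?_
  rintro _ ⟨B, hB, hBR, b, hb, y, hy, rfl⟩
  by_cases hQ' : B ≤ QQ H' R
  · rw [Amal.QQ_fix h.a' h.amb (hQ' hb) hy, h.amb.two]
    exact zero_mem _
  · have hQ : ¬ B ≤ QQ H R := not_le_Q' h.swap w hD' hD hB hBR hQ'
    obtain ⟨i, m⟩ := mb h hD hD' hB hBR hQ
    obtain ⟨i', m'⟩ := mb h.swap hD' hD hB hBR hQ'
    obtain ⟨x, hx, s, hs, h1⟩ := exists_of_comm h.swap hB hBR m' m hy hb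
    rw [h1]
    exact add_mem (smul_mem_WW (h.a.RH (hBR hs)) hx) hx

theorem comm_mem_W (h : TwoN V U T M H H' R F k co co' t) {a : ℕ} (w : World V U T M a)
    (hD : DD V U H H' R co co') (hD' : DD V U H' H R co' co) {B : Subgroup Y} {i : Fin k}
    (m : MB V U H H' R co B i) {b : Y} (hb : b ∈ B ⊓ QQ H R) (v : V) : b • v + v ∈ WW V H R := by
  have h1 := m.cmem b hb v
  rwa [sup_eq_left.2 (II_le h w hD hD')] at h1

/-- **(4)** `B ∩ Q ∩ Q' = 1` -/
theorem inf_eq_bot (h : TwoN V U T M H H' R F k co co' t) {a : ℕ} (w : World V U T M a)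
    (hD : DD V U H H' R co co') (hD' : DD V U H' H R co' co) {B : Subgroup Y} (hB : B ∈ U) (hBR : B ≤ R)
    {i i' : Fin k} (m : MB V U H H' R co B i) (m' : MB V U H' H R co' B i') {b : Y} (hb : b ∈ B)
    (hbQ : b ∈ QQ H R) (hbQ' : b ∈ QQ H' R) : b = 1 := by
  have hm := h.amb.cls.mem B hB
  obtain ⟨v, hv⟩ := hm.ne
  have h1 := comm_mem_W h w hD hD' m ⟨hb, hbQ⟩ v
  have h2 := comm_mem_W h.swap w hD' hD m' ⟨hb, hbQ'⟩ v
  obtain ⟨x, hx, -, hfix, -⟩ := exists_elt h hD hD' i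
  apply hm.inj v hv b hb
  rw [member_fx_iff h.K h.amb h.a h.we hB hBR m.supp h1]
  intro l hl
  rw [Set.mem_singleton_iff] at hl
  rw [hl]
  exact (hfix _ h1).1 (Amal.QQ_fix h.a' h.amb hx h2)

theorem acts_pow {g : Y} (hg : g ∈ H) {A : Fin k → Matrix.SpecialLinearGroup (Fin 2) F}
    (hA : Acts V H R co g A) (n : ℕ) : Acts V H R co (g ^ n) (A ^ n) := by
  induction n with
  | zero => rw [pow_zero, pow_zero]; exact Acts.one
  | succ n ih => rw [pow_succ, pow_succ]; exact ih.mul hg hA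

theorem up_lo_ne {b : F} (hb : b ≠ 0) (hF : ∀ x : F, x + x = 0) {n : ℕ} (h : (up b * lo b⁻¹) ^ 2 ^ n = 1) : False := by
  have h2 : (1 : F) + 1 = 0 := hF 1
  have hbb : b * b⁻¹ = 1 := mul_inv_cancel₀ hb
  have hbb' : b⁻¹ * b = 1 := inv_mul_cancel₀ hb
  have e00 : ent (up b * lo b⁻¹) 0 0 = 0 := by
    rw [ent_mul, up_00, up_01, lo_00, lo_10, hbb, mul_one, h2]
  have e01 : ent (up b * lo b⁻¹) 0 1 = b := by
    rw [ent_mul, up_00, up_01, lo_01, lo_11, mul_zero, zero_add, mul_one]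
  have e10 : ent (up b * lo b⁻¹) 1 0 = b⁻¹ := by
    rw [ent_mul, up_10, up_11, lo_00, lo_10, zero_mul, zero_add, one_mul]
  have e11 : ent (up b * lo b⁻¹) 1 1 = 1 := by
    rw [ent_mul, up_10, up_11, lo_01, lo_11, zero_mul, zero_add, one_mul]
  have h3 : (up b * lo b⁻¹) ^ 3 = 1 := by
    set A := up b * lo b⁻¹ with hA
    apply ext_ent
    · rw [pow_succ, pow_two, ent_mul, ent_mul A A 0 0, ent_mul A A 0 1, e00, e01, e10, e11, ent_one_00]
      linear_combination hbb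
    · rw [pow_succ, pow_two, ent_mul, ent_mul A A 0 0, ent_mul A A 0 1, e00, e01, e10, e11, ent_one_01]
      linear_combination b * hbb + b * h2
    · rw [pow_succ, pow_two, ent_mul, ent_mul A A 1 0, ent_mul A A 1 1, e00, e01, e10, e11, ent_one_10]
      linear_combination b⁻¹ * hbb' + b⁻¹ * h2
    · rw [pow_succ, pow_two, ent_mul, ent_mul A A 1 0, ent_mul A A 1 1, e00, e01, e10, e11, ent_one_11]
      linear_combination 2 * hbb' + h2
  have h4 := pow_gcd_eq_one.2 ⟨h, h3⟩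
  have h5 : Nat.gcd (2 ^ n) 3 = 1 := (Nat.Coprime.pow_left n (by decide : Nat.Coprime 2 3))
  rw [h5, pow_one] at h4
  rw [h4, ent_one_00] at e00
  exact one_ne_zero e00

/-- an element of `B ∩ O₂(X)`, `B, B^g ≤ X`, is in `Q` -/
theorem mem_Q_of_o2 (h : TwoN V U T M H H' R F k co co' t) {B X : Subgroup Y} (hB : B ∈ U) (hBR : B ≤ R)
    {i : Fin k} (hS : Supp V H R co B {i}) {g : Y} (hg : g ∈ H) (hgA : Acts V H R co g fun _ => wm 1 one_ne_zero)
    (hX' : MulAut.conj g • B ≤ X) {u : Y} (hu : u ∈ B) (huX : u ∈ ZN.o2 X) : u ∈ QQ H R := by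
  have two := h.amb.two
  have hm := h.amb.cls.mem B hB
  obtain ⟨β, hβ0, hβ⟩ := hS.act u hu
  have hBH : B ≤ H := hBR.trans h.a.RH
  apply h.K.mem_Q_of_up_zero two h.a.RH (hBR hu) hβ
  intro l
  by_cases hl : l = i
  swap
  · exact hβ0 l (by simpa using hl)
  subst hl
  by_contra hne
  classical
  obtain ⟨v, hv, hvA⟩ := (hS.opp hg hgA hBH).full (Pi.single l (β l)⁻¹) fun m hm =>
    Pi.single_eq_of_ne (by simpa using hm) _
  have hvH : v ∈ H := by
    rw [mem_conj] at hv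
    have h1 := H.mul_mem (H.mul_mem hg (hBH hv)) (H.inv_mem hg)
    have e : g * (g⁻¹ * v * g) * g⁻¹ = v := by group
    rwa [e] at h1
  have huH := hBH hu
  have hvv : v * v = 1 := (h.amb.cls.mem _ (h.amb.cls.conj B hB g)).sq v hv
  have huu := hm.sq u hu
  -- `(u v)² ∈ O₂(X)`
  have h1 : (u * v) ^ 2 ∈ ZN.o2 X := by
    have h2 : v * u * v⁻¹ ∈ ZN.o2 X := by
      obtain ⟨z, hz, rfl⟩ := huX
      refine ⟨⟨v, hX' hv⟩ * z * ⟨v, hX' hv⟩⁻¹, ?_, rfl⟩
      exact (Cfsg.Agent.Lib.Cores.pCore_normal (G := X) 2).conj_mem z hz _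
    have h3 := (ZN.o2 X).mul_mem huX h2
    have e : u * (v * u * v⁻¹) = (u * v) ^ 2 := by
      rw [inv_eq_of_mul_eq_one_left hvv, pow_two]
      group
    rwa [e] at h3
  have h2 : ∃ n : ℕ, (u * v) ^ 2 ^ n = 1 := by
    obtain ⟨z, hz, hzz⟩ := h1
    obtain ⟨n, hn⟩ := (Cfsg.Agent.Lib.Cores.pCore_isPGroup (G := X) 2) ⟨z, hz⟩
    refine ⟨n + 1, ?_⟩
    have h2 : z ^ 2 ^ n = 1 := congrArg Subtype.val hn
    have h3 : ((u * v) ^ 2) ^ 2 ^ n = 1 := by
      rw [← hzz, ← map_pow, h2, map_one]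
    rw [← pow_mul] at h3
    rwa [pow_succ, mul_comm]
  obtain ⟨n, hn⟩ := h2
  have h3 := acts_pow (H.mul_mem huH hvH) (hβ.mul hvH hvA) (2 ^ n)
  rw [hn] at h3
  apply up_lo_ne hne (h.K.ff two l) (n := n)
  apply NatPair.ap_inj
  intro x
  obtain ⟨y, hy, hyx, -⟩ := h.K.exists_at l x
  have h4 := h3.1 y hy l
  rw [one_smul, hyx] at h4
  rw [NatPair.ap_one]
  refine Eq.trans ?_ h4.symm
  rw [Pi.pow_apply, Pi.mul_apply, Pi.single_eq_same]

/-- a member `B^g` (`g` acts as `w` on all blocks) fixes the vectors without `i`-component -/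
theorem opp_fix (h : TwoN V U T M H H' R F k co co' t) {B : Subgroup Y} (hB : B ∈ U) (hBR : B ≤ R)
    {i : Fin k} (hS : Supp V H R co B {i}) {g : Y} (hg : g ∈ H) (hgA : Acts V H R co g fun _ => wm 1 one_ne_zero)
    {d : V} (hd : d ∈ WW V H R) (h0 : co d i = 0) : d ∈ fx V (MulAut.conj g • B) := by
  rw [fx_conj, mem_smul_as, member_fx_iff h.K h.amb h.a h.we hB hBR hS (smul_mem_WW (H.inv_mem hg) hd)]
  intro l hl
  rw [Set.mem_singleton_iff] at hl
  subst hl
  have h1 := (hgA.inv hg).1 d hd l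
  rw [h1, h0]
  rw [NatPair.ap_one']
  simp

/-- **(5)** SOC for `X = ⟨B, B^g, B^g'⟩` -/
theorem kill_soc (h : TwoN V U T M H H' R F k co co' t) {a : ℕ} (w : World V U T M a) {B : Subgroup Y} (hB : B ∈ U)
    (hBR : B ≤ R) {i i' : Fin k} (hS : Supp V H R co B {i}) (hS' : Supp V H' R co' B {i'})
    (hbot : ∀ b ∈ B, b ∈ QQ H R → b ∈ QQ H' R → b = 1) {d : V} (hd0 : d ≠ 0) (hd : d ∈ WW V H R)
    (hd' : d ∈ WW V H' R) (hdi : co d i = 0) (hdi' : co' d i' = 0) : False := by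
  obtain ⟨g, hg, hgA⟩ := h.K.lift fun _ => wm 1 one_ne_zero
  obtain ⟨g', hg', hgA'⟩ := h.K'.lift fun _ => wm 1 one_ne_zero
  have hX1 : B ≤ B ⊔ MulAut.conj g • B ⊔ MulAut.conj g' • B := le_sup_left.trans le_sup_left
  have hX2 : MulAut.conj g • B ≤ B ⊔ MulAut.conj g • B ⊔ MulAut.conj g' • B := le_sup_right.trans le_sup_left
  have hX3 : MulAut.conj g' • B ≤ B ⊔ MulAut.conj g • B ⊔ MulAut.conj g' • B := le_sup_right
  have hdB : d ∈ fx V B := (member_fx_iff h.K h.amb h.a h.we hB hBR hS hd).2 fun l hl => by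
    rw [Set.mem_singleton_iff] at hl
    rw [hl, hdi]; rfl
  have h1 := opp_fix h hB hBR hS hg hgA hd hdi
  have h2 := opp_fix h.swap hB hBR hS' hg' hgA' hd' hdi'
  have hst : B ⊔ MulAut.conj g • B ⊔ MulAut.conj g' • B ≤ MulAction.stabilizer Y d :=
    sup_le (sup_le (fun x hx => hdB x hx) fun x hx => h1 x hx) fun x hx => h2 x hx
  apply w.soc B hB _ hX1 ⟨d, hd0, fun x hx => hst hx⟩
  rw [eq_bot_iff]
  rintro u ⟨hu, huX⟩
  rw [mem_bot]
  exact hbot u hu (mem_Q_of_o2 h hB hBR hS hg hgA hX2 hu huX)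
    (mem_Q_of_o2 h.swap hB hBR hS' hg' hgA' hX3 hu huX)

/-- **(L2) of bb OMEGA 20646**: case (d) on both sides is impossible for `k ≥ 2` -/
theorem lTwo' (h : TwoN V U T M H H' R F k co co' t) {a : ℕ} (w : World V U T M a) (hk : 2 ≤ k)
    (hD : DD V U H H' R co co') (hD' : DD V U H' H R co' co) : False := by
  have two := h.amb.two
  obtain ⟨B, hB, hBR, hBQ⟩ := Amal.exists_not_QQ h.a h.amb
  have hBQ' := not_le_Q' h w hD hD' hB hBR hBQ
  obtain ⟨i, m⟩ := mb h hD hD' hB hBR hBQ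
  obtain ⟨i', m'⟩ := mb h.swap hD' hD hB hBR hBQ'
  have : Nontrivial (Fin k) := Fin.nontrivial_iff_two_le.2 hk
  obtain ⟨l, hl⟩ := exists_ne i
  obtain ⟨C, hC, hCR, hCQ, hSC⟩ := exists_single_member h.K h.amb h.a h.we hD l
  have hCQ' := not_le_Q' h w hD hD' hC hCR hCQ
  obtain ⟨l₁, n⟩ := mb h hD hD' hC hCR hCQ
  obtain ⟨l', n'⟩ := mb h.swap hD' hD hC hCR hCQ'
  classical
  obtain ⟨u, hu, huA⟩ := hSC.full (Pi.single l 1) fun j hj => Pi.single_eq_of_ne (by simpa using hj) _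
  obtain ⟨x, hx, hxl, hx0⟩ := h.K.exists_at l ![0, 1]
  have huH := h.a.RH (hCR hu)
  have hdW : u • x + x ∈ WW V H R := add_mem (smul_mem_WW huH hx) hx
  have hd1 : co (u • x + x) l 0 = 1 := by
    rw [h.K.add_apply (smul_mem_WW huH hx) hx, huA.up_fst hx, hxl, Pi.single_eq_same]
    simp
  have hdj : ∀ {B : Subgroup Y} {i : Fin k} {u : Y} {x : V}, B ≤ R → Supp V H R co B {i} → u ∈ B → x ∈ WW V H R →
      ∀ j, j ≠ i → co (u • x + x) j = 0 := by
    intro B i u x hBR hS hu hx j hj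
    obtain ⟨β, hβ0, hβ⟩ := hS.act u hu
    have huH := h.a.RH (hBR hu)
    have h1 := hβ.1 x hx j
    simp only [hβ0 j (by simpa using hj), up_zero, NatPair.ap_one] at h1
    rw [h.K.add _ (smul_mem_WW huH hx) _ hx, Pi.add_apply, h1]
    funext e
    exact h.K.ff two j _
  have hdj' : ∀ {B : Subgroup Y} {i : Fin k} {u : Y} {x : V}, B ≤ R → Supp V H' R co' B {i} → u ∈ B → x ∈ WW V H' R →
      ∀ j, j ≠ i → co' (u • x + x) j = 0 := by
    intro B i u x hBR hS hu hx j hj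
    obtain ⟨β, hβ0, hβ⟩ := hS.act u hu
    have huH := h.a'.RH (hBR hu)
    have h1 := hβ.1 x hx j
    simp only [hβ0 j (by simpa using hj), up_zero, NatPair.ap_one] at h1
    rw [h.K'.add _ (smul_mem_WW huH hx) _ hx, Pi.add_apply, h1]
    funext e
    exact h.K'.ff two j _
  obtain ⟨y, hy, s, hs, hsy⟩ := exists_of_comm h hC hCR n n' hx hu
  have hne : l' ≠ i' := by
    rintro rfl
    obtain ⟨β, hβ0, hβ⟩ := n'.supp.act s hs
    obtain ⟨s', hs', hβ'⟩ := m'.supp.full β hβ0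
    have h1 : s • y = s' • y := eq_of_up h.K' two (h.a'.RH (hCR hs)) (h.a'.RH (hBR hs'))
      ((h.amb.cls.mem B hB).sq s' hs') hβ hβ' hy
    obtain ⟨z, hz, r, hr, hrz⟩ := exists_of_comm h.swap hB hBR m' m hy hs'
    have h2 := hdj hBR m.supp hr hz l hl
    rw [← hrz, ← h1, ← hsy] at h2
    rw [h2] at hd1
    exact zero_ne_one hd1
  refine kill_soc h w hB hBR m.supp m'.supp (fun b hb h1 h2 => inf_eq_bot h w hD hD' hB hBR m m' hb h1 h2)
    (d := u • x + x) ?_ hdW ?_ (hdj hCR hSC hu hx i hl.symm) ?_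
  · intro h0
    rw [h0, h.K.zero] at hd1
    exact zero_ne_one hd1
  · rw [hsy]
    exact add_mem (smul_mem_WW (h.a'.RH (hCR hs)) hy) hy
  · rw [hsy]
    exact hdj' hCR n'.supp hs hy i' hne.symm

end one

end Cfsg.Agent.Omega.NO1.TH.K.L2K

namespace Cfsg.Agent.Omega.NO1.TH.K

universe v

/-- **(L2) of bb OMEGA 20646**: case (d) on both sides is impossible for `k ≥ 2` -/
theorem lTwo {Y V : Type v} [Group Y] [AddCommGroup V] [DistribMulAction Y V] [Finite Y] [Finite V]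
    {U : Set (Subgroup Y)} {T : Sylow 2 Y} {M H H' R : Subgroup Y} {t : Y} {F : Type} [Field F] [Finite F] {k : ℕ}
    {co co' : V → Fin k → Fin 2 → F} (h : TwoN V U T M H H' R F k co co' t) {a : ℕ} (w : World V U T M a)
    (hk : 2 ≤ k) (hD : DD V U H H' R co co') (hD' : DD V U H' H R co' co) : False :=
  L2K.lTwo' h w hk hD hD'

end Cfsg.Agent.Omega.NO1.TH.K

end

end
end

-- part: Mrg/Omega/NO1/TH/K/EOne
section
prune_inst 0x70104900542202000000000200001c62a2000002000b0000d00000000c8e3e600d002e20f4300b000880008440300068101800100000000000000000411d00a0800950021310ad0436000f803802000000000000000000000000000000041000000000000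
set_option linter.all false
open scoped Cfsg.Agent.FastGrp

section


/-!
# N1, BETA, the amalgam `(H, H')`: (1) of bb OMEGA 20297 for any type (helper503; #20646 (e))

`W = WW V H R`, `W' = WW V H' R`, `Q = QQ H R`, `Q' = QQ H' R`, `A ≤ H` a member with `W' ≤ E_A`, `B₁ = A ∩ Q`,
`K = B₁ ∩ Q'`:
* `Amal.noOver` : no over-offender, for `B ≤ R` elementary abelian;
* `Amal.e_one` : `|K| |W'| = |B₁| |C_{W'}(B₁)|`, `C_E(K) = W + W' + F_A`, `|K| |W + W' + F_A| = |A| |F_A|`;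
* `Amal.e_fx` : `C_V(K) = W + W' + F_A` if `K ≠ 1`;
* `Amal.e_off` : `B₁` is an (exact) offender on `W'`;
* `Amal.e_S` : the elements `s_x`, `x ∈ W + W'`, are `|A / K|` in number.
-/

set_option autoImplicit false
set_option linter.unusedSectionVars false

namespace Cfsg.Agent.Omega.NO1.TH

open Subgroup Cfsg.Agent.Omega.NO1.AB Cfsg.Agent.Omega.FFBr
open scoped Pointwise

universe u

variable {Y : Type u} [Group Y] {V : Type u} [AddCommGroup V] [DistribMulAction Y V]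

theorem arith_e {w w' i x y z m n k b α f e g : ℕ} (hw : 0 < w) (hi : 0 < i) (hy : 0 < y) (hm : 0 < m)
    (hk : 0 < k) (hf : 0 < f) (h1 : x * i = w * w') (h2 : z * i = w * y)
    (h3 : z * n = w * m) (h4 : w * b = α * n) (h5 : k * e ≤ f * α) (h6 : g ≤ e) (h7 : g * m = x * f)
    (h8 : b * y ≤ k * w') : k * w' = b * y ∧ e ≤ g ∧ k * g = α * f := by
  have e2 : x * y = z * w' := by
    apply Nat.eq_of_mul_eq_mul_right (Nat.mul_pos hi hw)
    calc x * y * (i * w) = (x * i) * (w * y) := by ring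
      _ = w * w' * (z * i) := by rw [h1, h2]
      _ = _ := by ring
  have e4 : z * b = m * α := by
    apply Nat.eq_of_mul_eq_mul_left hw
    calc w * (z * b) = z * (w * b) := by ring
      _ = z * n * α := by rw [h4]; ring
      _ = w * m * α := by rw [h3]
      _ = _ := by ring
  have e5 : k * x ≤ α * m := by
    apply Nat.le_of_mul_le_mul_right _ hf
    calc k * x * f = k * (x * f) := by ring
      _ = k * (g * m) := by rw [h7]
      _ ≤ k * (e * m) := Nat.mul_le_mul_left _ (Nat.mul_le_mul_right _ h6)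
      _ = k * e * m := by ring
      _ ≤ f * α * m := Nat.mul_le_mul_right _ h5
      _ = _ := by ring
  have hz : 0 < z := by
    rcases Nat.eq_zero_or_pos z with h0 | h0
    · rw [h0, zero_mul] at h3
      exact absurd h3.symm (Nat.mul_pos hw hm).ne'
    · exact h0
  have e6 : k * w' ≤ b * y := by
    apply Nat.le_of_mul_le_mul_left _ hz
    calc z * (k * w') = k * (z * w') := by ring
      _ = k * x * y := by rw [← e2]; ring
      _ ≤ α * m * y := Nat.mul_le_mul_right _ e5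
      _ = z * b * y := by rw [e4]; ring
      _ = _ := by ring
  have e7 := le_antisymm e6 h8
  have e8 : α * m = k * x := by
    apply Nat.eq_of_mul_eq_mul_right hy
    calc α * m * y = z * b * y := by rw [e4]; ring
      _ = z * (b * y) := by ring
      _ = k * (z * w') := by rw [← e7]; ring
      _ = _ := by rw [← e2]; ring
  have e9 : e ≤ g := by
    apply Nat.le_of_mul_le_mul_left _ (Nat.mul_pos hk hm)
    calc k * m * e = m * (k * e) := by ring
      _ ≤ m * (f * α) := Nat.mul_le_mul_left _ h5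
      _ = α * m * f := by ring
      _ = k * (x * f) := by rw [e8]; ring
      _ = _ := by rw [← h7]; ring
  refine ⟨e7, e9, ?_⟩
  apply Nat.eq_of_mul_eq_mul_right hm
  calc k * g * m = k * (g * m) := by ring
    _ = k * x * f := by rw [h7]; ring
    _ = _ := by rw [← e8]; ring

/-- the count of `ANoOver` -/
theorem noOver_of [Finite Y] [Finite V] {H R : Subgroup Y} (hno : ANoOver (XH V H R) (Wm V H R)) {B : Subgroup Y}
    (hBH : B ≤ H) (hB : ElAb B) : Nat.card B * Nat.card ↥(WW V H R ⊓ fx V B) ≤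
      Nat.card ↥(WW V H R) * Nat.card ↥(B ⊓ CW V H R) := by
  have h1 := hno ((B.subgroupOf H).map (pr V H R)) (by
    rintro _ ⟨x, hx, rfl⟩ _ ⟨y, hy, rfl⟩
    rw [← map_mul, ← map_mul]
    congr 1
    exact Subtype.ext (hB.1 x hx y hy)) (by
    rintro _ ⟨x, hx, rfl⟩
    rw [← map_mul]
    have : x * x = 1 := Subtype.ext (hB.2 x hx)
    rw [this, map_one])
  have h2 := card_im (V := V) (R := R) hBH
  have h3 := card_cv (V := V) (R := R) hBH
  rw [← h2, ← h3]
  calc _ = Nat.card ↥((B.subgroupOf H).map (pr V H R)) *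
        (Nat.card ↥(B ⊓ CW V H R) * Nat.card ↥(WW V H R ⊓ fx V B)) := mul_assoc _ _ _
    _ ≤ _ := Nat.mul_le_mul_right _ h1
    _ = _ := by ring

namespace Amal

variable {U : Set (Subgroup Y)} {T : Sylow 2 Y} {M H H' R : Subgroup Y} {t : Y}

/-- **no over-offender** -/
theorem noOver [Finite Y] [Finite V] (a : Amal U T M H R t) (h : Amb V U T M) (we : WE V U H R) {B : Subgroup Y}
    (hBR : B ≤ R) (hB : ElAb B) : Nat.card B * Nat.card ↥(fx V B ⊓ WW V H R) ≤
      Nat.card ↥(B ⊓ QQ H R) * Nat.card ↥(WW V H R) := by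
  obtain ⟨P, M₁, _, _, hno, _⟩ := a.ff' h we
  have h1 := noOver_of hno (hBR.trans a.RH) hB
  rw [inf_CW a h hBR] at h1
  rw [inf_comm (fx V B), mul_comm (Nat.card ↥(B ⊓ QQ H R))]
  exact h1

variable [Finite Y] [Finite V] (a : Amal U T M H R t) (a' : Amal U T M H' R t) (h : Amb V U T M) (we : WE V U H R)
  (we' : WE V U H' R)
include a a' h we we'

/-- **(1) of #20297, any type** -/
theorem e_one {A : Subgroup Y} (hA : A ∈ U) (hAH : A ≤ H) (hE : WW V H' R ≤ Ee V A) :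
    Nat.card ↥(A ⊓ QQ H R ⊓ QQ H' R) * Nat.card ↥(WW V H' R) =
        Nat.card ↥(A ⊓ QQ H R) * Nat.card ↥(fx V (A ⊓ QQ H R) ⊓ WW V H' R) ∧
      fx V (A ⊓ QQ H R ⊓ QQ H' R) ⊓ Ee V A = WW V H R ⊔ WW V H' R ⊔ fx V A ∧
      Nat.card ↥(A ⊓ QQ H R ⊓ QQ H' R) * Nat.card ↥(WW V H R ⊔ WW V H' R ⊔ fx V A) =
        Nat.card A * Nat.card ↥(fx V A) := by
  have hm := h.cls.mem A hA
  set W := WW V H R with hW
  set W' := WW V H' R with hW'
  set F := fx V A with hF
  set E := Ee V A with hEd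
  set B₁ := A ⊓ QQ H R with hB₁
  set K := B₁ ⊓ QQ H' R with hK
  have hWE : W ≤ E := a.WW_le_Ee h we hA hAH
  have hZ : fx V B₁ = W ⊔ F := a.fx_eq h we hA hAH
  have hWZ : W ≤ fx V B₁ := by rw [hZ]; exact le_sup_left
  have hX : W ⊔ W' ⊔ F ≤ fx V K ⊓ E := by
    refine sup_le (sup_le ?_ ?_) ?_
    · exact le_inf (hWZ.trans (fx_mono inf_le_left)) hWE
    · exact le_inf (fun v hv b hb => Amal.QQ_fix a' h hb.2 hv) hE
    · exact le_inf (fx_mono (inf_le_left.trans inf_le_left)) hm.FE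
  have c1 := card_sup_as W W'
  have c2 := card_sup_as W (fx V B₁ ⊓ W')
  have i2 : W ⊓ (fx V B₁ ⊓ W') = W ⊓ W' := by
    rw [← inf_assoc, inf_eq_left.2 hWZ]
  rw [i2] at c2
  have i3 : (W ⊔ W') ⊓ fx V B₁ = W ⊔ fx V B₁ ⊓ W' := by
    rw [sup_inf_assoc_of_le _ hWZ, inf_comm W']
  have i4 : (W ⊔ W') ⊓ fx V B₁ = W ⊔ (W ⊔ W') ⊓ F := by
    rw [hZ, inf_comm, sup_inf_assoc_of_le _ le_sup_left, inf_comm F]
  have c3 := card_sup_as W ((W ⊔ W') ⊓ F)
  have i5 : W ⊓ ((W ⊔ W') ⊓ F) = W ⊓ F := by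
    rw [← inf_assoc, inf_eq_left.2 (le_sup_left : W ≤ W ⊔ W')]
  rw [i5, ← i4, i3] at c3
  have c4 : Nat.card W * Nat.card B₁ = Nat.card A * Nat.card ↥(W ⊓ F) := a.exact' h we hA hAH
  have c5 := h.cls.mu A hA K (inf_le_left.trans inf_le_left)
  rw [hm.card_E h.two] at c5
  have c6 := Nat.card_le_card_of_injective _ (AddSubgroup.inclusion_injective hX)
  have c7 := card_sup_as (W ⊔ W') F
  have c8 := a'.noOver h we' (B := B₁) (inf_le_right.trans QQ_le) (ElAb.mono (Mem.elAb hm) inf_le_left)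
  obtain ⟨r1, r2, r3⟩ := arith_e (w := Nat.card W) (w' := Nat.card W') (i := Nat.card ↥(W ⊓ W'))
    (x := Nat.card ↥(W ⊔ W')) (y := Nat.card ↥(fx V B₁ ⊓ W')) (z := Nat.card ↥(W ⊔ fx V B₁ ⊓ W'))
    (m := Nat.card ↥((W ⊔ W') ⊓ F)) (n := Nat.card ↥(W ⊓ F)) (k := Nat.card K) (b := Nat.card B₁)
    (α := Nat.card A) (f := Nat.card F) (e := Nat.card ↥(fx V K ⊓ E)) (g := Nat.card ↥(W ⊔ W' ⊔ F))
    Nat.card_pos Nat.card_pos Nat.card_pos Nat.card_pos Nat.card_pos Nat.card_pos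
    c1 c2 c3 c4 c5 c6 c7 c8
  exact ⟨r1, (eq_of_le_as hX r2).symm, r3⟩

/-- `C_V(K) = W + W' + F` -/
theorem e_fx {A : Subgroup Y} (hA : A ∈ U) (hAH : A ≤ H) (hE : WW V H' R ≤ Ee V A)
    (hK : A ⊓ QQ H R ⊓ QQ H' R ≠ ⊥) :
    fx V (A ⊓ QQ H R ⊓ QQ H' R) = WW V H R ⊔ WW V H' R ⊔ fx V A := by
  rw [← (e_one a a' h we we' hA hAH hE).2.1]
  exact (inf_eq_left.2 (fx_le_Ee a h hA (inf_le_left.trans inf_le_left) hK)).symm

end Amal

/-! ### The elements `s_x` -/

/-- `|X| = |F| |S_X|` for `F ≤ X ≤ E`, `S_X = {s ∈ A : [w, s] ∈ X}` -/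
theorem card_SX [Finite Y] [Finite V] (h2 : ∀ v : V, v + v = 0) {A : Subgroup Y} {E F : AddSubgroup V}
    (h : Mem A E F) {w : V} (hw : w ∉ E) {X : AddSubgroup V} (hFX : F ≤ X) (hXE : X ≤ E) :
    Nat.card X = Nat.card F * Nat.card {s : Y // s ∈ A ∧ s • w + w ∈ X} := by
  let f : F × {s : Y // s ∈ A ∧ s • w + w ∈ X} → X := fun p =>
    ⟨(p.2 : Y) • w + w + p.1, X.add_mem p.2.2.2 (hFX p.1.2)⟩
  have hf : Function.Bijective f := by
    constructor
    · rintro ⟨⟨x, hx⟩, ⟨a, ha⟩⟩ ⟨⟨y, hy⟩, ⟨b, hb⟩⟩ he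
      have h3 : a • w + w + x = b • w + w + y := congrArg Subtype.val he
      have h4 : (b * a) • w + w ∈ F := by
        have h5 : a • w = b • w + y + x := by
          have : a • w + w + x + w + x = b • w + w + y + w + x := by rw [h3]
          have e1 : a • w + w + x + w + x = a • w + (w + w) + (x + x) := by abel
          have e2 : b • w + w + y + w + x = b • w + (w + w) + y + x := by abel
          rw [e1, e2, h2, h2, add_zero, add_zero, add_zero] at this
          exact this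
        rw [mul_smul, h5, smul_add, smul_add, ← mul_smul, h.sq b hb.1, one_smul, h.FB b hb.1 y hy, h.FB b hb.1 x hx]
        have e3 : w + y + x + w = (w + w) + (y + x) := by abel
        rw [e3, h2, zero_add]
        exact F.add_mem hy hx
      have h5 := h.inj w hw _ (mul_mem hb.1 ha.1) h4
      have h6 : a = b := by
        have : b * (b * a) = b * 1 := by rw [h5]
        rw [← mul_assoc, h.sq b hb.1, one_mul, mul_one] at this
        exact this
      subst h6
      have h7 : x = y := add_left_cancel h3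
      subst h7
      rfl
    · rintro ⟨e, he⟩
      obtain ⟨b, hb, h3⟩ := h.surj w hw e (hXE he)
      have h4 : b • w + w ∈ X := by
        have h5 := X.add_mem (hFX h3) he
        rwa [add_assoc, h2, add_zero] at h5
      refine ⟨⟨⟨_, h3⟩, ⟨b, hb, h4⟩⟩, Subtype.ext ?_⟩
      change b • w + w + (b • w + w + e) = e
      rw [← add_assoc, h2, zero_add]
  rw [← Nat.card_prod]
  exact (Nat.card_congr (Equiv.ofBijective f hf)).symm

/-- `[x, s_y] = [y, s_x]` -/
theorem s_symm (h2 : ∀ v : V, v + v = 0) {A : Subgroup Y} {E F : AddSubgroup V} (h : Mem A E F) {w x y : V} {s r : Y}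
    (hs : s ∈ A) (hr : r ∈ A) (hsx : s • w + w + x ∈ F) (hry : r • w + w + y ∈ F) : r • x + x = s • y + y := by
  have h3 := h.FB r hr _ hsx
  have h4 := h.FB s hs _ hry
  rw [smul_add, smul_add, ← mul_smul] at h3 h4
  rw [h.comm s hs r hr] at h4
  -- `r s w + r w + r x = s w + w + x`, `r s w + s w + s y = r w + w + y`
  have h5 : (r * s) • w + r • w + r • x + ((r * s) • w + s • w + s • y) = s • w + w + x + (r • w + w + y) := by
    rw [h3, h4]
  have e1 : (r * s) • w + r • w + r • x + ((r * s) • w + s • w + s • y) =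
      ((r * s) • w + (r * s) • w) + (r • w + s • w) + (r • x + s • y) := by abel
  have e2 : s • w + w + x + (r • w + w + y) = (w + w) + (r • w + s • w) + (x + y) := by abel
  rw [e1, e2, h2, h2, zero_add] at h5
  have h6 := add_left_cancel h5
  have h7 : r • x + x + (s • y + y) = (r • x + s • y) + (x + y) := by abel
  rw [h6, h2] at h7
  exact (HE.add_eq_zero' h2).1 h7

/-- `s_x s_y = s_(x+y)` -/
theorem s_mul (h2 : ∀ v : V, v + v = 0) {A : Subgroup Y} {E F : AddSubgroup V} (h : Mem A E F) {w x y : V} {s r : Y}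
    (hs : s ∈ A) (hy : y ∈ E) (hsx : s • w + w + x ∈ F) (hry : r • w + w + y ∈ F) :
    (s * r) • w + w + (x + y) ∈ F := by
  have h3 := h.FB s hs _ hry
  rw [smul_add, smul_add, ← mul_smul] at h3
  -- `(s r) w = r w + w + y + s w + s y`
  have h4 : (s * r) • w = (r • w + w + y) + s • w + s • y := by
    rw [← h3]
    have e : (s * r) • w + s • w + s • y + s • w + s • y = (s * r) • w + (s • w + s • w) + (s • y + s • y) := by abel
    rw [e, h2, h2, add_zero, add_zero]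
  have h5 : (s * r) • w + w + (x + y) = (r • w + w + y) + (s • w + w + x) + (s • y + y) := by
    rw [h4]; abel
  rw [h5]
  exact F.add_mem (F.add_mem hry hsx) (h.EB s hs y hy)

/-- an element of `A` with the commutator of `s_x` is `s_x` -/
theorem s_uniq (h2 : ∀ v : V, v + v = 0) {A : Subgroup Y} {E F : AddSubgroup V} (h : Mem A E F) {w x : V}
    (hw : w ∉ E) {s r : Y} (hs : s ∈ A) (hr : r ∈ A) (hx : x ∈ E) (hsx : s • w + w + x ∈ F)
    (hrx : r • w + w + x ∈ F) : s = r := by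
  have h3 := s_mul h2 h hs hx hsx hrx
  rw [h2, add_zero] at h3
  have h4 := h.inj w hw _ (mul_mem hs hr) h3
  have h5 : s * (s * r) = s * 1 := by rw [h4]
  rw [← mul_assoc, h.sq s hs, one_mul, mul_one] at h5
  exact h5.symm

theorem mul_card_le [Finite Y] {A B : Subgroup Y} (h : A < B) : 2 * Nat.card A ≤ Nat.card B := by
  obtain ⟨n, hn⟩ := card_dvd_of_le h.le
  have h1 := Amb.card_lt' h
  have h2 : 0 < Nat.card A := Nat.card_pos
  rw [hn] at h1 ⊢
  have h3 : 2 ≤ n := by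
    by_contra h3
    have h4 : n = 0 ∨ n = 1 := by omega
    rcases h4 with rfl | rfl <;> omega
  calc 2 * Nat.card A = Nat.card A * 2 := by ring
    _ ≤ _ := Nat.mul_le_mul_left _ h3

namespace Amal

variable {U : Set (Subgroup Y)} {T : Sylow 2 Y} {M H H' R : Subgroup Y} {t : Y}

variable [Finite Y] [Finite V] (a : Amal U T M H R t) (a' : Amal U T M H' R t) (h : Amb V U T M) (we : WE V U H R)
  (we' : WE V U H' R)
include a a' h we we'

/-- `|K| |S_X| = |A|` -/
theorem e_S {A : Subgroup Y} (hA : A ∈ U) (hAH : A ≤ H) (hE : WW V H' R ≤ Ee V A) {w : V} (hw : w ∉ Ee V A) :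
    Nat.card ↥(A ⊓ QQ H R ⊓ QQ H' R) *
      Nat.card {s : Y // s ∈ A ∧ s • w + w ∈ WW V H R ⊔ WW V H' R ⊔ fx V A} = Nat.card A := by
  have hm := h.cls.mem A hA
  have h1 := (e_one a a' h we we' hA hAH hE).2.2
  have h2 := card_SX h.two hm hw (X := WW V H R ⊔ WW V H' R ⊔ fx V A) le_sup_right
    (sup_le (sup_le (a.WW_le_Ee h we hA hAH) hE) hm.FE)
  rw [h2] at h1
  have h3 : 0 < Nat.card ↥(fx V A) := Nat.card_pos
  apply Nat.eq_of_mul_eq_mul_right h3
  rw [← h1]
  ring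

/-- **`S_X ≤ K`: `|A| ≥ 16`, `|K| ≥ 4`** -/
theorem e_card {A : Subgroup Y} (hA : A ∈ U) (hAH : A ≤ H) (hE : WW V H' R ≤ Ee V A) {w : V} (hw : w ∉ Ee V A)
    (hAQ : ¬ A ≤ QQ H R) (hBQ : ¬ A ⊓ QQ H R ≤ QQ H' R)
    (hS : ∀ s ∈ A, s • w + w ∈ WW V H R ⊔ WW V H' R ⊔ fx V A → s ∈ QQ H R ∧ s ∈ QQ H' R) :
    4 ≤ Nat.card ↥(A ⊓ QQ H R ⊓ QQ H' R) ∧ Nat.card ↥(A ⊓ QQ H R ⊓ QQ H' R) ^ 2 ≥ Nat.card A ∧
      16 ≤ Nat.card A := by
  have h1 := e_S a a' h we we' hA hAH hE hw
  have h2 : Nat.card {s : Y // s ∈ A ∧ s • w + w ∈ WW V H R ⊔ WW V H' R ⊔ fx V A} ≤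
      Nat.card ↥(A ⊓ QQ H R ⊓ QQ H' R) := by
    apply Nat.card_le_card_of_injective
      (fun s : {s : Y // s ∈ A ∧ s • w + w ∈ WW V H R ⊔ WW V H' R ⊔ fx V A} =>
        (⟨s, ⟨s.2.1, (hS s s.2.1 s.2.2).1⟩, (hS s s.2.1 s.2.2).2⟩ : ↥(A ⊓ QQ H R ⊓ QQ H' R)))
    intro s r hsr
    exact Subtype.ext (congrArg (fun z : ↥(A ⊓ QQ H R ⊓ QQ H' R) => (z : Y)) hsr)
  have h3 : 2 * Nat.card ↥(A ⊓ QQ H R ⊓ QQ H' R) ≤ Nat.card ↥(A ⊓ QQ H R) := by
    apply mul_card_le
    exact lt_of_le_of_ne inf_le_left fun h4 => hBQ (by rw [← h4]; exact inf_le_right)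
  have h4 : 2 * Nat.card ↥(A ⊓ QQ H R) ≤ Nat.card A := by
    apply mul_card_le
    exact lt_of_le_of_ne inf_le_left fun h4 => hAQ (by rw [← h4]; exact inf_le_right)
  set κ := Nat.card ↥(A ⊓ QQ H R ⊓ QQ H' R) with hκ
  set σ := Nat.card {s : Y // s ∈ A ∧ s • w + w ∈ WW V H R ⊔ WW V H' R ⊔ fx V A} with hσ
  have h5 : 0 < κ := Nat.card_pos
  have h6 : 4 ≤ σ := by
    apply Nat.le_of_mul_le_mul_left _ h5
    rw [h1]; omega
  refine ⟨h6.trans h2, ?_, ?_⟩
  · rw [ge_iff_le, ← h1, pow_two]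
    exact Nat.mul_le_mul_left _ h2
  · rw [← h1]
    exact Nat.mul_le_mul (h6.trans h2) h6

/-- **(e)**: `C_V(K) = W + W' + F` -/
theorem e_CK {A : Subgroup Y} (hA : A ∈ U) (hAH : A ≤ H) (hE : WW V H' R ≤ Ee V A) {w : V} (hw : w ∉ Ee V A)
    (hAQ : ¬ A ≤ QQ H R) (hBQ : ¬ A ⊓ QQ H R ≤ QQ H' R)
    (hS : ∀ s ∈ A, s • w + w ∈ WW V H R ⊔ WW V H' R ⊔ fx V A → s ∈ QQ H R ∧ s ∈ QQ H' R) :
    fx V (A ⊓ QQ H R ⊓ QQ H' R) = WW V H R ⊔ WW V H' R ⊔ fx V A := by
  apply e_fx a a' h we we' hA hAH hE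
  intro h1
  have h2 := (e_card a a' h we we' hA hAH hE hw hAQ hBQ hS).1
  rw [h1, Subgroup.card_bot] at h2
  omega

/-- **(e), `S_X ≤ K`, type-free**: from `S₁ ≤ Q`, `[W', S₁] = 0` and the computation (a) for `B₁` on `W'` -/
theorem e_SK {A : Subgroup Y} (hA : A ∈ U) (hAH : A ≤ H) (hE : WW V H' R ≤ Ee V A) {w : V} (hw : w ∉ Ee V A)
    (ha : ∀ s ∈ A, s • w + w ∈ WW V H R ⊔ fx V A → s ∈ QQ H R)
    (hg : ∀ s ∈ A, s • w + w ∈ WW V H R ⊔ fx V A → ∀ y ∈ WW V H' R, s • y = y)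
    (htriv : ∀ σ : V → Y, (∀ y ∈ WW V H' R, σ y ∈ A ⊓ QQ H R) → (∀ y ∈ WW V H' R, σ y • y = y) →
      (∀ x ∈ WW V H' R, ∀ y ∈ WW V H' R, σ y • x + x = σ x • y + y) → ∀ y ∈ WW V H' R, σ y ∈ QQ H' R) :
    ∀ s ∈ A, s • w + w ∈ WW V H R ⊔ WW V H' R ⊔ fx V A → s ∈ QQ H R ∧ s ∈ QQ H' R := by
  classical
  have hm := h.cls.mem A hA
  have hWE : WW V H R ≤ Ee V A := a.WW_le_Ee h we hA hAH
  have hcan : ∀ {u v f : V}, u + v = f → u = v + f := by
    intro u v f huv
    rw [← huv, add_comm u v, ← add_assoc, h.two, zero_add]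
  -- `s_x`, `x ∈ E`
  have hex : ∀ y : V, ∃ s : Y, y ∈ Ee V A → s ∈ A ∧ s • w + w + y ∈ fx V A := by
    intro y
    by_cases hy : y ∈ Ee V A
    · obtain ⟨s, hs, h1⟩ := hm.surj w hw y hy
      exact ⟨s, fun _ => ⟨hs, h1⟩⟩
    · exact ⟨1, fun h1 => absurd h1 hy⟩
  choose σ hσ using hex
  have hmem : ∀ {x f : V}, x ∈ WW V H R → f ∈ fx V A → ∀ {s : Y}, s • w + w + x = f → s • w + w ∈ WW V H R ⊔ fx V A := by
    intro x f hx hf s h1
    rw [hcan h1]
    exact add_mem (AddSubgroup.mem_sup_left hx) (AddSubgroup.mem_sup_right hf)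
  -- `s_x`, `x ∈ W`
  have hx1 : ∀ x ∈ WW V H R, ∀ s ∈ A, s • w + w + x ∈ fx V A → s ∈ QQ H R ∧ s ∈ QQ H' R := by
    intro x hx s hs h1
    have h2 := hmem hx h1 rfl
    have h3 := ha s hs h2
    exact ⟨h3, (mem_QQ_iff a' h (QQ_le h3)).2 fun y hy => hg s hs h2 y hy⟩
  -- `s_y ∈ B₁`, `y ∈ W'`
  have hy1 : ∀ y ∈ WW V H' R, ∀ s ∈ A, s • w + w + y ∈ fx V A → s ∈ QQ H R := by
    intro y hy s hs h1
    have h2 : s ∈ A ⊓ CW V H R := by
      refine ⟨hs, fun x hx => ?_⟩
      obtain ⟨h3, h4⟩ := hσ x (hWE hx)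
      have h5 := s_symm h.two hm h3 hs h4 h1
      rw [hg _ h3 (hmem hx h4 rfl) y hy, h.two] at h5
      exact (HE.add_eq_zero' h.two).1 h5
    rw [inf_CW' a h hA hAH] at h2
    exact h2.2
  have hy2 : ∀ y ∈ WW V H' R, σ y ∈ QQ H' R := by
    apply htriv σ
    · intro y hy
      exact ⟨(hσ y (hE hy)).1, hy1 y hy _ (hσ y (hE hy)).1 (hσ y (hE hy)).2⟩
    · intro y hy
      exact smul_self_of hm (hσ y (hE hy)).1 (hσ y (hE hy)).2
    · intro x hx y hy
      exact s_symm h.two hm (hσ x (hE hx)).1 (hσ y (hE hy)).1 (hσ x (hE hx)).2 (hσ y (hE hy)).2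
  intro s hs h1
  obtain ⟨z, hz, f, hf, hzf⟩ := AddSubgroup.mem_sup.1 h1
  obtain ⟨x, hx, y, hy, hxy⟩ := AddSubgroup.mem_sup.1 hz
  have hxs := hσ x (hWE hx)
  have hys := hσ y (hE hy)
  have h2 := s_mul h.two hm hxs.1 (hE hy) hxs.2 hys.2
  have h3 : s • w + w + (x + y) ∈ fx V A := by
    rw [← hzf, ← hxy]
    have e : x + y + f + (x + y) = (x + y) + (x + y) + f := by abel
    rw [e, h.two, zero_add]
    exact hf
  have h4 : s = σ x * σ y := s_uniq h.two hm hw hs (mul_mem hxs.1 hys.1)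
    (add_mem (hWE hx) (hE hy)) h3 h2
  rw [h4]
  exact ⟨mul_mem (hx1 x hx _ hxs.1 hxs.2).1 (hy1 y hy _ hys.1 hys.2),
    mul_mem (hx1 x hx _ hxs.1 hxs.2).2 (hy2 y hy)⟩

end Amal

end Cfsg.Agent.Omega.NO1.TH

end

section


/-!
# N1, BETA, `S_n` type: the computation (a) of bb OMEGA 20646 / 21203 (helper247, helper864)

`co : V → Fin k → Fin n → ZMod 2` coordinates on `W` (even vectors), `B` a commutative group which acts by disjoint
transpositions, `σ : W → B` with `σ y • y = y` and `[x, σ y] = [y, σ x]`: then every `σ y` is trivial on the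
coordinates.
-/

set_option autoImplicit false
set_option linter.unusedSectionVars false

namespace Cfsg.Agent.Omega.NO1.TH.K

open Subgroup
open scoped Pointwise

universe u

variable {Y : Type u} [Group Y] {V : Type u} [AddCommGroup V] [DistribMulAction Y V]

/-- a vector with two non-zero coordinates -/
theorem exists_pair {W : AddSubgroup V} {k n : ℕ} {co : V → Fin k → Fin n → ZMod 2}
    (surj : ∀ y : Fin k → Fin n → ZMod 2, (∀ i, ∑ x, y i x = 0) → ∃ v ∈ W, co v = y) (i : Fin k) {p r : Fin n}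
    (hpr : p ≠ r) : ∃ v ∈ W, co v i p = 1 ∧ co v i r = 1 ∧ ∀ x, x ≠ p → x ≠ r → co v i x = 0 := by
  obtain ⟨v, hv, h1⟩ := surj (fun j => if j = i then (Pi.single p 1 + Pi.single r 1) else 0) (by
    intro j
    by_cases hj : j = i
    · rw [if_pos hj]
      simp only [Pi.add_apply, Finset.sum_add_distrib, Finset.sum_pi_single', Finset.mem_univ, if_true]
      exact CharTwo.add_self_eq_zero 1
    · rw [if_neg hj]; simp)
  have h2 : co v i = Pi.single p 1 + Pi.single r 1 := by rw [h1]; exact if_pos rfl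
  refine ⟨v, hv, ?_, ?_, fun x hxp hxr => ?_⟩
  · rw [h2, Pi.add_apply, Pi.single_eq_same, Pi.single_eq_of_ne hpr, add_zero]
  · rw [h2, Pi.add_apply, Pi.single_eq_same, Pi.single_eq_of_ne hpr.symm, zero_add]
  · rw [h2, Pi.add_apply, Pi.single_eq_of_ne hxp, Pi.single_eq_of_ne hxr, add_zero]

/-- commuting transpositions -/
theorem swap_comm_eq {W : AddSubgroup V} {k n : ℕ} {co : V → Fin k → Fin n → ZMod 2}
    (surj : ∀ y : Fin k → Fin n → ZMod 2, (∀ i, ∑ x, y i x = 0) → ∃ v ∈ W, co v = y) {b c : Y}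
    (hbW : ∀ v ∈ W, b • v ∈ W) (hcW : ∀ v ∈ W, c • v ∈ W) (hbc : b * c = c * b) {i : Fin k} {p q r : Fin n}
    (hb : ∀ v ∈ W, ∀ x, co (b • v) i x = co v i (Equiv.swap p q x))
    (hc : ∀ v ∈ W, ∀ x, co (c • v) i x = co v i (Equiv.swap r q x)) (hpq : p ≠ q) (hrq : r ≠ q) : r = p := by
  by_contra hrp
  obtain ⟨v, hv, h1, h2, h3⟩ := exists_pair surj i hpq
  have h4 : co (b • c • v) i p = co (c • b • v) i p := by rw [← mul_smul, ← mul_smul, hbc]
  rw [hb _ (hcW v hv), hc v hv, hc _ (hbW v hv), hb v hv, Equiv.swap_apply_left, Equiv.swap_apply_right,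
    Equiv.swap_apply_of_ne_of_ne (Ne.symm hrp) hpq, Equiv.swap_apply_left, h2, h3 r hrp hrq] at h4
  exact zero_ne_one h4

/-- **the computation (a), `S_n` type** -/
theorem dtr_triv {W : AddSubgroup V} {k n : ℕ} (hn : 3 ≤ n) {co : V → Fin k → Fin n → ZMod 2}
    (add : ∀ v ∈ W, ∀ w ∈ W, co (v + w) = co v + co w)
    (surj : ∀ y : Fin k → Fin n → ZMod 2, (∀ i, ∑ x, y i x = 0) → ∃ v ∈ W, co v = y) {B : Subgroup Y}
    (comm : ∀ a ∈ B, ∀ b ∈ B, a * b = b * a) (hBW : ∀ b ∈ B, ∀ v ∈ W, b • v ∈ W)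
    (tr : ∀ a ∈ B, ∃ τ : Fin k → Equiv.Perm (Fin n), (∀ v ∈ W, ∀ i x, co (a • v) i (τ i x) = co v i x) ∧
      ∀ i x, τ i x ≠ x → ∃ b ∈ B, ∀ v ∈ W, ∀ y, co (b • v) i (Equiv.swap x (τ i x) y) = co v i y)
    {σ : V → Y} (h1 : ∀ y ∈ W, σ y ∈ B) (h2 : ∀ y ∈ W, σ y • y = y)
    (h3 : ∀ x ∈ W, ∀ y ∈ W, σ y • x + x = σ x • y + y) : ∀ y ∈ W, ∀ z ∈ W, co (σ y • z) = co z := by
  have hsw : ∀ {b : Y} {i : Fin k} {p q : Fin n}, (∀ v ∈ W, ∀ y, co (b • v) i (Equiv.swap p q y) = co v i y) →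
      ∀ v ∈ W, ∀ y, co (b • v) i y = co v i (Equiv.swap p q y) := by
    intro b i p q hb v hv y
    have h4 := hb v hv (Equiv.swap p q y)
    rwa [Equiv.swap_apply_self] at h4
  intro y hy z hz
  obtain ⟨τ, hτ, hτ2⟩ := tr _ (h1 y hy)
  have hid : ∀ i x, τ i x = x := by
    intro i p
    by_contra hpq
    obtain ⟨b, hb, hb2⟩ := hτ2 i p hpq
    set q := τ i p with hq
    -- a third point
    obtain ⟨r, hrp, hrq⟩ : ∃ r : Fin n, r ≠ p ∧ r ≠ q := by
      by_contra hcon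
      push Not at hcon
      have h5 : (Finset.univ : Finset (Fin n)) ⊆ {p, q} := by
        intro w _
        rw [Finset.mem_insert, Finset.mem_singleton]
        by_cases h6 : w = p
        · exact Or.inl h6
        · exact Or.inr (hcon w h6)
      have h6 := Finset.card_le_card h5
      rw [Finset.card_univ, Fintype.card_fin] at h6
      have h7 := Finset.card_insert_le p {q}
      rw [Finset.card_singleton] at h7
      omega
    obtain ⟨x', hx', e1, e2, e3⟩ := exists_pair surj i (p := p) (r := r) (Ne.symm hrp)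
    have e4 : co x' i q = 0 := e3 q hpq (Ne.symm hrq)
    obtain ⟨τ', hτ', hτ2'⟩ := tr _ (h1 x' hx')
    -- `τ'` fixes `q`
    have hfix : (τ' i).symm q = q := by
      by_contra hne
      set q' := (τ' i).symm q with hq'
      have hq2 : τ' i q' = q := by rw [hq']; exact Equiv.apply_symm_apply _ _
      obtain ⟨c, hc, hc2⟩ := hτ2' i q' (by rw [hq2]; exact Ne.symm hne)
      rw [hq2] at hc2
      have h5 : q' = p := swap_comm_eq surj (hBW b hb) (hBW c hc) (comm b hb c hc) (hsw hb2) (hsw hc2)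
        (Ne.symm hpq) hne
      have h6 := hτ' x' hx' i q'
      rw [h2 x' hx', hq2, h5, e1, e4] at h6
      exact zero_ne_one h6
    have h5 := h3 x' hx' y hy
    have h6 : co (σ y • x' + x') i q = co (σ x' • y + y) i q := by rw [h5]
    rw [add _ (hBW _ (h1 y hy) x' hx') x' hx', add _ (hBW _ (h1 x' hx') y hy) y hy] at h6
    change co (σ y • x') i q + co x' i q = co (σ x' • y) i q + co y i q at h6
    have h7 : co (σ y • x') i q = 1 := by rw [hq, hτ x' hx' i p, e1]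
    have h8 : co (σ x' • y) i q = co y i q := by
      have h9 := hτ' y hy i q
      have h10 : τ' i q = q := by
        conv_rhs => rw [← Equiv.apply_symm_apply (τ' i) q, hfix]
      rw [h10] at h9
      exact h9
    rw [h7, h8, e4, add_zero, CharTwo.add_self_eq_zero] at h6
    exact one_ne_zero h6
  funext i x
  have h4 := hτ z hz i x
  rwa [hid] at h4

end Cfsg.Agent.Omega.NO1.TH.K

end

section


/-!
# N1, the amalgam, `S_n` type: basic facts on `KSym`

`trans_points` : Sylow 2-subgroups of `S_{2^m+1} wr (2-group)` are transitive on the nonzero letters;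
`actS_unique`, `smul_eq`, `trD_of` : the action on `W` is determined by the action on the coordinates.
-/

set_option autoImplicit false
set_option linter.unusedSectionVars false
set_option linter.dupNamespace false

namespace Cfsg.Agent.Omega.NO1.TH.K.SI

open Subgroup Cfsg.Agent.Omega.NO1.AB
open scoped Pointwise

universe u

/-- Sylow 2-subgroups of `S_{2^m+1} wr (2-group)` are transitive on the nonzero points -/
theorem trans_points {k m : ℕ} {G P : Subgroup (Equiv.Perm (Fin k × Fin (2 ^ m + 1)))} (hPG : P ≤ G)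
    {c : ℕ} (hc : Nat.card G = Nat.card P * c) (hodd : Odd c) (hP : IsPGroup 2 P)
    (blk : ∀ g ∈ G, ∀ p q, p.1 = q.1 → (g p).1 = (g q).1)
    (full : ∀ τ : Fin k → Equiv.Perm (Fin (2 ^ m + 1)), ∃ g ∈ G, ∀ i x, g (i, x) = (i, τ i x))
    (tr : ∀ i j, ∃ g ∈ P, (g (i, 0)).1 = j) (fix0 : ∀ g ∈ P, ∀ i, (g (i, 0)).2 = 0)
    {i j : Fin k} {x y : Fin (2 ^ m + 1)} (hx : x ≠ 0) (hy : y ≠ 0) : ∃ g ∈ P, g (i, x) = (j, y) := by
  classical
  have : Fact (Nat.Prime 2) := ⟨Nat.prime_two⟩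
  let X := Fin k × Fin (2 ^ m + 1)
  let ω : X × X := ((i, 0), (i, x))
  -- `k` is a power of `2`
  obtain ⟨e, he⟩ : ∃ e, k = 2 ^ e := by
    have h1 : MulAction.orbit P ((i, 0) : X) = Set.range fun j : Fin k => ((j, 0) : X) := by
      ext q
      constructor
      · rintro ⟨g, rfl⟩
        refine ⟨((g : Equiv.Perm X) (i, 0)).1, ?_⟩
        exact Prod.ext rfl (fix0 g g.2 i).symm
      · rintro ⟨j, rfl⟩
        obtain ⟨g, hg, hgj⟩ := tr i j
        exact ⟨⟨g, hg⟩, Prod.ext hgj (fix0 g hg i)⟩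
    have h2 : Nat.card (MulAction.orbit P ((i, 0) : X)) = k := by
      rw [h1, Nat.card_range_of_injective, Nat.card_eq_fintype_card, Fintype.card_fin]
      intro a b hab
      exact (Prod.ext_iff.1 hab).1
    have h3 := hP.card_orbit ((i, 0) : X)
    rw [h2] at h3
    exact h3
  have hGo : Nat.card (MulAction.orbit G ω) = k * ((2 ^ m + 1) * 2 ^ m) := by
    have h1 : MulAction.orbit G ω = Set.range fun q : Fin k × Fin (2 ^ m + 1) × Fin (2 ^ m) =>
        (((q.1, q.2.1), (q.1, q.2.1.succAbove q.2.2)) : X × X) := by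
      ext q
      constructor
      · rintro ⟨g, rfl⟩
        have h2 : ((g : Equiv.Perm X) (i, x)).1 = ((g : Equiv.Perm X) (i, 0)).1 := blk g g.2 _ _ rfl
        have h3 : ((g : Equiv.Perm X) (i, x)).2 ≠ ((g : Equiv.Perm X) (i, 0)).2 := by
          intro h4
          have h5 := (g : Equiv.Perm X).injective (Prod.ext h2 h4)
          exact hx (Prod.ext_iff.1 h5).2
        obtain ⟨b, hb⟩ := Fin.exists_succAbove_eq h3
        refine ⟨(((g : Equiv.Perm X) (i, 0)).1, ((g : Equiv.Perm X) (i, 0)).2, b), ?_⟩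
        refine Prod.ext rfl ?_
        refine Prod.ext h2.symm ?_
        exact hb
      · rintro ⟨⟨j, a, b⟩, rfl⟩
        -- a block permutation to the block `j`
        obtain ⟨g, hg, hgj⟩ := tr i j
        have hg2 := hPG hg
        set a' := (g (i, 0)).2 with ha'
        set b' := (g (i, x)).2 with hb'
        have h1 : (g (i, x)).1 = j := (blk g hg2 (i, x) (i, 0) rfl).trans hgj
        have hab : a' ≠ b' := by
          intro h4
          have h5 := g.injective (Prod.ext (hgj.trans h1.symm) h4 : g (i, 0) = g (i, x))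
          exact hx (Prod.ext_iff.1 h5).2.symm
        have hne : a ≠ a.succAbove b := (Fin.succAbove_ne a b).symm
        -- a permutation `a' ↦ a`, `b' ↦ succAbove`
        obtain ⟨τ, hτ1, hτ2⟩ : ∃ τ : Equiv.Perm (Fin (2 ^ m + 1)), τ a' = a ∧ τ b' = a.succAbove b := by
          set u := Equiv.swap a' a b' with hu
          have hua : u ≠ a := by
            intro h6
            have h7 : Equiv.swap a' a b' = Equiv.swap a' a a' := by rw [Equiv.swap_apply_left]; exact h6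
            exact hab ((Equiv.swap a' a).injective h7).symm
          refine ⟨Equiv.swap u (a.succAbove b) * Equiv.swap a' a, ?_, ?_⟩
          · rw [Equiv.Perm.mul_apply, Equiv.swap_apply_left, Equiv.swap_apply_of_ne_of_ne hua.symm hne]
          · rw [Equiv.Perm.mul_apply, ← hu, Equiv.swap_apply_left]
        obtain ⟨f, hf, hfτ⟩ := full fun _ => τ
        refine ⟨⟨f * g, G.mul_mem hf hg2⟩, ?_⟩
        refine Prod.ext ?_ ?_
        · change f (g (i, 0)) = (j, a)
          have h5 : g (i, 0) = (j, a') := Prod.ext hgj rfl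
          rw [h5, hfτ, hτ1]
        · change f (g (i, x)) = (j, a.succAbove b)
          have h5 : g (i, x) = (j, b') := Prod.ext h1 rfl
          rw [h5, hfτ, hτ2]
    rw [h1, Nat.card_range_of_injective]
    · rw [Nat.card_prod, Nat.card_prod]
      simp only [Nat.card_eq_fintype_card, Fintype.card_fin]
    · rintro ⟨j, a, b⟩ ⟨j', a', b'⟩ h2
      have h3 := (Prod.ext_iff.1 h2).1
      have h4 := (Prod.ext_iff.1 (Prod.ext_iff.1 h2).2).2
      have h5 : j = j' := (Prod.ext_iff.1 h3).1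
      have h6 : a = a' := (Prod.ext_iff.1 h3).2
      subst h5 h6
      have h7 : a.succAbove b = a.succAbove b' := h4
      rw [Fin.succAbove_right_inj] at h7
      rw [h7]
  let S : Set (X × X) := Set.range fun q : Fin k × Fin (2 ^ m) => (((q.1, 0), (q.1, q.2.succ)) : X × X)
  have hS : Nat.card S = k * 2 ^ m := by
    change Nat.card (Set.range fun q : Fin k × Fin (2 ^ m) => (((q.1, 0), (q.1, q.2.succ)) : X × X)) = _
    rw [Nat.card_range_of_injective]
    · rw [Nat.card_prod]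
      simp only [Nat.card_eq_fintype_card, Fintype.card_fin]
    · rintro ⟨j, b⟩ ⟨j', b'⟩ h2
      have h3 := (Prod.ext_iff.1 h2).1
      have h4 : b.succ = b'.succ := (Prod.ext_iff.1 (Prod.ext_iff.1 h2).2).2
      have h5 : j = j' := (Prod.ext_iff.1 h3).1
      rw [Fin.succ_inj] at h4
      rw [h4, h5]
  have hPS : MulAction.orbit P ω ⊆ S := by
    rintro _ ⟨g, rfl⟩
    have h2 : ((g : Equiv.Perm X) (i, x)).1 = ((g : Equiv.Perm X) (i, 0)).1 := blk g (hPG g.2) _ _ rfl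
    have h3 : ((g : Equiv.Perm X) (i, x)).2 ≠ 0 := by
      intro h4
      have h5 := (g : Equiv.Perm X).injective (Prod.ext h2 (h4.trans (fix0 g g.2 i).symm))
      exact hx (Prod.ext_iff.1 h5).2
    obtain ⟨b, hb⟩ := Fin.exists_succ_eq.2 h3
    refine ⟨(((g : Equiv.Perm X) (i, 0)).1, b), ?_⟩
    refine Prod.ext (Prod.ext rfl (fix0 g g.2 i).symm) (Prod.ext h2.symm hb)
  have h1 : Nat.card (MulAction.orbit G ω) * Nat.card (MulAction.stabilizer G ω) = Nat.card G := by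
    rw [← Nat.card_prod]
    exact Nat.card_congr (MulAction.orbitProdStabilizerEquivGroup G ω)
  have h2 : Nat.card (MulAction.orbit P ω) * Nat.card (MulAction.stabilizer P ω) = Nat.card P := by
    rw [← Nat.card_prod]
    exact Nat.card_congr (MulAction.orbitProdStabilizerEquivGroup P ω)
  have h3 : Nat.card (MulAction.stabilizer P ω) ∣ Nat.card (MulAction.stabilizer G ω) := by
    let f : MulAction.stabilizer P ω →* MulAction.stabilizer G ω :=
      ((Subgroup.inclusion hPG).comp (MulAction.stabilizer P ω).subtype).codRestrict (MulAction.stabilizer G ω)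
        fun g => g.2
    apply Subgroup.card_dvd_of_injective f
    intro a b hab
    have h4 := congrArg (fun z : MulAction.stabilizer G ω => ((z : G) : Equiv.Perm X)) hab
    exact Subtype.ext (Subtype.ext h4)
  obtain ⟨s, hs⟩ := h3
  have hpos : 0 < Nat.card (MulAction.stabilizer P ω) := Nat.card_pos
  have h4 : k * 2 ^ m * ((2 ^ m + 1) * s) = Nat.card (MulAction.orbit P ω) * c := by
    apply Nat.eq_of_mul_eq_mul_right hpos
    calc k * 2 ^ m * ((2 ^ m + 1) * s) * Nat.card (MulAction.stabilizer P ω)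
        = k * ((2 ^ m + 1) * 2 ^ m) * (Nat.card (MulAction.stabilizer P ω) * s) := by ring
      _ = Nat.card P * c := by rw [← hs, ← hGo, h1, hc]
      _ = Nat.card (MulAction.orbit P ω) * Nat.card (MulAction.stabilizer P ω) * c := by rw [h2]
      _ = _ := by ring
  have h5 : k * 2 ^ m ∣ Nat.card (MulAction.orbit P ω) := by
    have h6 : Nat.Coprime (k * 2 ^ m) c := by
      rw [he, ← pow_add]
      exact Nat.Coprime.pow_left _ (Nat.coprime_two_left.2 hodd)
    exact h6.dvd_of_dvd_mul_right ⟨_, h4.symm⟩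
  have h6 : MulAction.orbit P ω = S := by
    apply Set.eq_of_subset_of_ncard_le hPS
    rw [← Nat.card_coe_set_eq, ← Nat.card_coe_set_eq, hS]
    apply Nat.le_of_dvd _ h5
    have : Nonempty (MulAction.orbit P ω) := ⟨⟨ω, MulAction.mem_orbit_self ω⟩⟩
    exact Nat.card_pos
  obtain ⟨b, hb⟩ := Fin.exists_succ_eq.2 hy
  have h7 : (((j, 0), (j, y)) : X × X) ∈ MulAction.orbit P ω := by
    rw [h6]
    exact ⟨(j, b), by rw [← hb]⟩
  obtain ⟨g, hg⟩ := h7
  exact ⟨g, g.2, (Prod.ext_iff.1 hg).2⟩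

theorem papp {α : Type*} (f : Equiv.Perm α) (x : α) : f (f⁻¹ x) = x := Equiv.apply_symm_apply f x

theorem papp' {α : Type*} (f : Equiv.Perm α) (x : α) : f⁻¹ (f x) = x := Equiv.symm_apply_apply f x

variable {Y : Type u} [Group Y] {V : Type u} [AddCommGroup V] [DistribMulAction Y V]

section act

variable {H R : Subgroup Y} {k m : ℕ} {co : V → Fin k → Fin (2 ^ m + 1) → ZMod 2} (K : KSym V H R k m co)

/-- the transposition of the letters `a`, `b` of the block `i` -/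
def tp {k n : ℕ} (i : Fin k) (a b : Fin n) : Fin k → Equiv.Perm (Fin n) := Function.update 1 i (Equiv.swap a b)

theorem tp_self {k n : ℕ} (i : Fin k) (a b : Fin n) : tp i a b i = Equiv.swap a b := Function.update_self i _ _

theorem tp_of_ne {k n : ℕ} {i j : Fin k} (h : j ≠ i) (a b : Fin n) : tp i a b j = 1 := by
  rw [tp, Function.update_of_ne h]; rfl

theorem tp_comm {k n : ℕ} (i : Fin k) (a b : Fin n) : tp i a b = tp i b a := by
  rw [tp, tp, Equiv.swap_comm]

theorem tp_mul_self {k n : ℕ} (i : Fin k) (a b : Fin n) : tp i a b * tp i a b = 1 := by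
  funext j
  rw [Pi.mul_apply]
  by_cases h : j = i
  · subst h
    rw [tp_self, Equiv.swap_mul_self]; rfl
  · rw [tp_of_ne h, mul_one]; rfl

/-- the vector with the coordinates `{a, b}` in the block `i` -/
def dl {k n : ℕ} (i : Fin k) (a b : Fin n) : Fin k → Fin n → ZMod 2 := Pi.single i (Pi.single a 1 + Pi.single b 1)

theorem dl_apply {k n : ℕ} (i : Fin k) (a b : Fin n) (j : Fin k) (x : Fin n) :
    dl i a b j x = if j = i then (if x = a then 1 else 0) + (if x = b then 1 else 0) else 0 := by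
  unfold dl
  by_cases h : j = i
  · subst h
    rw [Pi.single_eq_same, if_pos rfl, Pi.add_apply, Pi.single_apply, Pi.single_apply]
  · rw [Pi.single_eq_of_ne h, if_neg h]; rfl

theorem dl_sum {k n : ℕ} (i : Fin k) (a b : Fin n) (j : Fin k) : ∑ x, dl i a b j x = 0 := by
  simp only [dl_apply]
  by_cases h : j = i
  · simp only [if_pos h, Finset.sum_add_distrib, Finset.sum_ite_eq', Finset.mem_univ, if_true]
    exact CharTwo.add_self_eq_zero 1
  · simp only [if_neg h, Finset.sum_const_zero]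

include K

theorem exists_dl (i : Fin k) (a b : Fin (2 ^ m + 1)) : ∃ v ∈ WW V H R, co v = dl i a b := K.surj _ (dl_sum i a b)

theorem five_le : 5 ≤ 2 ^ m + 1 := by
  have h1 : 2 ^ 2 ≤ 2 ^ m := Nat.pow_le_pow_right (by norm_num) K.two_le
  omega

/-- a letter outside a small set -/
theorem exists_not (s : Finset (Fin (2 ^ m + 1))) (hs : s.card ≤ 4) : ∃ x, x ∉ s := by
  by_contra hcon
  push Not at hcon
  have h1 : s = Finset.univ := Finset.eq_univ_iff_forall.2 hcon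
  have h2 := five_le K
  rw [h1, Finset.card_univ, Fintype.card_fin] at hs
  omega

theorem co_zero : co 0 = 0 := by
  have h1 := K.add 0 (zero_mem _) 0 (zero_mem _)
  rw [add_zero] at h1
  exact left_eq_add.1 h1

/-- the coordinates as a homomorphism -/
def coH : WW V H R →+ (Fin k → Fin (2 ^ m + 1) → ZMod 2) where
  toFun w := co w
  map_zero' := co_zero K
  map_add' v w := K.add v v.2 w w.2

theorem actS_mul {g h : Y} {σ σ' : Equiv.Perm (Fin k)} {τ τ' : Fin k → Equiv.Perm (Fin (2 ^ m + 1))} (hh : h ∈ H)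
    (h1 : ActS V H R co g σ τ) (h2 : ActS V H R co h σ' τ') :
    ActS V H R co (g * h) (σ * σ') fun i => τ (σ' i) * τ' i := by
  intro v hv i x
  rw [mul_smul, Equiv.Perm.mul_apply, Equiv.Perm.mul_apply, h1 _ (smul_mem_WW hh hv), h2 v hv]

omit K in
theorem actS_mul1 {g h : Y} {τ τ' : Fin k → Equiv.Perm (Fin (2 ^ m + 1))} (hh : h ∈ H)
    (h1 : ActS V H R co g 1 τ) (h2 : ActS V H R co h 1 τ') : ActS V H R co (g * h) 1 (τ * τ') := by
  intro v hv i x
  have h3 := h1 _ (smul_mem_WW hh hv) i (τ' i x)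
  rw [mul_smul]
  exact h3.trans (h2 v hv i x)

omit K in
theorem actS_one : ActS V H R co (1 : Y) 1 1 := fun v _ i x => by rw [one_smul]; rfl

omit K in
theorem actS_inv1 {g : Y} (hg : g ∈ H) {τ : Fin k → Equiv.Perm (Fin (2 ^ m + 1))} (h1 : ActS V H R co g 1 τ) :
    ActS V H R co g⁻¹ 1 τ⁻¹ := by
  intro v hv i x
  have h3 := h1 _ (smul_mem_WW (H.inv_mem hg) hv) i ((τ⁻¹) i x)
  rw [smul_inv_smul] at h3
  rw [Equiv.Perm.one_apply]
  have h4 : (τ i) ((τ⁻¹) i x) = x := by rw [Pi.inv_apply]; exact papp _ _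
  rw [h4] at h3
  exact h3.symm

/-- the coordinates separate the letters -/
theorem separate {i j : Fin k} {x y : Fin (2 ^ m + 1)} (h : ∀ v ∈ WW V H R, co v i x = co v j y) : i = j ∧ x = y := by
  obtain ⟨z, hz⟩ := exists_not K {x, y} (by
    have := Finset.card_le_two (a := x) (b := y); omega)
  rw [Finset.mem_insert, Finset.mem_singleton, not_or] at hz
  obtain ⟨v, hv, hco⟩ := exists_dl K i x z
  have h1 := h v hv
  rw [hco, dl_apply, dl_apply, if_pos rfl, if_pos rfl, if_neg (Ne.symm hz.1), add_zero] at h1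
  by_cases hij : j = i
  · subst hij
    rw [if_pos rfl] at h1
    by_cases hxy : y = x
    · exact ⟨rfl, hxy.symm⟩
    · rw [if_neg hxy, if_neg (Ne.symm hz.2), add_zero] at h1
      exact absurd h1 one_ne_zero
  · rw [if_neg hij] at h1
    exact absurd h1 one_ne_zero

theorem actS_unique {g : Y} (hg : g ∈ H) {σ σ' : Equiv.Perm (Fin k)} {τ τ' : Fin k → Equiv.Perm (Fin (2 ^ m + 1))}
    (h1 : ActS V H R co g σ τ) (h2 : ActS V H R co g σ' τ') : σ = σ' ∧ τ = τ' := by
  have key : ∀ i x, σ i = σ' i ∧ τ i x = τ' i x := by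
    intro i x
    apply separate K
    intro v hv
    have h3 := h1 _ (smul_mem_WW (H.inv_mem hg) hv) i x
    have h4 := h2 _ (smul_mem_WW (H.inv_mem hg) hv) i x
    rw [smul_inv_smul] at h3 h4
    rw [h3, h4]
  exact ⟨Equiv.ext fun i => (key i 0).1, funext fun i => Equiv.ext fun x => (key i x).2⟩

/-- the action on `W` is determined by the action on the coordinates -/
theorem smul_eq {g h : Y} (hg : g ∈ H) (hh : h ∈ H) (h1 : ∀ w ∈ WW V H R, co (g • w) = co (h • w)) :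
    ∀ w ∈ WW V H R, g • w = h • w := by
  obtain ⟨σ, τ, hστ⟩ := K.perm g hg
  have h2 := K.trivH (g⁻¹ * h) (H.mul_mem (H.inv_mem hg) hh) (by
    intro w hw
    funext i x
    have hx : (g⁻¹ * h) • w ∈ WW V H R := smul_mem_WW (H.mul_mem (H.inv_mem hg) hh) hw
    have h3 := hστ _ hx i x
    rw [← mul_smul, mul_inv_cancel_left, ← h1 w hw, hστ w hw] at h3
    exact h3.symm)
  intro w hw
  have h3 := h2 w hw
  rw [mul_smul, inv_smul_eq_iff] at h3
  exact h3.symm

theorem smul_eq_of_actS {g h : Y} (hg : g ∈ H) (hh : h ∈ H) {σ : Equiv.Perm (Fin k)}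
    {τ : Fin k → Equiv.Perm (Fin (2 ^ m + 1))} (h1 : ActS V H R co g σ τ) (h2 : ActS V H R co h σ τ) :
    ∀ w ∈ WW V H R, g • w = h • w := by
  apply smul_eq K hg hh
  intro w hw
  funext i x
  have h3 := h1 w hw (σ⁻¹ i) ((τ (σ⁻¹ i))⁻¹ x)
  have h4 := h2 w hw (σ⁻¹ i) ((τ (σ⁻¹ i))⁻¹ x)
  rw [papp, papp] at h3 h4
  rw [h3, h4]

theorem trD_of {g : Y} (hg : g ∈ H) {τ : Fin k → Equiv.Perm (Fin (2 ^ m + 1))} (h1 : ActS V H R co g 1 τ) :
    TrD V H R co g := by
  obtain ⟨h, hh, h2, h3⟩ := K.lift τ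
  intro d hd h0
  rw [smul_eq_of_actS K hg hh h1 h2 d hd]
  exact h3 d hd h0

end act

end Cfsg.Agent.Omega.NO1.TH.K.SI

end

section


/-!
# N1, the amalgam, `S_n` type: transpositions and pairs

`fix_of_const` : `g ∈ H` acting as the transposition `(a b)` of the block `i` fixes every `w ∈ W` which is constant
on `{a, b}`; `trans_pt` : `R` is transitive on the nonzero letters; `PI` : the pairs of `R`.
-/

set_option autoImplicit false
set_option linter.unusedSectionVars false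
set_option linter.dupNamespace false

namespace Cfsg.Agent.Omega.NO1.TH.K.SI

open Subgroup Cfsg.Agent.Omega.NO1.AB
open scoped Pointwise

universe u

variable {Y : Type u} [Group Y] {V : Type u} [AddCommGroup V] [DistribMulAction Y V]

section act

variable {H R : Subgroup Y} {k m : ℕ} {co : V → Fin k → Fin (2 ^ m + 1) → ZMod 2} (K : KSym V H R k m co)

/-- an even vector is a sum of the vectors `{c, o}` -/
theorem eq_sum_dl {k n : ℕ} (y : Fin k → Fin n → ZMod 2) (hy : ∀ i, ∑ x, y i x = 0) (o : Fin n) :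
    y = ∑ j, ∑ c, if y j c = 0 then 0 else dl j c o := by
  have h1 : ∀ j c, (if y j c = 0 then 0 else dl j c o) = y j c • dl j c o := by
    intro j c
    by_cases h : y j c = 0
    · rw [if_pos h, h, zero_smul]
    · have h2 : y j c = 1 := by
        generalize y j c = z at h
        revert h; revert z; decide
      rw [if_neg h, h2, one_smul]
  simp only [h1]
  funext j' y'
  simp only [Finset.sum_apply, Pi.smul_apply, dl_apply, smul_eq_mul]
  rw [Finset.sum_eq_single j' (fun j _ hj => by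
    apply Finset.sum_eq_zero
    intro c _
    rw [if_neg (Ne.symm hj), mul_zero]) (fun h => absurd (Finset.mem_univ _) h)]
  simp only [if_true, mul_add, Finset.sum_add_distrib, mul_ite, mul_one, mul_zero]
  rw [Finset.sum_ite_eq, if_pos (Finset.mem_univ _)]
  by_cases h : y' = o
  · simp only [if_pos h]
    rw [hy j', add_zero]
  · simp only [if_neg h, Finset.sum_const_zero, add_zero]

include K

/-- a subgroup which contains `D₀` and the vectors `{c, o}` occurring in `w` contains `w` -/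
theorem mem_of_dl (two : ∀ v : V, v + v = 0) {S : AddSubgroup V}
    (hD : ∀ d ∈ WW V H R, co d = 0 → d ∈ S) (o : Fin (2 ^ m + 1)) {w : V}
    (hw : w ∈ WW V H R) (h : ∀ j c, co w j c ≠ 0 → c ≠ o → ∃ v ∈ WW V H R, v ∈ S ∧ co v = dl j c o) : w ∈ S := by
  classical
  have h1 : ∀ j c, ∃ v : WW V H R, (v : V) ∈ S ∧ coH K v = if co w j c = 0 then 0 else dl j c o := by
    intro j c
    by_cases h2 : co w j c = 0
    · exact ⟨0, S.zero_mem, by rw [map_zero, if_pos h2]⟩
    · by_cases h3 : c = o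
      · refine ⟨0, S.zero_mem, ?_⟩
        rw [map_zero, if_neg h2, h3]
        funext j' y'
        rw [dl_apply]
        by_cases h4 : j' = j
        · rw [if_pos h4]; exact (CharTwo.add_self_eq_zero _).symm
        · rw [if_neg h4]; rfl
      · obtain ⟨v, hv, hvS, hco⟩ := h j c h2 h3
        exact ⟨⟨v, hv⟩, hvS, by rw [if_neg h2]; exact hco⟩
  choose v hvS hco using h1
  let s : WW V H R := ∑ j, ∑ c, v j c
  have hs : (s : V) ∈ S := by
    have e : (s : V) = ∑ j, ∑ c, ((v j c : WW V H R) : V) := by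
      simp only [s, AddSubgroup.val_finsetSum]
    rw [e]
    exact S.sum_mem fun j _ => S.sum_mem fun c _ => hvS j c
  have hcs : co (s : V) = co w := by
    have e : coH K s = ∑ j, ∑ c, coH K (v j c) := by
      simp only [s, map_sum]
    change coH K s = co w
    rw [e]
    simp only [hco]
    exact (eq_sum_dl (co w) (K.even w hw) o).symm
  have hd : w + s ∈ S := by
    apply hD _ (add_mem hw s.2)
    rw [K.add w hw s s.2, hcs]
    funext i x
    exact CharTwo.add_self_eq_zero _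
  have e : w = (w + s) + s := by rw [add_assoc, two, add_zero]
  rw [e]
  exact S.add_mem hd hs

/-- **(TR)** -/
theorem fix_of_const (two : ∀ v : V, v + v = 0) {g : Y} (hg : g ∈ H) {i : Fin k} {a b : Fin (2 ^ m + 1)}
    (hab : a ≠ b) (hgt : ActS V H R co g 1 (tp i a b)) {w : V} (hw : w ∈ WW V H R) (hc : co w i a = co w i b) :
    g • w = w := by
  classical
  have hgD := trD_of K hg hgt
  -- the fixed vectors
  let S : AddSubgroup V :=
    { carrier := {v | g • v = v}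
      zero_mem' := smul_zero g
      add_mem' := fun {v w} hv hw => by
        change g • (v + w) = v + w
        rw [smul_add, hv, hw]
      neg_mem' := fun {v} hv => by
        change g • (-v) = -v
        rw [smul_neg, hv] }
  have hS : ∀ v, v ∈ S ↔ g • v = v := fun v => Iff.rfl
  have hD : ∀ d ∈ WW V H R, co d = 0 → d ∈ S := fun d hd h0 => hgD d hd h0
  -- vectors with the same coordinates
  have same : ∀ v ∈ WW V H R, ∀ w ∈ WW V H R, co v = co w → v ∈ S → w ∈ S := by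
    intro v hv w hw hco hvS
    have h1 : v + w ∈ S := by
      apply hD _ (add_mem hv hw)
      rw [K.add v hv w hw, hco]
      funext i x
      exact CharTwo.add_self_eq_zero _
    have h2 := S.add_mem hvS h1
    rwa [← add_assoc, two, zero_add] at h2
  -- the elements commuting with `g`
  have comm : ∀ x ∈ WW V H R, co x i a = co x i b → ∀ (j : Fin k) (c d : Fin (2 ^ m + 1)),
      (j = i → c ≠ a ∧ c ≠ b ∧ d ≠ a ∧ d ≠ b) → ∀ h ∈ H, ActS V H R co h 1 (tp j c d) → h • x + x ∈ S := by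
    intro x hx hxc j c d hcd h hh hht
    have h1 : ∀ w ∈ WW V H R, (g * h) • w = (h * g) • w := by
      apply smul_eq_of_actS K (H.mul_mem hg hh) (H.mul_mem hh hg) (actS_mul1 hh hgt hht)
      have e : tp i a b * tp j c d = tp j c d * tp i a b := by
        funext l
        rw [Pi.mul_apply, Pi.mul_apply]
        by_cases hji : j = i
        · obtain ⟨h2, h3, h4, h5⟩ := hcd hji
          subst hji
          by_cases hl : l = j
          · subst hl
            rw [tp_self, tp_self]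
            ext z
            rw [Equiv.Perm.mul_apply, Equiv.Perm.mul_apply]
            congr 1
            by_cases hzc : z = c
            · subst hzc
              rw [Equiv.swap_apply_left, Equiv.swap_apply_of_ne_of_ne h4 h5, Equiv.swap_apply_of_ne_of_ne h2 h3,
                Equiv.swap_apply_left]
            by_cases hzd : z = d
            · subst hzd
              rw [Equiv.swap_apply_right, Equiv.swap_apply_of_ne_of_ne h2 h3, Equiv.swap_apply_of_ne_of_ne h4 h5,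
                Equiv.swap_apply_right]
            rw [Equiv.swap_apply_of_ne_of_ne hzc hzd]
            by_cases hza : z = a
            · subst hza
              rw [Equiv.swap_apply_left, Equiv.swap_apply_of_ne_of_ne h3.symm h5.symm]
            by_cases hzb : z = b
            · subst hzb
              rw [Equiv.swap_apply_right, Equiv.swap_apply_of_ne_of_ne h2.symm h4.symm]
            rw [Equiv.swap_apply_of_ne_of_ne hza hzb, Equiv.swap_apply_of_ne_of_ne hzc hzd]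
          · rw [tp_of_ne hl, tp_of_ne hl]
        · by_cases hl : l = j
          · rw [tp_of_ne (i := i) (fun h => hji (hl.symm.trans h)), one_mul, mul_one]
          · rw [tp_of_ne hl, one_mul, mul_one]
      rw [e]
      exact actS_mul1 hg hht hgt
    -- `g x + x ∈ D₀`
    have hgx : g • x + x ∈ WW V H R := add_mem (smul_mem_WW hg hx) hx
    have h0 : co (g • x + x) = 0 := by
      rw [K.add _ (smul_mem_WW hg hx) x hx]
      have e : co (g • x) = co x := by
        funext l z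
        have h2 := hgt x hx l (tp i a b l z)
        have e2 : tp i a b l (tp i a b l z) = z := by
          have := congrFun (tp_mul_self i a b) l
          rw [Pi.mul_apply] at this
          exact Equiv.ext_iff.1 this z
        rw [e2] at h2
        refine h2.trans ?_
        by_cases hl : l = i
        · subst hl
          rw [tp_self]
          by_cases hza : z = a
          · subst hza; rw [Equiv.swap_apply_left]; exact hxc.symm
          by_cases hzb : z = b
          · subst hzb; rw [Equiv.swap_apply_right]; exact hxc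
          rw [Equiv.swap_apply_of_ne_of_ne hza hzb]
        · rw [tp_of_ne hl]; rfl
      rw [e]
      funext i x
      exact CharTwo.add_self_eq_zero _
    have h3 : h • (g • x + x) = g • x + x := trD_of K hh hht _ hgx h0
    rw [hS, smul_add, ← mul_smul, h1 x hx, mul_smul]
    rw [smul_add] at h3
    -- `h g x + h x = g x + x`
    have h4 : h • g • x = g • x + x + h • x := by
      have h5 : h • g • x + h • x + h • x = g • x + x + h • x := by rw [h3]
      rwa [add_assoc, two, add_zero] at h5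
    rw [h4]
    have e3 : g • x + x + h • x + g • x = h • x + x + (g • x + g • x) := by abel
    rw [e3, two, add_zero]
  -- the vectors `{c, d}` outside `{a, b}`
  have far : ∀ (j : Fin k) (c d : Fin (2 ^ m + 1)), c ≠ d → (j = i → c ≠ a ∧ c ≠ b ∧ d ≠ a ∧ d ≠ b) →
      ∀ v ∈ WW V H R, co v = dl j c d → v ∈ S := by
    intro j c d hcd hj v hv hco
    obtain ⟨e, he⟩ := exists_not K {a, b, c, d} (by
      have := Finset.card_le_four (a := a) (b := b) (c := c) (d := d); omega)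
    simp only [Finset.mem_insert, Finset.mem_singleton, not_or] at he
    obtain ⟨hea, heb, hec, hed⟩ := he
    obtain ⟨x, hx, hxco⟩ := exists_dl K j e c
    obtain ⟨h, hh, hht, _⟩ := K.lift (tp j c d)
    have h1 : h • x + x ∈ S := by
      apply comm x hx _ j c d hj h hh hht
      rw [hxco, dl_apply, dl_apply]
      by_cases hji : i = j
      · obtain ⟨h2, h3, h4, h5⟩ := hj hji.symm
        rw [if_pos hji, if_pos hji, if_neg (Ne.symm hea), if_neg (Ne.symm heb), if_neg h2.symm, if_neg h3.symm]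
      · rw [if_neg hji, if_neg hji]
    refine same _ (add_mem (smul_mem_WW hh hx) hx) v hv ?_ h1
    rw [K.add _ (smul_mem_WW hh hx) x hx, hco, hxco]
    funext l z
    have h2 := hht x hx l (tp j c d l z)
    have e2 : tp j c d l (tp j c d l z) = z := by
      have := congrFun (tp_mul_self j c d) l
      rw [Pi.mul_apply] at this
      exact Equiv.ext_iff.1 this z
    rw [e2, Equiv.Perm.one_apply, hxco] at h2
    rw [Pi.add_apply, Pi.add_apply, h2]
    simp only [dl_apply]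
    by_cases hl : l = j
    · subst hl
      rw [if_pos rfl, if_pos rfl, if_pos rfl, tp_self]
      by_cases hzc : z = c
      · subst hzc
        rw [Equiv.swap_apply_left, if_neg (Ne.symm hed), if_neg (Ne.symm hcd), if_neg (Ne.symm hec), if_pos rfl, if_neg hcd]
        decide
      by_cases hzd : z = d
      · subst hzd
        rw [Equiv.swap_apply_right, if_neg (Ne.symm hec), if_pos rfl, if_neg (Ne.symm hed), if_neg hzc, if_pos rfl]
        decide
      rw [Equiv.swap_apply_of_ne_of_ne hzc hzd, if_neg hzc, if_neg hzd, add_zero, add_zero]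
      exact CharTwo.add_self_eq_zero _
    · rw [if_neg hl, if_neg hl, if_neg hl, add_zero]
  -- the vector `{a, b}`
  obtain ⟨o, ho⟩ := exists_not K {a, b} (by
    have := Finset.card_le_two (a := a) (b := b); omega)
  simp only [Finset.mem_insert, Finset.mem_singleton, not_or] at ho
  obtain ⟨z, hz, hzco⟩ := exists_dl K i a o
  have hgz : g • z + z ∈ S := by
    have h1 : ∀ w ∈ WW V H R, (g * g) • w = (1 : Y) • w := by
      apply smul_eq_of_actS K (H.mul_mem hg hg) H.one_mem (actS_mul1 hg hgt hgt)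
      rw [tp_mul_self]
      exact actS_one
    rw [hS, smul_add, ← mul_smul, h1 z hz, one_smul, add_comm]
  -- WLOG `co w i a = 0`
  have main : ∀ w ∈ WW V H R, co w i a = 0 → co w i b = 0 → w ∈ S := by
    intro w hw ha hb
    apply mem_of_dl K two hD o hw
    intro j c hjc hco
    obtain ⟨v, hv, hvco⟩ := exists_dl K j c o
    refine ⟨v, hv, ?_, hvco⟩
    apply far j c o hco _ v hv hvco
    rintro rfl
    refine ⟨?_, ?_, ho.1, ho.2⟩
    · rintro rfl; exact hjc ha
    · rintro rfl; exact hjc hb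
  by_cases h0 : co w i a = 0
  · exact main w hw h0 (hc ▸ h0)
  · have h1 : co w i a = 1 := by
      generalize co w i a = z at h0
      revert h0; revert z; decide
    have hgzW : g • z + z ∈ WW V H R := add_mem (smul_mem_WW hg hz) hz
    have hgza : co (g • z + z) i a = 1 := by
      rw [K.add _ (smul_mem_WW hg hz) z hz, Pi.add_apply, Pi.add_apply]
      have h2 := hgt z hz i b
      rw [tp_self, Equiv.swap_apply_right, Equiv.Perm.one_apply] at h2
      rw [h2, hzco, dl_apply, dl_apply]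
      simp [hab.symm, Ne.symm ho.1, Ne.symm ho.2]
    have hgzb : co (g • z + z) i b = 1 := by
      rw [K.add _ (smul_mem_WW hg hz) z hz, Pi.add_apply, Pi.add_apply]
      have h2 := hgt z hz i a
      rw [tp_self, Equiv.swap_apply_left, Equiv.Perm.one_apply] at h2
      rw [h2, hzco, dl_apply, dl_apply]
      simp [hab.symm, Ne.symm ho.1, Ne.symm ho.2]
    have h3 := main (w + (g • z + z)) (add_mem hw hgzW)
      (by rw [K.add w hw _ hgzW, Pi.add_apply, Pi.add_apply, h1, hgza]; decide)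
      (by rw [K.add w hw _ hgzW, Pi.add_apply, Pi.add_apply, ← hc, h1, hgzb]; decide)
    have h4 := S.add_mem h3 hgz
    rwa [add_assoc, two, add_zero] at h4

end act

section trans

variable {H R : Subgroup Y} {k m : ℕ} {co : V → Fin k → Fin (2 ^ m + 1) → ZMod 2} (K : KSym V H R k m co)
include K

/-- the permutation representation on the letters -/
theorem exists_perm : ∃ f : H →* Equiv.Perm (Fin k × Fin (2 ^ m + 1)), ∀ (g : H) (σ : Equiv.Perm (Fin k))
    (τ : Fin k → Equiv.Perm (Fin (2 ^ m + 1))), ActS V H R co (g : Y) σ τ → ∀ i x, f g (i, x) = (σ i, τ i x) := by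
  classical
  have h1 : ∀ g : H, ∃ σ τ, ActS V H R co (g : Y) σ τ := fun g => K.perm g g.2
  choose σ τ hστ using h1
  have hmul : ∀ g h : H, σ (g * h) = σ g * σ h ∧ τ (g * h) = fun i => τ g (σ h i) * τ h i := fun g h =>
    actS_unique K (g * h).2 (hστ (g * h)) (actS_mul K h.2 (hστ g) (hστ h))
  have hone : σ 1 = 1 ∧ τ 1 = 1 := actS_unique K H.one_mem (hστ 1) actS_one
  refine ⟨{ toFun := fun g => Equiv.prodShear (σ g) (τ g), map_one' := ?_, map_mul' := ?_ }, ?_⟩
  · ext p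
    · change ((σ 1) p.1 : ℕ) = _
      rw [hone.1]; rfl
    · change ((τ 1 p.1) p.2 : ℕ) = _
      rw [hone.2]; rfl
  · intro g h
    ext p
    · change ((σ (g * h)) p.1 : ℕ) = ((σ g) ((σ h) p.1) : ℕ)
      rw [(hmul g h).1]; rfl
    · change ((τ (g * h) p.1) p.2 : ℕ) = ((τ g ((σ h) p.1)) ((τ h p.1) p.2) : ℕ)
      rw [(hmul g h).2]; rfl
  · intro g σ' τ' hg i x
    obtain ⟨h2, h3⟩ := actS_unique K g.2 (hστ g) hg
    change ((σ g) i, (τ g i) x) = _
    rw [h2, h3]

/-- **`R` is transitive on the nonzero letters** -/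
theorem trans_pt [Finite Y] (hRH : R ≤ H) (hS : ∃ P : Sylow 2 H, (P : Subgroup H) = R.subgroupOf H)
    {i j : Fin k} {x y : Fin (2 ^ m + 1)} (hx : x ≠ 0) (hy : y ≠ 0) :
    ∃ r ∈ R, ∃ σ τ, ActS V H R co r σ τ ∧ σ i = j ∧ τ i x = y := by
  classical
  have : Fact (Nat.Prime 2) := ⟨Nat.prime_two⟩
  obtain ⟨P, hP⟩ := hS
  obtain ⟨f, hf⟩ := exists_perm K
  have hidx : Odd (((P : Subgroup H).map f.rangeRestrict).index) := by
    have h1 : ¬ 2 ∣ (P : Subgroup H).index := P.not_dvd_index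
    have h2 := Subgroup.index_map_dvd (P : Subgroup H) f.rangeRestrict_surjective
    rw [← Nat.not_even_iff_odd, even_iff_two_dvd]
    exact fun h3 => h1 (h3.trans h2)
  have hcard : Nat.card ((P : Subgroup H).map f) = Nat.card ((P : Subgroup H).map f.rangeRestrict) := by
    have h1 : ((P : Subgroup H).map f.rangeRestrict).map f.range.subtype = (P : Subgroup H).map f := by
      rw [Subgroup.map_map]; rfl
    rw [← h1]
    exact (Nat.card_congr (((P : Subgroup H).map f.rangeRestrict).equivMapOfInjective _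
      f.range.subtype_injective).toEquiv).symm
  have hmemP : ∀ r (hr : r ∈ R), f ⟨r, hRH hr⟩ ∈ (P : Subgroup H).map f := by
    intro r hr
    exact ⟨⟨r, hRH hr⟩, by rw [SetLike.mem_coe, hP]; exact hr, rfl⟩
  have hofP : ∀ p ∈ (P : Subgroup H).map f, ∃ r, ∃ hr : r ∈ R, f ⟨r, hRH hr⟩ = p := by
    rintro _ ⟨p, hp, rfl⟩
    rw [SetLike.mem_coe, hP] at hp
    exact ⟨p, hp, rfl⟩
  obtain ⟨g, hg, hgx⟩ := trans_points (G := f.range) (P := (P : Subgroup H).map f)
    (c := ((P : Subgroup H).map f.rangeRestrict).index) (i := i) (j := j) (x := x) (y := y)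
    (by rintro _ ⟨p, _, rfl⟩; exact ⟨p, rfl⟩)
    (by rw [hcard, Subgroup.card_mul_index]) hidx (P.2.map f)
    (by
      rintro _ ⟨g, rfl⟩ p q hpq
      obtain ⟨σ, τ, hg⟩ := K.perm g g.2
      have h1 := hf g σ τ hg p.1 p.2
      have h2 := hf g σ τ hg q.1 q.2
      rw [Prod.mk.eta] at h1 h2
      rw [h1, h2, hpq])
    (by
      intro τ
      obtain ⟨g, hg, hgt, _⟩ := K.lift τ
      exact ⟨_, ⟨⟨g, hg⟩, rfl⟩, hf ⟨g, hg⟩ 1 τ hgt⟩)
    (by
      intro i j
      obtain ⟨r, hr, σ, τ, h1, h2⟩ := K.trans i j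
      exact ⟨_, hmemP r hr, by rw [hf _ _ _ h1]; exact h2⟩)
    (by
      intro g hg i
      obtain ⟨r, hr, rfl⟩ := hofP g hg
      obtain ⟨σ, τ, h1⟩ := K.perm r (hRH hr)
      rw [hf _ _ _ h1]
      exact K.fix0 r hr σ τ h1 i) hx hy
  obtain ⟨r, hr, rfl⟩ := hofP g hg
  obtain ⟨σ, τ, h1⟩ := K.perm r (hRH hr)
  rw [hf _ _ _ h1] at hgx
  exact ⟨r, hr, σ, τ, h1, (Prod.ext_iff.1 hgx).1, (Prod.ext_iff.1 hgx).2⟩

end trans

section pairs

variable {H R : Subgroup Y} {k m : ℕ} {co : V → Fin k → Fin (2 ^ m + 1) → ZMod 2}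

/-- the pairs of `R` -/
def PI (V : Type u) [AddCommGroup V] [DistribMulAction Y V] (H R : Subgroup Y) {k n : ℕ}
    (co : V → Fin k → Fin n → ZMod 2) (i : Fin k) (a b : Fin n) : Prop :=
  a ≠ b ∧ ∃ r ∈ R, ActS V H R co r 1 (tp i a b)

theorem PI.symm {i : Fin k} {a b : Fin (2 ^ m + 1)} (h : PI V H R co i a b) : PI V H R co i b a := by
  obtain ⟨h1, r, hr, h2⟩ := h
  exact ⟨h1.symm, r, hr, by rwa [tp_comm]⟩

theorem PI.ne0 (K : KSym V H R k m co) {i : Fin k} {a b : Fin (2 ^ m + 1)} (h : PI V H R co i a b) : a ≠ 0 := by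
  rintro rfl
  obtain ⟨h1, r, hr, h2⟩ := h
  have h3 := K.fix0 r hr _ _ h2 i
  rw [tp_self, Equiv.swap_apply_left] at h3
  exact h1 h3.symm

/-- conjugates of transpositions -/
theorem actS_conj_tp {g r : Y} (hr : r ∈ H) (hg : g ∈ H) {σ : Equiv.Perm (Fin k)}
    {τ : Fin k → Equiv.Perm (Fin (2 ^ m + 1))} (hrt : ActS V H R co r σ τ) {i : Fin k} {a b : Fin (2 ^ m + 1)}
    (hgt : ActS V H R co g 1 (tp i a b)) : ActS V H R co (r * g * r⁻¹) 1 (tp (σ i) (τ i a) (τ i b)) := by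
  intro v hv j y
  obtain ⟨w, rfl⟩ : ∃ w, v = r • w := ⟨r⁻¹ • v, by rw [smul_inv_smul]⟩
  have hw : w ∈ WW V H R := by
    have := smul_mem_WW (H.inv_mem hr) hv
    rwa [inv_smul_smul] at this
  obtain ⟨j', rfl⟩ : ∃ j', j = σ j' := ⟨σ⁻¹ j, by rw [papp]⟩
  obtain ⟨y', rfl⟩ : ∃ y', y = τ j' y' := ⟨(τ j')⁻¹ y, by rw [papp]⟩
  rw [mul_smul, inv_smul_smul, mul_smul, Equiv.Perm.one_apply, hrt w hw]
  have hgw := smul_mem_WW hg hw
  have h1 := hgt w hw j' y'
  rw [Equiv.Perm.one_apply] at h1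
  rw [← h1, ← hrt _ hgw]
  congr 1
  by_cases hj : j' = i
  · subst hj
    rw [tp_self, tp_self]
    exact (τ j').injective.swap_apply a b y'
  · rw [tp_of_ne hj, tp_of_ne (fun h => hj (σ.injective h))]; rfl

end pairs

end Cfsg.Agent.Omega.NO1.TH.K.SI

end

private theorem dce_a7eae10d4862 : _root_.True := by
  try have : _root_.True := by simp only [_root_.Cfsg.Agent.Omega.NO1.TH.K.SI.coH.congr_simp]
  try have : _root_.True := by simp only [_root_.Cfsg.Agent.Omega.NO1.TH.K.SI.tp.eq_1]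
  exact _root_.True.intro
end

-- part: Mrg/Omega/NO1/TH/K/ZedN
section
prune_inst 0xe0000a107000000000000002a00000200000010200000001a000000000492040c8408800020001001000800000000028101800100000000000000000000000000000120210400100200006000000000000000000000000000000000000000000000000000
set_option linter.all false
open scoped Cfsg.Agent.FastGrp

-- merged: Cfsg.Agent.Mrg.Omega.NO1.TH.K.LIn
section

section


/-!
# N1, natural type with `k` factors: the input `LIn` of (L1) (bb OMEGA 21480 / 20646), assembly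

`LIn` from `LFac` on both sides, (a), (e) [`S_X ≤ K`, the support of `B₁` on `W'`] and (z).
-/

set_option autoImplicit false
set_option linter.unusedSectionVars false
set_option linter.dupNamespace false

namespace Cfsg.Agent.Omega.NO1.TH

open Subgroup Cfsg.Agent.Omega.NO1.AB Cfsg.Agent.Omega.FFBr Cfsg.Agent.Lib.SL2Mat
open scoped Pointwise

universe u

variable {Y : Type u} [Group Y] {V : Type u} [AddCommGroup V] [DistribMulAction Y V]
variable [Finite Y] [Finite V] {U : Set (Subgroup Y)} {T : Sylow 2 Y} {M H R : Subgroup Y} {t : Y}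

/-- **`LIn`, any type** -/
theorem lIn_of (a : Amal U T M H R t) (a' : Amal U T M (MulAut.conj t • H) R t) (h : Amb V U T M)
    (we : WE V U H R) (we' : WE V U (MulAut.conj t • H) R) {ι : Type} {P : ι → Subgroup Y}
    {Ψ : ι → AddSubgroup V} {ι' : Type} {P' : ι' → Subgroup Y} {Ψ' : ι' → AddSubgroup V} {A : Subgroup Y}
    (fac : LFac V U H R P Ψ) (fac' : LFac V U (MulAut.conj t • H) R P' Ψ') (hA : A ∈ U) (hAH : A ≤ H)
    (hAM : ¬ A ≤ M) (hBQ : ¬ A ⊓ QQ H R ≤ QQ (MulAut.conj t • H) R)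
    (hS : ∀ w, w ∉ Ee V A → ∀ s ∈ A, s • w + w ∈ WW V H R ⊔ WW V (MulAut.conj t • H) R ⊔ fx V A →
      s ∈ QQ H R ∧ s ∈ QQ (MulAut.conj t • H) R)
    (faith : ∀ u ∈ A, (∀ w ∈ WW V H R, u • w + w ∈ D0 V U H R) → u ∈ QQ H R)
    (le₁ : ∀ x ∈ H, ∀ w ∈ WW V (MulAut.conj t • H) R, x • w ∈ Ee V A)
    (le₂ : ∀ x ∈ MulAut.conj t • H, ∀ w ∈ WW V H R, x • w ∈ Ee V A)
    (exact : ∃ Δ : Set ι', Δ.Nonempty ∧ (∀ b ∈ A, b ∈ QQ H R → b ∈ ⨆ p ∈ Δ, P' p) ∧
      ∀ p ∈ Δ, ∀ r ∈ P' p, ∃ b ∈ A, b ∈ QQ H R ∧ b⁻¹ * r ∈ QQ (MulAut.conj t • H) R)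
    (mov : ∃ p, (∀ x ∈ brk (Ψ p) (P p), x ∈ fx V A → x ∈ D0 V U H R) ∧
      (∃ u ∈ A, ∃ x ∈ brk (Ψ p) (P p), u • x ∉ brk (Ψ p) (P p)) ∧
      (∀ r ∈ P p, (∃ x ∈ Ψ p, r • x ≠ x) → ∀ z ∈ brk (Ψ p) (P p), ∃ x ∈ Ψ p, r • x + x + z ∈ D0 V U H R)) :
    LIn V U M H R t P Ψ P' Ψ' A := by
  have hAQ : ¬ A ≤ QQ H R := fun h1 => hAM (h1.trans (QQ_le.trans (a.RT.trans h.TM)))
  have hE : WW V (MulAut.conj t • H) R ≤ Ee V A := fun w hw => by
    have h1 := le₁ 1 H.one_mem w hw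
    rwa [one_smul] at h1
  exact
    { fac := fac
      fac' := fac'
      mA := hA
      AH := hAH
      AM := hAM
      AQ := hAQ
      WE := a.WW_le_Ee h we hA hAH
      pre := fun w hw s hs h1 => (hS w hw s hs (by
        rw [sup_right_comm]
        exact (le_sup_left : _ ≤ WW V H R ⊔ fx V A ⊔ WW V (MulAut.conj t • H) R) h1)).1
      faith := faith
      CB := fun v hv => by
        rw [← a.fx_eq h we hA hAH]
        exact fun b hb => hv b hb.1 hb.2
      CK := fun v hv => by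
        obtain ⟨w, hw⟩ := (h.cls.mem A hA).ne
        rw [← Amal.e_CK a a' h we we' hA hAH hE hw hAQ hBQ (hS w hw)]
        exact fun b hb => hv b hb.1.1 hb.1.2 hb.2
      le₁ := le₁
      le₂ := le₂
      exact := exact
      mov := mov.imp fun _ h1 => h1.1 }

end Cfsg.Agent.Omega.NO1.TH

namespace Cfsg.Agent.Omega.NO1.TH.K

open Subgroup Cfsg.Agent.Omega.NO1.AB Cfsg.Agent.Omega.FFBr Cfsg.Agent.Lib.SL2Mat
open scoped Pointwise

universe u

variable {Y : Type u} [Group Y] {V : Type u} [AddCommGroup V] [DistribMulAction Y V]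

/-- the root group `R_i` of `R` (with `Q`) -/
def Rt (V : Type u) [AddCommGroup V] [DistribMulAction Y V] (H R : Subgroup Y) {F : Type} [Field F] {k : ℕ}
    (co : V → Fin k → Fin 2 → F) (i : Fin k) (r : Y) : Prop :=
  r ∈ R ∧ ∃ b : Fin k → F, (∀ j, j ≠ i → b j = 0) ∧ Acts V H R co r fun j => up (b j)

variable {H R : Subgroup Y} {F : Type} [Field F] {k : ℕ} {co : V → Fin k → Fin 2 → F}

variable [Finite Y] [Finite V] {U : Set (Subgroup Y)} {T : Sylow 2 Y} {M : Subgroup Y} {t : Y}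

end Cfsg.Agent.Omega.NO1.TH.K

end

section


/-!
# N1-ONE, (B) of #19584, natural type, any `k` (helper247 #20646): the action on one component

`N : KNat V H R F k co`.

* `CA` : the action of `g ∈ H` on the components: a permutation `σ` and semilinear maps `β i`; `KNat.exists_ca`,
  `KNat.exists_caR` (for `r ∈ R` the line `x 1 = 0` is invariant);
* `PP co j = [W_j^+, L_j]`; `pp_supp`, `KNat.pp_onto`, `KNat.pp_fix`, `KNat.le_pp`.
-/

set_option autoImplicit false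
set_option linter.unusedSectionVars false

namespace Cfsg.Agent.Omega.NO1.TH.K

open Subgroup Cfsg.Agent.Omega.NO1.AB Cfsg.Agent.Lib.SL2Mat
open Cfsg.Agent.Omega.NatPair (ap)
open scoped Pointwise

universe u

variable {Y : Type u} [Group Y] {V : Type u} [AddCommGroup V] [DistribMulAction Y V] {H R : Subgroup Y}
  {F : Type} [Field F] {k : ℕ} {co : V → Fin k → Fin 2 → F}

/-- the action of `g` on the components -/
structure CA (V : Type u) [AddCommGroup V] [DistribMulAction Y V] (H R : Subgroup Y) (co : V → Fin k → Fin 2 → F)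
    (g : Y) (σ : Equiv.Perm (Fin k)) (β : Fin k → (Fin 2 → F) → Fin 2 → F) (s : Fin k → F ≃+* F) : Prop where
  act : ∀ v ∈ WW V H R, ∀ i, co (g • v) (σ i) = β i (co v i)
  add : ∀ i x y, β i (x + y) = β i x + β i y
  smul : ∀ i (c : F) x, β i (c • x) = s i c • β i x
  inj : ∀ i x, β i x = 0 → x = 0

namespace KNat

variable (N : KNat V H R F k co)
include N

theorem exists_sgl [CharP F 2] (j : Fin k) (x : Fin 2 → F) : ∃ v ∈ WW V H R, co v = Pi.single j x := N.surj _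

theorem sub_ad [CharP F 2] {v w : V} (hv : v ∈ WW V H R) (hw : w ∈ WW V H R) (i : Fin k) :
    co (v + w) i = 0 ↔ co v i = co w i := by
  rw [N.add v hv w hw, Pi.add_apply]
  constructor
  · intro h
    have h1 : co w i + co w i = 0 := by
      funext j; exact CharTwo.add_self_eq_zero _
    exact add_right_cancel (h.trans h1.symm)
  · intro h
    rw [h]
    funext j; exact CharTwo.add_self_eq_zero _

theorem co_smul_zero {g : Y} (hg : g ∈ H) {v : V} (hv : v ∈ WW V H R) : co (g • v) = 0 ↔ co v = 0 := by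
  obtain ⟨σ, hσ⟩ := N.perm g hg
  constructor
  · intro h
    funext i
    exact (hσ v hv i).1 (congrFun h _)
  · intro h
    funext i
    obtain ⟨j, rfl⟩ := σ.surjective i
    exact (hσ v hv j).2 (congrFun h j)

theorem co_eq [CharP F 2] {v w : V} (hv : v ∈ WW V H R) (hw : w ∈ WW V H R) : co (v + w) = 0 ↔ co v = co w := by
  constructor
  · intro h
    funext i
    exact (N.sub_ad hv hw i).1 (congrFun h i)
  · intro h
    funext i
    exact (N.sub_ad hv hw i).2 (congrFun h i)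

/-- two elements of `H` with the same action on `W / D₀` agree on `W` -/
theorem eqOn [CharP F 2] {g h : Y} (hg : g ∈ H) (hh : h ∈ H) (he : ∀ w ∈ WW V H R, co (g • w) = co (h • w)) {w : V}
    (hw : w ∈ WW V H R) : g • w = h • w := by
  have h1 := N.trivH (h⁻¹ * g) (H.mul_mem (H.inv_mem hh) hg) (by
    intro w hw
    have h2 : h⁻¹ * g ∈ H := H.mul_mem (H.inv_mem hh) hg
    rw [← N.co_eq (smul_mem_WW h2 hw) hw, ← N.co_smul_zero hh (add_mem (smul_mem_WW h2 hw) hw), smul_add, ← mul_smul,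
      mul_inv_cancel_left, N.co_eq (smul_mem_WW hg hw) (smul_mem_WW hh hw)]
    exact he w hw) w hw
  rw [mul_smul, inv_smul_eq_iff] at h1
  exact h1

theorem exists_ca [Finite F] [CharP F 2] {g : Y} (hg : g ∈ H) :
    ∃ σ β s, CA V H R co g σ β s := by
  obtain ⟨σ, hσ⟩ := N.perm g hg
  have hgm : ∀ {v : V}, v ∈ WW V H R → g • v ∈ WW V H R := fun hv => smul_mem_WW hg hv
  have hgm' : ∀ {v : V}, v ∈ WW V H R → g⁻¹ • v ∈ WW V H R := fun hv => smul_mem_WW (H.inv_mem hg) hv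
  choose u huW hu using fun (i : Fin k) (x : Fin 2 → F) => N.exists_sgl i x
  -- the component map
  let β : Fin k → (Fin 2 → F) → Fin 2 → F := fun i x => co (g • u i x) (σ i)
  have hact : ∀ v ∈ WW V H R, ∀ i, co (g • v) (σ i) = β i (co v i) := by
    intro v hv i
    rw [← N.sub_ad (hgm hv) (hgm (huW i _)), ← smul_add, hσ _ (add_mem hv (huW _ _)), N.sub_ad hv (huW _ _), hu,
      Pi.single_eq_same]
  have hadd : ∀ i x y, β i (x + y) = β i x + β i y := by
    intro i x y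
    have h1 := hact _ (add_mem (huW i x) (huW i y)) i
    rw [smul_add, N.add _ (hgm (huW _ _)) _ (hgm (huW _ _)), Pi.add_apply, N.add _ (huW _ _) _ (huW _ _),
      Pi.add_apply, hu, hu, Pi.single_eq_same, Pi.single_eq_same] at h1
    exact h1.symm
  have hinj : ∀ i x, β i x = 0 → x = 0 := by
    intro i x h
    have h1 := (hσ _ (huW i x) i).1 h
    rwa [hu, Pi.single_eq_same] at h1
  -- the inverse
  let β' : Fin k → (Fin 2 → F) → Fin 2 → F := fun i x => co (g⁻¹ • u (σ i) x) i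
  have hact' : ∀ v ∈ WW V H R, ∀ i, co (g⁻¹ • v) i = β' i (co v (σ i)) := by
    intro v hv i
    rw [← N.sub_ad (hgm' hv) (hgm' (huW (σ i) _)), ← smul_add,
      ← hσ _ (hgm' (add_mem hv (huW _ _))), smul_inv_smul, N.sub_ad hv (huW _ _), hu, Pi.single_eq_same]
  have hββ : ∀ i x, β' i (β i x) = x := by
    intro i x
    have h1 := hact' _ (hgm (huW i x)) i
    rw [inv_smul_smul, hu, Pi.single_eq_same] at h1
    exact h1.symm
  have hββ' : ∀ i x, β i (β' i x) = x := by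
    intro i x
    have h1 := hact _ (hgm' (huW (σ i) x)) i
    rw [smul_inv_smul, hu, Pi.single_eq_same] at h1
    exact h1.symm
  have hs : ∀ i, ∃ s : F ≃+* F, ∀ (c : F) x, β i (c • x) = s c • β i x := by
    intro i
    obtain ⟨τ, hτ⟩ := NatPair.exists_semi (β i) (β' i) (hadd i) (hββ i) (hββ' i) (by
      intro A
      obtain ⟨h, hh, hA⟩ := N.lift (Pi.mulSingle (σ i) A)
      obtain ⟨B, hB⟩ := N.norm g⁻¹ (H.inv_mem hg) h hh _ hA.1
      refine ⟨B i, fun x => ?_⟩
      have h1 := hB _ (huW i x) i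
      rw [inv_inv, mul_smul, mul_smul, hact' _ (smul_mem_WW hh (hgm (huW _ _))), hA.1 _ (hgm (huW _ _)),
        hact _ (huW _ _), hu, Pi.single_eq_same, Pi.mulSingle_eq_same] at h1
      exact h1)
    exact NatPair.exists_ringEquiv (β i) (β' i) (hadd i) (hββ i) τ hτ
  choose s hs using hs
  exact ⟨σ, β, s, hact, hadd, hs, hinj⟩

theorem exists_caR [Finite F] [CharP F 2] (hRH : R ≤ H) {r : Y} (hr : r ∈ R) :
    ∃ σ β s, CA V H R co r σ β s ∧ ∀ i x, β i x 1 = 0 ↔ x 1 = 0 := by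
  obtain ⟨σ, β, s, hc⟩ := N.exists_ca (hRH hr)
  obtain ⟨τ, hτ⟩ := N.line r hr
  refine ⟨σ, β, s, hc, fun i x => ?_⟩
  have hστ : τ i = σ i := by
    obtain ⟨v, hv, hvx⟩ := N.exists_sgl i (![0, 1] : Fin 2 → F)
    by_contra hne
    have h1 := (hτ v hv i).1 (by
      obtain ⟨j, hj⟩ := σ.surjective (τ i)
      have hij : j ≠ i := fun e => hne (by rw [← hj, e])
      rw [← hj, hc.act v hv j, hvx, Pi.single_eq_of_ne hij]
      have h2 : β j 0 = 0 := by
        have h3 := hc.add j 0 0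
        rw [add_zero] at h3
        exact left_eq_add.1 h3
      rw [h2]; rfl)
    rw [hvx, Pi.single_eq_same] at h1
    simp at h1
  obtain ⟨v, hv, hvx⟩ := N.exists_sgl i x
  have h1 := hτ v hv i
  rw [hστ, hc.act v hv i, hvx, Pi.single_eq_same] at h1
  exact h1

end KNat

/-! ### `PP j` -/

/-- `[W, L_j]` -/
def PP (V : Type u) [AddCommGroup V] [DistribMulAction Y V] (H R : Subgroup Y) (co : V → Fin k → Fin 2 → F)
    (j : Fin k) : AddSubgroup V :=
  AddSubgroup.closure {v | ∃ g ∈ H, ∃ A : Fin k → Matrix.SpecialLinearGroup (Fin 2) F, Acts V H R co g A ∧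
    (∀ i, i ≠ j → A i = 1) ∧ ∃ w ∈ WW V H R, v = g • w + w}

theorem PP_le_WW (j : Fin k) : PP V H R co j ≤ WW V H R := by
  refine (AddSubgroup.closure_le _).2 ?_
  rintro _ ⟨g, hg, A, -, -, w, hw, rfl⟩
  exact add_mem (smul_mem_WW hg hw) hw

namespace KNat

variable (N : KNat V H R F k co)
include N

theorem pp_supp [CharP F 2] {j : Fin k} {v : V} (hv : v ∈ PP V H R co j) {i : Fin k} (hij : i ≠ j) : co v i = 0 := by
  have key : v ∈ WW V H R ∧ co v i = 0 := by
    refine AddSubgroup.closure_induction ?_ ?_ ?_ ?_ hv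
    · rintro _ ⟨g, hg, A, hA, hAi, w, hw, rfl⟩
      refine ⟨add_mem (smul_mem_WW hg hw) hw, ?_⟩
      rw [N.sub_ad (smul_mem_WW hg hw) hw, hA.1 w hw, hAi i hij, NatPair.ap_one]
    · exact ⟨zero_mem _, by rw [N.zero]; rfl⟩
    · rintro a b - - ⟨ha, ha'⟩ ⟨hb, hb'⟩
      exact ⟨add_mem ha hb, by rw [N.add a ha b hb, Pi.add_apply, ha', hb', add_zero]⟩
    · rintro a - ⟨ha, ha'⟩
      refine ⟨neg_mem ha, ?_⟩
      have h1 := N.add a ha (-a) (neg_mem ha)
      rw [add_neg_cancel, N.zero] at h1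
      have h2 := congrFun h1 i
      rw [Pi.add_apply, ha', zero_add] at h2
      exact h2.symm
  exact key.2

end KNat

/-- a fixed point free element of `SL₂(F)` -/
def om [CharP F 2] : Matrix.SpecialLinearGroup (Fin 2) F := mk 0 1 1 1 (by
  have h : (1 : F) + 1 = 0 := CharTwo.add_self_eq_zero 1
  linear_combination (-1 : F) * h)

theorem exists_om [CharP F 2] (x : Fin 2 → F) : ∃ z : Fin 2 → F, ap om z + z = x := by
  refine ⟨![x 1, x 0 + x 1], ?_⟩
  have h2 : ∀ a : F, a + a = 0 := fun a => CharTwo.add_self_eq_zero a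
  apply NatPair.ext2
  · rw [Pi.add_apply, NatPair.ap_zero', om]
    simp only [mk_00, mk_01, Matrix.cons_val_zero, Matrix.cons_val_one, zero_mul, one_mul, zero_add]
    linear_combination h2 (x 1)
  · rw [Pi.add_apply, NatPair.ap_one', om]
    simp only [mk_10, mk_11, Matrix.cons_val_zero, Matrix.cons_val_one, one_mul]
    linear_combination h2 (x 0) + h2 (x 1)

theorem ap_zero (A : Matrix.SpecialLinearGroup (Fin 2) F) : ap A 0 = 0 := by
  apply NatPair.ext2
  · rw [NatPair.ap_zero']; simp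
  · rw [NatPair.ap_one']; simp

namespace KNat

variable (N : KNat V H R F k co)
include N

/-- `PP j` maps onto the component `j` -/
theorem pp_onto [CharP F 2] (j : Fin k) (x : Fin 2 → F) : ∃ v ∈ PP V H R co j, co v = Pi.single j x := by
  obtain ⟨z, hz⟩ := exists_om x
  obtain ⟨w, hw, hwz⟩ := N.surj (Pi.single j z)
  obtain ⟨g, hg, hA⟩ := N.lift (Pi.mulSingle j om)
  refine ⟨g • w + w, AddSubgroup.subset_closure ⟨g, hg, _, hA, fun i hi => Pi.mulSingle_eq_of_ne hi _, w, hw, rfl⟩, ?_⟩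
  rw [N.add _ (smul_mem_WW hg hw) w hw]
  funext i
  rw [Pi.add_apply, hA.1 w hw, hwz]
  by_cases hi : i = j
  · subst hi
    rw [Pi.mulSingle_eq_same, Pi.single_eq_same, Pi.single_eq_same, hz]
  · rw [Pi.mulSingle_eq_of_ne hi, Pi.single_eq_of_ne hi, Pi.single_eq_of_ne hi, NatPair.ap_one, add_zero]

/-- `L_j` centralises the vectors without `j`-component -/
theorem comm_triv [CharP F 2] (h2 : ∀ v : V, v + v = 0) {j : Fin k} {g : Y} (hg : g ∈ H)
    {A : Fin k → Matrix.SpecialLinearGroup (Fin 2) F} (hA : Acts V H R co g A) (hAi : ∀ i, i ≠ j → A i = 1) {x : V}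
    (hx : x ∈ WW V H R) (hxj : co x j = 0) : g • x = x := by
  classical
  choose z hz using fun i => exists_om (co x i)
  obtain ⟨y, hy, hyz⟩ := N.surj (Function.update z j 0)
  obtain ⟨t, ht, hB⟩ := N.lift (Function.update (fun _ => om) j 1)
  set B : Fin k → Matrix.SpecialLinearGroup (Fin 2) F := Function.update (fun _ => om) j 1 with hBdef
  -- `x = t y + y + d`
  have hty := smul_mem_WW ht hy
  have hd : co (x + (t • y + y)) = 0 := by
    funext i
    rw [Pi.zero_apply, N.sub_ad hx (add_mem hty hy), N.add _ hty _ hy, Pi.add_apply, hB.1 y hy, hyz]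
    by_cases hi : i = j
    · subst hi
      rw [Function.update_self, ap_zero, add_zero, hxj]
    · rw [Function.update_of_ne hi, hBdef, Function.update_of_ne hi, hz]
  have hdW : x + (t • y + y) ∈ WW V H R := add_mem hx (add_mem hty hy)
  -- `g y = y + d'`
  have hd' : co (g • y + y) = 0 := by
    funext i
    rw [Pi.zero_apply, N.sub_ad (smul_mem_WW hg hy) hy, hA.1 y hy]
    by_cases hi : i = j
    · subst hi
      rw [hyz, Function.update_self, ap_zero]
    · rw [hAi i hi, NatPair.ap_one]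
  have hd'W : g • y + y ∈ WW V H R := add_mem (smul_mem_WW hg hy) hy
  have hgy : g • y = y + (g • y + y) := by rw [add_comm, add_assoc, h2, add_zero]
  -- `g t y = t g y`
  have hgt : ∀ w ∈ WW V H R, g • t • w = t • g • w := by
    intro w hw
    rw [← mul_smul, ← mul_smul]
    refine N.eqOn (H.mul_mem hg ht) (H.mul_mem ht hg) ?_ hw
    intro w hw
    rw [mul_smul, mul_smul]
    funext i
    rw [hA.1 _ (smul_mem_WW ht hw), hB.1 w hw, hB.1 _ (smul_mem_WW hg hw), hA.1 w hw]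
    by_cases hi : i = j
    · subst hi
      rw [hBdef, Function.update_self, NatPair.ap_one, NatPair.ap_one]
    · rw [hAi i hi, NatPair.ap_one, NatPair.ap_one]
  have hx' : x = (x + (t • y + y)) + (t • y + y) := by rw [add_assoc, h2, add_zero]
  rw [hx', smul_add, hA.2 _ hdW hd, smul_add, hgt y hy]
  nth_rewrite 1 [hgy]
  rw [smul_add, hB.2 _ hd'W hd']
  have h5 : t • y + (g • y + y) + g • y = t • y + y + (g • y + g • y) := by abel
  rw [h5, h2, add_zero]

/-- an element of `H` which is trivial on the component `j` centralises `PP j` -/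
theorem pp_fix [CharP F 2] (h2 : ∀ v : V, v + v = 0) {j : Fin k} {b : Y} (hb : b ∈ H)
    (hbj : ∀ w ∈ WW V H R, co (b • w) j = co w j) {v : V} (hv : v ∈ PP V H R co j) : b • v = v := by
  refine AddSubgroup.closure_induction ?_ ?_ ?_ ?_ hv
  · rintro _ ⟨g, hg, A, hA, hAi, w, hw, rfl⟩
    -- `b g = g b` on `W`
    have hbg : ∀ w ∈ WW V H R, b • g • w = g • b • w := by
      intro w hw
      rw [← mul_smul, ← mul_smul]
      refine N.eqOn (H.mul_mem hb hg) (H.mul_mem hg hb) ?_ hw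
      intro w hw
      rw [mul_smul, mul_smul]
      obtain ⟨σ, hσ⟩ := N.perm b hb
      have hσj : σ j = j := by
        obtain ⟨v, hv, hvx⟩ := N.exists_sgl j (![1, 0] : Fin 2 → F)
        by_contra hne
        obtain ⟨i, hi⟩ := σ.surjective j
        have hij : i ≠ j := fun e => hne (by rw [e] at hi; exact hi)
        have h3 := (hσ v hv i).2 (by rw [hvx, Pi.single_eq_of_ne hij])
        rw [hi, hbj v hv, hvx, Pi.single_eq_same] at h3
        have h4 := congrFun h3 0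
        simp at h4
      have hgw := smul_mem_WW hg hw
      have hbw := smul_mem_WW hb hw
      funext i
      by_cases hi : i = j
      · subst hi
        rw [hbj _ hgw, hA.1 w hw, hA.1 _ hbw, hbj w hw]
      · rw [hA.1 _ hbw, hAi i hi, NatPair.ap_one, ← N.sub_ad (smul_mem_WW hb hgw) hbw, ← smul_add]
        obtain ⟨i', rfl⟩ := σ.surjective i
        have hi' : i' ≠ j := fun e => hi (by rw [e, hσj])
        rw [hσ _ (add_mem hgw hw), N.sub_ad hgw hw, hA.1 w hw, hAi i' hi', NatPair.ap_one]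
    rw [smul_add, hbg w hw]
    -- `b w = w + x`, `x` without `j`-component
    have hbw := smul_mem_WW hb hw
    have h3 := N.comm_triv h2 hg hA hAi (x := b • w + w) (add_mem hbw hw) ((N.sub_ad hbw hw j).2 (hbj w hw))
    rw [smul_add] at h3
    have h4 : g • b • w + b • w + (g • w + w) = (g • b • w + g • w) + (b • w + w) := by abel
    rw [h3, h2] at h4
    have h5 : g • b • w + b • w = g • b • w + b • w + ((g • w + w) + (g • w + w)) := by rw [h2, add_zero]
    rw [h5, ← add_assoc, h4, zero_add]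
  · exact smul_zero b
  · intro a c _ _ ha hc
    rw [smul_add, ha, hc]
  · intro a _ ha
    rw [smul_neg, ha]

end KNat

end Cfsg.Agent.Omega.NO1.TH.K

end

section


/-!
# N1-ONE, (B) of #19584, natural type (helper247 #20646): elementary abelian subgroups on one component

`SLin R co j a s` : `a` fixes the component `j` and is `s`-semilinear on it.

* `KNat.card_le` : an elementary abelian `A ≤ R` which fixes `j` and is faithful on the component `j` has `|A| ≤ |F|`;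
* `KNat.card_le'` : the same without "fixes `j`", if `[W, A, S] = 0` for some `1 ≠ S ≤ A`;
* `KNat.bound` : (z).
-/

set_option autoImplicit false
set_option linter.unusedSectionVars false

namespace Cfsg.Agent.Omega.NO1.TH.K

open Subgroup Cfsg.Agent.Omega.NO1.AB Cfsg.Agent.Lib.SL2Mat
open Cfsg.Agent.Omega.NatPair (ap)
open scoped Pointwise

universe u

variable {Y : Type u} [Group Y] {V : Type u} [AddCommGroup V] [DistribMulAction Y V] {H R : Subgroup Y}
  {F : Type} [Field F] {k : ℕ} {co : V → Fin k → Fin 2 → F}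

/-- `a` is `s`-semilinear on the component `j` -/
def SLin (V : Type u) [AddCommGroup V] [DistribMulAction Y V] (H R : Subgroup Y) (co : V → Fin k → Fin 2 → F)
    (j : Fin k) (a : Y) (s : F ≃+* F) : Prop :=
  ∀ w ∈ WW V H R, ∀ w' ∈ WW V H R, ∀ c : F, co w' j = c • co w j → co (a • w') j = s c • co (a • w) j

theorem fix_card [Finite F] (s : F ≃+* F) (hs : ∃ x, s x ≠ x) : 2 * Nat.card {x : F // s x = x} ≤ Nat.card F := by
  obtain ⟨z, hz⟩ := hs
  have h1 : Function.Injective (fun p : {x : F // s x = x} × {x : F // s x = x} => p.1.1 + p.2.1 * z) := by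
    rintro ⟨⟨a, ha⟩, ⟨b, hb⟩⟩ ⟨⟨a', ha'⟩, ⟨b', hb'⟩⟩ h
    change a + b * z = a' + b' * z at h
    by_cases hbb : b = b'
    · subst hbb
      have : a = a' := add_right_cancel h
      subst this
      rfl
    · exfalso
      apply hz
      have h3 : (b - b') * z = a' - a := by linear_combination h
      have h4 : b - b' ≠ 0 := sub_ne_zero.2 hbb
      have h5 : z = (a' - a) * (b - b')⁻¹ := by
        field_simp
        linear_combination h3
      rw [h5, map_mul, map_inv₀, map_sub, map_sub, ha, ha', hb, hb']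
  have h3 := Nat.card_le_card_of_injective _ h1
  rw [Nat.card_prod] at h3
  have h4 : 2 ≤ Nat.card {x : F // s x = x} := by
    have h5 : Function.Injective (fun b : Bool => (if b then ⟨1, map_one s⟩ else ⟨0, map_zero s⟩ : {x : F // s x = x})) := by
      intro b b' hb
      cases b <;> cases b' <;> simp at hb ⊢
    have h6 := Nat.card_le_card_of_injective _ h5
    rwa [Nat.card_eq_fintype_card (α := Bool), Fintype.card_bool] at h6
  exact (Nat.mul_le_mul_right _ h4).trans h3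

namespace KNat

variable (N : KNat V H R F k co)
include N

theorem exists_SLin [Finite F] [CharP F 2] (hRH : R ≤ H) {j : Fin k} {a : Y} (ha : a ∈ R)
    (hf : ∀ w ∈ WW V H R, co w j = 0 → co (a • w) j = 0) : ∃ s, SLin V H R co j a s := by
  obtain ⟨σ, β, s, hc⟩ := N.exists_ca (hRH ha)
  have hσ : σ j = j := by
    by_contra hne
    obtain ⟨i, hi⟩ := σ.surjective j
    have hij : i ≠ j := fun e => hne (by rw [e] at hi; exact hi)
    obtain ⟨v, hv, hvx⟩ := N.exists_sgl i (![1, 0] : Fin 2 → F)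
    have h1 := hf v hv (by rw [hvx, Pi.single_eq_of_ne hij.symm])
    rw [← hi, hc.act v hv, hvx, Pi.single_eq_same] at h1
    have h3 := congrFun (hc.inj i _ h1) 0
    simp at h3
  refine ⟨s j, fun w hw w' hw' c h => ?_⟩
  have h1 := hc.act w hw j
  have h3 := hc.act w' hw' j
  rw [hσ] at h1 h3
  rw [h1, h3, h, hc.smul]

omit N in
theorem SLin.mul {j : Fin k} {a b : Y} {s t : F ≃+* F} (hRH : R ≤ H) (hb' : b ∈ R) (ha : SLin V H R co j a s)
    (hb : SLin V H R co j b t) : SLin V H R co j (a * b) (t.trans s) := by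
  intro w hw w' hw' c h
  rw [mul_smul, mul_smul]
  exact ha _ (smul_mem_WW (hRH hb') hw) _ (smul_mem_WW (hRH hb') hw') _ (hb w hw w' hw' c h)

omit N in
theorem SLin.fix {j : Fin k} {a : Y} {s : F ≃+* F} (ha : SLin V H R co j a s) {w : V} (hw : w ∈ WW V H R)
    (h : co w j = 0) : co (a • w) j = 0 := by
  have h1 := ha w hw w hw 0 (by rw [h, smul_zero])
  rwa [map_zero, zero_smul] at h1

theorem exists_ne [CharP F 2] (hRH : R ≤ H) {j : Fin k} {a : Y} (ha : a ∈ R) : ∃ w ∈ WW V H R, co (a • w) j ≠ 0 := by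
  obtain ⟨v, hv, hvx⟩ := N.exists_sgl j (![1, 0] : Fin 2 → F)
  refine ⟨a⁻¹ • v, smul_mem_WW (H.inv_mem (hRH ha)) hv, fun h => ?_⟩
  rw [smul_inv_smul, hvx, Pi.single_eq_same] at h
  have h4 := congrFun h 0
  simp at h4

theorem SLin_uniq [CharP F 2] (hRH : R ≤ H) {j : Fin k} {a : Y} (ha' : a ∈ R) {s t : F ≃+* F}
    (ha : SLin V H R co j a s) (hb : SLin V H R co j a t) : s = t := by
  obtain ⟨w, hw, hne⟩ := N.exists_ne hRH (j := j) ha'
  ext c
  obtain ⟨w', hw', hww⟩ := N.exists_sgl j (c • co w j)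
  have e : co w' j = c • co w j := by rw [hww, Pi.single_eq_same]
  have h1 := ha w hw w' hw' c e
  rw [hb w hw w' hw' c e] at h1
  exact (smul_left_injective F hne h1).symm

omit N in
theorem SLin_one {j : Fin k} : SLin V H R co j (1 : Y) (RingEquiv.refl F) := by
  intro w hw w' hw' c h
  rw [one_smul, one_smul, h]
  rfl

theorem SLin_sq [CharP F 2] (hRH : R ≤ H) {j : Fin k} {a : Y} (ha' : a ∈ R) (haa : a * a = 1) {s : F ≃+* F}
    (ha : SLin V H R co j a s) (x : F) : s (s x) = x := by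
  have h1 := SLin.mul hRH ha' ha ha
  rw [haa] at h1
  have h3 := N.SLin_uniq hRH R.one_mem h1 SLin_one
  exact RingEquiv.congr_fun h3 x

/-- linear involutions -/
theorem lin_of [Finite F] [CharP F 2] (hRH : R ≤ H) {j : Fin k} {a : Y} (ha' : a ∈ R) (haa : a * a = 1)
    (ha : SLin V H R co j a (RingEquiv.refl F)) :
    ∃ γ : F, ∀ w ∈ WW V H R, co (a • w) j = ![co w j 0 + γ * co w j 1, co w j 1] := by
  obtain ⟨σ, β, s, hc, hl⟩ := N.exists_caR hRH ha'
  have hσ : σ j = j := by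
    by_contra hne
    obtain ⟨i, hi⟩ := σ.surjective j
    have hij : i ≠ j := fun e => hne (by rw [e] at hi; exact hi)
    obtain ⟨v, hv, hvx⟩ := N.exists_sgl i (![1, 0] : Fin 2 → F)
    have h1 := SLin.fix ha hv (by rw [hvx, Pi.single_eq_of_ne hij.symm])
    rw [← hi, hc.act v hv, hvx, Pi.single_eq_same] at h1
    have h3 := congrFun (hc.inj i _ h1) 0
    simp at h3
  have hact : ∀ w ∈ WW V H R, co (a • w) j = β j (co w j) := by
    intro w hw
    have h1 := hc.act w hw j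
    rwa [hσ] at h1
  have hsm : ∀ (c : F) x, β j (c • x) = c • β j x := by
    intro c x
    obtain ⟨w, hw, hwx⟩ := N.exists_sgl j x
    obtain ⟨w', hw', hwx'⟩ := N.exists_sgl j (c • x)
    have h1 := ha w hw w' hw' c (by rw [hwx, hwx', Pi.single_eq_same, Pi.single_eq_same])
    rw [hact w hw, hact w' hw', hwx, hwx', Pi.single_eq_same, Pi.single_eq_same] at h1
    exact h1
  have hbb : ∀ x, β j (β j x) = x := by
    intro x
    obtain ⟨w, hw, hwx⟩ := N.exists_sgl j x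
    have h1 := hact _ (smul_mem_WW (hRH ha') hw)
    rw [← mul_smul, haa, one_smul, hact w hw, hwx, Pi.single_eq_same] at h1
    exact h1.symm
  have h10 : β j ![1, 0] 1 = 0 := (hl j _).2 (by simp)
  set α := β j ![1, 0] 0 with hα
  have e1 : β j ![1, 0] = α • ![1, 0] := by
    apply NatPair.ext2
    · simp [hα]
    · rw [h10]; simp
  have h1 := hbb ![1, 0]
  rw [e1, hsm, e1, smul_smul] at h1
  have h3 : α * α = 1 := by
    have := congrFun h1 0
    simpa using this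
  have sq1 : ∀ x : F, x * x = 1 → x = 1 := by
    intro x hx
    have h5 : (x + 1) * (x + 1) = 0 := by
      have h6 : (1 : F) + 1 = 0 := CharTwo.add_self_eq_zero 1
      linear_combination hx + (1 + x) * h6
    have h7 : x + 1 = 0 := by simpa using h5
    have h8 : (1 : F) + 1 = 0 := CharTwo.add_self_eq_zero 1
    exact add_right_cancel (h7.trans h8.symm)
  have hα1 := sq1 α h3
  rw [hα1, one_smul] at e1
  have e2 : β j ![0, 1] = (β j ![0, 1] 0) • ![1, 0] + (β j ![0, 1] 1) • ![0, 1] := by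
    apply NatPair.ext2
    · simp
    · simp
  have h4 := hbb ![0, 1]
  rw [e2, hc.add, hsm, hsm, e1] at h4
  have h5 : β j ![0, 1] 1 * β j ![0, 1] 1 = 1 := by
    have := congrFun h4 1
    simpa using this
  have hδ := sq1 _ h5
  refine ⟨β j ![0, 1] 0, fun w hw => ?_⟩
  rw [hact w hw]
  have e3 : co w j = (co w j 0) • ![1, 0] + (co w j 1) • ![0, 1] := by
    apply NatPair.ext2
    · simp
    · simp
  rw [e3, hc.add, hsm, hsm, e1]
  apply NatPair.ext2
  · simp only [Pi.add_apply, Pi.smul_apply, smul_eq_mul, Matrix.cons_val_zero, Matrix.cons_val_one, mul_one, mul_zero,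
      add_zero, zero_add]
    ring
  · simp only [Pi.add_apply, Pi.smul_apply, smul_eq_mul, Matrix.cons_val_zero, Matrix.cons_val_one, mul_one, mul_zero,
      add_zero, zero_add]
    rw [hδ, mul_one]

end KNat

end Cfsg.Agent.Omega.NO1.TH.K

end

section


/-!
# N1-ONE, (B) of #19584, natural type (helper247 #20646): `|A| ≤ |F|`

* `KNat.card_le` : an elementary abelian `A ≤ R` which fixes `j` and is faithful on the component `j` has `|A| ≤ |F|`;
* `KNat.card_le'` : the same without "fixes `j`", if `[v₀, A, S] = 0` for some `S ⊆ A`, `|F| ≤ |S|`, and some `v₀`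
  supported on `j`, not in the line.
-/

set_option autoImplicit false
set_option linter.unusedSectionVars false

namespace Cfsg.Agent.Omega.NO1.TH.K

open Subgroup Cfsg.Agent.Omega.NO1.AB Cfsg.Agent.Lib.SL2Mat
open Cfsg.Agent.Omega.NatPair (ap)
open scoped Pointwise

universe u

variable {Y : Type u} [Group Y] {V : Type u} [AddCommGroup V] [DistribMulAction Y V] {H R : Subgroup Y}
  {F : Type} [Field F] {k : ℕ} {co : V → Fin k → Fin 2 → F}

theorem CA.zero {g : Y} {σ : Equiv.Perm (Fin k)} {β : Fin k → (Fin 2 → F) → Fin 2 → F} {s : Fin k → F ≃+* F}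
    (hc : CA V H R co g σ β s) (i : Fin k) : β i 0 = 0 := by
  have h3 := hc.add i 0 0
  rw [add_zero] at h3
  exact left_eq_add.1 h3

namespace KNat

variable (N : KNat V H R F k co)
include N

/-- the matrix of a semilinear element -/
theorem semi_form [Finite F] [CharP F 2] (hRH : R ≤ H) {j : Fin k} {a : Y} (ha' : a ∈ R) {s : F ≃+* F}
    (ha : SLin V H R co j a s) : ∃ α κ δ : F, α ≠ 0 ∧ δ ≠ 0 ∧ ∀ w ∈ WW V H R,
      co (a • w) j = ![α * s (co w j 0) + κ * s (co w j 1), δ * s (co w j 1)] := by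
  obtain ⟨σ, β, s', hc, hl⟩ := N.exists_caR hRH ha'
  have hσ : σ j = j := by
    by_contra hne
    obtain ⟨i, hi⟩ := σ.surjective j
    have hij : i ≠ j := fun e => hne (by rw [e] at hi; exact hi)
    obtain ⟨v, hv, hvx⟩ := N.exists_sgl i (![1, 0] : Fin 2 → F)
    have h1 := SLin.fix ha hv (by rw [hvx, Pi.single_eq_of_ne hij.symm])
    rw [← hi, hc.act v hv, hvx, Pi.single_eq_same] at h1
    have h3 := congrFun (hc.inj i _ h1) 0
    simp at h3
  have hact : ∀ w ∈ WW V H R, co (a • w) j = β j (co w j) := by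
    intro w hw
    have h1 := hc.act w hw j
    rwa [hσ] at h1
  have hsm : ∀ (c : F) x, β j (c • x) = s c • β j x := by
    intro c x
    obtain ⟨w, hw, hwx⟩ := N.exists_sgl j x
    obtain ⟨w', hw', hwx'⟩ := N.exists_sgl j (c • x)
    have h1 := ha w hw w' hw' c (by rw [hwx, hwx', Pi.single_eq_same, Pi.single_eq_same])
    rw [hact w hw, hact w' hw', hwx, hwx', Pi.single_eq_same, Pi.single_eq_same] at h1
    exact h1
  have h10 : β j ![1, 0] 1 = 0 := (hl j _).2 (by simp)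
  have e1 : β j ![1, 0] = (β j ![1, 0] 0) • ![1, 0] := by
    apply NatPair.ext2
    · simp
    · rw [h10]; simp
  have hα : β j ![1, 0] 0 ≠ 0 := by
    intro h
    rw [h, zero_smul] at e1
    have h3 := congrFun (hc.inj j _ e1) 0
    simp at h3
  have hδ : β j ![0, 1] 1 ≠ 0 := by
    intro h
    have h1 := (hl j ![0, 1]).1 h
    simp at h1
  refine ⟨β j ![1, 0] 0, β j ![0, 1] 0, β j ![0, 1] 1, hα, hδ, fun w hw => ?_⟩
  rw [hact w hw]
  have e3 : co w j = (co w j 0) • ![1, 0] + (co w j 1) • ![0, 1] := by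
    apply NatPair.ext2
    · simp
    · simp
  conv_lhs => rw [e3, hc.add, hsm, hsm]
  apply NatPair.ext2
  · simp only [Pi.add_apply, Pi.smul_apply, smul_eq_mul, Matrix.cons_val_zero]
    ring
  · simp only [Pi.add_apply, Pi.smul_apply, smul_eq_mul, Matrix.cons_val_one, Matrix.cons_val_zero, h10, mul_zero,
      zero_add]
    ring

theorem exists_vec [CharP F 2] (j : Fin k) (x y : F) : ∃ w ∈ WW V H R, co w j 0 = x ∧ co w j 1 = y := by
  obtain ⟨v, hv, hvx⟩ := N.exists_sgl j (![x, y] : Fin 2 → F)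
  exact ⟨v, hv, by rw [hvx, Pi.single_eq_same]; simp, by rw [hvx, Pi.single_eq_same]; simp⟩

omit N in
/-- products of two non-linear involutions are linear -/
theorem lin_mul [Finite F] [CharP F 2] (N : KNat V H R F k co) (hRH : R ≤ H) {j : Fin k} {a b : Y} (ha' : a ∈ R)
    (hb' : b ∈ R) (haa : a * a = 1) (hbb : b * b = 1) {s t : F ≃+* F} (ha : SLin V H R co j a s)
    (hb : SLin V H R co j b t) (hs : s ≠ RingEquiv.refl F) (ht : t ≠ RingEquiv.refl F) :
    SLin V H R co j (a * b) (RingEquiv.refl F) := by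
  have h1 := SLin.mul hRH hb' ha hb
  have h3 : (s : F →+* F) = (t : F →+* F) := by
    refine CloseA.invol_unique (fun x => N.SLin_sq hRH ha' haa ha x) (fun x => N.SLin_sq hRH hb' hbb hb x) ?_ ?_
    · by_contra hc
      push Not at hc
      exact hs (RingEquiv.ext fun x => hc x)
    · by_contra hc
      push Not at hc
      exact ht (RingEquiv.ext fun x => hc x)
  have h4 : t.trans s = RingEquiv.refl F := by
    ext x
    have h5 : s (t x) = t (t x) := RingHom.congr_fun h3 (t x)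
    change s (t x) = x
    rw [h5]
    exact N.SLin_sq hRH hb' hbb hb x
  rwa [h4] at h1

theorem card_le [Finite Y] [Finite F] [CharP F 2] (hRH : R ≤ H) {A : Subgroup Y} (hA : A ≤ R) (hel : ElAb A)
    {j : Fin k} (hfix : ∀ a ∈ A, ∀ w ∈ WW V H R, co w j = 0 → co (a • w) j = 0)
    (hfaith : ∀ a ∈ A, (∀ w ∈ WW V H R, co (a • w) j = co w j) → a = 1) : Nat.card A ≤ Nat.card F := by
  classical
  have hSL : ∀ a ∈ A, ∃ s, SLin V H R co j a s := fun a ha => N.exists_SLin hRH (hA ha) (hfix a ha)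
  set S0 : Set Y := {a | a ∈ A ∧ SLin V H R co j a (RingEquiv.refl F)} with hS0
  have hγ : ∀ a : S0, ∃ γ : F, ∀ w ∈ WW V H R, co ((a : Y) • w) j = ![co w j 0 + γ * co w j 1, co w j 1] :=
    fun a => N.lin_of hRH (hA a.2.1) (hel.2 _ a.2.1) a.2.2
  choose γ hγ using hγ
  have hinj : Function.Injective γ := by
    intro a b hab
    have h1 : (b : Y)⁻¹ * a = 1 := by
      have h3 : (b : Y)⁻¹ = b := inv_eq_of_mul_eq_one_left (hel.2 _ b.2.1)
      rw [h3]
      refine hfaith _ (A.mul_mem b.2.1 a.2.1) fun w hw => ?_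
      have h2 : ∀ x : F, x + x = 0 := fun x => CharTwo.add_self_eq_zero x
      have haw := smul_mem_WW (hRH (hA a.2.1)) hw
      rw [mul_smul, hγ b _ haw, hγ a _ hw, hab]
      apply NatPair.ext2
      · simp only [Matrix.cons_val_zero, Matrix.cons_val_one]
        linear_combination h2 (γ b * co w j 1)
      · simp
    exact Subtype.ext (inv_mul_eq_one.1 h1).symm
  by_cases hall : ∀ a ∈ A, a ∈ S0
  · have h1 : Function.Injective (fun a : A => γ ⟨a, hall a a.2⟩) := by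
      intro a b hab
      have h1 := hinj hab
      simp only [Subtype.mk.injEq] at h1
      exact Subtype.ext h1
    exact Nat.card_le_card_of_injective _ h1
  push Not at hall
  obtain ⟨f, hf, hfn⟩ := hall
  obtain ⟨s, hs⟩ := hSL f hf
  have hsn : s ≠ RingEquiv.refl F := by
    rintro rfl
    exact hfn ⟨hf, hs⟩
  have hff := hel.2 f hf
  have hmul : ∀ a ∈ A, a ∉ S0 → f * a ∈ S0 := by
    intro a ha han
    obtain ⟨t, ht⟩ := hSL a ha
    refine ⟨A.mul_mem hf ha, lin_mul N hRH (hA hf) (hA ha) hff (hel.2 a ha) hs ht hsn ?_⟩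
    rintro rfl
    exact han ⟨ha, ht⟩
  have c1 : Nat.card A ≤ 2 * Nat.card S0 := by
    have h1 : Function.Injective (fun a : A => if h : (a : Y) ∈ S0 then ((false, ⟨a, h⟩) : Bool × S0)
        else (true, ⟨f * a, hmul a a.2 h⟩)) := by
      intro a b hab
      by_cases ha : (a : Y) ∈ S0 <;> by_cases hb : (b : Y) ∈ S0
      · simp only [ha, hb, dif_pos, Prod.mk.injEq, Subtype.mk.injEq, true_and] at hab
        exact Subtype.ext hab
      · simp [ha, hb] at hab
      · simp [ha, hb] at hab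
      · simp only [ha, hb, dif_neg, not_false_eq_true, Prod.mk.injEq, Subtype.mk.injEq, true_and,
          mul_right_inj] at hab
        exact Subtype.ext hab
    have h3 := Nat.card_le_card_of_injective _ h1
    rw [Nat.card_prod, Nat.card_eq_fintype_card (α := Bool), Fintype.card_bool] at h3
    exact h3
  have c2 : Nat.card S0 ≤ Nat.card {x : F // s x = x} := by
    by_cases h1 : ∀ a ∈ S0, a = 1
    · have h3 : Subsingleton S0 := ⟨fun a b => Subtype.ext ((h1 a a.2).trans (h1 b b.2).symm)⟩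
      have h4 : Nonempty {x : F // s x = x} := ⟨⟨0, map_zero s⟩⟩
      have h5 := (Finite.card_le_one_iff_subsingleton (α := S0)).2 h3
      have h6 : 0 < Nat.card {x : F // s x = x} := Nat.card_pos
      omega
    · push Not at h1
      obtain ⟨a0, ha0, hne⟩ := h1
      obtain ⟨α, κ, δ, hα, hδ, hform⟩ := N.semi_form hRH (hA hf) hs
      -- `γ_a δ = α s(γ_a)`
      have hrel : ∀ a : S0, γ a * δ = α * s (γ a) := by
        intro a
        obtain ⟨w, hw, hw0, hw1⟩ := N.exists_vec j 0 1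
        have h3 := hγ a _ (smul_mem_WW (hRH (hA hf)) hw)
        have h4 := hform _ (smul_mem_WW (hRH (hA a.2.1)) hw)
        rw [← mul_smul, hel.1 _ a.2.1 _ hf, mul_smul, h4, hγ a w hw, hform w hw, hw0, hw1] at h3
        have h5 := congrFun h3 0
        simp only [Matrix.cons_val_zero, Matrix.cons_val_one, map_one, mul_one, map_zero, mul_zero, zero_add] at h5
        linear_combination -h5
      have hγ0 : γ ⟨a0, ha0⟩ ≠ 0 := by
        intro h
        apply hne
        refine hfaith a0 ha0.1 fun w hw => ?_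
        rw [hγ ⟨a0, ha0⟩ w hw, h]
        apply NatPair.ext2 <;> simp
      set g0 := γ ⟨a0, ha0⟩ with hg0
      have hsg0 : s g0 ≠ 0 := fun h => hγ0 ((map_eq_zero s).1 h)
      have hfx : ∀ a : S0, s (γ a * g0⁻¹) = γ a * g0⁻¹ := by
        intro a
        rw [map_mul, map_inv₀]
        have h3 := hrel a
        have h4 := hrel ⟨a0, ha0⟩
        rw [← hg0] at h4
        rw [← div_eq_mul_inv, ← div_eq_mul_inv, div_eq_div_iff hsg0 hγ0]
        have h5 : α * (s (γ a) * g0) = α * (γ a * s g0) := by linear_combination -(g0 * h3) + γ a * h4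
        exact mul_left_cancel₀ hα h5
      have h3 : Function.Injective (fun a : S0 => (⟨γ a * g0⁻¹, hfx a⟩ : {x : F // s x = x})) := by
        intro a b hab
        have h4 : γ a * g0⁻¹ = γ b * g0⁻¹ := congrArg Subtype.val hab
        exact hinj (mul_right_cancel₀ (inv_ne_zero hγ0) h4)
      exact Nat.card_le_card_of_injective _ h3
  have c3 := fix_card s (by
    by_contra hc
    push Not at hc
    exact hsn (RingEquiv.ext fun x => hc x))
  omega

/-- (d), (z) : `|A| ≤ |F|` -/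
theorem card_le' [Finite Y] [Finite F] [CharP F 2] (hRH : R ≤ H) {A : Subgroup Y} (hA : A ≤ R) (hel : ElAb A)
    {S : Set Y} (hSA : S ⊆ A) (hS : Nat.card F ≤ Nat.card S) {j : Fin k} {v₀ : V} (hv₀ : v₀ ∈ WW V H R)
    (hsupp : ∀ i, i ≠ j → co v₀ i = 0) (hline : co v₀ j 1 ≠ 0)
    (hfaith : ∀ a ∈ A, (∀ w ∈ WW V H R, co (a • w) j = co w j) → a = 1)
    (hq : ∀ b ∈ A, ∀ s ∈ S, s • (b • v₀ + v₀) = b • v₀ + v₀) : Nat.card A ≤ Nat.card F := by
  classical
  by_cases hmv : ∀ a ∈ A, co (a • v₀) j ≠ 0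
  · refine N.card_le hRH hA hel (j := j) ?_ hfaith
    intro a ha w hw hwj
    obtain ⟨σ, β, s, hc⟩ := N.exists_ca (hRH (hA ha))
    have hσ : σ j = j := by
      by_contra hne
      obtain ⟨i, hi⟩ := σ.surjective j
      have hij : i ≠ j := fun e => hne (by rw [e] at hi; exact hi)
      apply hmv a ha
      rw [← hi, hc.act v₀ hv₀, hsupp i hij, hc.zero]
    have h1 := hc.act w hw j
    rw [hσ, hwj] at h1
    rw [h1, hc.zero]
  push Not at hmv
  obtain ⟨b, hb, hbj⟩ := hmv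
  have hne : co v₀ j ≠ 0 := fun h => hline (by rw [h]; rfl)
  -- supports
  have hsup : ∀ a ∈ A, ∀ i, co (a • v₀) i ≠ 0 → ∀ i', i' ≠ i → co (a • v₀) i' = 0 := by
    intro a ha i hi i' hi'
    obtain ⟨σ, β, s, hc⟩ := N.exists_ca (hRH (hA ha))
    have hz : ∀ i, β i 0 = 0 := hc.zero
    obtain ⟨l, rfl⟩ := σ.surjective i
    obtain ⟨l', rfl⟩ := σ.surjective i'
    have hlj : l = j := by
      by_contra h
      apply hi
      rw [hc.act v₀ hv₀, hsupp l h, hz]
    subst hlj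
    have hl' : l' ≠ l := fun e => hi' (by rw [e])
    rw [hc.act v₀ hv₀, hsupp l' hl', hz]
  have hmemW : ∀ a ∈ A, ∀ w ∈ WW V H R, a • w ∈ WW V H R := fun a ha w hw => smul_mem_WW (hRH (hA ha)) hw
  set E0 : Set Y := {n | n ∈ A ∧ co (n • v₀) j = co v₀ j} with hE0
  -- the key relation
  have hkey : ∀ b ∈ A, co (b • v₀) j = 0 → ∀ s ∈ S, (s ∈ E0 ∨ (co (s • v₀) j = 0 ∧ s * b ∈ E0)) := by
    intro b hb hbj s hs
    have hsA := hSA hs
    have h1 := hq b hb s hs
    have h3 : co (s • b • v₀ + s • v₀) j = co v₀ j := by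
      rw [← smul_add, h1, N.add _ (hmemW b hb _ hv₀) _ hv₀, Pi.add_apply, hbj, zero_add]
    rw [N.add _ (hmemW s hsA _ (hmemW b hb _ hv₀)) _ (hmemW s hsA _ hv₀), Pi.add_apply] at h3
    by_cases hsj : co (s • v₀) j = 0
    · right
      refine ⟨hsj, A.mul_mem hsA hb, ?_⟩
      rw [hsj, add_zero] at h3
      rw [mul_smul]
      exact h3
    · left
      refine ⟨hsA, ?_⟩
      -- `s` fixes `j`, `b` moves `j`
      have h4 : co (s • b • v₀) j = 0 := by
        obtain ⟨σ, β, t, hc⟩ := N.exists_ca (hRH (hA hsA))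
        have hz : ∀ i, β i 0 = 0 := hc.zero
        have hσ : σ j = j := by
          by_contra hne
          obtain ⟨i, hi⟩ := σ.surjective j
          have hij : i ≠ j := fun e => hne (by rw [e] at hi; exact hi)
          apply hsj
          rw [← hi, hc.act v₀ hv₀, hsupp i hij, hz]
        have h5 := hc.act _ (hmemW b hb _ hv₀) j
        rw [hσ, hbj, hz] at h5
        exact h5
      rw [h4, zero_add] at h3
      exact h3
  -- elements of `E0` fix `j`
  have hEfix : ∀ n ∈ E0, ∀ w ∈ WW V H R, co w j = 0 → co (n • w) j = 0 := by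
    intro n hn w hw hwj
    obtain ⟨σ, β, t, hc⟩ := N.exists_ca (hRH (hA hn.1))
    have hz : ∀ i, β i 0 = 0 := hc.zero
    have hσ : σ j = j := by
      by_contra hne'
      obtain ⟨i, hi⟩ := σ.surjective j
      have hij : i ≠ j := fun e => hne' (by rw [e] at hi; exact hi)
      apply hne
      rw [← hn.2, ← hi, hc.act v₀ hv₀, hsupp i hij, hz]
    have h1 := hc.act w hw j
    rw [hσ, hwj, hz] at h1
    exact h1
  -- linear elements of `E0` are trivial
  have hElin : ∀ n ∈ E0, SLin V H R co j n (RingEquiv.refl F) → n = 1 := by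
    intro n hn hl
    obtain ⟨γ, hγ⟩ := N.lin_of hRH (hA hn.1) (hel.2 n hn.1) hl
    have h1 := hγ v₀ hv₀
    rw [hn.2] at h1
    have h3 := congrFun h1 0
    simp only [Matrix.cons_val_zero] at h3
    have h4 : γ = 0 := by
      rcases mul_eq_zero.1 (left_eq_add.1 h3) with h | h
      · exact h
      · exact absurd h hline
    refine hfaith n hn.1 fun w hw => ?_
    rw [hγ w hw, h4]
    apply NatPair.ext2 <;> simp
  have c1 : 2 * Nat.card E0 ≤ Nat.card F := by
    have hF2 : 2 ≤ Nat.card F := Finite.one_lt_card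
    by_cases h1 : ∀ n ∈ E0, n = 1
    · have h3 : Subsingleton E0 := ⟨fun a b => Subtype.ext ((h1 a a.2).trans (h1 b b.2).symm)⟩
      have h5 := (Finite.card_le_one_iff_subsingleton (α := E0)).2 h3
      omega
    · push Not at h1
      obtain ⟨f, hf, hf1⟩ := h1
      obtain ⟨s, hs⟩ := N.exists_SLin hRH (hA hf.1) (hEfix f hf)
      have hsn : s ≠ RingEquiv.refl F := by
        rintro rfl
        exact hf1 (hElin f hf hs)
      have h3 : ∀ n : E0, n = ⟨f, hf⟩ ∨ (n : Y) = 1 := by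
        rintro ⟨n, hn⟩
        by_cases hn1 : n = 1
        · exact Or.inr hn1
        left
        obtain ⟨t, ht⟩ := N.exists_SLin hRH (hA hn.1) (hEfix n hn)
        have htn : t ≠ RingEquiv.refl F := by
          rintro rfl
          exact hn1 (hElin n hn ht)
        have h4 := lin_mul N hRH (hA hf.1) (hA hn.1) (hel.2 f hf.1) (hel.2 n hn.1) hs ht hsn htn
        have h5 : f * n ∈ E0 := by
          refine ⟨A.mul_mem hf.1 hn.1, ?_⟩
          -- `n v₀ = v₀` mod other stuff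
          have h6 : co (n • v₀) = co v₀ := by
            funext i
            by_cases hi : i = j
            · subst hi; exact hn.2
            · rw [hsupp i hi]
              exact hsup n hn.1 j (by rw [hn.2]; exact hne) i hi
          have h7 : co (f • n • v₀) = co (f • v₀) := by
            rw [← N.co_eq (hmemW f hf.1 _ (hmemW n hn.1 _ hv₀)) (hmemW f hf.1 _ hv₀), ← smul_add,
              N.co_smul_zero (hRH (hA hf.1)) (add_mem (hmemW n hn.1 _ hv₀) hv₀),
              N.co_eq (hmemW n hn.1 _ hv₀) hv₀]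
            exact h6
          rw [mul_smul, h7, hf.2]
        have h8 := hElin _ h5 h4
        apply Subtype.ext
        have h9 : f⁻¹ = f := inv_eq_of_mul_eq_one_left (hel.2 f hf.1)
        have h10 := eq_inv_of_mul_eq_one_right h8
        rw [h9] at h10
        exact h10
      have h4 : Nat.card E0 ≤ 2 := by
        have h5 : Function.Injective (fun n : E0 => decide ((n : Y) = 1)) := by
          intro a b hab
          have hab' : ((a : Y) = 1) ↔ ((b : Y) = 1) := by simpa using hab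
          rcases h3 a with ha | ha
          · rcases h3 b with hb | hb
            · rw [ha, hb]
            · exact Subtype.ext ((hab'.2 hb).trans hb.symm)
          · exact Subtype.ext (ha.trans (hab'.1 ha).symm)
        have h6 := Nat.card_le_card_of_injective _ h5
        rwa [Nat.card_eq_fintype_card (α := Bool), Fintype.card_bool] at h6
      have h5 := fix_card s (by
        by_contra hc
        push Not at hc
        exact hsn (RingEquiv.ext fun x => hc x))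
      have h6 : 2 ≤ Nat.card {x : F // s x = x} := by
        have h7 : Function.Injective (fun b : Bool =>
            (if b then ⟨1, map_one s⟩ else ⟨0, map_zero s⟩ : {x : F // s x = x})) := by
          intro b b' hb
          cases b <;> cases b' <;> simp at hb ⊢
        have h8 := Nat.card_le_card_of_injective _ h7
        rwa [Nat.card_eq_fintype_card (α := Bool), Fintype.card_bool] at h8
      omega
  -- some `s ∈ S` moves `j`
  have hex : ∃ s ∈ S, co (s • v₀) j = 0 := by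
    by_contra hc
    push Not at hc
    have h1 : S ⊆ E0 := by
      intro s hs
      rcases hkey b hb hbj s hs with h | ⟨h, -⟩
      · exact h
      · exact absurd h (hc s hs)
    have h3 : Nat.card S ≤ Nat.card E0 := Nat.card_mono (Set.toFinite _) h1
    have h4 : 0 < Nat.card F := Nat.card_pos
    omega
  obtain ⟨s, hs, hsj⟩ := hex
  have hsA := hSA hs
  have hsE : s ∉ E0 := fun h => hne (by rw [← h.2, hsj])
  have hm : ∀ a ∈ A, co (a • v₀) j = 0 → s * a ∈ E0 := by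
    intro a ha haj
    rcases hkey a ha haj s hs with h | ⟨-, h⟩
    · exact absurd h hsE
    · exact h
  have hfx : ∀ a ∈ A, co (a • v₀) j ≠ 0 → a ∈ E0 := by
    intro a ha haj
    have h1 := hm (s * a) (A.mul_mem hsA ha) (by
      rw [hel.1 s hsA a ha, mul_smul]
      obtain ⟨σ, β, t, hc⟩ := N.exists_ca (hRH (hA ha))
      have hz : ∀ i, β i 0 = 0 := hc.zero
      have hσ : σ j = j := by
        by_contra hne'
        obtain ⟨i, hi⟩ := σ.surjective j
        have hij : i ≠ j := fun e => hne' (by rw [e] at hi; exact hi)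
        apply haj
        rw [← hi, hc.act v₀ hv₀, hsupp i hij, hz]
      have h5 := hc.act _ (hmemW s hsA _ hv₀) j
      rw [hσ, hsj, hz] at h5
      exact h5)
    rwa [← mul_assoc, hel.2 s hsA, one_mul] at h1
  have h1 : Function.Injective (fun a : A => if h : co ((a : Y) • v₀) j = 0 then
      ((true, ⟨s * a, hm a a.2 h⟩) : Bool × E0) else (false, ⟨a, hfx a a.2 h⟩)) := by
    intro a b hab
    by_cases ha : co ((a : Y) • v₀) j = 0 <;> by_cases hb : co ((b : Y) • v₀) j = 0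
    · simp only [ha, hb, dif_pos, Prod.mk.injEq, Subtype.mk.injEq, true_and, mul_right_inj] at hab
      exact Subtype.ext hab
    · simp [ha, hb] at hab
    · simp [ha, hb] at hab
    · simp only [ha, hb, dif_neg, not_false_eq_true, Prod.mk.injEq, Subtype.mk.injEq, true_and] at hab
      exact Subtype.ext hab
  have h3 := Nat.card_le_card_of_injective _ h1
  rw [Nat.card_prod, Nat.card_eq_fintype_card (α := Bool), Fintype.card_bool] at h3
  omega

end KNat

end Cfsg.Agent.Omega.NO1.TH.K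

end

section


/-!
# N1-ONE, (B) of #19584, natural type (helper247 #20646): `W = V₀ + ∑ W_j^++`

* `KNat.smul_pp` : `R` permutes the `PP j`;
* `KNat.acts_add` : `h w + w ∈ ⨆ PP j` for `h` acting by matrices;
* `KNat.le_pp` : `W ≤ fx V R ⊔ ⨆ j, PP j`;
* `KNat.exists_off` : if `fx V R ≤ E`, `W ≰ E` there is `v ∈ PP j`, `v ∉ E`, not in the fixed line.
-/

set_option autoImplicit false
set_option linter.unusedSectionVars false

namespace Cfsg.Agent.Omega.NO1.TH.K

open Subgroup Cfsg.Agent.Omega.NO1.AB Cfsg.Agent.Lib.SL2Mat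
open Cfsg.Agent.Omega.NatPair (ap)
open scoped Pointwise

universe u

variable {Y : Type u} [Group Y] {V : Type u} [AddCommGroup V] [DistribMulAction Y V] {H R : Subgroup Y}
  {F : Type} [Field F] {k : ℕ} {co : V → Fin k → Fin 2 → F}

namespace KNat

variable (N : KNat V H R F k co)
include N

/-- `H` permutes the `PP j` -/
theorem smul_pp [CharP F 2] {r : Y} (hr : r ∈ H) (j : Fin k) :
    ∃ j', ∀ v ∈ PP V H R co j, r • v ∈ PP V H R co j' := by
  obtain ⟨σ, hσ⟩ := N.perm r hr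
  refine ⟨σ j, fun v hv => ?_⟩
  refine AddSubgroup.closure_induction ?_ ?_ ?_ ?_ hv
  · rintro _ ⟨g, hg, A, hA, hAi, w, hw, rfl⟩
    have hr' : r⁻¹ ∈ H := H.inv_mem hr
    have hgr : r * g * r⁻¹ ∈ H := H.mul_mem (H.mul_mem hr hg) hr'
    obtain ⟨B, hB⟩ := N.norm r hr g hg A hA.1
    have hsm : ∀ v : V, (r * g * r⁻¹) • v = r • g • r⁻¹ • v := fun v => by rw [mul_smul, mul_smul]
    refine AddSubgroup.subset_closure ⟨r * g * r⁻¹, hgr, B, ⟨hB, ?_⟩, ?_, r • w, smul_mem_WW hr hw, ?_⟩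
    · intro d hd hd0
      rw [hsm, hA.2 _ (smul_mem_WW hr' hd) ((N.co_smul_zero hr' hd).2 hd0), smul_inv_smul]
    · intro i hi
      apply NatPair.ap_inj
      intro x
      obtain ⟨v, hv, hvx⟩ := N.exists_sgl i x
      have hx : co v i = x := by rw [hvx, Pi.single_eq_same]
      rw [NatPair.ap_one, ← hx, ← hB v hv, ← N.sub_ad (smul_mem_WW hgr hv) hv]
      obtain ⟨i', rfl⟩ := σ.surjective i
      have hi' : i' ≠ j := fun e => hi (by rw [e])
      have hv' := smul_mem_WW hr' hv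
      have e : (r * g * r⁻¹) • v + v = r • (g • r⁻¹ • v + r⁻¹ • v) := by
        rw [hsm, smul_add, smul_inv_smul]
      rw [e, hσ _ (add_mem (smul_mem_WW hg hv') hv'), N.sub_ad (smul_mem_WW hg hv') hv', hA.1 _ hv', hAi i' hi',
        NatPair.ap_one]
    · rw [hsm, inv_smul_smul, smul_add]
  · rw [smul_zero]; exact zero_mem _
  · intro a b _ _ ha hb
    rw [smul_add]
    exact add_mem ha hb
  · intro a _ ha
    rw [smul_neg]
    exact neg_mem ha

/-- `h w + w ∈ ⨆ PP j` for `h` acting by matrices -/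
theorem acts_add [CharP F 2] (h2 : ∀ v : V, v + v = 0) {h : Y} (hh : h ∈ H)
    {A : Fin k → Matrix.SpecialLinearGroup (Fin 2) F} (hA : Acts V H R co h A) {w : V} (hw : w ∈ WW V H R) :
    h • w + w ∈ ⨆ j, PP V H R co j := by
  classical
  have key : ∀ s : Finset (Fin k), ∀ h ∈ H, ∀ A, Acts V H R co h A → (∀ i, i ∉ s → A i = 1) →
      ∀ w ∈ WW V H R, h • w + w ∈ ⨆ j, PP V H R co j := by
    intro s
    induction s using Finset.induction_on with
    | empty =>
      intro h hh A hA hAi w hw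
      have h1 := N.trivH h hh (fun w hw => by
        funext i
        rw [hA.1 w hw, hAi i (by simp), NatPair.ap_one]) w hw
      rw [h1, h2]
      exact zero_mem _
    | insert j s hj ih =>
      intro h hh A hA hAi w hw
      obtain ⟨g, hg, hgA⟩ := N.lift (Pi.mulSingle j (A j))
      obtain ⟨h', hh', hA'⟩ := N.lift (Function.update A j 1)
      have h1 : h • w = h' • g • w := by
        rw [← mul_smul]
        refine N.eqOn hh (H.mul_mem hh' hg) ?_ hw
        intro w hw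
        rw [mul_smul]
        funext i
        rw [hA.1 w hw, hA'.1 _ (smul_mem_WW hg hw), hgA.1 w hw]
        by_cases hi : i = j
        · subst hi
          rw [Function.update_self, NatPair.ap_one, Pi.mulSingle_eq_same]
        · rw [Function.update_of_ne hi, Pi.mulSingle_eq_of_ne hi, NatPair.ap_one]
      have h3 := ih h' hh' _ hA' (by
        intro i hi
        by_cases hij : i = j
        · subst hij
          rw [Function.update_self]
        · rw [Function.update_of_ne hij]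
          exact hAi i (by simp [hij, hi])) (g • w) (smul_mem_WW hg hw)
      have h4 : g • w + w ∈ PP V H R co j := AddSubgroup.subset_closure
        ⟨g, hg, _, hgA, fun i hi => Pi.mulSingle_eq_of_ne hi _, w, hw, rfl⟩
      have e : h • w + w = (h' • g • w + g • w) + (g • w + w) := by
        rw [h1]
        have : h' • g • w + g • w + (g • w + w) = h' • g • w + w + (g • w + g • w) := by abel
        rw [this, h2, add_zero]
      rw [e]
      exact add_mem h3 ((le_iSup (fun j => PP V H R co j) j) h4)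
  exact key Finset.univ h hh A hA (fun i hi => absurd (Finset.mem_univ i) hi) w hw

/-- **`W = V₀ + ∑ W_j^++`** -/
theorem le_pp [CharP F 2] (h2 : ∀ v : V, v + v = 0) (hRH : R ≤ H) :
    WW V H R ≤ fx V R ⊔ ⨆ j, PP V H R co j := by
  set S := fx V R ⊔ ⨆ j, PP V H R co j with hS
  have hSW : S ≤ WW V H R := sup_le fx_le_WW (iSup_le fun j => PP_le_WW j)
  have hRS : ∀ r ∈ R, ∀ v ∈ S, r • v ∈ S := by
    intro r hr v hv
    obtain ⟨x, hx, y, hy, rfl⟩ := AddSubgroup.mem_sup.1 hv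
    rw [smul_add, hx r hr]
    refine add_mem (AddSubgroup.mem_sup_left hx) ?_
    refine AddSubgroup.mem_sup_right ?_
    refine AddSubgroup.iSup_induction (fun j => PP V H R co j) (C := fun y => r • y ∈ ⨆ j, PP V H R co j) hy
      ?_ ?_ ?_
    · intro j v hv
      obtain ⟨j', hj'⟩ := N.smul_pp (hRH hr) j
      exact (le_iSup (fun j => PP V H R co j) j') (hj' v hv)
    · rw [smul_zero]; exact zero_mem _
    · intro a b ha hb
      rw [smul_add]
      exact add_mem ha hb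
  have hAS : ∀ h ∈ H, ∀ A, Acts V H R co h A → ∀ v ∈ S, h • v ∈ S := by
    intro h hh A hA v hv
    have h1 := N.acts_add h2 hh hA (hSW hv)
    have e : h • v = (h • v + v) + v := by rw [add_assoc, h2, add_zero]
    rw [e]
    exact add_mem (AddSubgroup.mem_sup_right h1) hv
  let K : Subgroup Y :=
    { carrier := {h | h ∈ H ∧ (∀ v ∈ S, h • v ∈ S) ∧ ∀ v ∈ S, h⁻¹ • v ∈ S}
      one_mem' := ⟨H.one_mem, fun v hv => by rwa [one_smul], fun v hv => by rwa [inv_one, one_smul]⟩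
      mul_mem' := fun {a b} ha hb => ⟨H.mul_mem ha.1 hb.1, fun v hv => by
        rw [mul_smul]; exact ha.2.1 _ (hb.2.1 v hv), fun v hv => by
        rw [mul_inv_rev, mul_smul]; exact hb.2.2 _ (ha.2.2 v hv)⟩
      inv_mem' := fun {a} ha => ⟨H.inv_mem ha.1, ha.2.2, fun v hv => by rw [inv_inv]; exact ha.2.1 v hv⟩ }
  have hK : K = H := by
    apply N.gen
    · intro r hr
      exact ⟨hRH hr, hRS r hr, hRS r⁻¹ (R.inv_mem hr)⟩
    · intro h hh
      exact hh.1
    · intro h hh A hA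
      refine ⟨hh, hAS h hh A hA, ?_⟩
      refine hAS h⁻¹ (H.inv_mem hh) (fun i => (A i)⁻¹) ⟨?_, ?_⟩
      · intro v hv i
        have h1 := hA.1 _ (smul_mem_WW (H.inv_mem hh) hv) i
        rw [smul_inv_smul] at h1
        rw [h1, NatPair.ap_inv_ap]
      · intro d hd hd0
        rw [inv_smul_eq_iff]
        exact (hA.2 d hd hd0).symm
  refine WW_le fun x hx w hw => ?_
  have hx' : x ∈ K := by rw [hK]; exact hx
  exact hx'.2.1 w (AddSubgroup.mem_sup_left hw)

/-- a vector of `PP j` outside `E`, not in the fixed line -/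
theorem exists_off [CharP F 2] (h2 : ∀ v : V, v + v = 0) (hRH : R ≤ H) (E : AddSubgroup V) (hfx : fx V R ≤ E)
    (h : ¬ WW V H R ≤ E) : ∃ j, ∃ v ∈ PP V H R co j, v ∉ E ∧ co v j 1 ≠ 0 := by
  have h1 : ∃ j, ¬ PP V H R co j ≤ E := by
    by_contra hc
    push Not at hc
    exact h ((N.le_pp h2 hRH).trans (sup_le hfx (iSup_le hc)))
  obtain ⟨j, hj⟩ := h1
  obtain ⟨v₁, hv₁, hv₁E⟩ := SetLike.not_le_iff_exists.1 hj
  by_cases hc : co v₁ j 1 = 0
  · obtain ⟨v₂, hv₂, hco⟩ := N.pp_onto j (![0, 1] : Fin 2 → F)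
    have h3 : co v₂ j 1 = 1 := by rw [hco, Pi.single_eq_same]; simp
    by_cases hE : v₂ ∈ E
    · refine ⟨j, v₁ + v₂, add_mem hv₁ hv₂, fun h4 => ?_, ?_⟩
      · apply hv₁E
        have h5 := add_mem h4 hE
        rwa [add_assoc, h2, add_zero] at h5
      · rw [N.add _ (PP_le_WW j hv₁) _ (PP_le_WW j hv₂), Pi.add_apply, Pi.add_apply, hc, h3, zero_add]
        exact one_ne_zero
    · exact ⟨j, v₂, hv₂, hE, by rw [h3]; exact one_ne_zero⟩
  · exact ⟨j, v₁, hv₁, hv₁E, hc⟩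

end KNat

end Cfsg.Agent.Omega.NO1.TH.K

end

section


/-!
# N1-ONE, (B) of #19584, natural type (helper247 #20646): (g) and (e)

`A ≤ H` a member, opposite: `hO : Opp V H R co A I`; `hb` = (b) of #20646: `W ∩ W' ≤ W_J`.

* `TwoN.g_Q` : `s_y ∈ Q` for `y ∈ W' ∩ E_A`;
* `TwoN.g_fix` : `S₁` centralises `W' ∩ E_A`;
* `TwoN.e_triv` : the computation (a) for `B₁ = A ∩ Q` on `W'`;
* `TwoN.e_SK` : `S_X ≤ Q ∩ Q'` if `W' ≤ E_A`;
* `TwoN.e_exact` : `B₁` acts on `W'` as `R'_Δ`, `Δ ≠ ∅`;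
* `TwoN.e_CK` : `C_V(K) = W + W' + F_A`;
* `TwoN.e_card` : `|A| ≥ |F|⁴`, `|S_X| ≥ |F|²`.
-/

set_option autoImplicit false
set_option linter.unusedSectionVars false

namespace Cfsg.Agent.Omega.NO1.TH.K

open Subgroup Cfsg.Agent.Omega.NO1.AB Cfsg.Agent.Omega.FFBr Cfsg.Agent.Lib.SL2Mat
open Cfsg.Agent.Omega.NatPair (ap)
open scoped Pointwise

universe u

variable {Y : Type u} [Group Y] {V : Type u} [AddCommGroup V] [DistribMulAction Y V]

/-- the computation (a) for a family `σ` with `[x, σ y] = [y, σ x]` -/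
theorem KNat.triv_of {H R : Subgroup Y} {F : Type} [Field F] {k : ℕ} {co : V → Fin k → Fin 2 → F}
    (K : KNat V H R F k co) (two : ∀ v : V, v + v = 0) (hRH : R ≤ H) {B : Subgroup Y} (hBR : B ≤ R)
    {I : Set (Fin k)} (hS : Supp V H R co B I) (σ : V → Y) (h1 : ∀ y ∈ WW V H R, σ y ∈ B)
    (h2 : ∀ y ∈ WW V H R, σ y • y = y)
    (h3 : ∀ x ∈ WW V H R, ∀ y ∈ WW V H R, σ y • x + x = σ x • y + y) : ∀ y ∈ WW V H R, σ y ∈ QQ H R := by
  intro y hy
  obtain ⟨b, hb0, hb⟩ := hS.act _ (h1 y hy)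
  apply K.mem_Q_of_up_zero two hRH (hBR (h1 y hy)) hb
  intro i
  by_cases hi : co y i 1 = 0
  · obtain ⟨z, hz, hzi, _⟩ := K.exists_at i ![0, 1]
    have hz1 : co z i 1 = 1 := by rw [hzi]; rfl
    obtain ⟨c, hc0, hc⟩ := hS.act _ (h1 z hz)
    have h4 := h3 z hz y hy
    have h5 : co (σ y • z + z) i 0 = b i := by
      rw [K.add_apply (smul_mem_WW (hRH (hBR (h1 y hy))) hz) hz, hb.up_fst hz, hz1, hzi]
      simp
    have h6 : co (σ z • y + y) i 0 = 0 := by
      rw [K.add_apply (smul_mem_WW (hRH (hBR (h1 z hz))) hy) hy, hc.up_fst hy, hi, mul_zero, add_zero]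
      exact K.ff two i _
    rw [← h5, h4, h6]
  · have h4 := hb.up_fst hy i
    rw [h2 y hy] at h4
    rcases mul_eq_zero.1 (left_eq_add.1 h4) with h | h
    · exact h
    · exact absurd h hi

theorem card_le_fun {F : Type} [Finite F] {k : ℕ} {I : Set (Fin k)} (hI : I.Nonempty) :
    Nat.card F ≤ Nat.card (I → F) := by
  obtain ⟨i, hi⟩ := hI
  exact Nat.card_le_card_of_injective (fun x : F => fun _ : I => x) fun x y hxy => congrFun hxy ⟨i, hi⟩

namespace TwoN

variable [Finite Y] [Finite V] {U : Set (Subgroup Y)} {T : Sylow 2 Y} {M H H' R : Subgroup Y} {F : Type} [Field F]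
  {k : ℕ} {co co' : V → Fin k → Fin 2 → F} {t : Y} (h : TwoN V U T M H H' R F k co co' t)
include h

section g

variable (hb : ∀ v ∈ WW V H R, v ∈ WW V H' R → ∀ i, co v i 1 = 0) {A : Subgroup Y} (hA : A ∈ U) (hAH : A ≤ H)
  {I : Set (Fin k)} (hO : Opp V H R co A I) {w : V} (hw : w ∉ Ee V A)
include hb hA hAH hO hw

/-- **(g)**: `s_y ∈ Q` for `y ∈ W' ∩ E_A` -/
theorem g_Q {y : V} (hy : y ∈ WW V H' R) {s : Y} (hs : s ∈ A)
    (h1 : s • w + w + y ∈ fx V A) : s ∈ QQ H R := by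
  have hm := h.amb.cls.mem A hA
  have two := h.amb.two
  have hWE : WW V H R ≤ Ee V A := h.a.WW_le_Ee h.amb h.we hA hAH
  obtain ⟨b, hb0, hbs⟩ := hO.act s hs
  have h2 : s ∈ A ⊓ CW V H R := by
    refine ⟨hs, fun x hx => ?_⟩
    refine h.K.trivH s (hAH hs) (fun x hx => ?_) x hx
    obtain ⟨r, hr, hrx⟩ := hm.surj w hw x (hWE hx)
    have h3 := mem_Q_of_shift h.K h.amb h.a h.we hA hAH hw hx hr hrx
    have h4 : s • x + x = r • y + y := s_symm two hm hr hs hrx h1
    have hsx := smul_mem_WW (hAH hs) hx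
    have h5 : s • x + x ∈ WW V H' R := by
      rw [h4]
      exact add_mem (smul_mem_WW (h.a'.RH (QQ_le h3)) hy) hy
    refine h.K.co_eq_of_add two hsx hx ?_
    funext i
    apply NatPair.ext2
    · rw [h.K.add_apply hsx hx, hbs.lo_fst hx]
      exact h.K.ff two i _
    · exact hb _ (add_mem hsx hx) h5 i
  rw [h.a.inf_CW' h.amb hA hAH] at h2
  exact h2.2

/-- **(g)**: `S₁` centralises `W' ∩ E_A` -/
theorem g_fix {y : V} (hy : y ∈ WW V H' R) (hyE : y ∈ Ee V A) {s : Y} (hs : s ∈ A)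
    (h1 : s • w + w ∈ WW V H R ⊔ fx V A) : s • y = y := by
  have hm := h.amb.cls.mem A hA
  have two := h.amb.two
  obtain ⟨x, hx, f, hf, hxf⟩ := AddSubgroup.mem_sup.1 h1
  have h2 : s • w + w + x ∈ fx V A := by
    rw [← hxf]
    have e : x + f + x = (x + x) + f := by abel
    rw [e, two, zero_add]
    exact hf
  obtain ⟨r, hr, hry⟩ := hm.surj w hw y hyE
  have h3 := h.g_Q hb hA hAH hO hw hy hr hry
  have h4 : r • x + x = s • y + y := s_symm two hm hs hr h2 hry
  rw [Amal.QQ_fix h.a h.amb h3 hx, two] at h4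
  exact (HE.add_eq_zero' two).1 h4.symm

end g

/-- `|A ∩ Q| |F|^|I| ≤ |A|` -/
theorem opp_card {A : Subgroup Y} (hA : A ∈ U) (hAH : A ≤ H) {I : Set (Fin k)} (hO : Opp V H R co A I) :
    Nat.card ↥(A ⊓ QQ H R) * Nat.card (I → F) ≤ Nat.card A := by
  have h1 := h.a.exact' h.amb h.we hA hAH
  have h2 : WW V H R ⊓ fx V A ≤ cut h.K I 0 := by
    rintro v ⟨hv, hf⟩
    exact ⟨hv, fun i hi => hO.fx_le hv hf hi⟩
  have h3 := Nat.card_le_card_of_injective _ (AddSubgroup.inclusion_injective h2)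
  have h4 := card_cut h.K I 0
  have h5 : 0 < Nat.card ↥(cut h.K I 0) := Nat.card_pos
  apply Nat.le_of_mul_le_mul_left _ h5
  calc Nat.card ↥(cut h.K I 0) * (Nat.card ↥(A ⊓ QQ H R) * Nat.card (I → F))
      = Nat.card ↥(cut h.K I 0) * Nat.card (I → F) * Nat.card ↥(A ⊓ QQ H R) := by ring
    _ = Nat.card A * Nat.card ↥(WW V H R ⊓ fx V A) := by rw [← h4, h1]
    _ ≤ Nat.card A * Nat.card ↥(cut h.K I 0) := Nat.mul_le_mul_left _ h3
    _ = _ := mul_comm _ _

/-- `A ∩ Q ≰ Q'` -/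
theorem not_le {A : Subgroup Y} (hA : A ∈ U) (hAH : A ≤ H) (hAM : ¬ A ≤ M) : ¬ A ⊓ QQ H R ≤ QQ H' R := by
  intro h1
  obtain ⟨b, hb, hb'⟩ := h.a.star h.amb h.we hA hAH hAM
  apply hb'
  have e : QQ H' R = MulAut.conj t • QQ H R := by
    have h2 := QQ_conj' (H := H) (R := R) t
    rw [conj_of_mem h.a.t_norm] at h2
    rw [h.H'_eq]
    exact h2
  rw [← e]
  exact h1 hb

/-- **(e)**: `B₁` acts on `W'` as `R'_Δ` -/
theorem e_exact {A : Subgroup Y} (hA : A ∈ U) (hAH : A ≤ H) (hAM : ¬ A ≤ M) (hE : WW V H' R ≤ Ee V A) :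
    ∃ Δ : Set (Fin k), Δ.Nonempty ∧ Supp V H' R co' (A ⊓ QQ H R) Δ := by
  have h1 := (Amal.e_one h.a h.a' h.amb h.we h.we' hA hAH hE).1
  exact h.K'.exists_supp_of h.amb.two h.a'.RH (inf_le_right.trans QQ_le)
    (ElAb.mono (Mem.elAb (h.amb.cls.mem A hA)) inf_le_left) (h.not_le hA hAH hAM) h1.le

section e

variable (hb : ∀ v ∈ WW V H R, v ∈ WW V H' R → ∀ i, co v i 1 = 0) {A : Subgroup Y} (hA : A ∈ U) (hAH : A ≤ H)
  (hAM : ¬ A ≤ M) {I : Set (Fin k)} (hO : Opp V H R co A I) (hE : WW V H' R ≤ Ee V A) {w : V} (hw : w ∉ Ee V A)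
include hb hA hAH hAM hO hE hw

/-- **(e)**: `S_X ≤ K` -/
theorem e_SK : ∀ s ∈ A, s • w + w ∈ WW V H R ⊔ WW V H' R ⊔ fx V A → s ∈ QQ H R ∧ s ∈ QQ H' R := by
  obtain ⟨Δ, _, hS⟩ := h.e_exact hA hAH hAM hE
  refine Amal.e_SK h.a h.a' h.amb h.we h.we' hA hAH hE hw ?_ ?_ ?_
  · intro s hs h1
    obtain ⟨x, hx, f, hf, hxf⟩ := AddSubgroup.mem_sup.1 h1
    refine mem_Q_of_shift h.K h.amb h.a h.we hA hAH hw hx hs ?_
    rw [← hxf]
    have e : x + f + x = (x + x) + f := by abel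
    rw [e, h.amb.two, zero_add]
    exact hf
  · intro s hs h1 y hy
    exact h.g_fix hb hA hAH hO hw hy (hE hy) hs h1
  · intro σ h1 h2 h3
    exact h.K'.triv_of h.amb.two h.a'.RH (inf_le_right.trans QQ_le) hS σ h1 h2 h3

/-- **(e)**: `|A| ≥ |F|⁴`, `|S_X| ≥ |F|²` -/
theorem e_card [Finite F] (hI : I.Nonempty) :
    Nat.card F ^ 2 ≤ Nat.card {s : Y // s ∈ A ∧ s • w + w ∈ WW V H R ⊔ WW V H' R ⊔ fx V A} ∧
      Nat.card F ^ 4 ≤ Nat.card A := by
  obtain ⟨Δ, hΔ, hS⟩ := h.e_exact hA hAH hAM hE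
  have h1 := Amal.e_S h.a h.a' h.amb h.we h.we' hA hAH hE hw
  have h2 := h.opp_card hA hAH hO
  have h3 : Nat.card ↥(A ⊓ QQ H R) = Nat.card ↥(A ⊓ QQ H R ⊓ QQ H' R) * Nat.card (Δ → F) :=
    hS.card h.K' h.amb.two h.a'.RH (Q_fix h.amb h.a') (inf_le_right.trans QQ_le)
  have h4 : Nat.card {s : Y // s ∈ A ∧ s • w + w ∈ WW V H R ⊔ WW V H' R ⊔ fx V A} ≤
      Nat.card ↥(A ⊓ QQ H R ⊓ QQ H' R) := by
    have hSK := h.e_SK hb hA hAH hAM hO hE hw
    apply Nat.card_le_card_of_injective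
      (fun s : {s : Y // s ∈ A ∧ s • w + w ∈ WW V H R ⊔ WW V H' R ⊔ fx V A} =>
        (⟨s, ⟨s.2.1, (hSK s s.2.1 s.2.2).1⟩, (hSK s s.2.1 s.2.2).2⟩ : ↥(A ⊓ QQ H R ⊓ QQ H' R)))
    intro s r hsr
    exact Subtype.ext (congrArg (fun z : ↥(A ⊓ QQ H R ⊓ QQ H' R) => (z : Y)) hsr)
  have h5 : Nat.card F ≤ Nat.card (I → F) := card_le_fun hI
  have h6 : Nat.card F ≤ Nat.card (Δ → F) := card_le_fun hΔ
  set κ := Nat.card ↥(A ⊓ QQ H R ⊓ QQ H' R) with hκ
  set σ := Nat.card {s : Y // s ∈ A ∧ s • w + w ∈ WW V H R ⊔ WW V H' R ⊔ fx V A} with hσ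
  have h7 : 0 < κ := Nat.card_pos
  have h8 : Nat.card F ^ 2 ≤ σ := by
    apply Nat.le_of_mul_le_mul_left _ h7
    calc κ * Nat.card F ^ 2 = κ * Nat.card F * Nat.card F := by ring
      _ ≤ κ * Nat.card (Δ → F) * Nat.card (I → F) := Nat.mul_le_mul (Nat.mul_le_mul_left _ h6) h5
      _ ≤ Nat.card A := by rw [← h3]; exact h2
      _ = κ * σ := h1.symm
  refine ⟨h8, ?_⟩
  calc Nat.card F ^ 4 = Nat.card F ^ 2 * Nat.card F ^ 2 := by ring
    _ ≤ κ * σ := Nat.mul_le_mul (h8.trans h4) h8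
    _ = Nat.card A := h1

end e

end TwoN

end Cfsg.Agent.Omega.NO1.TH.K

end

end

-- merged: Cfsg.Agent.Mrg.Omega.NO1.TH.K.ZedN
section

section


/-!
# N1, natural type with `k` factors: (z) of bb OMEGA 20646

* `KNat.zcore` : the common argument for both halves of (z) (over helper29's `KNat.card_le'`);
* `TwoN.z_one` : `⟨W'^H⟩ ≤ E_A`; `TwoN.z_two` : `⟨W^H'⟩ ≤ E_A`, for an opposite member `A` with `W' ≤ E_A`.
-/

set_option autoImplicit false
set_option linter.unusedSectionVars false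
set_option linter.dupNamespace false

namespace Cfsg.Agent.Omega.NO1.TH.K

open Subgroup Cfsg.Agent.Omega.NO1.AB Cfsg.Agent.Omega.FFBr Cfsg.Agent.Lib.SL2Mat
open scoped Pointwise

universe u

variable {Y : Type u} [Group Y] {V : Type u} [AddCommGroup V] [DistribMulAction Y V] [Finite Y] [Finite V]

/-- the common core of (z) -/
theorem KNat.zcore {H R : Subgroup Y} {F : Type} [Field F] [Finite F] [CharP F 2] {k : ℕ}
    {co : V → Fin k → Fin 2 → F} (K : KNat V H R F k co) (two : ∀ v : V, v + v = 0) (hRH : R ≤ H)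
    {A : Subgroup Y} (hm : Mem A (Ee V A) (fx V A)) {g : Y} {N : Subgroup Y} (hNA : N ≤ A)
    (hNR : MulAut.conj g⁻¹ • N ≤ R) {X : AddSubgroup V} (hX : ∀ n ∈ N, ∀ v ∈ X, n • v = v)
    (hS : ∀ w, w ∉ Ee V A → ∀ s ∈ A, s • w + w ∈ X → s ∈ N)
    (hcard : ∀ w, w ∉ Ee V A → Nat.card F ≤ Nat.card {s : Y // s ∈ A ∧ s • w + w ∈ X})
    (hfx : ∀ v ∈ fx V R, g • v ∈ Ee V A) (hW : ¬ ∀ v ∈ WW V H R, g • v ∈ Ee V A) :
    Nat.card N ≤ Nat.card F := by
  obtain ⟨j, v₀, hv₀, hE, hline⟩ := K.exists_off two hRH (g⁻¹ • Ee V A)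
    (fun v hv => by rw [mem_smul_as, inv_inv]; exact hfx v hv)
    (fun h1 => hW fun v hv => by
      have h3 := h1 hv
      rwa [mem_smul_as, inv_inv] at h3)
  rw [mem_smul_as, inv_inv] at hE
  set w := g • v₀ with hw
  have hgs : ∀ s : Y, (g * s * g⁻¹) • w = g • s • v₀ := fun s => by
    rw [hw, mul_smul, mul_smul, inv_smul_smul]
  have hmem : ∀ {b : Y}, b ∈ MulAut.conj g⁻¹ • N ↔ g * b * g⁻¹ ∈ N := by
    intro b
    rw [mem_conj, inv_inv]
  rw [← conj_card g⁻¹ N]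
  refine K.card_le' hRH (A := MulAut.conj g⁻¹ • N) hNR (((Mem.elAb hm).mono hNA).conj g⁻¹)
    (S := {s | g * s * g⁻¹ ∈ A ∧ (g * s * g⁻¹) • w + w ∈ X}) (fun s hs => hmem.2 (hS w hE _ hs.1 hs.2)) ?_
    (PP_le_WW j hv₀) (fun i hi => K.pp_supp hv₀ hi) hline ?_ ?_
  · refine (hcard w hE).trans ?_
    have hback : ∀ s : Y, g * (g⁻¹ * s * g) * g⁻¹ = s := fun s => by group
    refine Nat.card_le_card_of_injective (fun s : {s : Y // s ∈ A ∧ s • w + w ∈ X} =>
      (⟨g⁻¹ * s * g, by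
        rw [Set.mem_ofPred_eq, hback]
        exact s.2⟩ : {s | g * s * g⁻¹ ∈ A ∧ (g * s * g⁻¹) • w + w ∈ X})) ?_
    intro s s' h1
    have h3 : g⁻¹ * (s : Y) * g = g⁻¹ * s' * g := congrArg Subtype.val h1
    exact Subtype.ext (mul_left_cancel (mul_right_cancel h3))
  · intro a ha haj
    have h1 := K.pp_fix two (hRH (hNR ha)) haj hv₀
    have h3 : g * a * g⁻¹ = 1 := by
      apply hm.inj w hE _ (hNA (hmem.1 ha))
      rw [hgs, h1, ← hw, two]
      exact zero_mem _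
    have h4 : a = g⁻¹ * (g * a * g⁻¹) * g := by group
    rw [h4, h3]
    group
  · intro b hb s hs
    have h1 := hX _ (hmem.1 hb) _ hs.2
    have hc := hm.comm _ (hNA (hmem.1 hb)) _ hs.1
    rw [smul_add, ← mul_smul, hc, mul_smul, hgs, hgs] at h1
    -- `s' b' w + b' w = s' w + w`
    have e : (g * s * g⁻¹) • g • b • v₀ = g • s • b • v₀ := by
      rw [mul_smul, mul_smul, inv_smul_smul]
    rw [e, hw, ← smul_add, ← smul_add, smul_left_cancel_iff] at h1
    rw [smul_add]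
    have h3 : s • b • v₀ = s • v₀ + v₀ + b • v₀ := by
      rw [← h1, add_assoc, two, add_zero]
    rw [h3]
    have e2 : s • v₀ + v₀ + b • v₀ + s • v₀ = (s • v₀ + s • v₀) + (b • v₀ + v₀) := by abel
    rw [e2, two, zero_add]

namespace TwoN

variable {U : Set (Subgroup Y)} {T : Sylow 2 Y} {M H H' R : Subgroup Y} {F : Type} [Field F] [Finite F] [CharP F 2]
  {k : ℕ} {co co' : V → Fin k → Fin 2 → F} {t : Y} (h : TwoN V U T M H H' R F k co co' t)
include h

variable {A : Subgroup Y} (hA : A ∈ U) (hAH : A ≤ H) {I : Set (Fin k)} (hI : I.Nonempty) (hO : Opp V H R co A I)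
  (hE : WW V H' R ≤ Ee V A)
include hA hAH hI hO hE

/-- **(z), second half** : `⟨W^H'⟩ ≤ E_A` -/
theorem z_two : ∀ x ∈ H', ∀ v ∈ WW V H R, x • v ∈ Ee V A := by
  intro g hg
  by_contra hW
  have hAM := hO.not_le h.K h.amb h.a hAH hI
  have hm := h.amb.cls.mem A hA
  have hb : ∀ v ∈ WW V H R, v ∈ WW V H' R → ∀ i, co v i 1 = 0 := fun v hv hv' i => h.inf_le hv hv' i
  obtain ⟨w, hw⟩ := hm.ne
  have hSK := fun w hw => h.e_SK hb hA hAH hAM hO hE (w := w) hw
  have hcd := fun w hw => (h.e_card hb hA hAH hAM hO hE (w := w) hw hI).1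
  have hc2 : 2 ≤ Nat.card F := Finite.one_lt_card
  have h1 := h.K.zcore h.amb.two h.a.RH hm (g := g) (N := A ⊓ QQ H R ⊓ QQ H' R)
    (X := WW V H R ⊔ WW V H' R ⊔ fx V A) (inf_le_left.trans inf_le_left) (by
      intro x hx
      rw [mem_conj, inv_inv] at hx
      have h3 := conj_mem_QQ (H'.inv_mem hg) hx.2
      have e : g⁻¹ * (g * x * g⁻¹) * g⁻¹⁻¹ = x := by group
      rw [e] at h3
      exact QQ_le h3) (by
      intro n hn v hv
      obtain ⟨z, hz, f, hf, rfl⟩ := AddSubgroup.mem_sup.1 hv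
      obtain ⟨x, hx, y, hy, rfl⟩ := AddSubgroup.mem_sup.1 hz
      rw [smul_add, smul_add, Amal.QQ_fix h.a h.amb hn.1.2 hx, Amal.QQ_fix h.a' h.amb hn.2 hy, hf n hn.1.1])
    (fun w hw s hs h1 => ⟨⟨hs, (hSK w hw s hs h1).1⟩, (hSK w hw s hs h1).2⟩)
    (fun w hw => by
      refine le_trans ?_ (hcd w hw)
      nlinarith)
    (fun v hv => hE (smul_mem_WW hg (fx_le_WW hv))) hW
  have h3 : Nat.card {s : Y // s ∈ A ∧ s • w + w ∈ WW V H R ⊔ WW V H' R ⊔ fx V A} ≤
      Nat.card ↥(A ⊓ QQ H R ⊓ QQ H' R) := by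
    apply Nat.card_le_card_of_injective
      (fun s : {s : Y // s ∈ A ∧ s • w + w ∈ WW V H R ⊔ WW V H' R ⊔ fx V A} =>
        (⟨s, ⟨s.2.1, (hSK w hw s s.2.1 s.2.2).1⟩, (hSK w hw s s.2.1 s.2.2).2⟩ : ↥(A ⊓ QQ H R ⊓ QQ H' R)))
    intro s r hsr
    exact Subtype.ext (congrArg (fun z : ↥(A ⊓ QQ H R ⊓ QQ H' R) => (z : Y)) hsr)
  have h4 := hcd w hw
  nlinarith

/-- **(z), first half** : `⟨W'^H⟩ ≤ E_A` -/
theorem z_one : ∀ x ∈ H, ∀ v ∈ WW V H' R, x • v ∈ Ee V A := by
  intro g hg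
  by_contra hW
  have hAM := hO.not_le h.K h.amb h.a hAH hI
  have hm := h.amb.cls.mem A hA
  have hWE : WW V H R ≤ Ee V A := h.a.WW_le_Ee h.amb h.we hA hAH
  have hb : ∀ v ∈ WW V H R, v ∈ WW V H' R → ∀ i, co v i 1 = 0 := fun v hv hv' i => h.inf_le hv hv' i
  obtain ⟨w, hw⟩ := hm.ne
  have hc2 : 2 ≤ Nat.card F := Finite.one_lt_card
  have hcA := (h.e_card hb hA hAH hAM hO hE hw hI).2
  have hS : ∀ w, w ∉ Ee V A → ∀ s ∈ A, s • w + w ∈ WW V H R ⊔ fx V A → s ∈ A ⊓ QQ H R := by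
    intro w hw s hs h1
    obtain ⟨x, hx, f, hf, hxf⟩ := AddSubgroup.mem_sup.1 h1
    refine ⟨hs, mem_Q_of_shift h.K h.amb h.a h.we hA hAH hw hx hs ?_⟩
    rw [← hxf]
    have e : x + f + x = (x + x) + f := by abel
    rw [e, h.amb.two, zero_add]
    exact hf
  -- `|S_W| |A ⊓ Q| = |A|`
  have hcS : ∀ w, w ∉ Ee V A →
      Nat.card {s : Y // s ∈ A ∧ s • w + w ∈ WW V H R ⊔ fx V A} * Nat.card ↥(A ⊓ QQ H R) = Nat.card A := by
    intro w hw
    have h1 := card_SX h.amb.two hm hw (X := WW V H R ⊔ fx V A) le_sup_right (sup_le hWE hm.FE)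
    have h3 := card_sup_as (WW V H R) (fx V A)
    have h4 := h.a.exact' h.amb h.we hA hAH
    rw [h1] at h3
    have h5 : 0 < Nat.card ↥(fx V A) := Nat.card_pos
    have h6 : 0 < Nat.card ↥(WW V H R ⊓ fx V A) := Nat.card_pos
    apply Nat.eq_of_mul_eq_mul_right (Nat.mul_pos h5 h6)
    calc _ = Nat.card ↥(fx V A) * Nat.card {s : Y // s ∈ A ∧ s • w + w ∈ WW V H R ⊔ fx V A} *
          Nat.card ↥(WW V H R ⊓ fx V A) * Nat.card ↥(A ⊓ QQ H R) := by ring
      _ = Nat.card ↥(WW V H R) * Nat.card ↥(A ⊓ QQ H R) * Nat.card ↥(fx V A) := by rw [h3]; ring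
      _ = _ := by rw [h4]; ring
  have hcF : ∀ w, w ∉ Ee V A → Nat.card F ≤ Nat.card {s : Y // s ∈ A ∧ s • w + w ∈ WW V H R ⊔ fx V A} := by
    intro w hw
    have h1 := hcS w hw
    have h3 := h.opp_card hA hAH hO
    have h4 := card_le_fun (F := F) hI
    have h5 : 0 < Nat.card ↥(A ⊓ QQ H R) := Nat.card_pos
    apply Nat.le_of_mul_le_mul_right _ h5
    rw [h1]
    refine le_trans ?_ h3
    rw [mul_comm]
    exact Nat.mul_le_mul_left _ h4
  have h1 := h.K'.zcore h.amb.two h.a'.RH hm (g := g) (N := A ⊓ QQ H R)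
    (X := WW V H R ⊔ fx V A) inf_le_left (by
      intro x hx
      rw [mem_conj, inv_inv] at hx
      have h3 := conj_mem_QQ (H.inv_mem hg) hx.2
      have e : g⁻¹ * (g * x * g⁻¹) * g⁻¹⁻¹ = x := by group
      rw [e] at h3
      exact QQ_le h3) (by
      intro n hn v hv
      obtain ⟨y, hy, f, hf, rfl⟩ := AddSubgroup.mem_sup.1 hv
      rw [smul_add, Amal.QQ_fix h.a h.amb hn.2 hy, hf n hn.1]) hS hcF
    (fun v hv => hWE (smul_mem_WW hg (fx_le_WW hv))) hW
  have h3 : Nat.card {s : Y // s ∈ A ∧ s • w + w ∈ WW V H R ⊔ fx V A} ≤ Nat.card ↥(A ⊓ QQ H R) := by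
    apply Nat.card_le_card_of_injective
      (fun s : {s : Y // s ∈ A ∧ s • w + w ∈ WW V H R ⊔ fx V A} =>
        (⟨s, hS w hw s s.2.1 s.2.2⟩ : ↥(A ⊓ QQ H R)))
    intro s r hsr
    exact Subtype.ext (congrArg (fun z : ↥(A ⊓ QQ H R) => (z : Y)) hsr)
  have h4 := hcS w hw
  have h5 : Nat.card A ≤ Nat.card F ^ 2 := by
    rw [← h4, pow_two]
    exact Nat.mul_le_mul (h3.trans h1) h1
  have h6 : Nat.card F ^ 2 < Nat.card F ^ 4 := Nat.pow_lt_pow_right hc2 (by norm_num)
  omega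

end TwoN

end Cfsg.Agent.Omega.NO1.TH.K

end

section


/-!
# N1, natural type with `k` factors: (L1), the case `W' ≤ E_A` for an opposite member `A` (bb OMEGA 21480 / 20646)

* `TwoN.false_of` : impossible, given (e) `S_X ≤ K` and (z) `⟨W'^H⟩, ⟨W^H'⟩ ≤ E_A`;
* `TwoN.not_le_Ee` : `W' ≰ E_A` for every opposite member `A`.
-/

set_option autoImplicit false
set_option linter.unusedSectionVars false
set_option linter.dupNamespace false

namespace Cfsg.Agent.Omega.NO1.TH.K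

open Subgroup Cfsg.Agent.Omega.NO1.AB Cfsg.Agent.Omega.FFBr Cfsg.Agent.Lib.SL2Mat
open scoped Pointwise

universe u

variable {Y : Type u} [Group Y] {V : Type u} [AddCommGroup V] [DistribMulAction Y V] [Finite Y] [Finite V]
  {U : Set (Subgroup Y)} {T : Sylow 2 Y} {M H H' R : Subgroup Y} {t : Y} {F : Type} [Field F] [Finite F] {k : ℕ}
  {co co' : V → Fin k → Fin 2 → F}

/-- **(L1), natural type** -/
theorem TwoN.false_of (h : TwoN V U T M H H' R F k co co' t) {A : Subgroup Y} (hA : A ∈ U) (hAH : A ≤ H)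
    {I : Set (Fin k)} (hI : I.Nonempty) (hO : Opp V H R co A I)
    (hS : ∀ w, w ∉ Ee V A → ∀ s ∈ A, s • w + w ∈ WW V H R ⊔ WW V H' R ⊔ fx V A → s ∈ QQ H R ∧ s ∈ QQ H' R)
    (le₁ : ∀ x ∈ H, ∀ w ∈ WW V H' R, x • w ∈ Ee V A) (le₂ : ∀ x ∈ H', ∀ w ∈ WW V H R, x • w ∈ Ee V A) :
    False := by
  obtain rfl := h.H'_eq
  have hAM := hO.not_le h.K h.amb h.a hAH hI
  obtain ⟨b, hb, hb'⟩ := h.star hA hAH hAM
  have hBQ : ¬ A ⊓ QQ H R ≤ QQ (MulAut.conj t • H) R := fun h1 => hb' (h1 hb)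
  have hE : WW V (MulAut.conj t • H) R ≤ Ee V A := fun w hw => by
    have h1 := le₁ 1 H.one_mem w hw
    rwa [one_smul] at h1
  have e1 := (Amal.e_one h.a h.a' h.amb h.we h.we' hA hAH hE).1
  obtain ⟨i, hi⟩ := hI
  obtain ⟨Δ, hΔ, d1, d2⟩ := LF.exact_of h.amb h.a' h.K' (B₁ := A ⊓ QQ H R) (inf_le_right.trans QQ_le)
    (ElAb.mono (Mem.elAb (h.amb.cls.mem A hA)) inf_le_left) hBQ e1.le
  exact Amal.lOne h.a h.amb (lIn_of h.a h.a' h.amb h.we h.we' (LF.lfac h.amb h.a h.we h.K)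
    (LF.lfac h.amb h.a' h.we' h.K') hA hAH hAM hBQ hS (LF.faith h.amb h.a h.we h.K hA hAH) le₁ le₂
    ⟨Δ, hΔ, fun b hb hbQ => d1 b ⟨hb, hbQ⟩, fun p hp r hr => by
      obtain ⟨b, hb, h1⟩ := d2 p hp r hr
      exact ⟨b, hb.1, hb.2, h1⟩⟩
    ⟨i, LF.mov_opp h.amb h.a h.we h.K hO hi⟩)

/-- **(L1), natural type: `W' ≰ E_A` for every opposite member `A`** -/
theorem TwoN.not_le_Ee [CharP F 2] (h : TwoN V U T M H H' R F k co co' t) {A : Subgroup Y} (hA : A ∈ U) (hAH : A ≤ H)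
    {I : Set (Fin k)} (hI : I.Nonempty) (hO : Opp V H R co A I) : ¬ WW V H' R ≤ Ee V A := by
  intro hE
  have hAM := hO.not_le h.K h.amb h.a hAH hI
  exact h.false_of hA hAH hI hO
    (fun w hw => h.e_SK (fun v hv hv' i => h.inf_le hv hv' i) hA hAH hAM hO hE hw)
    (h.z_one hA hAH hI hO hE) (h.z_two hA hAH hI hO hE)

end Cfsg.Agent.Omega.NO1.TH.K

end

section


/-!
# N1, natural type, `k ≥ 2`, case (d) of bb OMEGA 20646: (L2) (bb OMEGA 20937, helper476; 20981, helper411), part A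

All members have order `|F|²` and `|V : E| = |F|`.
* `card_S`, `S_mem_Q`, `supp_one`, `card_Q`, `S_eq` : `|I(U)| = 1`, `|U ∩ Q| = |F|`, `S_W = U ∩ Q`;
* `exists_eq` : `u e + e = r x + x`, `x ∈ W - F` (PF equality);
* `TwoN.g_fix'` : (g) of #20646;
* `TwoN.not_le`, `TwoN.inf_le_fx`, `TwoN.supp'` : the outputs of (d) for every opposite member.
-/

set_option autoImplicit false
set_option linter.unusedSectionVars false
set_option linter.dupNamespace false

namespace Cfsg.Agent.Omega.NO1.TH.K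

open Subgroup Cfsg.Agent.Omega.NO1.AB Cfsg.Agent.Omega.FFBr Cfsg.Agent.Lib.SL2Mat
open Cfsg.Agent.Omega.NatPair (ap)
open scoped Pointwise

universe u

variable {Y : Type u} [Group Y] {V : Type u} [AddCommGroup V] [DistribMulAction Y V]

section one

variable [Finite Y] [Finite V] {U : Set (Subgroup Y)} {T : Sylow 2 Y} {M H R : Subgroup Y} {t : Y} {F : Type} [Field F]
  {k : ℕ} {co : V → Fin k → Fin 2 → F}

/-- `|S_W| |A ∩ Q| = |A|` -/
theorem card_S (amb : Amb V U T M) (a : Amal U T M H R t) (we : WE V U H R) {A : Subgroup Y} (hA : A ∈ U)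
    (hAH : A ≤ H) {w : V} (hw : w ∉ Ee V A) :
    Nat.card {s : Y // s ∈ A ∧ s • w + w ∈ WW V H R ⊔ fx V A} * Nat.card ↥(A ⊓ QQ H R) = Nat.card A := by
  have hm := amb.cls.mem A hA
  have h1 := card_SX amb.two hm hw (X := WW V H R ⊔ fx V A) le_sup_right
    (sup_le (Amal.WW_le_Ee a amb we hA hAH) hm.FE)
  have h2 := card_sup_as (WW V H R) (fx V A)
  have h3 := a.exact' amb we hA hAH
  have h4 : 0 < Nat.card ↥(fx V A) := Nat.card_pos
  have h5 : 0 < Nat.card ↥(WW V H R ⊓ fx V A) := Nat.card_pos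
  set S := Nat.card {s : Y // s ∈ A ∧ s • w + w ∈ WW V H R ⊔ fx V A} with hS
  have h6 : S * Nat.card ↥(WW V H R ⊓ fx V A) = Nat.card ↥(WW V H R) := by
    apply Nat.eq_of_mul_eq_mul_left h4
    calc Nat.card ↥(fx V A) * (S * Nat.card ↥(WW V H R ⊓ fx V A))
        = (Nat.card ↥(fx V A) * S) * Nat.card ↥(WW V H R ⊓ fx V A) := by ring
      _ = Nat.card ↥(WW V H R) * Nat.card ↥(fx V A) := by rw [← h1, h2]
      _ = _ := by ring
  apply Nat.eq_of_mul_eq_mul_right h5
  calc S * Nat.card ↥(A ⊓ QQ H R) * Nat.card ↥(WW V H R ⊓ fx V A)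
      = S * Nat.card ↥(WW V H R ⊓ fx V A) * Nat.card ↥(A ⊓ QQ H R) := by ring
    _ = _ := by rw [h6, h3]

theorem exists_x_of_sup (two : ∀ v : V, v + v = 0) {A : Subgroup Y} {W : AddSubgroup V} {w : V} {s : Y}
    (hs : s • w + w ∈ W ⊔ fx V A) : ∃ x ∈ W, s • w + w + x ∈ fx V A := by
  rw [AddSubgroup.mem_sup] at hs
  obtain ⟨x, hx, f, hf, hxf⟩ := hs
  refine ⟨x, hx, ?_⟩
  rw [← hxf]
  have e : x + f + x = x + x + f := by abel
  rw [e, two, zero_add]
  exact hf

/-- `S_W ≤ Q` -/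
theorem S_mem_Q (K : KNat V H R F k co) (amb : Amb V U T M) (a : Amal U T M H R t) (we : WE V U H R)
    {A : Subgroup Y} (hA : A ∈ U) (hAH : A ≤ H) {w : V} (hw : w ∉ Ee V A) {s : Y} (hs : s ∈ A)
    (h : s • w + w ∈ WW V H R ⊔ fx V A) : s ∈ QQ H R := by
  obtain ⟨x, hx, h1⟩ := exists_x_of_sup amb.two h
  exact mem_Q_of_shift K amb a we hA hAH hw hx hs h1

theorem card_S_le (K : KNat V H R F k co) (amb : Amb V U T M) (a : Amal U T M H R t) (we : WE V U H R)
    {A : Subgroup Y} (hA : A ∈ U) (hAH : A ≤ H) {w : V} (hw : w ∉ Ee V A) :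
    Nat.card {s : Y // s ∈ A ∧ s • w + w ∈ WW V H R ⊔ fx V A} ≤ Nat.card ↥(A ⊓ QQ H R) := by
  refine Nat.card_le_card_of_injective
    (fun s => (⟨s.1, s.2.1, S_mem_Q K amb a we hA hAH hw s.2.1 s.2.2⟩ : ↥(A ⊓ QQ H R))) ?_
  intro s r hsr
  exact Subtype.ext (congrArg (fun z : ↥(A ⊓ QQ H R) => (z : Y)) hsr)

theorem card_Q_conj (x : Y) (hx : x ∈ H) (A : Subgroup Y) :
    Nat.card ↥(MulAut.conj x • A ⊓ QQ H R) = Nat.card ↥(A ⊓ QQ H R) := by
  have h1 : MulAut.conj x • QQ H R = QQ H R := conj_of_mem fun _ hq => conj_mem_QQ hx hq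
  rw [← conj_card x (A ⊓ QQ H R), conj_inf, h1]

theorem conj_le_Q {x : Y} (hx : x ∈ H) {A : Subgroup Y} : MulAut.conj x • A ≤ QQ H R ↔ A ≤ QQ H R := by
  have h1 : MulAut.conj x • QQ H R = QQ H R := conj_of_mem fun _ hq => conj_mem_QQ hx hq
  have h2 := conj_le_conj_iff (H := A) (K := QQ H R) x
  rwa [h1] at h2

/-- **`|I(U)| = 1`, `|U ∩ Q| = |F|`** for `U ≤ R` -/
theorem supp_one [Finite F] (K : KNat V H R F k co) (amb : Amb V U T M) (a : Amal U T M H R t) (we : WE V U H R)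
    (hc : ∀ B ∈ U, Nat.card B = Nat.card F ^ 2) {B : Subgroup Y} (hB : B ∈ U) (hBR : B ≤ R)
    (hBQ : ¬ B ≤ QQ H R) : ∃ i, Supp V H R co B {i} ∧ Nat.card ↥(B ⊓ QQ H R) = Nat.card F := by
  obtain ⟨I, ⟨i, hi⟩, hS⟩ := exists_supp K amb a we hB hBR hBQ
  have hBH := hBR.trans a.RH
  have h1 := member_card K amb a hBR hS
  obtain ⟨w, hw⟩ := (amb.cls.mem B hB).ne
  have h2 := card_S amb a we hB hBH hw
  have h3 := card_S_le K amb a we hB hBH hw
  set S := Nat.card {s : Y // s ∈ B ∧ s • w + w ∈ WW V H R ⊔ fx V B} with hS'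
  have hq : 0 < Nat.card ↥(B ⊓ QQ H R) := Nat.card_pos
  have hf : 1 < Nat.card F := Finite.one_lt_card
  rw [hc B hB] at h1 h2
  have h4 : S = Nat.card (I → F) := by
    apply Nat.eq_of_mul_eq_mul_right hq
    rw [h2, h1, mul_comm]
  -- `|I → F| = |F| ^ |I|`
  have h5 : Nat.card (I → F) = Nat.card F ^ Nat.card I := by
    rw [Nat.card_fun]
  have h6 : 1 ≤ Nat.card I := by
    have : Nonempty I := ⟨⟨i, hi⟩⟩
    exact Nat.card_pos
  have h7 : Nat.card F ≤ Nat.card (I → F) := by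
    rw [h5]
    exact Nat.le_self_pow (by omega) _
  have h8 : Nat.card ↥(B ⊓ QQ H R) ≤ Nat.card F := by
    by_contra hcon
    push Not at hcon
    have h9 : Nat.card F * Nat.card F < Nat.card ↥(B ⊓ QQ H R) * Nat.card (I → F) :=
      Nat.mul_lt_mul_of_lt_of_le hcon h7 (by omega)
    rw [← h1, pow_two] at h9
    exact lt_irrefl _ h9
  have h9 : Nat.card (I → F) = Nat.card F := by
    rw [← h4] at h7 ⊢
    exact le_antisymm (h3.trans h8) h7
  have h10 : Nat.card ↥(B ⊓ QQ H R) = Nat.card F := by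
    rw [h9, pow_two] at h1
    exact (Nat.eq_of_mul_eq_mul_right (by omega) h1).symm
  have h11 : Nat.card I = 1 := by
    rw [h5] at h9
    have h12 : Nat.card F ^ Nat.card I = Nat.card F ^ 1 := by rw [h9, pow_one]
    exact Nat.pow_right_injective hf h12
  have h12 : I = {i} := by
    rw [Nat.card_eq_one_iff_unique] at h11
    obtain ⟨hsub, _⟩ := h11
    ext j
    constructor
    · intro hj
      exact congrArg Subtype.val (Subsingleton.elim (⟨j, hj⟩ : I) ⟨i, hi⟩)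
    · rintro rfl
      exact hi
  rw [h12] at hS
  exact ⟨i, hS, h10⟩

theorem card_Q [Finite F] (K : KNat V H R F k co) (amb : Amb V U T M) (a : Amal U T M H R t) (we : WE V U H R)
    (hc : ∀ B ∈ U, Nat.card B = Nat.card F ^ 2) {A : Subgroup Y} (hA : A ∈ U) (hAH : A ≤ H)
    (hAQ : ¬ A ≤ QQ H R) : Nat.card ↥(A ⊓ QQ H R) = Nat.card F := by
  obtain ⟨x, hx, hxU, hxR⟩ := Amal.exists_conj a amb hA hAH
  obtain ⟨i, _, h1⟩ := supp_one K amb a we hc hxU hxR fun h => hAQ ((conj_le_Q hx).1 h)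
  rwa [card_Q_conj x hx] at h1

/-- **`S_W = A ∩ Q`** -/
theorem S_eq [Finite F] (K : KNat V H R F k co) (amb : Amb V U T M) (a : Amal U T M H R t) (we : WE V U H R)
    (hc : ∀ B ∈ U, Nat.card B = Nat.card F ^ 2) {A : Subgroup Y} (hA : A ∈ U) (hAH : A ≤ H)
    (hAQ : ¬ A ≤ QQ H R) {w : V} (hw : w ∉ Ee V A) {s : Y} (hs : s ∈ A) (hsQ : s ∈ QQ H R) :
    ∃ x ∈ WW V H R, s • w + w + x ∈ fx V A := by
  apply exists_x_of_sup amb.two
  have h1 := card_Q K amb a we hc hA hAH hAQ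
  have h2 := card_S amb a we hA hAH hw
  have hf : 0 < Nat.card F := Nat.card_pos
  have h3 : Nat.card {s : Y // s ∈ A ∧ s • w + w ∈ WW V H R ⊔ fx V A} = Nat.card ↥(A ⊓ QQ H R) := by
    rw [h1]
    rw [h1, hc A hA, pow_two] at h2
    exact Nat.eq_of_mul_eq_mul_right hf h2
  let f : {s : Y // s ∈ A ∧ s • w + w ∈ WW V H R ⊔ fx V A} → ↥(A ⊓ QQ H R) :=
    fun s => ⟨s.1, s.2.1, S_mem_Q K amb a we hA hAH hw s.2.1 s.2.2⟩
  have hf1 : Function.Injective f := by
    intro s r hsr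
    exact Subtype.ext (congrArg (fun z : ↥(A ⊓ QQ H R) => (z : Y)) hsr)
  have hf2 : Function.Bijective f := by
    rw [Nat.bijective_iff_injective_and_card]
    exact ⟨hf1, h3⟩
  obtain ⟨r, hr⟩ := hf2.2 ⟨s, hs, hsQ⟩
  have h4 : r.1 = s := congrArg Subtype.val hr
  rw [← h4]
  exact r.2.2

end one

end Cfsg.Agent.Omega.NO1.TH.K

end

section


/-!
# N1, natural type, `k` factors: (g) and (d) of bb OMEGA 20646 (helper247)

`A ≤ H` a fully opposite member, `W' = WW V H' R`, `Q = QQ H R`.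
* `TwoN.g_fix'` : `S_W` centralises `W' ∩ E_A`;
* `TwoN.d_card` : `W' ≰ E_A` implies `|A ∩ Q| ≤ |F|`;
* `TwoN.d_all` : then `|B| = |F|²`, `|V : E_B| = |F|` for all members;
* `TwoN.not_le`, `TwoN.inf_fx`, `TwoN.supp'`, `TwoN.d_top` : the outputs of (d) for all opposite members.
-/

set_option autoImplicit false
set_option linter.unusedSectionVars false
set_option linter.dupNamespace false

namespace Cfsg.Agent.Omega.NO1.TH.K

open Subgroup Cfsg.Agent.Omega.NO1.AB Cfsg.Agent.Omega.FFBr Cfsg.Agent.Lib.SL2Mat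
open Cfsg.Agent.Omega.NatPair (ap)
open scoped Pointwise

universe u

variable {Y : Type u} [Group Y] {V : Type u} [AddCommGroup V] [DistribMulAction Y V]

namespace TwoN

variable [Finite Y] [Finite V] {U : Set (Subgroup Y)} {T : Sylow 2 Y} {M H H' R : Subgroup Y} {F : Type} [Field F]
  [Finite F] {k : ℕ} {co co' : V → Fin k → Fin 2 → F} {t : Y} (h : TwoN V U T M H H' R F k co co' t)
include h

/-- **(g)** of #20646 -/
theorem g_fix' {A : Subgroup Y} (hA : A ∈ U) (hAH : A ≤ H) {I : Set (Fin k)} (hO : Opp V H R co A I) {w : V}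
    (hw : w ∉ Ee V A) {x : V} (hx : x ∈ WW V H R) {s : Y} (hs : s ∈ A) (hsx : s • w + w + x ∈ fx V A) {y : V}
    (hy : y ∈ WW V H' R) (hyE : y ∈ Ee V A) : s • y = y := by
  have hm := h.amb.cls.mem A hA
  obtain ⟨r, hr, hry⟩ := hm.surj w hw y hyE
  -- `[x', r] = [y, s_{x'}] ∈ W ∩ W' ∩ F_A` has coordinates `0`
  have key : ∀ x' ∈ WW V H R, ∀ s' ∈ A, s' • w + w + x' ∈ fx V A → co (r • x' + x') = 0 := by
    intro x' hx' s' hs' hsx'
    have h1 := s_symm h.two hm hs' hr hsx' hry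
    have hsQ := mem_Q_of_shift h.K h.amb h.a h.we hA hAH hw hx' hs' hsx'
    have hW : r • x' + x' ∈ WW V H R := add_mem (smul_mem_WW (hAH hr) hx') hx'
    have hW' : r • x' + x' ∈ WW V H' R := by
      rw [h1]
      exact add_mem (smul_mem_WW (h.a'.RH (QQ_le hsQ)) hy) hy
    have hF : r • x' + x' ∈ fx V A := by
      rw [h1]
      exact hm.EB s' hs' y hyE
    funext i
    by_cases hi : i ∈ I
    · exact hO.inf hW hF (fun j => h.inf_le hW hW' j) hi
    · exact hO.comm h.K hAH h.two hx' hr hi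
  have hrW : ∀ x' ∈ WW V H R, co (r • x') = co x' := by
    intro x' hx'
    obtain ⟨s', hs', hsx'⟩ := hm.surj w hw x' (Amal.WW_le_Ee h.a h.amb h.we hA hAH hx')
    exact h.K.co_eq_of_add h.two (smul_mem_WW (hAH hr) hx') hx' (key x' hx' s' hs' hsx')
  have h1 := h.K.trivH r (hAH hr) hrW x hx
  have h2 := s_symm h.two hm hs hr hsx hry
  rw [h1, h.two] at h2
  exact ((HE.add_eq_zero' h.two).1 h2.symm)

/-- an opposite member is active -/
theorem opp_not_Q {A : Subgroup Y} (hAM : ¬ A ≤ M) : ¬ A ≤ QQ H R :=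
  fun h1 => hAM (h1.trans (QQ_le.trans (h.a.RT.trans h.amb.TM)))

/-- `|S_W| ≥ |F|` for active members -/
theorem card_S_ge {A : Subgroup Y} (hA : A ∈ U) (hAH : A ≤ H) (hAQ : ¬ A ≤ QQ H R) {w : V} (hw : w ∉ Ee V A) :
    Nat.card F ≤ Nat.card {s : Y // s ∈ A ∧ s • w + w ∈ WW V H R ⊔ fx V A} := by
  obtain ⟨x, hx, hxU, hxR⟩ := Amal.exists_conj h.a h.amb hA hAH
  have hxQ : ¬ MulAut.conj x • A ≤ QQ H R := fun h1 => hAQ ((conj_le_Q hx).1 h1)
  obtain ⟨I, ⟨i, hi⟩, hS⟩ := exists_supp h.K h.amb h.a h.we hxU hxR hxQ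
  have h1 := member_card h.K h.amb h.a hxR hS
  rw [card_Q_conj x hx, conj_card] at h1
  have h2 := card_S h.amb h.a h.we hA hAH hw
  have hq : 0 < Nat.card ↥(A ⊓ QQ H R) := Nat.card_pos
  have h3 : Nat.card {s : Y // s ∈ A ∧ s • w + w ∈ WW V H R ⊔ fx V A} = Nat.card (I → F) := by
    apply Nat.eq_of_mul_eq_mul_right hq
    rw [h2, h1, mul_comm]
  rw [h3, Nat.card_fun]
  have h6 : 1 ≤ Nat.card I := by
    have : Nonempty I := ⟨⟨i, hi⟩⟩
    exact Nat.card_pos
  exact Nat.le_self_pow (by omega) _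

/-- **(d), first part**: `|A ∩ Q| ≤ |F|` -/
theorem d_card {A : Subgroup Y} (hA : A ∈ U) (hAH : A ≤ H) (hAM : ¬ A ≤ M) {I : Set (Fin k)}
    (hO : Opp V H R co A I) (hW : ¬ WW V H' R ≤ Ee V A) : Nat.card ↥(A ⊓ QQ H R) ≤ Nat.card F := by
  have hm := h.amb.cls.mem A hA
  have hI : ∃ i : Fin k, True := by
    by_contra hcon
    push Not at hcon
    apply h.opp_not_Q hAM
    intro b hb
    have h2 : b ∈ A ⊓ CW V H R := ⟨hb, fun w hw => by
      apply h.K.trivH b (hAH hb) _ w hw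
      intro w _
      funext i
      exact (hcon i).elim⟩
    rw [Amal.inf_CW' h.a h.amb hA hAH] at h2
    exact h2.2
  obtain ⟨i₀, _⟩ := hI
  have := h.K.charP h.two i₀
  have hfx : fx V R ≤ Ee V A := (fx_le_WW (H := H)).trans (Amal.WW_le_Ee h.a h.amb h.we hA hAH)
  obtain ⟨j, v₀, hv₀, hvE, hline⟩ := h.K'.exists_off h.two h.a'.RH (Ee V A) hfx hW
  have hv₀W : v₀ ∈ WW V H' R := PP_le_WW j hv₀
  have hQR : A ⊓ QQ H R ≤ R := inf_le_right.trans QQ_le
  have hel : ElAb (A ⊓ QQ H R) := (Mem.elAb hm).mono inf_le_left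
  refine h.K'.card_le' h.a'.RH hQR hel (S := {s | s ∈ A ∧ s • v₀ + v₀ ∈ WW V H R ⊔ fx V A}) ?_ ?_ hv₀W
    (fun i hij => h.K'.pp_supp hv₀ hij) hline ?_ ?_
  · rintro s ⟨hs, hs1⟩
    exact ⟨hs, S_mem_Q h.K h.amb h.a h.we hA hAH hvE hs hs1⟩
  · exact h.card_S_ge hA hAH (h.opp_not_Q hAM) hvE
  · intro a ha hfix
    have h1 := h.K'.pp_fix h.two (h.a'.RH (hQR ha)) hfix hv₀
    apply hm.inj v₀ hvE a ha.1
    rw [h1, h.two]
    exact zero_mem _
  · rintro b hb s ⟨hs, hs1⟩
    obtain ⟨x, hx, hsx⟩ := exists_x_of_sup h.two hs1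
    exact h.g_fix' hA hAH hO hvE hx hs hsx (add_mem (smul_mem_WW (h.a'.RH (hQR hb)) hv₀W) hv₀W) (hm.VB b hb.1 v₀)

/-- `|A ∩ Q| |W' ∩ E_A| ≤ |W'|` when `A ∩ Q` centralises `W' ∩ E_A` and `W' ≰ E_A` -/
theorem d_noOver {A : Subgroup Y} (hA : A ∈ U) (hW : ¬ WW V H' R ≤ Ee V A)
    (hfix : ∀ y ∈ WW V H' R, y ∈ Ee V A → y ∈ fx V (A ⊓ QQ H R)) :
    A ⊓ QQ H R ⊓ QQ H' R = ⊥ ∧ WW V H' R ⊓ Ee V A ≤ fx V (A ⊓ QQ H R) ⊓ WW V H' R ∧
      Nat.card ↥(A ⊓ QQ H R) * Nat.card ↥(fx V (A ⊓ QQ H R) ⊓ WW V H' R) ≤ Nat.card ↥(WW V H' R) := by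
  have hm := h.amb.cls.mem A hA
  have h1 : A ⊓ QQ H R ⊓ QQ H' R = ⊥ := by
    rw [eq_bot_iff]
    rintro b ⟨⟨hb, -⟩, hbQ'⟩
    rw [mem_bot]
    obtain ⟨v, hv, hvE⟩ := SetLike.not_le_iff_exists.1 hW
    apply hm.inj v hvE b hb
    rw [Amal.QQ_fix h.a' h.amb hbQ' hv, h.two]
    exact zero_mem _
  refine ⟨h1, fun v hv => ⟨hfix v hv.1 hv.2, hv.1⟩, ?_⟩
  have h2 := h.K'.noOver (A ⊓ QQ H R) (inf_le_right.trans QQ_le) ((Mem.elAb hm).mono inf_le_left)
  rw [h1, card_bot, one_mul] at h2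
  exact h2

/-- `|W'| ≤ |V : E| |W' ∩ E|` -/
theorem card_W'_le (A : Subgroup Y) :
    Nat.card ↥(WW V H' R) * Nat.card ↥(Ee V A) = Nat.card ↥(WW V H' R ⊔ Ee V A) * Nat.card ↥(WW V H' R ⊓ Ee V A) :=
  (card_sup_as _ _).symm

/-- **(d)**: `|B| = |F|²`, `|V : E_B| = |F|` for all members -/
theorem d_all {A : Subgroup Y} (hA : A ∈ U) (hAH : A ≤ H) (hAM : ¬ A ≤ M) {I : Set (Fin k)}
    (hO : Opp V H R co A I) (hW : ¬ WW V H' R ≤ Ee V A) :
    ∀ B ∈ U, Nat.card B = Nat.card F ^ 2 ∧ (Ee V B).index = Nat.card F := by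
  have hm := h.amb.cls.mem A hA
  obtain ⟨v, hv, hvE⟩ := SetLike.not_le_iff_exists.1 hW
  have hAQ := h.opp_not_Q hAM
  have h1 := h.d_card hA hAH hAM hO hW
  have h2 := h.card_S_ge hA hAH hAQ hvE
  have h3 := card_S_le h.K h.amb h.a h.we hA hAH hvE
  have h4 := card_S h.amb h.a h.we hA hAH hvE
  have h5 : Nat.card ↥(A ⊓ QQ H R) = Nat.card F := le_antisymm h1 (h2.trans h3)
  have h6 : Nat.card {s : Y // s ∈ A ∧ s • v + v ∈ WW V H R ⊔ fx V A} = Nat.card F :=
    le_antisymm (h3.trans h1) h2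
  rw [h5, h6, ← pow_two] at h4
  have hcard : ∀ B ∈ U, Nat.card B = Nat.card F ^ 2 := by
    intro B hB
    obtain ⟨y, rfl⟩ := h.amb.cls.eq A hA B hB
    rw [conj_card, h4]
  -- `A ∩ Q = S_W`
  have hfix : ∀ y ∈ WW V H' R, y ∈ Ee V A → y ∈ fx V (A ⊓ QQ H R) := by
    intro y hy hyE b hb
    obtain ⟨x, hx, hbx⟩ := S_eq h.K h.amb h.a h.we hcard hA hAH hAQ hvE hb.1 hb.2
    exact h.g_fix' hA hAH hO hvE hx hb.1 hbx hy hyE
  obtain ⟨h7, h8, h9⟩ := h.d_noOver hA hW hfix
  have h10 : Nat.card ↥(WW V H' R ⊓ Ee V A) ≤ Nat.card ↥(fx V (A ⊓ QQ H R) ⊓ WW V H' R) :=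
    Nat.card_le_card_of_injective _ (AddSubgroup.inclusion_injective h8)
  have h11 : Nat.card ↥(WW V H' R) ≤ (Ee V A).index * Nat.card ↥(WW V H' R ⊓ Ee V A) := by
    have h12 := h.card_W'_le A
    have h13 : Nat.card ↥(WW V H' R ⊔ Ee V A) ≤ Nat.card ↥(Ee V A) * (Ee V A).index := by
      rw [AddSubgroup.card_mul_index]
      exact Nat.card_le_card_of_injective _ (Subtype.val_injective)
    have h14 : 0 < Nat.card ↥(Ee V A) := Nat.card_pos
    apply Nat.le_of_mul_le_mul_right _ h14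
    rw [h12]
    calc _ ≤ Nat.card ↥(Ee V A) * (Ee V A).index * Nat.card ↥(WW V H' R ⊓ Ee V A) := Nat.mul_le_mul_right _ h13
      _ = _ := by ring
  have h12 : Nat.card F ≤ (Ee V A).index := by
    have h13 : 0 < Nat.card ↥(WW V H' R ⊓ Ee V A) := Nat.card_pos
    rw [h5] at h9
    apply Nat.le_of_mul_le_mul_right _ h13
    exact ((Nat.mul_le_mul_left _ h10).trans h9).trans h11
  have h13 : (Ee V A).index ≤ Nat.card F := by
    have h14 := B0.pf_le hm h.two (Mem.ne_bot hm)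
    rw [hcard A hA] at h14
    exact (Nat.pow_le_pow_iff_left two_ne_zero).1 h14
  intro B hB
  refine ⟨hcard B hB, ?_⟩
  rw [← le_antisymm h13 h12]
  have h15 := AddSubgroup.card_mul_index (Ee V A)
  have h16 := AddSubgroup.card_mul_index (Ee V B)
  have h17 : Nat.card ↥(Ee V B) = Nat.card ↥(Ee V A) := by
    obtain ⟨y, rfl⟩ := h.amb.cls.eq A hA B hB
    rw [Ee_conj, card_smul_as]
  rw [h17, ← h15] at h16
  exact Nat.eq_of_mul_eq_mul_left Nat.card_pos h16

section outputs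

variable (hc : ∀ B ∈ U, Nat.card B = Nat.card F ^ 2 ∧ (Ee V B).index = Nat.card F)
include hc

/-- `W' ∩ E_A ≤ C(A ∩ Q)` -/
theorem d_fix {A : Subgroup Y} (hA : A ∈ U) (hAH : A ≤ H) (hAM : ¬ A ≤ M) {I : Set (Fin k)}
    (hO : Opp V H R co A I) {y : V} (hy : y ∈ WW V H' R) (hyE : y ∈ Ee V A) : y ∈ fx V (A ⊓ QQ H R) := by
  obtain ⟨w, hw⟩ := (h.amb.cls.mem A hA).ne
  intro b hb
  obtain ⟨x, hx, hbx⟩ := S_eq h.K h.amb h.a h.we (fun B hB => (hc B hB).1) hA hAH (h.opp_not_Q hAM) hw hb.1 hb.2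
  exact h.g_fix' hA hAH hO hw hx hb.1 hbx hy hyE

/-- **`W' ≰ E_A`** for every opposite member -/
theorem d_not_le {A : Subgroup Y} (hA : A ∈ U) (hAH : A ≤ H) (hAM : ¬ A ≤ M) {I : Set (Fin k)}
    (hO : Opp V H R co A I) : ¬ WW V H' R ≤ Ee V A := by
  intro hW
  obtain ⟨b, hb, hbQ'⟩ := h.star hA hAH hAM
  apply hbQ'
  rw [Amal.mem_QQ_iff h.a' h.amb (QQ_le hb.2)]
  intro y hy
  exact h.d_fix hc hA hAH hAM hO hy (hW hy) b hb

/-- **`V = W' + E_A`** -/
theorem d_top {A : Subgroup Y} (hA : A ∈ U) (hAH : A ≤ H) (hAM : ¬ A ≤ M) {I : Set (Fin k)}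
    (hO : Opp V H R co A I) : WW V H' R ⊔ Ee V A = ⊤ ∧
      Nat.card ↥(WW V H' R) ≤ Nat.card ↥(A ⊓ QQ H R) * Nat.card ↥(fx V (A ⊓ QQ H R) ⊓ WW V H' R) := by
  have hW := h.d_not_le hc hA hAH hAM hO
  have hAQ := h.opp_not_Q hAM
  have h5 := card_Q h.K h.amb h.a h.we (fun B hB => (hc B hB).1) hA hAH hAQ
  obtain ⟨h7, h8, h9⟩ := h.d_noOver hA hW fun y hy hyE => h.d_fix hc hA hAH hAM hO hy hyE
  have h10 : Nat.card ↥(WW V H' R ⊓ Ee V A) ≤ Nat.card ↥(fx V (A ⊓ QQ H R) ⊓ WW V H' R) :=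
    Nat.card_le_card_of_injective _ (AddSubgroup.inclusion_injective h8)
  have h12 := h.card_W'_le A
  have h14 : 0 < Nat.card ↥(Ee V A) := Nat.card_pos
  have h15 : 0 < Nat.card ↥(WW V H' R ⊓ Ee V A) := Nat.card_pos
  have h16 := AddSubgroup.card_mul_index (Ee V A)
  rw [(hc A hA).2] at h16
  rw [h5] at h9 ⊢
  -- `|W' + E| ≥ |E| |F|`
  have h17 : Nat.card V ≤ Nat.card ↥(WW V H' R ⊔ Ee V A) := by
    apply Nat.le_of_mul_le_mul_right _ h15
    rw [← h12, ← h16]
    calc Nat.card ↥(Ee V A) * Nat.card F * Nat.card ↥(WW V H' R ⊓ Ee V A)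
        = Nat.card F * Nat.card ↥(WW V H' R ⊓ Ee V A) * Nat.card ↥(Ee V A) := by ring
      _ ≤ _ := Nat.mul_le_mul_right _ ((Nat.mul_le_mul_left _ h10).trans h9)
  have h18 : WW V H' R ⊔ Ee V A = ⊤ := by
    apply eq_of_le_as le_top
    rw [AddSubgroup.card_top]
    exact h17
  refine ⟨h18, ?_⟩
  have h19 : Nat.card ↥(WW V H' R) = Nat.card F * Nat.card ↥(WW V H' R ⊓ Ee V A) := by
    rw [h18, AddSubgroup.card_top, ← h16] at h12
    apply Nat.eq_of_mul_eq_mul_right h14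
    rw [h12]
    ring
  rw [h19]
  exact Nat.mul_le_mul_left _ h10

/-- **`A ∩ Q` acts on `W'` as one root group** -/
theorem d_supp' {A : Subgroup Y} (hA : A ∈ U) (hAH : A ≤ H) (hAM : ¬ A ≤ M) {I : Set (Fin k)}
    (hO : Opp V H R co A I) : ∃ j, Supp V H' R co' (A ⊓ QQ H R) {j} := by
  have hm := h.amb.cls.mem A hA
  have hW := h.d_not_le hc hA hAH hAM hO
  have hAQ := h.opp_not_Q hAM
  have h5 := card_Q h.K h.amb h.a h.we (fun B hB => (hc B hB).1) hA hAH hAQ
  obtain ⟨h7, h8, h9⟩ := h.d_noOver hA hW fun y hy hyE => h.d_fix hc hA hAH hAM hO hy hyE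
  have hQR : A ⊓ QQ H R ≤ R := inf_le_right.trans QQ_le
  have hf : 1 < Nat.card F := Finite.one_lt_card
  obtain ⟨J, ⟨j, hj⟩, hJ⟩ := h.K'.exists_supp_of h.two h.a'.RH hQR ((Mem.elAb hm).mono inf_le_left) (by
    intro h1
    have h2 : A ⊓ QQ H R ≤ A ⊓ QQ H R ⊓ QQ H' R := le_inf le_rfl h1
    rw [h7, le_bot_iff] at h2
    rw [h2, card_bot] at h5
    omega) (by
    rw [h7, card_bot, one_mul]
    exact (h.d_top hc hA hAH hAM hO).2)
  have h10 := hJ.card h.K' h.two h.a'.RH (Q_fix h.amb h.a') hQR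
  rw [h7, card_bot, one_mul, h5, Nat.card_fun] at h10
  have h11 : Nat.card J = 1 := by
    have h12 : Nat.card F ^ Nat.card J = Nat.card F ^ 1 := by rw [← h10, pow_one]
    exact Nat.pow_right_injective hf h12
  have h12 : J = {j} := by
    rw [Nat.card_eq_one_iff_unique] at h11
    obtain ⟨hsub, _⟩ := h11
    ext l
    constructor
    · intro hl
      exact congrArg Subtype.val (Subsingleton.elim (⟨l, hl⟩ : J) ⟨j, hj⟩)
    · rintro rfl
      exact hj
  rw [h12] at hJ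
  exact ⟨j, hJ⟩

/-- all outputs of (d) for `A = B^g`, `B ≤ R` active, `g` opposite -/
theorem d_out {B : Subgroup Y} (hB : B ∈ U) (hBR : B ≤ R) (hBQ : ¬ B ≤ QQ H R) {g : Y} (hg : g ∈ H)
    (hgA : Acts V H R co g fun _ => wm 1 one_ne_zero) :
    R ⊔ MulAut.conj g • B = H ∧ ∃ i j, Supp V H R co B {i} ∧ Opp V H R co (MulAut.conj g • B) {i} ∧
      Supp V H' R co' (MulAut.conj g • B ⊓ QQ H R) {j} ∧
      Nat.card ↥(MulAut.conj g • B) = Nat.card F ^ 2 ∧
      Nat.card ↥(MulAut.conj g • B ⊓ QQ H R) = Nat.card F ∧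
      WW V H' R ⊔ Ee V (MulAut.conj g • B) = ⊤ ∧
      (∀ v ∈ WW V H' R, v ∈ Ee V (MulAut.conj g • B) → v ∈ fx V (MulAut.conj g • B ⊓ QQ H R)) ∧
      ∀ s ∈ MulAut.conj g • B ⊓ QQ H R, ∀ w, w ∉ Ee V (MulAut.conj g • B) →
        ∃ x ∈ WW V H R, s • w + w + x ∈ fx V (MulAut.conj g • B) := by
  have hc1 : ∀ B ∈ U, Nat.card B = Nat.card F ^ 2 := fun B hB => (hc B hB).1
  obtain ⟨i, hS, _⟩ := supp_one h.K h.amb h.a h.we hc1 hB hBR hBQ
  have hBH := hBR.trans h.a.RH
  have hO := hS.opp hg hgA hBH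
  have hA := h.amb.cls.conj B hB g
  have hAH : MulAut.conj g • B ≤ H := by
    intro x hx
    rw [mem_conj] at hx
    have h1 := H.mul_mem (H.mul_mem hg (hBH hx)) (H.inv_mem hg)
    have e : g * (g⁻¹ * x * g) * g⁻¹ = x := by group
    rwa [e] at h1
  have hAM := hO.not_le h.K h.amb h.a hAH (Set.singleton_nonempty i)
  have hAQ := h.opp_not_Q hAM
  obtain ⟨j, hj⟩ := h.d_supp' hc hA hAH hAM hO
  exact ⟨hO.gen h.K h.amb h.a hAH (Set.singleton_nonempty i), i, j, hS, hO, hj, hc1 _ hA,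
    card_Q h.K h.amb h.a h.we hc1 hA hAH hAQ, (h.d_top hc hA hAH hAM hO).1,
    fun v hv hvE => h.d_fix hc hA hAH hAM hO hv hvE,
    fun s hs w hw => S_eq h.K h.amb h.a h.we hc1 hA hAH hAQ hw hs.1 hs.2⟩

end outputs

end TwoN

end Cfsg.Agent.Omega.NO1.TH.K

end

end

private theorem dce_e2933f070c4f : _root_.True := by
  try have : _root_.True := by simp only [_root_.Cfsg.Agent.Omega.NO1.TH.K.om.eq_1]
  exact _root_.True.intro
end

-- part: Mrg/Omega/NO1/TH/SemiLin
section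
prune_inst 0x3000491054220000000000008000002028000102000000000000000000082240c0008800000000001002000000000028121800000000000000000000000000000028000000400000000000000000000000000000000000000000000000000000000000000
set_option linter.all false
open scoped Cfsg.Agent.FastGrp

section


/-!
# N1, the amalgam, `k = 1`: elementary abelian subgroups of `R⟨φ⟩ ≤ ΓL₂(F)` (bb OMEGA 20297, fill-in (d))

`SemiL.ea` : `|A| ≤ c |A ∩ Q|`; `SemiL.fld` : in the case of equality and `A ≰ P` : `c = 4`, `A ∩ P ≰ Q`, `|R| ≤ 2 |P|`.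
-/

set_option autoImplicit false
set_option linter.unusedSectionVars false

namespace Cfsg.Agent.Omega.NO1.TH

open Subgroup Cfsg.Agent.Omega.NO1.AB
open scoped Pointwise

universe u

variable {Y : Type u} [Group Y] {V : Type u} [AddCommGroup V] [DistribMulAction Y V]

/-- `R` acts semilinearly on the line `W₁ / D`, with coordinate `f`. -/
structure SemiL (V : Type u) [AddCommGroup V] [DistribMulAction Y V] (R P Q : Subgroup Y) (W W₁ D : AddSubgroup V)
    (F : Type) [Field F] (f : V → F) : Prop where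
  two : ∀ v : V, v + v = 0
  R2 : IsPGroup 2 R
  QP : Q ≤ P
  PR : P ≤ R
  DW : D ≤ W₁
  W₁W : W₁ ≤ W
  W_R : ∀ r ∈ R, ∀ w ∈ W, r • w ∈ W
  W₁_R : ∀ r ∈ R, ∀ w ∈ W₁, r • w ∈ W₁
  D_R : ∀ r ∈ R, ∀ w ∈ D, r • w ∈ D
  add : ∀ v ∈ W₁, ∀ w ∈ W₁, f (v + w) = f v + f w
  surj : ∀ a : F, ∃ w ∈ W₁, f w = a
  ker : ∀ w ∈ W₁, f w = 0 ↔ w ∈ D
  semi : ∀ r ∈ R, ∀ μ : F, ∃ τ : F, ∀ w ∈ W₁, ∀ w' ∈ W₁, f w' = μ * f w → f (r • w') = τ * f (r • w)
  mem_P : ∀ x ∈ R, (∀ w ∈ W₁, x • w + w ∈ D) → x ∈ P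
  P_fix : ∀ x ∈ P, ∀ w ∈ W₁, x • w + w ∈ D
  P_comm : ∀ x ∈ P, ∀ w ∈ W, x • w + w ∈ W₁
  free : ∀ x ∈ P, ∀ w ∈ W, w ∉ W₁ → x • w + w ∈ D → x ∈ Q
  card_W : Nat.card W = Nat.card F * Nat.card W₁
  card_W₁ : Nat.card W₁ = Nat.card F * Nat.card D
  card_P : Nat.card P = Nat.card F * Nat.card Q

/-- a proper fixed subfield is small -/
theorem card_fixed_sq (F : Type) [Field F] [Finite F] (σ : F ≃+* F) (hσ : σ ≠ 1) :
    Nat.card {x : F // σ x = x} * Nat.card {x : F // σ x = x} ≤ Nat.card F := by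
  obtain ⟨θ, hθ⟩ : ∃ θ, σ θ ≠ θ := by
    by_contra hcon
    push Not at hcon
    exact hσ (RingEquiv.ext hcon)
  rw [← Nat.card_prod]
  apply Nat.card_le_card_of_injective (fun p : {x : F // σ x = x} × {x : F // σ x = x} => (p.1 : F) + (p.2 : F) * θ)
  rintro ⟨⟨x, hx⟩, ⟨y, hy⟩⟩ ⟨⟨x', hx'⟩, ⟨y', hy'⟩⟩ he
  have he' : x + y * θ = x' + y' * θ := he
  have h1 : y = y' := by
    by_contra hne
    have h2 : y - y' ≠ 0 := sub_ne_zero.2 hne
    have h3 : (y - y') * θ = x' - x := by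
      have := he'
      linear_combination this
    have h4 : (y - y') * σ θ = x' - x := by
      have h5 := congrArg σ h3
      rwa [map_mul, map_sub, map_sub, hy, hy', hx, hx'] at h5
    exact hθ (mul_left_cancel₀ h2 (h4.trans h3.symm))
  subst h1
  have h2 : x = x' := add_right_cancel he'
  subst h2
  rfl

/-- `|Aut(𝔽₄)| ≤ 2` -/
theorem card_aut_four (F : Type) [Field F] [Finite F] (hF : Nat.card F = 4) : Nat.card (F ≃+* F) ≤ 2 := by
  classical
  have : Fintype F := Fintype.ofFinite F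
  -- `ω ≠ 0, 1`
  obtain ⟨ω, hω0, hω1⟩ : ∃ ω : F, ω ≠ 0 ∧ ω ≠ 1 := by
    by_contra hcon
    push Not at hcon
    have h1 : (Finset.univ : Finset F) ⊆ {0, 1} := by
      intro x _
      rw [Finset.mem_insert, Finset.mem_singleton]
      by_cases hx : x = 0
      · exact Or.inl hx
      · exact Or.inr (hcon x hx)
    have h2 := Finset.card_le_card h1
    have h3 : (Finset.univ : Finset F).card = 4 := by rw [Finset.card_univ, ← Nat.card_eq_fintype_card, hF]
    have h4 : ({0, 1} : Finset F).card ≤ 2 := Finset.card_le_two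
    omega
  have hω2 : ω + 1 ≠ ω := by
    intro h1
    exact one_ne_zero (add_eq_left.1 h1)
  have h2F : (2 : F) = 0 := by
    have h1 : ((Nat.card F : ℕ) : F) = 0 := by
      rw [Nat.card_eq_fintype_card]
      exact Nat.cast_card_eq_zero F
    rw [hF] at h1
    have h2 : (2 : F) * 2 = 0 := by
      have : ((4 : ℕ) : F) = 2 * 2 := by norm_num
      rw [← this]; exact h1
    rcases mul_eq_zero.1 h2 with h3 | h3 <;> exact h3
  have h10 : ω + 1 ≠ 0 := by
    intro h1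
    apply hω1
    have : ω = -1 := eq_neg_of_add_eq_zero_left h1
    rw [this]
    have : (-1 : F) = 1 := by
      have h3 : (1 : F) + 1 = 0 := by
        have : (1 : F) + 1 = 2 := by norm_num
        rw [this, h2F]
      exact neg_eq_of_add_eq_zero_left h3
    exact this
  have h11 : ω + 1 ≠ 1 := by
    intro h1
    exact hω0 (add_eq_right.1 h1)
  have huniv : (Finset.univ : Finset F) = {0, 1, ω, ω + 1} := by
    symm
    apply Finset.eq_of_subset_of_card_le (Finset.subset_univ _)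
    have h3 : (Finset.univ : Finset F).card = 4 := by rw [Finset.card_univ, ← Nat.card_eq_fintype_card, hF]
    rw [h3]
    rw [Finset.card_insert_of_notMem, Finset.card_insert_of_notMem, Finset.card_insert_of_notMem,
      Finset.card_singleton]
    · rw [Finset.mem_singleton]; exact hω2.symm
    · rw [Finset.mem_insert, Finset.mem_singleton]; push Not; exact ⟨hω1.symm, h11.symm⟩
    · rw [Finset.mem_insert, Finset.mem_insert, Finset.mem_singleton]; push Not
      exact ⟨zero_ne_one, hω0.symm, h10.symm⟩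
  -- `σ ↦ σ ω ∈ {ω, ω + 1}`
  have key : ∀ σ : F ≃+* F, σ ω = ω ∨ σ ω = ω + 1 := by
    intro σ
    have h1 : σ ω ∈ (Finset.univ : Finset F) := Finset.mem_univ _
    rw [huniv, Finset.mem_insert, Finset.mem_insert, Finset.mem_insert, Finset.mem_singleton] at h1
    rcases h1 with h1 | h1 | h1 | h1
    · exact absurd ((map_eq_zero_iff σ σ.injective).1 h1) hω0
    · exact absurd ((map_eq_one_iff σ σ.injective).1 h1) hω1
    · exact Or.inl h1
    · exact Or.inr h1
  let g : (F ≃+* F) → Bool := fun σ => decide (σ ω = ω)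
  have hg : Function.Injective g := by
    intro σ τ he
    have h1 : σ ω = τ ω := by
      by_cases h2 : σ ω = ω
      · have h3 : g τ = true := by rw [← he]; exact decide_eq_true h2
        rw [h2, of_decide_eq_true h3]
      · have h3 : ¬ τ ω = ω := by
          intro h4
          apply h2
          have h5 : g σ = true := by rw [he]; exact decide_eq_true h4
          exact of_decide_eq_true h5
        rcases key σ with h5 | h5
        · exact absurd h5 h2
        · rcases key τ with h6 | h6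
          · exact absurd h6 h3
          · rw [h5, h6]
    apply RingEquiv.ext
    intro x
    have h2 : x ∈ (Finset.univ : Finset F) := Finset.mem_univ _
    rw [huniv, Finset.mem_insert, Finset.mem_insert, Finset.mem_insert, Finset.mem_singleton] at h2
    rcases h2 with h2 | h2 | h2 | h2
    · rw [h2, map_zero, map_zero]
    · rw [h2, map_one, map_one]
    · rw [h2, h1]
    · rw [h2, map_add, map_add, h1, map_one, map_one]
  have h1 := Nat.card_le_card_of_injective g hg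
  have h2 : Nat.card Bool = 2 := by rw [Nat.card_eq_fintype_card]; rfl
  omega

namespace SemiL

variable [Finite Y] [Finite V] {R P Q : Subgroup Y} {W W₁ D : AddSubgroup V} {F : Type} [Field F] [Finite F]
  {f : V → F} (h : SemiL V R P Q W W₁ D F f)
include h

theorem f_zero : f 0 = 0 := (h.ker 0 (zero_mem _)).2 (zero_mem _)

theorem ff (x : F) : x + x = 0 := by
  obtain ⟨w, hw, rfl⟩ := h.surj x
  rw [← h.add w hw w hw, h.two, h.f_zero]

/-- a section -/
noncomputable def sec (a : F) : V := (h.surj a).choose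

theorem sec_mem (a : F) : h.sec a ∈ W₁ := (h.surj a).choose_spec.1

theorem f_sec (a : F) : f (h.sec a) = a := (h.surj a).choose_spec.2

/-- the action of `r` on the line -/
noncomputable def ph (r : Y) (a : F) : F := f (r • h.sec a)

theorem f_eq_of_add {v w : V} (hv : v ∈ W₁) (hw : w ∈ W₁) (h1 : v + w ∈ D) : f v = f w := by
  have h2 := (h.ker _ (add_mem hv hw)).2 h1
  rw [h.add v hv w hw] at h2
  have h3 : f v = - f w := eq_neg_of_add_eq_zero_left h2
  have h4 : - f w = f w := neg_eq_of_add_eq_zero_left (h.ff (f w))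
  rw [h3, h4]

theorem ph_eq {r : Y} (hr : r ∈ R) {w : V} (hw : w ∈ W₁) : f (r • w) = h.ph r (f w) := by
  apply h.f_eq_of_add (h.W₁_R r hr w hw) (h.W₁_R r hr _ (h.sec_mem _))
  rw [← smul_add]
  apply h.D_R r hr
  rw [← h.ker _ (add_mem hw (h.sec_mem _)), h.add w hw _ (h.sec_mem _), h.f_sec, h.ff]

theorem ph_add {r : Y} (hr : r ∈ R) (a b : F) : h.ph r (a + b) = h.ph r a + h.ph r b := by
  have h1 := h.ph_eq hr (add_mem (h.sec_mem a) (h.sec_mem b))
  rw [h.add _ (h.sec_mem a) _ (h.sec_mem b), h.f_sec, h.f_sec, smul_add,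
    h.add _ (h.W₁_R r hr _ (h.sec_mem a)) _ (h.W₁_R r hr _ (h.sec_mem b))] at h1
  exact h1.symm

theorem ph_zero {r : Y} (hr : r ∈ R) : h.ph r 0 = 0 := by
  have h1 := h.ph_add hr 0 0
  rw [add_zero] at h1
  exact left_eq_add.1 h1

theorem ph_mul {r s : Y} (hr : r ∈ R) (hs : s ∈ R) (a : F) : h.ph (r * s) a = h.ph r (h.ph s a) := by
  change f ((r * s) • h.sec a) = _
  rw [mul_smul, h.ph_eq hr (h.W₁_R s hs _ (h.sec_mem a))]
  rfl

theorem ph_one (a : F) : h.ph 1 a = a := by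
  change f ((1 : Y) • h.sec a) = a
  rw [one_smul, h.f_sec]

theorem ph_ne {r : Y} (hr : r ∈ R) {a : F} (ha : a ≠ 0) : h.ph r a ≠ 0 := by
  intro h1
  apply ha
  have h2 := h.ph_mul (R.inv_mem hr) hr a
  rw [inv_mul_cancel, h.ph_one, h1, h.ph_zero (R.inv_mem hr)] at h2
  exact h2

theorem ph_semi {r : Y} (hr : r ∈ R) (μ : F) : h.ph r μ * h.ph r 1 = h.ph r 1 * h.ph r μ ∧
    ∀ a, h.ph r (μ * a) = h.ph r μ * (h.ph r 1)⁻¹ * h.ph r a := by
  refine ⟨mul_comm _ _, fun a => ?_⟩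
  obtain ⟨τ, hτ⟩ := h.semi r hr μ
  have key : ∀ a, h.ph r (μ * a) = τ * h.ph r a := fun a =>
    hτ _ (h.sec_mem a) _ (h.sec_mem (μ * a)) (by rw [h.f_sec, h.f_sec])
  have h1 := key 1
  rw [mul_one] at h1
  have h2 := h.ph_ne hr one_ne_zero
  rw [key a, h1, mul_assoc τ, mul_inv_cancel₀ h2, mul_one]

/-- the field automorphism -/
noncomputable def sg (r : R) : F →+* F where
  toFun a := (h.ph r 1)⁻¹ * h.ph r a
  map_one' := inv_mul_cancel₀ (h.ph_ne r.2 one_ne_zero)
  map_zero' := by rw [h.ph_zero r.2, mul_zero]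
  map_add' a b := by rw [h.ph_add r.2, mul_add]
  map_mul' a b := by
    rw [(h.ph_semi r.2 a).2 b]
    ring

theorem ph_sg (r : R) (a : F) : h.ph r a = h.ph r 1 * h.sg r a := by
  change _ = h.ph r 1 * ((h.ph r 1)⁻¹ * h.ph r a)
  rw [← mul_assoc, mul_inv_cancel₀ (h.ph_ne r.2 one_ne_zero), one_mul]

theorem sg_mul (r s : R) (a : F) : h.sg (r * s) a = h.sg r (h.sg s a) := by
  have h1 := h.ph_mul r.2 s.2 a
  have h2 := h.ph_mul r.2 s.2 1
  change (h.ph ((r : Y) * (s : Y)) 1)⁻¹ * h.ph ((r : Y) * (s : Y)) a = _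
  have hr := h.ph_ne r.2 (one_ne_zero (α := F))
  have hs := h.ph_ne s.2 (one_ne_zero (α := F))
  rw [h1, h2, h.ph_sg s a, h.ph_sg r (h.ph s 1 * h.sg s a), h.ph_sg r (h.ph s 1), map_mul]
  have h3 : h.sg r (h.ph s 1) ≠ 0 := by
    rw [Ne, map_eq_zero]
    exact hs
  field_simp

theorem sg_bij (r : R) : Function.Bijective (h.sg r) :=
  (Finite.injective_iff_bijective).1 (h.sg r).injective

/-- `R → Aut(F)` -/
noncomputable def ch : R →* (F ≃+* F) where
  toFun r := RingEquiv.ofBijective (h.sg r) (h.sg_bij r)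
  map_one' := by
    apply RingEquiv.ext
    intro a
    change (h.ph (1 : Y) 1)⁻¹ * h.ph (1 : Y) a = a
    rw [h.ph_one, h.ph_one, inv_one, one_mul]
  map_mul' r s := by
    apply RingEquiv.ext
    intro a
    exact h.sg_mul r s a

theorem ch_apply (r : R) (a : F) : h.ch r a = h.sg r a := rfl

theorem ph_pow {r : R} (hr : h.ch r = 1) (n : ℕ) (a : F) : h.ph ((r : Y) ^ n) a = (h.ph r 1) ^ n * a := by
  induction n generalizing a with
  | zero => rw [pow_zero, pow_zero, h.ph_one, one_mul]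
  | succ n ih =>
    rw [pow_succ, h.ph_mul (pow_mem r.2 n) r.2, ih, h.ph_sg r a, ← h.ch_apply, hr, pow_succ]
    change h.ph r 1 ^ n * (h.ph r 1 * a) = _
    ring

theorem ker_ch {r : R} (hr : h.ch r = 1) : (r : Y) ∈ P := by
  obtain ⟨n, hn⟩ := h.R2 r
  have hn' : (r : Y) ^ 2 ^ n = 1 := by
    have := congrArg Subtype.val hn
    simpa only [_root_.SubmonoidClass.coe_pow, _root_.OneMemClass.coe_one] using this
  have h1 := h.ph_pow hr (2 ^ n) 1
  rw [hn', h.ph_one, mul_one] at h1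
  -- `κ = 1`
  have h2 : h.ph r 1 = 1 := by
    have hchar : CharP F 2 := by
      have h3 : (2 : F) = 0 := by
        have := h.ff (1 : F)
        rw [one_add_one_eq_two] at this
        exact this
      have : CharP F (ringChar F) := ringChar.charP F
      have h4 : ringChar F ∣ 2 := (ringChar.spec F 2).1 (by exact_mod_cast h3)
      have h5 : ringChar F ≠ 1 := by
        intro h6
        have h7 : ((1 : ℕ) : F) = 0 := (ringChar.spec F 1).2 (by rw [h6])
        rw [Nat.cast_one] at h7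
        exact one_ne_zero h7
      have h6 : ringChar F = 2 := by
        rcases (Nat.dvd_prime Nat.prime_two).1 h4 with h7 | h7
        · exact absurd h7 h5
        · exact h7
      rw [← h6]; exact this
    have : Fact (Nat.Prime 2) := ⟨Nat.prime_two⟩
    have h3 : (h.ph r 1 - 1) ^ 2 ^ n = 0 := by
      rw [sub_pow_char_pow, one_pow, ← h1, sub_self]
    have h4 := pow_eq_zero_iff (n := 2 ^ n) (by positivity) |>.1 h3
    exact sub_eq_zero.1 h4
  apply h.mem_P _ r.2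
  intro w hw
  rw [← h.ker _ (add_mem (h.W₁_R _ r.2 w hw) hw), h.add _ (h.W₁_R _ r.2 w hw) w hw, h.ph_eq r.2 hw,
    h.ph_sg r, ← h.ch_apply, hr, h2]
  change 1 * f w + f w = 0
  rw [one_mul, h.ff]

theorem ph_P {x : Y} (hx : x ∈ P) (a : F) : h.ph x a = a := by
  have h1 := h.P_fix x hx _ (h.sec_mem a)
  have h2 := h.f_eq_of_add (h.W₁_R x (h.PR hx) _ (h.sec_mem a)) (h.sec_mem a) h1
  change f (x • h.sec a) = a
  rw [h2, h.f_sec]

theorem ch_P {r : R} (hr : (r : Y) ∈ P) : h.ch r = 1 := by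
  apply RingEquiv.ext
  intro a
  change (h.ph r 1)⁻¹ * h.ph r a = a
  rw [h.ph_P hr, h.ph_P hr, inv_one, one_mul]

theorem ker_eq : h.ch.ker = P.subgroupOf R := by
  ext r
  rw [MonoidHom.mem_ker, mem_subgroupOf]
  exact ⟨fun h1 => h.ker_ch h1, fun h1 => h.ch_P h1⟩

/-- `|A| ≤ 2 |A ∩ P|` -/
theorem card_le_two {A : Subgroup Y} (hAR : A ≤ R) (hA : ElAb A) : Nat.card A ≤ 2 * Nat.card ↥(A ⊓ P) := by
  classical
  let ψ : A →* (F ≃+* F) := h.ch.comp (Subgroup.inclusion hAR)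
  have hcyc : IsCyclic (F ≃+* F) := Cfsg.Agent.LieRecognition.FieldSemilinear.isCyclic_ringAut F
  have : Finite (F ≃+* F) := Finite.of_injective (fun σ : F ≃+* F => (σ : F → F)) DFunLike.coe_injective
  have : Fintype (F ≃+* F) := Fintype.ofFinite _
  have h1 : Nat.card ψ.range ≤ 2 := by
    have h2 := IsCyclic.card_pow_eq_one_le (α := F ≃+* F) (n := 2) (by norm_num)
    refine le_trans ?_ h2
    rw [← Fintype.card_coe, ← Nat.card_eq_fintype_card]
    apply Nat.card_le_card_of_injective (fun σ : ψ.range =>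
      (⟨(σ : F ≃+* F), by
        rw [Finset.mem_filter]
        refine ⟨Finset.mem_univ _, ?_⟩
        obtain ⟨a, ha⟩ := σ.2
        rw [← ha, ← map_pow]
        have h3 : a ^ 2 = 1 := by
          apply Subtype.ext
          change (a : Y) ^ 2 = 1
          rw [pow_two]
          exact hA.2 a a.2
        rw [h3, map_one]⟩ : {x // x ∈ Finset.univ.filter (fun x : F ≃+* F => x ^ 2 = 1)}))
    intro σ τ he
    apply Subtype.ext
    exact congrArg (fun z : {x // x ∈ Finset.univ.filter (fun x : F ≃+* F => x ^ 2 = 1)} => (z : F ≃+* F)) he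
  have h2 := Subgroup.card_mul_index ψ.ker
  rw [Subgroup.index_ker] at h2
  have h3 : Nat.card ψ.ker = Nat.card ↥(A ⊓ P) := by
    apply Nat.card_congr
    exact
      { toFun := fun a => ⟨((a : A) : Y), (a : A).2, h.ker_ch (r := ⟨((a : A) : Y), hAR (a : A).2⟩) a.2⟩
        invFun := fun a => ⟨⟨(a : Y), a.2.1⟩, h.ch_P (r := ⟨(a : Y), hAR a.2.1⟩) a.2.2⟩
        left_inv := fun a => rfl
        right_inv := fun a => rfl }
  rw [h3] at h2
  rw [← h2, mul_comm]
  exact Nat.mul_le_mul_right _ h1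

/-- the fixed points of `a` on the line -/
theorem card_fix_sq {a : Y} (ha : a ∈ R) (haP : a ∉ P) :
    Nat.card {x : F // h.ph a x = x} * Nat.card {x : F // h.ph a x = x} ≤ Nat.card F ∧ 4 ≤ Nat.card F := by
  have h1 : h.ch ⟨a, ha⟩ ≠ 1 := fun h2 => haP (h.ker_ch (r := ⟨a, ha⟩) h2)
  have h2 := card_fixed_sq F (h.ch ⟨a, ha⟩) h1
  have h3 : Nat.card {x : F // h.ph a x = x} ≤ Nat.card {x : F // h.ch ⟨a, ha⟩ x = x} := by
    by_cases h4 : ∃ x₀ : F, x₀ ≠ 0 ∧ h.ph a x₀ = x₀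
    · obtain ⟨x₀, hx0, hx⟩ := h4
      have h5 : h.ph a x₀ = h.ph a 1 * h.ch ⟨a, ha⟩ x₀ := h.ph_sg ⟨a, ha⟩ x₀
      apply Nat.card_le_card_of_injective (fun y : {x : F // h.ph a x = x} =>
        (⟨(y : F) / x₀, by
          have h6 : h.ph a (y : F) = h.ph a 1 * h.ch ⟨a, ha⟩ (y : F) := h.ph_sg ⟨a, ha⟩ (y : F)
          rw [y.2] at h6
          rw [hx] at h5
          have h7 : h.ph a 1 ≠ 0 := h.ph_ne ha one_ne_zero
          have h8 : h.ch ⟨a, ha⟩ x₀ ≠ 0 := by
            intro h9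
            rw [h9, mul_zero] at h5
            exact hx0 h5
          rw [map_div₀]
          conv_rhs => rw [h6, h5]
          rw [mul_div_mul_left _ _ h7]⟩ : {x : F // h.ch ⟨a, ha⟩ x = x}))
      rintro ⟨y, hy⟩ ⟨z, hz⟩ he
      have h9 : y / x₀ = z / x₀ := congrArg Subtype.val he
      apply Subtype.ext
      exact (div_left_inj' hx0).1 h9
    · push Not at h4
      have h5 : Nat.card {x : F // h.ph a x = x} ≤ 1 := by
        rw [Finite.card_le_one_iff_subsingleton]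
        refine ⟨?_⟩
        rintro ⟨y, hy⟩ ⟨z, hz⟩
        have hy0 : y = 0 := by
          by_contra hne
          exact h4 y hne hy
        have hz0 : z = 0 := by
          by_contra hne
          exact h4 z hne hz
        apply Subtype.ext
        change y = z
        rw [hy0, hz0]
      have h6 : 0 < Nat.card {x : F // h.ch ⟨a, ha⟩ x = x} := by
        have : Nonempty {x : F // h.ch ⟨a, ha⟩ x = x} := ⟨⟨0, map_zero _⟩⟩
        exact Nat.card_pos
      omega
  have h4 : 2 ≤ Nat.card {x : F // h.ch ⟨a, ha⟩ x = x} := by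
    have h5 : Nat.card Bool ≤ Nat.card {x : F // h.ch ⟨a, ha⟩ x = x} := by
      apply Nat.card_le_card_of_injective (fun b : Bool =>
        if b then (⟨1, map_one _⟩ : {x : F // h.ch ⟨a, ha⟩ x = x}) else ⟨0, map_zero _⟩)
      intro b b' he
      cases b <;> cases b'
      · rfl
      · exfalso
        have h6 : (0 : F) = 1 := congrArg Subtype.val he
        exact zero_ne_one h6
      · exfalso
        have h6 : (1 : F) = 0 := congrArg Subtype.val he
        exact one_ne_zero h6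
      · rfl
    have h6 : Nat.card Bool = 2 := by rw [Nat.card_eq_fintype_card]; rfl
    omega
  constructor
  · exact (Nat.mul_le_mul h3 h3).trans h2
  · nlinarith

/-- `|W||D| ≤ |{w ∈ W : [w, a] ∈ D}|²` -/
theorem card_Kr {a : Y} (ha : a ∈ R) (haa : a * a = 1) :
    Nat.card W * Nat.card D ≤ Nat.card ↥(D.comap (bk a) ⊓ W) * Nat.card ↥(D.comap (bk a) ⊓ W) := by
  let θ : W →+ V := (bk a).comp W.subtype
  have h1 := AddSubgroup.card_mul_index (D.comap θ)
  rw [AddSubgroup.index_comap] at h1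
  have h2 : Nat.card ↥(D.comap θ) = Nat.card ↥(D.comap (bk a) ⊓ W) := by
    apply Nat.card_congr
    exact
      { toFun := fun w => ⟨((w : W) : V), w.2, (w : W).2⟩
        invFun := fun w => ⟨⟨(w : V), w.2.2⟩, w.2.1⟩
        left_inv := fun w => rfl
        right_inv := fun w => rfl }
  rw [h2] at h1
  -- `I₁ ⊔ D ≤ Kr`
  have h3 : θ.range ⊔ D ≤ D.comap (bk a) ⊓ W := by
    refine sup_le ?_ ?_
    · rintro _ ⟨w, rfl⟩
      change bk a (w : V) ∈ D.comap (bk a) ⊓ W
      refine ⟨?_, ?_⟩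
      · change a • (a • (w : V) + (w : V)) + (a • (w : V) + (w : V)) ∈ D
        rw [smul_add, ← mul_smul, haa, one_smul]
        have e : (w : V) + a • (w : V) + (a • (w : V) + (w : V)) = (w : V) + (w : V) + (a • (w : V) + a • (w : V)) := by
          abel
        rw [e, h.two, h.two, add_zero]
        exact zero_mem _
      · exact add_mem (h.W_R a ha w w.2) w.2
    · intro d hd
      exact ⟨add_mem (h.D_R a ha d hd) hd, h.W₁W (h.DW hd)⟩
  have h4 := Nat.card_le_card_of_injective _ (AddSubgroup.inclusion_injective h3)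
  have h5 := card_sup_as θ.range D
  have h6 := AddSubgroup.relIndex_mul_relIndex ⊥ (D ⊓ θ.range) θ.range bot_le inf_le_right
  rw [AddSubgroup.relIndex_bot_left, AddSubgroup.relIndex_bot_left, AddSubgroup.inf_relIndex_right] at h6
  rw [inf_comm] at h5
  have h7 : 0 < Nat.card ↥(D ⊓ θ.range) := Nat.card_pos
  have h8 : Nat.card ↥(θ.range ⊔ D) = D.relIndex θ.range * Nat.card D := by
    apply Nat.eq_of_mul_eq_mul_right h7
    rw [h5, ← h6]; ring
  rw [← h1, mul_assoc]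
  apply Nat.mul_le_mul_left
  rw [← h8]
  exact h4

theorem card_Kr_W₁ {a : Y} (ha : a ∈ R) :
    Nat.card ↥(D.comap (bk a) ⊓ W₁) ≤ Nat.card {x : F // h.ph a x = x} * Nat.card D := by
  let θ : ↥(D.comap (bk a) ⊓ W₁) →+ F :=
    { toFun := fun w => f (w : V)
      map_zero' := h.f_zero
      map_add' := fun v w => h.add _ v.2.2 _ w.2.2 }
  have h1 := AddSubgroup.card_mul_index θ.ker
  rw [AddSubgroup.index_ker] at h1
  rw [← h1, mul_comm]
  apply Nat.mul_le_mul
  · apply Nat.card_le_card_of_injective (fun x : θ.range => (⟨(x : F), by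
      obtain ⟨w, hw⟩ := x.2
      rw [← hw]
      change h.ph a (f (w : V)) = f (w : V)
      rw [← h.ph_eq ha w.2.2]
      exact h.f_eq_of_add (h.W₁_R a ha _ w.2.2) w.2.2 w.2.1⟩ : {x : F // h.ph a x = x}))
    intro x y he
    apply Subtype.ext
    exact congrArg (fun z : {x : F // h.ph a x = x} => (z : F)) he
  · apply Nat.card_le_card_of_injective (fun x : θ.ker => (⟨((x : ↥(D.comap (bk a) ⊓ W₁)) : V), by
      rw [← h.ker _ (x : ↥(D.comap (bk a) ⊓ W₁)).2.2]
      exact x.2⟩ : D))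
    intro x y he
    apply Subtype.ext
    apply Subtype.ext
    exact congrArg (fun z : D => (z : V)) he

theorem exists_Kr {a : Y} (ha : a ∈ R) (haa : a * a = 1) (haP : a ∉ P) :
    ∃ x ∈ W, x ∉ W₁ ∧ a • x + x ∈ D := by
  by_contra hcon
  push Not at hcon
  have h1 : D.comap (bk a) ⊓ W ≤ D.comap (bk a) ⊓ W₁ := by
    rintro w ⟨hw1, hw2⟩
    refine ⟨hw1, ?_⟩
    by_contra h2
    exact hcon w hw2 h2 hw1
  have h2 := Nat.card_le_card_of_injective _ (AddSubgroup.inclusion_injective h1)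
  have h3 := h.card_Kr ha haa
  have h4 := h.card_Kr_W₁ ha
  obtain ⟨h5, h6⟩ := h.card_fix_sq ha haP
  have hD : 0 < Nat.card D := Nat.card_pos
  set n := Nat.card {x : F // h.ph a x = x} with hn
  set d := Nat.card D with hd
  set q := Nat.card F with hq
  rw [h.card_W, h.card_W₁] at h3
  have h7 : q * (q * d) * d ≤ n * d * (n * d) :=
    h3.trans (Nat.mul_le_mul (h2.trans h4) (h2.trans h4))
  have h8 : q * q * (d * d) ≤ q * (d * d) := by
    calc q * q * (d * d) = q * (q * d) * d := by ring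
      _ ≤ n * d * (n * d) := h7
      _ = n * n * (d * d) := by ring
      _ ≤ q * (d * d) := Nat.mul_le_mul_right _ h5
  have h9 : q * q ≤ q := Nat.le_of_mul_le_mul_right h8 (Nat.mul_pos hD hD)
  nlinarith only [h6, h9]

/-- `|A ∩ P| ≤ n |A ∩ Q|` -/
theorem card_inf_P {A : Subgroup Y} (hAR : A ≤ R) (hA : ElAb A) {a : Y} (ha : a ∈ A) (haP : a ∉ P) :
    Nat.card ↥(A ⊓ P) ≤ Nat.card {x : F // h.ph a x = x} * Nat.card ↥(A ⊓ Q) := by
  obtain ⟨x, hx, hx1, hxa⟩ := h.exists_Kr (hAR ha) (hA.2 a ha) haP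
  let θ : ↥(A ⊓ P) →* Multiplicative F :=
    { toFun := fun p => Multiplicative.ofAdd (f ((p : Y) • x + x))
      map_one' := by
        change Multiplicative.ofAdd (f ((1 : Y) • x + x)) = 1
        rw [one_smul, h.two, h.f_zero]
        rfl
      map_mul' := fun p p' => by
        change Multiplicative.ofAdd (f (((p : Y) * (p' : Y)) • x + x)) = _
        rw [← ofAdd_add]
        congr 1
        have hp := h.P_comm _ p.2.2 x hx
        have hp' := h.P_comm _ p'.2.2 x hx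
        rw [← h.add _ hp _ hp']
        apply h.f_eq_of_add (h.P_comm _ (mul_mem p.2.2 p'.2.2) x hx) (add_mem hp hp')
        have e : ((p : Y) * (p' : Y)) • x + x + ((p : Y) • x + x + ((p' : Y) • x + x)) =
            (p : Y) • ((p' : Y) • x + x) + ((p' : Y) • x + x) := by
          rw [smul_add, ← mul_smul]
          have : ((p : Y) * (p' : Y)) • x + x + ((p : Y) • x + x + ((p' : Y) • x + x)) =
            ((p : Y) * (p' : Y)) • x + (p : Y) • x + ((p' : Y) • x + x) + (x + x) := by abel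
          rw [this, h.two, add_zero]
        rw [e]
        exact h.P_fix _ p.2.2 _ hp' }
  have h1 := Subgroup.card_mul_index θ.ker
  rw [Subgroup.index_ker] at h1
  rw [← h1, mul_comm]
  apply Nat.mul_le_mul
  · apply Nat.card_le_card_of_injective (fun z : θ.range => (⟨Multiplicative.toAdd (z : Multiplicative F), by
      obtain ⟨p, hp⟩ := z.2
      rw [← hp]
      change h.ph a (f ((p : Y) • x + x)) = f ((p : Y) • x + x)
      have hp' := h.P_comm _ p.2.2 x hx
      rw [← h.ph_eq (hAR ha) hp']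
      apply h.f_eq_of_add (h.W₁_R a (hAR ha) _ hp') hp'
      have e : a • ((p : Y) • x + x) + ((p : Y) • x + x) = (p : Y) • (a • x + x) + (a • x + x) := by
        rw [smul_add, smul_add, ← mul_smul, ← mul_smul, hA.1 a ha p p.2.1]
        abel
      rw [e]
      exact add_mem (h.D_R _ (hAR p.2.1) _ hxa) hxa⟩ : {x : F // h.ph a x = x}))
    intro z z' he
    apply Subtype.ext
    exact Multiplicative.toAdd.injective (congrArg (fun z : {x : F // h.ph a x = x} => (z : F)) he)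
  · apply Nat.card_le_card_of_injective (fun z : θ.ker => (⟨((z : ↥(A ⊓ P)) : Y), (z : ↥(A ⊓ P)).2.1, by
      apply h.free _ (z : ↥(A ⊓ P)).2.2 x hx hx1
      rw [← h.ker _ (h.P_comm _ (z : ↥(A ⊓ P)).2.2 x hx)]
      have h2 : θ (z : ↥(A ⊓ P)) = 1 := z.2
      exact Multiplicative.ofAdd.injective h2⟩ : ↥(A ⊓ Q)))
    intro z z' he
    apply Subtype.ext
    apply Subtype.ext
    exact congrArg (fun w : ↥(A ⊓ Q) => (w : Y)) he

theorem card_P_le {A : Subgroup Y} (hAP : A ≤ P) : Nat.card A ≤ Nat.card F * Nat.card ↥(A ⊓ Q) :=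
  card_le_of_index h.QP hAP h.card_P

theorem sq_le {A : Subgroup Y} (hAR : A ≤ R) (hA : ElAb A) (hAP : ¬ A ≤ P) :
    Nat.card A * Nat.card A ≤ 4 * Nat.card F * (Nat.card ↥(A ⊓ Q) * Nat.card ↥(A ⊓ Q)) ∧ 4 ≤ Nat.card F := by
  obtain ⟨a, ha, haP⟩ := SetLike.not_le_iff_exists.1 hAP
  have h1 := h.card_le_two hAR hA
  have h2 := h.card_inf_P hAR hA ha haP
  obtain ⟨h3, h4⟩ := h.card_fix_sq (hAR ha) haP
  refine ⟨?_, h4⟩
  set n := Nat.card {x : F // h.ph a x = x} with hn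
  have h5 : Nat.card A ≤ 2 * (n * Nat.card ↥(A ⊓ Q)) := h1.trans (Nat.mul_le_mul_left _ h2)
  calc Nat.card A * Nat.card A ≤ 2 * (n * Nat.card ↥(A ⊓ Q)) * (2 * (n * Nat.card ↥(A ⊓ Q))) := Nat.mul_le_mul h5 h5
    _ = 4 * (n * n) * (Nat.card ↥(A ⊓ Q) * Nat.card ↥(A ⊓ Q)) := by ring
    _ ≤ 4 * Nat.card F * (Nat.card ↥(A ⊓ Q) * Nat.card ↥(A ⊓ Q)) :=
      Nat.mul_le_mul_right _ (Nat.mul_le_mul_left _ h3)

/-- **`|A| ≤ c |A ∩ Q|`** -/
theorem ea {A : Subgroup Y} (hAR : A ≤ R) (hA : ElAb A) : Nat.card A ≤ Nat.card F * Nat.card ↥(A ⊓ Q) := by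
  by_cases hAP : A ≤ P
  · exact h.card_P_le hAP
  · obtain ⟨h1, h2⟩ := h.sq_le hAR hA hAP
    apply Nat.mul_self_le_mul_self_iff.1
    calc Nat.card A * Nat.card A ≤ 4 * Nat.card F * (Nat.card ↥(A ⊓ Q) * Nat.card ↥(A ⊓ Q)) := h1
      _ ≤ Nat.card F * Nat.card F * (Nat.card ↥(A ⊓ Q) * Nat.card ↥(A ⊓ Q)) :=
        Nat.mul_le_mul_right _ (Nat.mul_le_mul_right _ h2)
      _ = _ := by ring

/-- the exceptional case -/
theorem fld {A : Subgroup Y} (hAR : A ≤ R) (hA : ElAb A) (hAP : ¬ A ≤ P)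
    (hc : Nat.card A = Nat.card F * Nat.card ↥(A ⊓ Q)) :
    Nat.card F = 4 ∧ ¬ A ⊓ P ≤ Q ∧ Nat.card R ≤ 2 * Nat.card P := by
  obtain ⟨h1, h2⟩ := h.sq_le hAR hA hAP
  have hm : 0 < Nat.card ↥(A ⊓ Q) := Nat.card_pos
  have h3 : Nat.card F = 4 := by
    apply le_antisymm _ h2
    rw [hc] at h1
    have h4 : Nat.card F * Nat.card F * (Nat.card ↥(A ⊓ Q) * Nat.card ↥(A ⊓ Q)) ≤
        4 * Nat.card F * (Nat.card ↥(A ⊓ Q) * Nat.card ↥(A ⊓ Q)) := by
      calc _ = Nat.card F * Nat.card ↥(A ⊓ Q) * (Nat.card F * Nat.card ↥(A ⊓ Q)) := by ring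
        _ ≤ _ := h1
    have h5 := Nat.le_of_mul_le_mul_right h4 (Nat.mul_pos hm hm)
    exact Nat.le_of_mul_le_mul_right h5 (by omega)
  refine ⟨h3, fun h4 => ?_, ?_⟩
  · have h5 : A ⊓ P ≤ A ⊓ Q := le_inf inf_le_left h4
    have h6 := Nat.card_le_card_of_injective _ (Subgroup.inclusion_injective h5)
    have h7 := h.card_le_two hAR hA
    rw [hc, h3] at h7
    omega
  · have h4 := Subgroup.card_mul_index h.ch.ker
    rw [Subgroup.index_ker, h.ker_eq] at h4
    have h5 : Nat.card ↥(P.subgroupOf R) = Nat.card P := Nat.card_congr (subgroupOfEquivOfLe h.PR).toEquiv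
    rw [h5] at h4
    rw [← h4, mul_comm]
    apply Nat.mul_le_mul_right
    have : Finite (F ≃+* F) := Finite.of_injective (fun σ : F ≃+* F => (σ : F → F)) DFunLike.coe_injective
    exact (Nat.card_le_card_of_injective _ Subtype.val_injective).trans (card_aut_four F h3)

end SemiL

end Cfsg.Agent.Omega.NO1.TH

end

section


/-!
# N1, the amalgam: `KOne` from `KNat` with `k = 1` (field automorphisms allowed)
-/

set_option autoImplicit false
set_option linter.unusedSectionVars false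
set_option linter.unusedVariables false

namespace Cfsg.Agent.Omega.NO1.TH

open Subgroup Cfsg.Agent.Omega.NO1.AB Cfsg.Agent.Lib.SL2Mat
open Cfsg.Agent.Omega.NatPair (ap)
open Cfsg.Agent.Omega.NO1.TH.K (Acts KNat)
open scoped Pointwise

universe u

variable {Y : Type u} [Group Y] {V : Type u} [AddCommGroup V] [DistribMulAction Y V]

/-- The situation. -/
structure Nt (V : Type u) [AddCommGroup V] [DistribMulAction Y V] (U : Set (Subgroup Y)) (T : Sylow 2 Y)
    (M H R P : Subgroup Y) (F : Type) [Field F] (co : V → Fin 1 → Fin 2 → F) (t : Y) (D W₁ : AddSubgroup V) :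
    Prop where
  amb : Amb V U T M
  a : Amal U T M H R t
  we : WE V U H R
  K : KNat V H R F 1 co
  mem_D : ∀ w, w ∈ D ↔ w ∈ WW V H R ∧ co w = 0
  mem_W₁ : ∀ w, w ∈ W₁ ↔ w ∈ WW V H R ∧ co w 0 1 = 0
  mem_P : ∀ x, x ∈ P ↔ x ∈ R ∧ ∀ w ∈ W₁, x • w + w ∈ D

theorem exists_Nt {U : Set (Subgroup Y)} {T : Sylow 2 Y} {M H R : Subgroup Y} {F : Type} [Field F]
    {co : V → Fin 1 → Fin 2 → F} {t : Y} (amb : Amb V U T M) (a : Amal U T M H R t) (we : WE V U H R)
    (K : KNat V H R F 1 co) : ∃ (P : Subgroup Y) (D W₁ : AddSubgroup V), Nt V U T M H R P F co t D W₁ := by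
  have h0 : co 0 = 0 := by
    have h1 := K.add 0 (zero_mem _) 0 (zero_mem _)
    rw [add_zero] at h1
    exact left_eq_add.1 h1
  have hneg : ∀ v : V, -v = v := fun v => neg_eq_of_add_eq_zero_left (amb.two v)
  let D : AddSubgroup V :=
    { carrier := {w | w ∈ WW V H R ∧ co w = 0}
      zero_mem' := ⟨zero_mem _, h0⟩
      add_mem' := fun {v w} hv hw => ⟨add_mem hv.1 hw.1, by rw [K.add v hv.1 w hw.1, hv.2, hw.2, add_zero]⟩
      neg_mem' := fun {v} hv => by
        change -v ∈ WW V H R ∧ co (-v) = 0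
        rw [hneg]; exact hv }
  let W₁ : AddSubgroup V :=
    { carrier := {w | w ∈ WW V H R ∧ co w 0 1 = 0}
      zero_mem' := ⟨zero_mem _, by rw [h0]; rfl⟩
      add_mem' := fun {v w} hv hw => ⟨add_mem hv.1 hw.1, by
        rw [K.add v hv.1 w hw.1, Pi.add_apply, Pi.add_apply, hv.2, hw.2, add_zero]⟩
      neg_mem' := fun {v} hv => by
        change -v ∈ WW V H R ∧ co (-v) 0 1 = 0
        rw [hneg]; exact hv }
  have hD : ∀ x ∈ H, ∀ w ∈ D, x • w ∈ D := by
    rintro x hx w ⟨hw, hw0⟩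
    refine ⟨smul_mem_WW hx hw, ?_⟩
    obtain ⟨σ, hσ⟩ := K.perm x hx
    funext i
    have h1 := (hσ w hw 0).2 (by rw [hw0]; rfl)
    rw [Subsingleton.elim i (σ 0)]
    exact h1
  have hW : ∀ x ∈ R, ∀ w ∈ W₁, x • w ∈ W₁ := by
    rintro x hx w ⟨hw, hw0⟩
    refine ⟨smul_mem_WW (a.RH hx) hw, ?_⟩
    obtain ⟨σ, hσ⟩ := K.line x hx
    have h1 := (hσ w hw 0).2 hw0
    rw [Subsingleton.elim (σ 0) 0] at h1
    exact h1
  let P : Subgroup Y :=
    { carrier := {x | x ∈ R ∧ ∀ w ∈ W₁, x • w + w ∈ D}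
      one_mem' := ⟨R.one_mem, fun w _ => by rw [one_smul, amb.two]; exact zero_mem _⟩
      mul_mem' := fun {x y} hx hy => ⟨R.mul_mem hx.1 hy.1, fun w hw => by
        have e : (x * y) • w + w = (x • (y • w) + y • w) + (y • w + w) := by
          rw [mul_smul]
          have : x • y • w + y • w + (y • w + w) = x • y • w + (y • w + y • w) + w := by abel
          rw [this, amb.two, add_zero]
        rw [e]
        exact add_mem (hx.2 _ (hW y hy.1 w hw)) (hy.2 w hw)⟩
      inv_mem' := fun {x} hx => ⟨R.inv_mem hx.1, fun w hw => by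
        have e : x⁻¹ • w + w = x⁻¹ • (x • w + w) := by
          rw [smul_add, inv_smul_smul, add_comm]
        rw [e]
        exact hD _ (H.inv_mem (a.RH hx.1)) _ (hx.2 w hw)⟩ }
  exact ⟨P, D, W₁, amb, a, we, K, fun _ => Iff.rfl, fun _ => Iff.rfl, fun _ => Iff.rfl⟩

namespace Nt

variable [Finite Y] [Finite V] {U : Set (Subgroup Y)} {T : Sylow 2 Y} {M H R P : Subgroup Y} {F : Type} [Field F]
  [Finite F] {co : V → Fin 1 → Fin 2 → F} {t : Y} {D W₁ : AddSubgroup V}
  (n : Nt V U T M H R P F co t D W₁)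
include n

theorem co_zero : co 0 = 0 := by
  have h1 := n.K.add 0 (zero_mem _) 0 (zero_mem _)
  rw [add_zero] at h1
  exact left_eq_add.1 h1

theorem ff (x : F) : x + x = 0 := by
  obtain ⟨v, hv, h1⟩ := n.K.surj (fun _ _ => x)
  have h2 := n.K.add v hv v hv
  rw [n.amb.two, n.co_zero, h1] at h2
  exact (congrFun (congrFun h2 0) 0).symm

theorem co_add_eq {v w : V} (hv : v ∈ WW V H R) (hw : w ∈ WW V H R) : co (v + w) = 0 ↔ co v = co w := by
  rw [n.K.add v hv w hw]
  constructor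
  · intro h
    funext i j
    have h1 : co v i j + co w i j = 0 := congrFun (congrFun h i) j
    have h2 := eq_neg_of_add_eq_zero_left h1
    rw [h2]
    exact neg_eq_of_add_eq_zero_left (n.ff _)
  · intro h
    rw [h]
    funext i j
    exact n.ff _

theorem add_mem_D {v w : V} (hv : v ∈ WW V H R) (hw : w ∈ WW V H R) : v + w ∈ D ↔ co v = co w := by
  rw [n.mem_D, n.co_add_eq hv hw]
  exact ⟨fun h => h.2, fun h => ⟨add_mem hv hw, h⟩⟩

omit [Finite Y] [Finite V] [Finite F] n in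
theorem co_ext {x y : Fin 1 → Fin 2 → F} (h0 : x 0 0 = y 0 0) (h1 : x 0 1 = y 0 1) : x = y := by
  funext i j
  have hi : i = 0 := Subsingleton.elim _ _
  subst hi
  fin_cases j
  · exact h0
  · exact h1

theorem D_H {x : Y} (hx : x ∈ H) {w : V} (hw : w ∈ D) : x • w ∈ D := by
  rw [n.mem_D] at hw ⊢
  refine ⟨smul_mem_WW hx hw.1, ?_⟩
  obtain ⟨σ, hσ⟩ := n.K.perm x hx
  funext i
  have h1 := (hσ w hw.1 0).2 (by rw [hw.2]; rfl)
  rw [Subsingleton.elim i (σ 0)]
  exact h1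

theorem W₁_R {x : Y} (hx : x ∈ R) {w : V} (hw : w ∈ W₁) : x • w ∈ W₁ := by
  rw [n.mem_W₁] at hw ⊢
  refine ⟨smul_mem_WW (n.a.RH hx) hw.1, ?_⟩
  obtain ⟨σ, hσ⟩ := n.K.line x hx
  have h1 := (hσ w hw.1 0).2 hw.2
  rwa [Subsingleton.elim (σ 0) 0] at h1

theorem DW : D ≤ W₁ := fun w hw => by
  rw [n.mem_D] at hw
  rw [n.mem_W₁, hw.2]
  exact ⟨hw.1, rfl⟩

theorem W₁W : W₁ ≤ WW V H R := fun w hw => ((n.mem_W₁ w).1 hw).1

theorem mem_D_iff {w : V} (hw : w ∈ W₁) : w ∈ D ↔ co w 0 0 = 0 := by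
  rw [n.mem_W₁] at hw
  rw [n.mem_D]
  constructor
  · intro h; rw [h.2]; rfl
  · intro h; exact ⟨hw.1, co_ext h hw.2⟩

/-- a vector with given coordinates -/
theorem exists_co (x y : F) : ∃ v ∈ WW V H R, co v 0 0 = x ∧ co v 0 1 = y := by
  obtain ⟨v, hv, h1⟩ := n.K.surj (fun _ => ![x, y])
  exact ⟨v, hv, by rw [h1]; rfl, by rw [h1]; rfl⟩

/-- elements trivial in the coordinates are in `Q` -/
theorem mem_Q {x : Y} (hx : x ∈ R) (h1 : ∀ w ∈ WW V H R, co (x • w) = co w) : x ∈ QQ H R :=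
  n.K.triv x hx fun w hw => (n.co_add_eq (smul_mem_WW (n.a.RH hx) hw) hw).2 (h1 w hw)

end Nt

/-- `x` acts as `up b` on the coordinates -/
def CUp (V : Type u) [AddCommGroup V] [DistribMulAction Y V] (H R : Subgroup Y) {F : Type} [Field F]
    (co : V → Fin 1 → Fin 2 → F) (x : Y) (b : F) : Prop :=
  ∀ w ∈ WW V H R, co (x • w) 0 0 = co w 0 0 + b * co w 0 1 ∧ co (x • w) 0 1 = co w 0 1

theorem CUp.of_acts {H R : Subgroup Y} {F : Type} [Field F] {co : V → Fin 1 → Fin 2 → F} {x : Y} {b : F}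
    (h : Acts V H R co x fun _ => up b) : CUp V H R co x b := by
  intro w hw
  have h1 := h.1 w hw 0
  rw [h1]
  constructor
  · rw [NatPair.ap_zero', up_00, up_01, one_mul]
  · rw [NatPair.ap_one', up_10, up_11, zero_mul, zero_add, one_mul]

namespace Nt

variable [Finite Y] [Finite V] {U : Set (Subgroup Y)} {T : Sylow 2 Y} {M H R P : Subgroup Y} {F : Type} [Field F]
  [Finite F] {co : V → Fin 1 → Fin 2 → F} {t : Y} {D W₁ : AddSubgroup V}
  (n : Nt V U T M H R P F co t D W₁)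
include n

theorem up_Q {x : Y} (hx : x ∈ R) (h1 : CUp V H R co x 0) : x ∈ QQ H R := by
  apply n.mem_Q hx
  intro w hw
  obtain ⟨h2, h3⟩ := h1 w hw
  rw [zero_mul, add_zero] at h2
  exact co_ext h2 h3

theorem up_P {x : Y} (hx : x ∈ R) {b : F} (h1 : CUp V H R co x b) : x ∈ P := by
  rw [n.mem_P]
  refine ⟨hx, fun w hw => ?_⟩
  rw [n.mem_W₁] at hw
  rw [n.add_mem_D (smul_mem_WW (n.a.RH hx) hw.1) hw.1]
  obtain ⟨h2, h3⟩ := h1 w hw.1
  rw [hw.2, mul_zero, add_zero] at h2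
  exact co_ext h2 h3

theorem up_mul {x y : Y} (hx : x ∈ H) (hy : y ∈ H) {b c : F} (h1 : CUp V H R co x b) (h2 : CUp V H R co y c) :
    CUp V H R co (x * y) (b + c) := by
  intro w hw
  obtain ⟨h3, h4⟩ := h2 w hw
  obtain ⟨h5, h6⟩ := h1 (y • w) (smul_mem_WW hy hw)
  rw [mul_smul, h5, h6, h3, h4]
  exact ⟨by ring, rfl⟩

theorem up_inv {x : Y} (hx : x ∈ H) {b : F} (h1 : CUp V H R co x b) : CUp V H R co x⁻¹ b := by
  intro w hw
  obtain ⟨h3, h4⟩ := h1 (x⁻¹ • w) (smul_mem_WW (H.inv_mem hx) hw)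
  rw [smul_inv_smul] at h3 h4
  refine ⟨?_, h4.symm⟩
  rw [h3, h4, add_assoc, n.ff, add_zero]

/-- offenders act as the full root group -/
theorem off1 {A : Subgroup Y} (hAR : A ≤ R) (hA : ElAb A) (hAQ : ¬ A ≤ QQ H R)
    (hle : Nat.card ↥(A ⊓ QQ H R) * Nat.card ↥(WW V H R) ≤ Nat.card A * Nat.card ↥(fx V A ⊓ WW V H R)) :
    (∀ x ∈ A, ∃ b, CUp V H R co x b) ∧ ∀ b, ∃ x ∈ A, CUp V H R co x b := by
  obtain ⟨I, h1, h2⟩ := n.K.off A hAR hA hAQ hle
  have h0 : (0 : Fin 1) ∈ I := by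
    by_contra h3
    apply hAQ
    intro x hx
    obtain ⟨b, hb, hbx⟩ := h1 x hx
    have hb0 : b 0 = 0 := hb 0 h3
    have e : (fun i => up (b i)) = fun _ : Fin 1 => up (0 : F) := by
      funext i
      rw [Subsingleton.elim i 0, hb0]
    rw [e] at hbx
    exact n.up_Q (hAR hx) (CUp.of_acts hbx)
  refine ⟨fun x hx => ?_, fun b => ?_⟩
  · obtain ⟨b, hb, hbx⟩ := h1 x hx
    have e : (fun i => up (b i)) = fun _ : Fin 1 => up (b 0) := by
      funext i
      rw [Subsingleton.elim i 0]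
    rw [e] at hbx
    exact ⟨b 0, CUp.of_acts hbx⟩
  · obtain ⟨x, hx, hbx⟩ := h2 (fun _ => b) (fun i hi => absurd (by rwa [Subsingleton.elim i 0]) hi)
    exact ⟨x, hx, CUp.of_acts hbx⟩

theorem card_up {A : Subgroup Y} (hAR : A ≤ R) (h1 : ∀ x ∈ A, ∃ b, CUp V H R co x b)
    (h2 : ∀ b, ∃ x ∈ A, CUp V H R co x b) : Nat.card A = Nat.card F * Nat.card ↥(A ⊓ QQ H R) := by
  obtain ⟨v, hv, hv0, hv1⟩ := n.exists_co 0 1
  have key : ∀ {x : Y} {b : F}, CUp V H R co x b → co (x • v) 0 0 = b := by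
    intro x b hx
    rw [(hx v hv).1, hv0, hv1, zero_add, mul_one]
  let θ : A →* Multiplicative F :=
    { toFun := fun x => Multiplicative.ofAdd (co ((x : Y) • v) 0 0)
      map_one' := by
        change Multiplicative.ofAdd (co ((1 : Y) • v) 0 0) = 1
        rw [one_smul, hv0]; rfl
      map_mul' := fun x y => by
        change Multiplicative.ofAdd (co (((x : Y) * (y : Y)) • v) 0 0) = _
        obtain ⟨b, hb⟩ := h1 x x.2
        obtain ⟨c, hc⟩ := h1 y y.2
        rw [← ofAdd_add, key hb, key hc,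
          key (n.up_mul (n.a.RH (hAR x.2)) (n.a.RH (hAR y.2)) hb hc)] }
  have hs : Function.Surjective θ := by
    intro b
    obtain ⟨x, hx, hb⟩ := h2 (Multiplicative.toAdd b)
    refine ⟨⟨x, hx⟩, ?_⟩
    change Multiplicative.ofAdd (co (x • v) 0 0) = b
    rw [key hb]
    rfl
  have h3 := Subgroup.card_mul_index θ.ker
  rw [Subgroup.index_ker, MonoidHom.range_eq_top.2 hs, Subgroup.card_top] at h3
  have h4 : Nat.card θ.ker = Nat.card ↥(A ⊓ QQ H R) := by
    apply Nat.card_congr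
    exact
      { toFun := fun x => ⟨((x : A) : Y), (x : A).2, by
          obtain ⟨b, hb⟩ := h1 _ (x : A).2
          have h5 : Multiplicative.ofAdd (co (((x : A) : Y) • v) 0 0) = 1 := x.2
          have h6 : b = 0 := by
            rw [key hb] at h5
            exact Multiplicative.ofAdd.injective h5
          rw [h6] at hb
          exact n.up_Q (hAR (x : A).2) hb⟩
        invFun := fun x => ⟨⟨(x : Y), x.2.1⟩, by
          change Multiplicative.ofAdd (co ((x : Y) • v) 0 0) = 1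
          rw [Amal.QQ_fix n.a n.amb x.2.2 hv, hv0]; rfl⟩
        left_inv := fun x => rfl
        right_inv := fun x => rfl }
  rw [← h3, h4, mul_comm]
  rfl

theorem card_W : Nat.card ↥(WW V H R) = Nat.card F * Nat.card W₁ := by
  let θ : WW V H R →+ F :=
    { toFun := fun w => co (w : V) 0 1
      map_zero' := by
        change co (0 : V) 0 1 = 0
        rw [n.co_zero]; rfl
      map_add' := fun v w => by
        change co ((v : V) + (w : V)) 0 1 = _
        rw [n.K.add _ v.2 _ w.2]; rfl }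
  have hs : Function.Surjective θ := by
    intro y
    obtain ⟨v, hv, -, h1⟩ := n.exists_co 0 y
    exact ⟨⟨v, hv⟩, h1⟩
  have h3 := AddSubgroup.card_mul_index θ.ker
  rw [AddSubgroup.index_ker, AddMonoidHom.range_eq_top.2 hs, AddSubgroup.card_top] at h3
  have h4 : Nat.card θ.ker = Nat.card W₁ := by
    apply Nat.card_congr
    exact
      { toFun := fun x => ⟨((x : WW V H R) : V), (n.mem_W₁ _).2 ⟨(x : WW V H R).2, x.2⟩⟩
        invFun := fun x => ⟨⟨(x : V), n.W₁W x.2⟩, ((n.mem_W₁ _).1 x.2).2⟩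
        left_inv := fun x => rfl
        right_inv := fun x => rfl }
  rw [← h3, h4, mul_comm]

theorem card_W₁ : Nat.card W₁ = Nat.card F * Nat.card D := by
  let θ : W₁ →+ F :=
    { toFun := fun w => co (w : V) 0 0
      map_zero' := by
        change co (0 : V) 0 0 = 0
        rw [n.co_zero]; rfl
      map_add' := fun v w => by
        change co ((v : V) + (w : V)) 0 0 = _
        rw [n.K.add _ (n.W₁W v.2) _ (n.W₁W w.2)]; rfl }
  have hs : Function.Surjective θ := by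
    intro y
    obtain ⟨v, hv, h0, h1⟩ := n.exists_co y 0
    exact ⟨⟨v, (n.mem_W₁ _).2 ⟨hv, h1⟩⟩, h0⟩
  have h3 := AddSubgroup.card_mul_index θ.ker
  rw [AddSubgroup.index_ker, AddMonoidHom.range_eq_top.2 hs, AddSubgroup.card_top] at h3
  have h4 : Nat.card θ.ker = Nat.card D := by
    apply Nat.card_congr
    exact
      { toFun := fun x => ⟨((x : W₁) : V), (n.mem_D_iff (x : W₁).2).2 x.2⟩
        invFun := fun x => ⟨⟨(x : V), n.DW x.2⟩, (n.mem_D_iff (n.DW x.2)).1 x.2⟩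
        left_inv := fun x => rfl
        right_inv := fun x => rfl }
  rw [← h3, h4, mul_comm]

/-! ### The root group -/

/-- the coordinates of `x • w`, from `lo 1` -/
theorem P_cup {x : Y} (hx : x ∈ P) : ∃ b, CUp V H R co x b := by
  have hxR : x ∈ R := ((n.mem_P x).1 hx).1
  have hxH : x ∈ H := n.a.RH hxR
  have hW : ∀ w ∈ WW V H R, x • w ∈ WW V H R := fun w hw => smul_mem_WW hxH hw
  -- `x` fixes the coordinates of the elements of `W₁`
  have hfix : ∀ w ∈ W₁, co (x • w) = co w := fun w hw =>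
    (n.add_mem_D (hW w (n.W₁W hw)) (n.W₁W hw)).1 (((n.mem_P x).1 hx).2 w hw)
  -- step 1 : the second coordinate is multiplied by a constant
  obtain ⟨μ, hμ⟩ : ∃ μ : F, ∀ w ∈ WW V H R, co (x • w) 0 1 = μ * co w 0 1 := by
    obtain ⟨r, hr, hrA⟩ := n.K.unip (fun _ => 1)
    have hrU := CUp.of_acts hrA
    obtain ⟨B, hB⟩ := n.K.norm x hxH r (n.a.RH hr) _ hrA.1
    have hB' : ∀ w ∈ WW V H R, co (x • r • w) 0 = ap (B 0) (co (x • w) 0) := by
      intro w hw
      have h1 := hB (x • w) (hW w hw) 0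
      rw [mul_smul, mul_smul, inv_smul_smul] at h1
      exact h1
    -- the line
    obtain ⟨e, he, he0, he1⟩ := n.exists_co 1 0
    have heW₁ : e ∈ W₁ := (n.mem_W₁ e).2 ⟨he, he1⟩
    have h2 : co (x • r • e) = co (x • e) := by
      have h3 : r • e ∈ W₁ := n.W₁_R hr heW₁
      rw [hfix _ h3, hfix _ heW₁]
      apply co_ext
      · rw [(hrU e he).1, he1, mul_zero, add_zero]
      · exact (hrU e he).2
    have h3 := hB' e he
    rw [h2, hfix e heW₁] at h3
    have h30 := congrFun h3 0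
    have h31 := congrFun h3 1
    rw [NatPair.ap_zero', he0, he1, mul_zero, add_zero, mul_one] at h30
    rw [NatPair.ap_one', he0, he1, mul_zero, add_zero, mul_one] at h31
    -- a general vector
    have h4 : ∀ w ∈ WW V H R, co w 0 1 = ent (B 0) 0 1 * co (x • w) 0 1 := by
      intro w hw
      have hrw : r • w ∈ WW V H R := smul_mem_WW (n.a.RH hr) hw
      have h5 : r • w + w ∈ WW V H R := add_mem hrw hw
      have h6 : r • w + w ∈ W₁ := by
        refine (n.mem_W₁ _).2 ⟨h5, ?_⟩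
        rw [n.K.add _ hrw _ hw, Pi.add_apply, Pi.add_apply, (hrU w hw).2, n.ff]
      have h7 := hfix _ h6
      rw [smul_add, n.K.add _ (hW _ hrw) _ (hW _ hw), n.K.add _ hrw _ hw] at h7
      have h8 : co (x • r • w) 0 0 + co (x • w) 0 0 = co (r • w) 0 0 + co w 0 0 :=
        congrFun (congrFun h7 0) 0
      have h9 := congrFun (hB' w hw) 0
      rw [NatPair.ap_zero', ← h30, one_mul] at h9
      rw [h9, (hrU w hw).1, one_mul] at h8
      have e1 : co (x • w) 0 0 + ent (B 0) 0 1 * co (x • w) 0 1 + co (x • w) 0 0 =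
          ent (B 0) 0 1 * co (x • w) 0 1 + (co (x • w) 0 0 + co (x • w) 0 0) := by ring
      have e2 : co w 0 0 + co w 0 1 + co w 0 0 = co w 0 1 + (co w 0 0 + co w 0 0) := by ring
      rw [e1, e2, n.ff, n.ff, add_zero, add_zero] at h8
      exact h8.symm
    have hne : ent (B 0) 0 1 ≠ 0 := by
      intro h5
      obtain ⟨v, hv, -, hv1⟩ := n.exists_co 0 1
      have h6 := h4 v hv
      rw [h5, zero_mul, hv1] at h6
      exact one_ne_zero h6
    refine ⟨(ent (B 0) 0 1)⁻¹, fun w hw => ?_⟩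
    rw [h4 w hw, inv_mul_cancel_left₀ hne]
  -- `μ = 1`
  have hμ1 : μ = 1 := by
    have h1 : ∀ m : ℕ, ∀ w ∈ WW V H R, co (x ^ m • w) 0 1 = μ ^ m * co w 0 1 := by
      intro m
      induction m with
      | zero => intro w _; rw [pow_zero, pow_zero, one_smul, one_mul]
      | succ m ih =>
        intro w hw
        rw [pow_succ, mul_smul, ih _ (hW w hw), hμ w hw, pow_succ, mul_assoc]
    obtain ⟨m, hm⟩ := n.a.R2 ⟨x, hxR⟩
    have hm' : x ^ 2 ^ m = 1 := by
      have := congrArg Subtype.val hm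
      simpa only [_root_.SubmonoidClass.mk_pow, _root_.OneMemClass.coe_one] using this
    obtain ⟨v, hv, -, hv1⟩ := n.exists_co 0 1
    have h2 := h1 (2 ^ m) v hv
    rw [hm', one_smul, hv1, mul_one] at h2
    have hchar : CharP F 2 := by
      have h3 : (2 : F) = 0 := by
        have := n.ff (1 : F)
        rw [one_add_one_eq_two] at this
        exact this
      have : CharP F (ringChar F) := ringChar.charP F
      have h4 : ringChar F ∣ 2 := (ringChar.spec F 2).1 (by exact_mod_cast h3)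
      have h5 : ringChar F ≠ 1 := by
        intro h6
        have h7 : ((1 : ℕ) : F) = 0 := (ringChar.spec F 1).2 (by rw [h6])
        rw [Nat.cast_one] at h7
        exact one_ne_zero h7
      have h6 : ringChar F = 2 := by
        rcases (Nat.dvd_prime Nat.prime_two).1 h4 with h7 | h7
        · exact absurd h7 h5
        · exact h7
      rw [← h6]; exact this
    have : Fact (Nat.Prime 2) := ⟨Nat.prime_two⟩
    have h3 : (μ - 1) ^ 2 ^ m = 0 := by
      rw [sub_pow_char_pow, one_pow, ← h2, sub_self]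
    have h4 := pow_eq_zero_iff (n := 2 ^ m) (by positivity) |>.1 h3
    exact sub_eq_zero.1 h4
  subst hμ1
  have h2nd : ∀ w ∈ WW V H R, co (x • w) 0 1 = co w 0 1 := fun w hw => by rw [hμ w hw, one_mul]
  -- step 2 : the first coordinate
  obtain ⟨g, hg, hgA⟩ := n.K.lift (fun _ => lo 1)
  obtain ⟨B, hB⟩ := n.K.norm x hxH g hg _ hgA.1
  have hB' : ∀ w ∈ WW V H R, co w 0 0 + co w 0 1 =
      ent (B 0) 1 0 * co (x • w) 0 0 + ent (B 0) 1 1 * co w 0 1 := by
    intro w hw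
    have h1 := hB (x • w) (hW w hw) 0
    rw [mul_smul, mul_smul, inv_smul_smul] at h1
    have h2 := congrFun h1 1
    rw [NatPair.ap_one', h2nd _ (smul_mem_WW hg hw), h2nd w hw] at h2
    have h3 := congrFun (hgA.1 w hw 0) 1
    rw [NatPair.ap_one', lo_10, lo_11, one_mul, one_mul] at h3
    rw [← h2, h3]
  have h10 : ent (B 0) 1 0 = 1 := by
    obtain ⟨e, he, he0, he1⟩ := n.exists_co 1 0
    have h1 := hB' e he
    rw [hfix e ((n.mem_W₁ e).2 ⟨he, he1⟩), he0, he1, mul_one, mul_zero, add_zero, add_zero] at h1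
    exact h1.symm
  refine ⟨1 - ent (B 0) 1 1, fun w hw => ⟨?_, h2nd w hw⟩⟩
  have h1 := hB' w hw
  rw [h10, one_mul] at h1
  linear_combination -h1

theorem QP : QQ H R ≤ P := by
  intro x hx
  rw [n.mem_P]
  refine ⟨QQ_le hx, fun w hw => ?_⟩
  rw [Amal.QQ_fix n.a n.amb hx (n.W₁W hw), n.amb.two]
  exact zero_mem _

theorem PR : P ≤ R := fun x hx => ((n.mem_P x).1 hx).1

theorem P_comm {x : Y} (hx : x ∈ P) {w : V} (hw : w ∈ WW V H R) : x • w + w ∈ W₁ := by
  obtain ⟨b, hb⟩ := n.P_cup hx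
  have hxw : x • w ∈ WW V H R := smul_mem_WW (n.a.RH (n.PR hx)) hw
  refine (n.mem_W₁ _).2 ⟨add_mem hxw hw, ?_⟩
  rw [n.K.add _ hxw _ hw, Pi.add_apply, Pi.add_apply, (hb w hw).2, n.ff]

theorem free {x : Y} (hx : x ∈ P) {w : V} (hw : w ∈ WW V H R) (hw1 : w ∉ W₁) (h1 : x • w + w ∈ D) :
    x ∈ QQ H R := by
  obtain ⟨b, hb⟩ := n.P_cup hx
  have hxw : x • w ∈ WW V H R := smul_mem_WW (n.a.RH (n.PR hx)) hw
  rw [n.add_mem_D hxw hw] at h1
  have h2 := (hb w hw).1
  rw [h1] at h2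
  have h3 : b * co w 0 1 = 0 := (left_eq_add.1 h2)
  have h4 : co w 0 1 ≠ 0 := fun h5 => hw1 ((n.mem_W₁ w).2 ⟨hw, h5⟩)
  have h5 : b = 0 := (mul_eq_zero.1 h3).resolve_right h4
  rw [h5] at hb
  exact n.up_Q (n.PR hx) hb

theorem exists_up (b : F) : ∃ x ∈ P, CUp V H R co x b := by
  obtain ⟨r, hr, hrA⟩ := n.K.unip (fun _ => b)
  exact ⟨r, n.up_P hr (CUp.of_acts hrA), CUp.of_acts hrA⟩

theorem onto {w : V} (hw : w ∈ WW V H R) (hw1 : w ∉ W₁) {v : V} (hv : v ∈ W₁) : ∃ x ∈ P, x • w + w + v ∈ D := by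
  have h4 : co w 0 1 ≠ 0 := fun h5 => hw1 ((n.mem_W₁ w).2 ⟨hw, h5⟩)
  obtain ⟨x, hx, hb⟩ := n.exists_up (co v 0 0 / co w 0 1)
  refine ⟨x, hx, ?_⟩
  have hxw : x • w ∈ WW V H R := smul_mem_WW (n.a.RH (n.PR hx)) hw
  rw [n.add_mem_D (add_mem hxw hw) (n.W₁W hv), n.K.add _ hxw _ hw]
  apply co_ext
  · rw [Pi.add_apply, Pi.add_apply, (hb w hw).1, div_mul_cancel₀ _ h4]
    have e : co w 0 0 + co v 0 0 + co w 0 0 = co v 0 0 + (co w 0 0 + co w 0 0) := by ring
    rw [e, n.ff, add_zero]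
  · rw [Pi.add_apply, Pi.add_apply, (hb w hw).2, n.ff, ((n.mem_W₁ v).1 hv).2]

theorem card_P : Nat.card P = Nat.card F * Nat.card ↥(QQ H R) := by
  have h1 := n.card_up n.PR (fun x hx => n.P_cup hx) n.exists_up
  rwa [inf_eq_right.2 n.QP] at h1

/-- `up b`-elements differ by elements of `Q` -/
theorem up_cancel {x y : Y} (hx : x ∈ R) (hy : y ∈ R) {b : F} (h1 : CUp V H R co x b) (h2 : CUp V H R co y b) :
    x⁻¹ * y ∈ QQ H R := by
  apply n.up_Q (R.mul_mem (R.inv_mem hx) hy)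
  have h3 := n.up_mul (H.inv_mem (n.a.RH hx)) (n.a.RH hy) (n.up_inv (n.a.RH hx) h1) h2
  rwa [n.ff] at h3

theorem le_of_up {A : Subgroup Y} (hAR : A ≤ R) (h1 : ∀ x ∈ A, ∃ b, CUp V H R co x b)
    (h2 : ∀ b, ∃ x ∈ A, CUp V H R co x b) : A ≤ P ∧ P ≤ A ⊔ QQ H R := by
  refine ⟨fun x hx => ?_, fun x hx => ?_⟩
  · obtain ⟨b, hb⟩ := h1 x hx
    exact n.up_P (hAR hx) hb
  · obtain ⟨b, hb⟩ := n.P_cup hx
    obtain ⟨y, hy, hyb⟩ := h2 b
    have h3 := n.up_cancel (hAR hy) (n.PR hx) hyb hb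
    have h4 := (A ⊔ QQ H R).mul_mem (mem_sup_left hy) (mem_sup_right h3)
    rwa [mul_inv_cancel_left] at h4

theorem exactOff {A : Subgroup Y} (hAR : A ≤ R) (hA : ElAb A) (hAQ : ¬ A ≤ QQ H R)
    (hle : Nat.card ↥(A ⊓ QQ H R) * Nat.card ↥(WW V H R) ≤ Nat.card A * Nat.card ↥(fx V A ⊓ WW V H R)) :
    A ≤ P ∧ P ≤ A ⊔ QQ H R := by
  obtain ⟨h1, h2⟩ := n.off1 hAR hA hAQ hle
  exact n.le_of_up hAR h1 h2

theorem mem_elab {B : Subgroup Y} (hB : B ∈ U) : ElAb B := ⟨(n.amb.cls.mem B hB).comm, (n.amb.cls.mem B hB).sq⟩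

theorem mem_up {B : Subgroup Y} (hB : B ∈ U) (hBR : B ≤ R) (hBQ : ¬ B ≤ QQ H R) :
    (∀ x ∈ B, ∃ b, CUp V H R co x b) ∧ ∀ b, ∃ x ∈ B, CUp V H R co x b := by
  apply n.off1 hBR (n.mem_elab hB) hBQ
  have h1 := Amal.exact' n.a n.amb n.we hB (hBR.trans n.a.RH)
  rw [inf_comm (fx V B), ← h1, mul_comm]

theorem cover {B : Subgroup Y} (hB : B ∈ U) (hBR : B ≤ R) (hBQ : ¬ B ≤ QQ H R) : B ≤ P ∧ P ≤ B ⊔ QQ H R := by
  obtain ⟨h1, h2⟩ := n.mem_up hB hBR hBQ
  exact n.le_of_up hBR h1 h2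

theorem P_fix {x : Y} (hx : x ∈ P) {w : V} (hw : w ∈ W₁) : x • w = w := by
  obtain ⟨B, hB, hBR, hBQ⟩ := n.a.exists_not_QQ n.amb
  obtain ⟨h1, h2⟩ := n.mem_up hB hBR hBQ
  -- `W ∩ F_B = W₁`
  have h3 : WW V H R ⊓ fx V B = W₁ := by
    have h4 : WW V H R ⊓ fx V B ≤ W₁ := by
      intro v hv
      obtain ⟨y, hy, hyb⟩ := h2 1
      refine (n.mem_W₁ v).2 ⟨hv.1, ?_⟩
      have h5 := (hyb v hv.1).1
      rw [(mem_fx.1 hv.2) y hy, one_mul] at h5
      exact left_eq_add.1 h5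
    have h5 := Amal.exact' n.a n.amb n.we hB (hBR.trans n.a.RH)
    rw [n.card_up hBR h1 h2, n.card_W] at h5
    have h6 : Nat.card W₁ = Nat.card ↥(WW V H R ⊓ fx V B) := by
      have hF : 0 < Nat.card F := Nat.card_pos
      have hBQ : 0 < Nat.card ↥(B ⊓ QQ H R) := Nat.card_pos
      apply Nat.eq_of_mul_eq_mul_left (Nat.mul_pos hF hBQ)
      rw [← h5]
      ring
    exact AddSubgroup.eq_of_le_of_card_ge h4 h6.le
  obtain ⟨b, hb⟩ := n.P_cup hx
  obtain ⟨y, hy, hyb⟩ := h2 b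
  have h4 := n.up_cancel (hBR hy) (n.PR hx) hyb hb
  have h5 : w ∈ WW V H R ⊓ fx V B := by rw [h3]; exact hw
  have e : x • w = y • (y⁻¹ * x) • w := by rw [← mul_smul, mul_inv_cancel_left]
  rw [e, Amal.QQ_fix n.a n.amb h4 h5.1, (mem_fx.1 h5.2) y hy]

theorem D_fix {w : V} (hw : w ∈ D) (hR : ∀ r ∈ R, r • w = w) {x : Y} (hx : x ∈ H) : x • w = w := by
  have h1 : H ⊓ MulAction.stabilizer Y w = H := by
    apply n.K.gen
    · exact le_inf n.a.RH fun r hr => MulAction.mem_stabilizer_iff.2 (hR r hr)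
    · exact inf_le_left
    · intro h hh A hA
      exact ⟨hh, MulAction.mem_stabilizer_iff.2 (hA.2 w ((n.mem_D w).1 hw).1 ((n.mem_D w).1 hw).2)⟩
  rw [← h1] at hx
  exact MulAction.mem_stabilizer_iff.1 hx.2

/-! ### The points -/

/-- one vector of `W₁ ∖ D` decides -/
theorem line_all {x : Y} (hx : x ∈ H) {w : V} (hw : w ∈ W₁) (hwD : w ∉ D) (hxw : x • w ∈ W₁) {v : V} (hv : v ∈ W₁) :
    x • v ∈ W₁ := by
  by_contra hcon
  have hW : ∀ w ∈ WW V H R, x • w ∈ WW V H R := fun w hw => smul_mem_WW hx hw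
  have hxwD : x • w ∉ D := by
    intro h1
    apply hwD
    have h2 := n.D_H (H.inv_mem hx) h1
    rwa [inv_smul_smul] at h2
  have hlam : co (x • w) 0 0 ≠ 0 := fun h1 => hxwD ((n.mem_D_iff hxw).2 h1)
  have hlam1 : co (x • w) 0 1 = 0 := ((n.mem_W₁ _).1 hxw).2
  have hb : co (x • v) 0 1 ≠ 0 := fun h1 => hcon ((n.mem_W₁ _).2 ⟨hW v (n.W₁W hv), h1⟩)
  obtain ⟨r, hr, hrA⟩ := n.K.unip (fun _ => 1)
  have hrU := CUp.of_acts hrA
  obtain ⟨B, hB⟩ := n.K.norm x hx r (n.a.RH hr) _ hrA.1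
  have hB' : ∀ w ∈ WW V H R, co (x • r • w) 0 = ap (B 0) (co (x • w) 0) := by
    intro w hw
    have h1 := hB (x • w) (hW w hw) 0
    rw [mul_smul, mul_smul, inv_smul_smul] at h1
    exact h1
  -- `x r w ≡ x w` for `w ∈ W₁`
  have hfix : ∀ u ∈ W₁, co (x • r • u) = co (x • u) := by
    intro u hu
    have hru : r • u ∈ WW V H R := smul_mem_WW (n.a.RH hr) (n.W₁W hu)
    rw [← n.add_mem_D (hW _ hru) (hW _ (n.W₁W hu)), ← smul_add]
    apply n.D_H hx
    rw [n.add_mem_D hru (n.W₁W hu)]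
    apply co_ext
    · rw [(hrU u (n.W₁W hu)).1, ((n.mem_W₁ u).1 hu).2, mul_zero, add_zero]
    · exact (hrU u (n.W₁W hu)).2
  have h1 := hB' w (n.W₁W hw)
  rw [hfix w hw] at h1
  have h10 := congrFun h1 0
  have h11 := congrFun h1 1
  rw [NatPair.ap_zero', hlam1, mul_zero, add_zero] at h10
  rw [NatPair.ap_one', hlam1, mul_zero, add_zero] at h11
  have e00 : ent (B 0) 0 0 = 1 := by
    have h2 : ent (B 0) 0 0 * co (x • w) 0 0 = 1 * co (x • w) 0 0 := by rw [one_mul]; exact h10.symm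
    exact mul_right_cancel₀ hlam h2
  have e10 : ent (B 0) 1 0 = 0 := (mul_eq_zero.1 h11.symm).resolve_right hlam
  have e11 : ent (B 0) 1 1 = 1 := by
    have h2 := det_eq (B 0)
    rw [e00, e10, one_mul, mul_zero, sub_zero] at h2
    exact h2
  have h2 := hB' v (n.W₁W hv)
  rw [hfix v hv] at h2
  have h20 := congrFun h2 0
  rw [NatPair.ap_zero', e00, one_mul] at h20
  have e01 : ent (B 0) 0 1 = 0 := (mul_eq_zero.1 (left_eq_add.1 h20)).resolve_right hb
  -- `B = 1`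
  obtain ⟨u, hu, hu0, hu1⟩ := n.exists_co 0 1
  have hru : r • u ∈ WW V H R := smul_mem_WW (n.a.RH hr) hu
  have h3 : co (x • r • u) = co (x • u) := by
    have h4 := hB' u hu
    apply co_ext
    · rw [h4, NatPair.ap_zero', e00, e01, one_mul, zero_mul, add_zero]
    · rw [h4, NatPair.ap_one', e10, e11, one_mul, zero_mul, zero_add]
  rw [← n.add_mem_D (hW _ hru) (hW _ hu), ← smul_add] at h3
  have h4 := n.D_H (H.inv_mem hx) h3
  rw [inv_smul_smul, n.add_mem_D hru hu] at h4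
  have h5 := (hrU u hu).1
  rw [h4, hu1, mul_one] at h5
  exact one_ne_zero (left_eq_add.1 h5)

/-- the stabilizer of `W₁` in `H` -/
theorem exists_stab : ∃ S : Subgroup Y, (∀ x, x ∈ S ↔ x ∈ H ∧ ∀ w ∈ W₁, x • w ∈ W₁) ∧ S ≤ M := by
  have hinv : ∀ x : Y, (∀ w ∈ W₁, x • w ∈ W₁) → ∀ w ∈ W₁, x⁻¹ • w ∈ W₁ := by
    intro x hx w hw
    let f : W₁ → W₁ := fun v => ⟨x • (v : V), hx v v.2⟩
    have hf : Function.Injective f := by
      intro u v he
      have h1 : x • (u : V) = x • (v : V) := congrArg Subtype.val he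
      exact Subtype.ext (smul_left_cancel x h1)
    obtain ⟨v, hv⟩ := (Finite.injective_iff_surjective.1 hf) ⟨w, hw⟩
    have h1 : x • (v : V) = w := congrArg Subtype.val hv
    rw [← h1, inv_smul_smul]
    exact v.2
  let S : Subgroup Y :=
    { carrier := {x | x ∈ H ∧ ∀ w ∈ W₁, x • w ∈ W₁}
      one_mem' := ⟨H.one_mem, fun w hw => by rwa [one_smul]⟩
      mul_mem' := fun {x y} hx hy => ⟨H.mul_mem hx.1 hy.1, fun w hw => by
        rw [mul_smul]; exact hx.2 _ (hy.2 w hw)⟩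
      inv_mem' := fun {x} hx => ⟨H.inv_mem hx.1, hinv x hx.2⟩ }
  refine ⟨S, fun x => Iff.rfl, ?_⟩
  apply n.a.uniq S
  · intro r hr
    exact ⟨n.a.RH hr, fun w hw => n.W₁_R hr hw⟩
  · refine lt_of_le_of_ne (fun x hx => hx.1) ?_
    intro h1
    obtain ⟨g, hg, hgA⟩ := n.K.lift (fun _ => lo 1)
    obtain ⟨e, he, he0, he1⟩ := n.exists_co 1 0
    rw [← h1] at hg
    have h2 := hg.2 e ((n.mem_W₁ e).2 ⟨he, he1⟩)
    have h3 := ((n.mem_W₁ _).1 h2).2
    have h4 := congrFun (hgA.1 e he 0) 1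
    rw [h3, NatPair.ap_one', lo_10, lo_11, he0, he1, one_mul, mul_zero, add_zero] at h4
    exact zero_ne_one h4

theorem opp {x : Y} (hx : x ∈ H) (hxM : x ∉ M) {w : V} (hw : w ∈ W₁) (hxw : x • w ∈ W₁) : w ∈ D := by
  by_contra hwD
  obtain ⟨S, hS, hSM⟩ := n.exists_stab
  exact hxM (hSM ((hS x).2 ⟨hx, fun v hv => n.line_all hx hw hwD hxw hv⟩))

theorem RM : R ≤ M := n.a.RT.trans n.amb.TM

theorem stab {x : Y} (hx : x ∈ H) (hxM : x ∈ M) {w : V} (hw : w ∈ W₁) : x • w ∈ W₁ := by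
  by_contra hcon
  obtain ⟨S, hS, hSM⟩ := n.exists_stab
  apply n.a.bad.not_le 1
  rw [map_one, one_smul]
  have hwD : w ∉ D := fun h1 => hcon (n.DW (n.D_H hx h1))
  have hxW : x • w ∈ WW V H R := smul_mem_WW hx (n.W₁W hw)
  have hb : co (x • w) 0 1 ≠ 0 := fun h1 => hcon ((n.mem_W₁ _).2 ⟨hxW, h1⟩)
  have hw0 : co w 0 1 = 0 := ((n.mem_W₁ w).1 hw).2
  have h1 : H ⊓ M = H := by
    apply n.K.gen
    · exact le_inf n.a.RH n.RM
    · exact inf_le_left
    · intro h hh A hA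
      refine ⟨hh, ?_⟩
      by_cases hhS : h • w ∈ W₁
      · exact hSM ((hS h).2 ⟨hh, fun v hv => n.line_all hh hw hwD hhS hv⟩)
      have hhW : h • w ∈ WW V H R := smul_mem_WW hh (n.W₁W hw)
      have hb' : co (h • w) 0 1 ≠ 0 := fun h1 => hhS ((n.mem_W₁ _).2 ⟨hhW, h1⟩)
      obtain ⟨p, hp, hpb⟩ := n.exists_up (co (h • w) 0 0 / co (h • w) 0 1 + co (x • w) 0 0 / co (x • w) 0 1)
      have hpR := n.PR hp
      have hpW : p • x • w ∈ WW V H R := smul_mem_WW (n.a.RH hpR) hxW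
      -- `co (p x w) = (b / b') co (h w)`
      have e0 : co (p • x • w) 0 0 = co (x • w) 0 1 / co (h • w) 0 1 * co (h • w) 0 0 := by
        rw [(hpb _ hxW).1, add_mul, div_mul_cancel₀ _ hb]
        have e : co (x • w) 0 0 + (co (h • w) 0 0 / co (h • w) 0 1 * co (x • w) 0 1 + co (x • w) 0 0) =
          co (x • w) 0 1 / co (h • w) 0 1 * co (h • w) 0 0 + (co (x • w) 0 0 + co (x • w) 0 0) := by
          field_simp
          ring
        rw [e, n.ff, add_zero]
      have e1 : co (p • x • w) 0 1 = co (x • w) 0 1 / co (h • w) 0 1 * co (h • w) 0 1 := by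
        rw [(hpb _ hxW).2, div_mul_cancel₀ _ hb']
      -- `h⁻¹ p x w`
      have hu : h⁻¹ • p • x • w ∈ WW V H R := smul_mem_WW (H.inv_mem hh) hpW
      have h2 : ap (A 0) (co (h⁻¹ • p • x • w) 0) =
          ap (A 0) ((co (x • w) 0 1 / co (h • w) 0 1) • co w 0) := by
        rw [← hA.1 _ hu 0, smul_inv_smul, NatPair.ap_smul, ← hA.1 _ (n.W₁W hw) 0]
        apply NatPair.ext2
        · rw [Pi.smul_apply, smul_eq_mul, e0]
        · rw [Pi.smul_apply, smul_eq_mul, e1]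
      have h3 : co (h⁻¹ • p • x • w) 0 = (co (x • w) 0 1 / co (h • w) 0 1) • co w 0 := by
        have h4 := congrArg (ap (A 0)⁻¹) h2
        rwa [NatPair.ap_inv_ap, NatPair.ap_inv_ap] at h4
      have h4 : (h⁻¹ * p * x) • w ∈ W₁ := by
        rw [mul_smul, mul_smul]
        refine (n.mem_W₁ _).2 ⟨hu, ?_⟩
        rw [h3, Pi.smul_apply, hw0, smul_zero]
      have hmem : h⁻¹ * p * x ∈ H := H.mul_mem (H.mul_mem (H.inv_mem hh) (n.a.RH hpR)) hx
      have h5 := hSM ((hS _).2 ⟨hmem, fun v hv => n.line_all hmem hw hwD h4 hv⟩)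
      have h6 := M.mul_mem (M.mul_mem (n.RM hpR) hxM) (M.inv_mem h5)
      have e : p * x * (h⁻¹ * p * x)⁻¹ = h := by group
      rwa [e] at h6
  rw [← h1]
  exact inf_le_right

/-! ### The line is semilinear -/

theorem semiL : SemiL V R P (QQ H R) (WW V H R) W₁ D F (fun v => co v 0 0) where
  two := n.amb.two
  R2 := n.a.R2
  QP := n.QP
  PR := n.PR
  DW := n.DW
  W₁W := n.W₁W
  W_R := fun r hr w hw => smul_mem_WW (n.a.RH hr) hw
  W₁_R := fun r hr w hw => n.W₁_R hr hw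
  D_R := fun r hr w hw => n.D_H (n.a.RH hr) hw
  add := fun v hv w hw => by
    rw [n.K.add _ (n.W₁W hv) _ (n.W₁W hw)]
    rfl
  surj := fun a => by
    obtain ⟨v, hv, h0, h1⟩ := n.exists_co a 0
    exact ⟨v, (n.mem_W₁ v).2 ⟨hv, h1⟩, h0⟩
  ker := fun w hw => (n.mem_D_iff hw).symm
  semi := by
    intro r hr μ
    have hrH := n.a.RH hr
    have hW : ∀ w ∈ WW V H R, r • w ∈ WW V H R := fun w hw => smul_mem_WW hrH hw
    by_cases hμ : μ = 0
    · refine ⟨0, fun w hw w' hw' h1 => ?_⟩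
      rw [zero_mul]
      rw [hμ, zero_mul] at h1
      have h2 := n.D_H hrH ((n.mem_D_iff hw').2 h1)
      exact (n.mem_D_iff (n.W₁_R hr hw')).1 h2
    · obtain ⟨g, hg, hgA⟩ := n.K.lift (fun _ => dg μ hμ)
      obtain ⟨B, hB⟩ := n.K.norm r hrH g hg _ hgA.1
      refine ⟨ent (B 0) 0 0, fun w hw w' hw' h1 => ?_⟩
      have hgw : g • w ∈ WW V H R := smul_mem_WW hg (n.W₁W hw)
      have h2 : co w' = co (g • w) := by
        have h3 := hgA.1 w (n.W₁W hw) 0
        apply co_ext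
        · rw [h3, NatPair.ap_zero', dg_00, dg_01, zero_mul, add_zero]
          exact h1
        · rw [h3, NatPair.ap_one', dg_10, dg_11, zero_mul, zero_add, ((n.mem_W₁ w).1 hw).2, mul_zero]
          exact ((n.mem_W₁ w').1 hw').2
      rw [← n.add_mem_D (n.W₁W hw') hgw] at h2
      have h3 := n.D_H hrH h2
      rw [smul_add, n.add_mem_D (hW _ (n.W₁W hw')) (hW _ hgw)] at h3
      change co (r • w') 0 0 = ent (B 0) 0 0 * co (r • w) 0 0
      rw [h3]
      have h4 := hB (r • w) (hW w (n.W₁W hw)) 0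
      rw [mul_smul, mul_smul, inv_smul_smul] at h4
      rw [h4, NatPair.ap_zero', ((n.mem_W₁ _).1 (n.W₁_R hr hw)).2, mul_zero, add_zero]
  mem_P := fun x hx h1 => (n.mem_P x).2 ⟨hx, h1⟩
  P_fix := fun x hx w hw => ((n.mem_P x).1 hx).2 w hw
  P_comm := fun x hx w hw => n.P_comm hx hw
  free := fun x hx w hw hw1 h1 => n.free hx hw hw1 h1
  card_W := n.card_W
  card_W₁ := n.card_W₁
  card_P := n.card_P

/-- **`KOne`** -/
theorem kone : KOne V U M H R P D W₁ (Nat.card F) where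
  two_le := Finite.one_lt_card
  DW := n.DW
  W₁W := n.W₁W
  D_H := fun x hx w hw => n.D_H hx hw
  W₁_R := fun x hx w hw => n.W₁_R hx hw
  QP := n.QP
  PR := n.PR
  mem_P := fun x hx h1 => (n.mem_P x).2 ⟨hx, h1⟩
  P_fix := fun x hx w hw => n.P_fix hx hw
  P_comm := fun x hx w hw => n.P_comm hx hw
  free := fun x hx w hw hw1 h1 => n.free hx hw hw1 h1
  onto := fun w hw hw1 v hv => n.onto hw hw1 hv
  card_W := n.card_W
  card_W₁ := n.card_W₁
  card_P := n.card_P
  D_fix := fun w hw hR x hx => n.D_fix hw hR hx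
  opp := fun x hx hxM w hw hxw => n.opp hx hxM hw hxw
  stab := fun x hx hxM w hw => n.stab hx hxM hw
  cover := fun B hB hBR hBQ => n.cover hB hBR hBQ
  noOver := n.K.noOver
  exactOff := fun A hAR hA hAQ hle => n.exactOff hAR hA hAQ hle
  ea := fun A hAR hA => n.semiL.ea hAR hA
  fld := fun A hAR hA hAP hc => n.semiL.fld hAR hA hAP hc

end Nt

/-- **`KOne` from `KNat` with `k = 1`** -/
theorem KOne.of_KNat [Finite Y] [Finite V] {U : Set (Subgroup Y)} {T : Sylow 2 Y} {M H R : Subgroup Y} {F : Type}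
    [Field F] [Finite F] {co : V → Fin 1 → Fin 2 → F} {t : Y} (amb : Amb V U T M) (a : Amal U T M H R t)
    (we : WE V U H R) (K : KNat V H R F 1 co) :
    ∃ (P : Subgroup Y) (D W₁ : AddSubgroup V), KOne V U M H R P D W₁ (Nat.card F) := by
  obtain ⟨P, D, W₁, n⟩ := exists_Nt amb a we K
  exact ⟨P, D, W₁, n.kone⟩

end Cfsg.Agent.Omega.NO1.TH

end

private theorem dce_1be6e0a4dcac : _root_.True := by
  try have : _root_.True := by simp only [_root_.Cfsg.Agent.Omega.NO1.TH.SemiL.ch.congr_simp]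
  try have : _root_.True := by simp only [_root_.Cfsg.Agent.Omega.NO1.TH.SemiL.ph.congr_simp]
  try have : _root_.True := by simp only [_root_.Cfsg.Agent.Omega.NO1.TH.SemiL.sg.congr_simp]
  exact _root_.True.intro
end

-- part: Mrg/Omega/NO1/TH/K/SD
section
set_option linter.all false
open scoped Cfsg.Agent.FastGrp


/-!
# N1, `S_n` type, case (d): `W' ≰ E_A` for an opposite member `A` (bb OMEGA 21465 (3), helper593)

`A ≤ H` a member, `A ≰ Q`, `B₁ = A ∩ Q`, `S₁ = {s ∈ A | [w, s] ∈ W + F_A}`.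

* `Amal.card_S1` : `|B₁| |S₁| = |A|`;
* `Amal.d_two` (type-free, `P` a set of independent point vectors of `W'`, permuted by `R`): `W' ≰ E_A`,
  `S₁ ≤ Q`, `[W' ∩ E_A, S₁] = 0` ⟹ `|B₁| = 2`, `|A| = 4`;
* `Amal.d_trans` : if moreover `|V : E_A| = 2`, then `B₁ = ⟨b⟩`, `b` fixes `W' ∩ E_A`, `V = W' + E_A`;
* `TwoS.d_swap` : `b` acts on `W'` as one transposition.
-/

set_option autoImplicit false
set_option linter.unusedSectionVars false
set_option linter.dupNamespace false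

namespace Cfsg.Agent.Omega.NO1.TH

open Subgroup Cfsg.Agent.Omega.NO1.AB Cfsg.Agent.Omega.FFBr
open scoped Pointwise

universe u

variable {Y : Type u} [Group Y] {V : Type u} [AddCommGroup V] [DistribMulAction Y V]

namespace Amal

variable {U : Set (Subgroup Y)} {T : Sylow 2 Y} {M H H' R : Subgroup Y} {t : Y}

/-- `|B₁| |S₁| = |A|` -/
theorem card_S1 [Finite Y] [Finite V] (a : Amal U T M H R t) (h : Amb V U T M) (we : WE V U H R) {A : Subgroup Y}
    (hA : A ∈ U) (hAH : A ≤ H) {w : V} (hw : w ∉ Ee V A) :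
    Nat.card ↥(A ⊓ QQ H R) * Nat.card {s : Y // s ∈ A ∧ s • w + w ∈ WW V H R ⊔ fx V A} = Nat.card A := by
  have hm := h.cls.mem A hA
  have h1 := card_SX h.two hm hw (X := WW V H R ⊔ fx V A) le_sup_right (sup_le (a.WW_le_Ee h we hA hAH) hm.FE)
  have h2 := a.exact' h we hA hAH
  have h3 := card_sup_as (WW V H R) (fx V A)
  have hF : 0 < Nat.card ↥(fx V A) := Nat.card_pos
  have hI : 0 < Nat.card ↥(WW V H R ⊓ fx V A) := Nat.card_pos
  rw [h1] at h3
  generalize Nat.card {s : Y // s ∈ A ∧ s • w + w ∈ WW V H R ⊔ fx V A} = s at *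
  apply Nat.eq_of_mul_eq_mul_right (Nat.mul_pos hF hI)
  calc _ = Nat.card ↥(A ⊓ QQ H R) * (Nat.card ↥(fx V A) * s * Nat.card ↥(WW V H R ⊓ fx V A)) := by ring
    _ = Nat.card ↥(A ⊓ QQ H R) * (Nat.card ↥(WW V H R) * Nat.card ↥(fx V A)) := by rw [h3]
    _ = Nat.card ↥(WW V H R) * Nat.card ↥(A ⊓ QQ H R) * Nat.card ↥(fx V A) := by ring
    _ = Nat.card A * Nat.card ↥(WW V H R ⊓ fx V A) * Nat.card ↥(fx V A) := by rw [h2]
    _ = _ := by ring

variable [Finite Y] [Finite V] (a : Amal U T M H R t) (a' : Amal U T M H' R t) (h : Amb V U T M) (we : WE V U H R)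
include a a' h we

/-- **(d)**: `|B₁| = 2`, `|A| = 4` -/
theorem d_two {A : Subgroup Y} (hA : A ∈ U) (hAH : A ≤ H) (hAQ : ¬ A ≤ QQ H R) (hE : ¬ WW V H' R ≤ Ee V A)
    (gg : ∀ w, w ∉ Ee V A → ∀ s ∈ A, s • w + w ∈ WW V H R ⊔ fx V A →
      s ∈ QQ H R ∧ ∀ y ∈ WW V H' R, y ∈ Ee V A → s • y = y)
    {P : Set V} (hP : ∀ p ∈ P, p ∈ WW V H' R) (hgen : WW V H' R ≤ fx V R ⊔ AddSubgroup.closure P)
    (hsm : ∀ r ∈ R, ∀ p ∈ P, r • p ∈ P)
    (hind : ∀ p₁ ∈ P, ∀ p₂ ∈ P, ∀ p₃ ∈ P, ∀ p₄ ∈ P, p₁ + p₂ = p₃ + p₄ → p₁ = p₂ ∨ p₁ = p₃ ∨ p₁ = p₄) :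
    (∃ p ∈ P, p ∉ Ee V A) ∧ ∃ b ∈ A ⊓ QQ H R, b ≠ 1 ∧ (∀ x ∈ A ⊓ QQ H R, x = 1 ∨ x = b) ∧
      Nat.card ↥(A ⊓ QQ H R) = 2 ∧ Nat.card A = 4 ∧ ∀ y ∈ WW V H' R, y ∈ Ee V A → b • y = y := by
  have hm := h.cls.mem A hA
  have hWE : WW V H R ≤ Ee V A := a.WW_le_Ee h we hA hAH
  obtain ⟨v, hvP, hvE⟩ : ∃ p ∈ P, p ∉ Ee V A := by
    by_contra hcon
    push Not at hcon
    apply hE
    refine hgen.trans (sup_le (fx_le_WW.trans hWE) ?_)
    rw [AddSubgroup.closure_le]
    exact hcon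
  have hcS := a.card_S1 h we hA hAH hvE
  have hlt : A ⊓ QQ H R < A := lt_of_le_of_ne inf_le_left fun h1 => hAQ (by rw [← h1]; exact inf_le_right)
  have h2 := mul_card_le hlt
  have hB0 : 0 < Nat.card ↥(A ⊓ QQ H R) := Nat.card_pos
  -- `1 ≠ s ∈ S₁`
  obtain ⟨s, hs, hsv, hs1⟩ : ∃ s ∈ A, s • v + v ∈ WW V H R ⊔ fx V A ∧ s ≠ 1 := by
    by_contra hcon
    push Not at hcon
    have h3 : Nat.card {s : Y // s ∈ A ∧ s • v + v ∈ WW V H R ⊔ fx V A} ≤ 1 := by
      have : Subsingleton {s : Y // s ∈ A ∧ s • v + v ∈ WW V H R ⊔ fx V A} :=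
        ⟨fun x y => Subtype.ext ((hcon x x.2.1 x.2.2).trans (hcon y y.2.1 y.2.2).symm)⟩
      exact Finite.card_le_one_iff_subsingleton.2 this
    have h4 : Nat.card ↥(A ⊓ QQ H R) *
        Nat.card {s : Y // s ∈ A ∧ s • v + v ∈ WW V H R ⊔ fx V A} ≤ Nat.card ↥(A ⊓ QQ H R) * 1 :=
      Nat.mul_le_mul_left _ h3
    omega
  obtain ⟨hsQ, hsy⟩ := gg v hvE s hs hsv
  have key : ∀ w, w ∉ Ee V A → w ∈ P → ∀ r ∈ A, r ≠ 1 → r ∈ QQ H R →
      (∀ y ∈ WW V H' R, y ∈ Ee V A → r • y = y) → ∀ b ∈ A ⊓ QQ H R, b = 1 ∨ b = r := by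
    intro w hw hwP r hr hr1 hrQ hry b hb
    by_cases hb1 : b = 1
    · exact Or.inl hb1
    right
    have hrR : r ∈ R := QQ_le hrQ
    have hbR : b ∈ R := QQ_le hb.2
    have h3 : r • (b • w + w) = b • w + w :=
      hry _ (add_mem (smul_mem_WW (a'.RH hbR) (hP w hwP)) (hP w hwP)) (hm.VB b hb.1 w)
    rw [smul_add] at h3
    have hinj : ∀ x ∈ A, x • w = w → x = 1 := by
      intro x hx hxw
      apply hm.inj w hw x hx
      rw [hxw, h.two]
      exact zero_mem _
    rcases hind _ (hsm r hrR _ (hsm b hbR w hwP)) _ (hsm r hrR w hwP) _ (hsm b hbR w hwP) _ hwP h3 with h4 | h4 | h4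
    · exact absurd (hinj b hb.1 (smul_left_cancel r h4)) hb1
    · rw [← mul_smul, hm.comm r hr b hb.1, mul_smul] at h4
      exact absurd (hinj r hr (smul_left_cancel b h4)) hr1
    · have h5 := hinj (r * b) (mul_mem hr hb.1) (by rw [mul_smul]; exact h4)
      have h6 : r * (r * b) = r * 1 := by rw [h5]
      rwa [← mul_assoc, hm.sq r hr, one_mul, mul_one] at h6
  have hB : ∀ b ∈ A ⊓ QQ H R, b = 1 ∨ b = s := key v hvE hvP s hs hs1 hsQ hsy
  have hcB : Nat.card ↥(A ⊓ QQ H R) = 2 := by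
    have h3 : A ⊓ QQ H R = zpowers s := by
      apply le_antisymm
      · intro b hb
        rcases hB b hb with rfl | rfl
        · exact one_mem _
        · exact mem_zpowers _
      · rw [zpowers_le]
        exact ⟨hs, hsQ⟩
    rw [h3, Nat.card_zpowers]
    exact orderOf_eq_prime (by rw [pow_two]; exact hm.sq s hs) hs1
  refine ⟨⟨v, hvP, hvE⟩, s, ⟨hs, hsQ⟩, hs1, hB, hcB, ?_, hsy⟩
  have hcS2 : Nat.card {s : Y // s ∈ A ∧ s • v + v ∈ WW V H R ⊔ fx V A} ≤ 2 := by
    rw [← hcB]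
    apply Nat.card_le_card_of_injective
      (fun x : {s : Y // s ∈ A ∧ s • v + v ∈ WW V H R ⊔ fx V A} =>
        (⟨x, x.2.1, (gg v hvE x x.2.1 x.2.2).1⟩ : ↥(A ⊓ QQ H R)))
    intro x y hxy
    exact Subtype.ext (congrArg (fun z : ↥(A ⊓ QQ H R) => (z : Y)) hxy)
  rw [hcB] at hcS h2
  have h5 : 2 * Nat.card {s : Y // s ∈ A ∧ s • v + v ∈ WW V H R ⊔ fx V A} ≤ 2 * 2 := Nat.mul_le_mul_left _ hcS2
  omega

omit a a' h we in
/-- `V = W' + E_A` if `|V : E_A| = 2` -/
theorem d_sup {A : Subgroup Y} {W' : AddSubgroup V} (hind : (Ee V A).index = 2) (hE : ¬ W' ≤ Ee V A) :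
    W' ⊔ Ee V A = ⊤ := by
  rw [← AddSubgroup.index_eq_one]
  have h1 : (W' ⊔ Ee V A).index ∣ (Ee V A).index := AddSubgroup.index_dvd_of_le le_sup_right
  rw [hind] at h1
  rcases (Nat.dvd_prime Nat.prime_two).1 h1 with h2 | h2
  · exact h2
  · exfalso
    apply hE
    have h3 : Ee V A = W' ⊔ Ee V A := by
      have h4 := AddSubgroup.relIndex_mul_index (H := Ee V A) (K := W' ⊔ Ee V A) le_sup_right
      rw [h2, hind] at h4
      have h5 : (Ee V A).relIndex (W' ⊔ Ee V A) = 1 := by omega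
      exact le_antisymm le_sup_right (AddSubgroup.relIndex_eq_one.1 h5)
    rw [h3]
    exact le_sup_left

end Amal

namespace K

variable {U : Set (Subgroup Y)} {T : Sylow 2 Y} {M H H' R : Subgroup Y} {t : Y} {k m : ℕ}
  {co co' : V → Fin k → Fin (2 ^ m + 1) → ZMod 2}

/-- two letters are separated by a vector of `W` -/
theorem KSym.exists_sep (K : KSym V H R k m co) (i : Fin k) {x y : Fin (2 ^ m + 1)} (hxy : x ≠ y) :
    ∃ w ∈ WW V H R, co w i x = 1 ∧ co w i y = 0 := by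
  classical
  obtain ⟨z, hzx, hzy⟩ : ∃ z : Fin (2 ^ m + 1), z ≠ x ∧ z ≠ y := by
    by_contra hcon
    push Not at hcon
    have h1 : (Finset.univ : Finset (Fin (2 ^ m + 1))) ⊆ {x, y} := by
      intro z _
      rw [Finset.mem_insert, Finset.mem_singleton]
      by_cases h : z = x
      · exact Or.inl h
      · exact Or.inr (hcon z h)
    have h2 := Finset.card_le_card h1
    rw [Finset.card_univ, Fintype.card_fin, Finset.card_pair hxy] at h2
    have h3 : 2 ^ 2 ≤ 2 ^ m := Nat.pow_le_pow_right (by norm_num) K.two_le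
    omega
  obtain ⟨w, hw, hco⟩ := K.surj (fun j l => if j = i then (if l = x then 1 else 0) + (if l = z then 1 else 0) else 0) (by
    intro j
    by_cases hj : j = i
    · simp only [hj, if_true]
      rw [Finset.sum_add_distrib, Finset.sum_ite_eq' Finset.univ x, Finset.sum_ite_eq' Finset.univ z]
      simp only [Finset.mem_univ, if_true]
      decide
    · simp only [if_neg hj, Finset.sum_const_zero])
  refine ⟨w, hw, ?_, ?_⟩
  · rw [hco]
    simp only [if_true, if_neg (Ne.symm hzx), add_zero]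
  · rw [hco]
    simp only [if_true, if_neg (Ne.symm hxy), if_neg (Ne.symm hzy), add_zero]

/-- an involution `b ∈ R` whose group is an exact offender is one transposition -/
theorem KSym.swap_of [Finite Y] [Finite V] (K : KSym V H R k m co) {A : Subgroup Y} {b : Y} (hRH : R ≤ H)
    (hAR : A ≤ R) (hel : ElAb A) (hb : b ∈ A) (hB : ∀ x ∈ A, x = 1 ∨ x = b) (hbQ : b ∉ QQ H R)
    (hc : Nat.card ↥(WW V H R) ≤ 2 * Nat.card ↥(fx V A ⊓ WW V H R)) :
    ∃ i x y, x ≠ y ∧ ActS V H R co b 1 (Function.update 1 i (Equiv.swap x y)) ∧ TrD V H R co b := by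
  have hb1 : b ≠ 1 := fun h1 => hbQ (by rw [h1]; exact one_mem _)
  have hcA : Nat.card A = 2 := by
    have h3 : A = zpowers b := by
      apply le_antisymm
      · intro x hx
        rcases hB x hx with rfl | rfl
        · exact one_mem _
        · exact mem_zpowers _
      · rwa [zpowers_le]
    rw [h3, Nat.card_zpowers]
    exact orderOf_eq_prime (by rw [pow_two]; exact hel.2 b hb) hb1
  have hcB : Nat.card ↥(A ⊓ QQ H R) = 1 := by
    have h3 : A ⊓ QQ H R = ⊥ := by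
      rw [eq_bot_iff]
      intro x hx
      rcases hB x hx.1 with rfl | rfl
      · exact one_mem _
      · exact absurd hx.2 hbQ
    rw [h3, Subgroup.card_bot]
  obtain ⟨h1, h2⟩ := K.off A hAR hel (fun h => hbQ (h hb)) (by rw [hcB, hcA, one_mul]; exact hc)
  obtain ⟨τ, hτ, hτ2⟩ := h2 b hb
  obtain ⟨i, x, hix⟩ : ∃ i x, τ i x ≠ x := by
    by_contra hcon
    push Not at hcon
    apply hbQ
    apply K.triv b (hAR hb)
    intro w hw
    have h3 : co (b • w) = co w := by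
      funext i x
      have h4 := hτ w hw i x
      rw [hcon i x] at h4
      exact h4
    rw [K.add _ (smul_mem_WW (hRH (hAR hb)) hw) _ hw, h3]
    funext i x
    exact CharTwo.add_self_eq_zero _
  obtain ⟨_, b', hb', hb'2⟩ := hτ2 i x hix
  rcases hB b' hb' with h5 | h5
  · exfalso
    obtain ⟨w, hw, hw1, hw2⟩ := K.exists_sep i (Ne.symm hix)
    have h3 := hb'2 w hw i x
    rw [h5, one_smul, Equiv.Perm.one_apply, Function.update_self, Equiv.swap_apply_left, hw1, hw2] at h3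
    exact absurd h3 (by decide)
  · rw [h5] at hb'2
    exact ⟨i, x, τ i x, Ne.symm hix, hb'2, h1 b hb⟩

/-- **(d)** for `S_n` type: `|A ∩ Q| = 2`, `|A| = 4`, and if `|V : E_A| = 2`, then `V = W' + E_A` and `A ∩ Q = ⟨b⟩`
acts on `W'` as one transposition.  (`P` : independent point vectors of `W'`; `gg` : (a), (g).) -/
theorem TwoS.d [Finite Y] [Finite V] (h : TwoS V U T M H H' R k m co co' t) {A : Subgroup Y} (hA : A ∈ U)
    (hAH : A ≤ H) (hAQ : ¬ A ≤ QQ H R) (hE : ¬ WW V H' R ≤ Ee V A)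
    (gg : ∀ w, w ∉ Ee V A → ∀ s ∈ A, s • w + w ∈ WW V H R ⊔ fx V A →
      s ∈ QQ H R ∧ ∀ y ∈ WW V H' R, y ∈ Ee V A → s • y = y)
    {P : Set V} (hP : ∀ p ∈ P, p ∈ WW V H' R) (hgen : WW V H' R ≤ fx V R ⊔ AddSubgroup.closure P)
    (hsm : ∀ r ∈ R, ∀ p ∈ P, r • p ∈ P)
    (hind : ∀ p₁ ∈ P, ∀ p₂ ∈ P, ∀ p₃ ∈ P, ∀ p₄ ∈ P, p₁ + p₂ = p₃ + p₄ → p₁ = p₂ ∨ p₁ = p₃ ∨ p₁ = p₄) :
    ∃ b ∈ A ⊓ QQ H R, b ≠ 1 ∧ (∀ x ∈ A ⊓ QQ H R, x = 1 ∨ x = b) ∧ Nat.card ↥(A ⊓ QQ H R) = 2 ∧ Nat.card A = 4 ∧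
      (∀ y ∈ WW V H' R, y ∈ Ee V A → b • y = y) ∧
        ((Ee V A).index = 2 → WW V H' R ⊔ Ee V A = ⊤ ∧
          ∃ i x y, x ≠ y ∧ ActS V H' R co' b 1 (Function.update 1 i (Equiv.swap x y)) ∧ TrD V H' R co' b) := by
  have hm := h.amb.cls.mem A hA
  obtain ⟨_, b, hb, hb1, hB, hc2, hc4, hfix⟩ := h.a.d_two h.a' h.amb h.we hA hAH hAQ hE gg hP hgen hsm hind
  refine ⟨b, hb, hb1, hB, hc2, hc4, hfix, fun hi => ⟨Amal.d_sup hi hE, ?_⟩⟩
  obtain ⟨v, hvW, hvE⟩ : ∃ v ∈ WW V H' R, v ∉ Ee V A := by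
    by_contra hcon
    push Not at hcon
    exact hE hcon
  have hbQ : b ∉ QQ H' R := by
    intro h1
    apply hb1
    apply hm.inj v hvE b hb.1
    rw [Amal.QQ_fix h.a' h.amb h1 hvW, h.amb.two]
    exact zero_mem _
  refine h.K'.swap_of h.a'.RH (A := A ⊓ QQ H R) (inf_le_right.trans QQ_le) (ElAb.mono (Mem.elAb hm) inf_le_left) hb hB
    hbQ ?_
  have h1 := card_sup_as (WW V H' R) (Ee V A)
  have h2 : WW V H' R ⊓ Ee V A ≤ fx V (A ⊓ QQ H R) ⊓ WW V H' R := by
    rintro y ⟨hy1, hy2⟩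
    refine ⟨fun x hx => ?_, hy1⟩
    rcases hB x hx with h3 | h3
    · rw [h3, one_smul]
    · rw [h3]
      exact hfix y hy1 hy2
  have h3 : Nat.card ↥(WW V H' R ⊓ Ee V A) ≤ Nat.card ↥(fx V (A ⊓ QQ H R) ⊓ WW V H' R) :=
    Nat.card_le_card_of_injective _ (AddSubgroup.inclusion_injective h2)
  have h4 : Nat.card ↥(WW V H' R ⊔ Ee V A) ≤ 2 * Nat.card ↥(Ee V A) := by
    have h5 := AddSubgroup.card_mul_index (Ee V A)
    rw [hi] at h5
    rw [mul_comm, h5]
    exact Nat.card_le_card_of_injective _ (WW V H' R ⊔ Ee V A).subtype_injective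
  have hpos : 0 < Nat.card ↥(Ee V A) := Nat.card_pos
  apply Nat.le_of_mul_le_mul_right _ hpos
  calc Nat.card ↥(WW V H' R) * Nat.card ↥(Ee V A) =
        Nat.card ↥(WW V H' R ⊔ Ee V A) * Nat.card ↥(WW V H' R ⊓ Ee V A) := h1.symm
    _ ≤ 2 * Nat.card ↥(Ee V A) * Nat.card ↥(fx V (A ⊓ QQ H R) ⊓ WW V H' R) := Nat.mul_le_mul h4 h3
    _ = _ := by ring

end K

end Cfsg.Agent.Omega.NO1.TH
end

-- part: Mrg/Omega/NO3S/TwoOne/Main
section
set_option linter.all false
open scoped Cfsg.Agent.FastGrp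


/-!
# NO-3S, `TwoOneFin` (`|V_P| = 4`, critical distance 1) from its parts (assembler: helper391)

`x = z`: a point, `W_z = WW S P`, `K_z = kq V z`, `M = W_z/⟨z⟩`, `H = C_G(z)/K_z`, `A` = image of `W_y` in `H`, `y ∈ V#`.

* `FOneP K` : (F1); owners helper299, 451, 740;
* `FitP K` : `A` does not centralise every nilpotent normal subgroup of `H` ⟹ `FinHyp` (Tits) or known;
  owners helper311 (#13963), 568, 539, 204, 885, 55;
* `CompP K` : `A` centralises every nilpotent normal subgroup of `H` ⟹ known; owners helper311, 881, 986, 225;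
* `twoOneFin : FOneP K → FitP K → CompP K → TwoOneFin K`.
-/

set_option autoImplicit false

namespace Cfsg.Agent.Omega.NO3S.TwoOne

open Subgroup Cfsg Cfsg.Agent.Omega.MinPar Cfsg.Agent.Omega.Frame Cfsg.Agent.Omega.FrameNOFF
open Cfsg.Agent.ZN (zl zc o2)
open Cfsg.Agent.Omega.NoFF.Lines
open Cfsg.Agent.Classification.TitsFin (FinHyp)
open Cfsg.Agent.Omega.NO3S.Fit

universe u

variable {G : Type u} [Group G]

/-- the full family of centralizers -/
abbrev cg (p : G) : Subgroup G := centralizer ({p} : Set G)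

theorem wf_cent_eq {T V : Subgroup G} {z : G} (h : CaseL.Ln T V z) :
    wf V (centralizer ({z} : Set G)) = MinSimple.Geo.ws V z := by
  apply le_antisymm
  · exact wf_le fun c hc => MinSimple.Geo.le_ws (h.cj_mem_lines hc)
  · refine MinSimple.Geo.ws_le fun L hL => ?_
    obtain ⟨c, hc, rfl⟩ := h.exists_of_mem_lines hL
    exact cj_le_wf hc

/-- the full family of a flag with (F1) -/
theorem One.fam [Finite G] {T V : Subgroup G} {z : G} (h : One T V z) : Fam T V z cg := by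
  have hz := h.ln.z_mem
  have hz1 := h.ln.z_ne
  have hw : ∀ p ∈ V, p ≠ 1 → wf V (centralizer ({p} : Set G)) = MinSimple.Geo.ws V p := by
    intro p hp hp1
    obtain ⟨g, -, -, hg⟩ := h.point hp hp1
    exact wf_cent_eq hg.ln
  refine Fam.full h.ln ?_ ?_ ?_
  · rw [hw z hz hz1]; exact h.ab
  · obtain ⟨y, hy, hy1, hyz, a, ha, b, hb, hab⟩ := h.nc
    refine ⟨y, hy, hy1, hyz, a, ?_, b, ?_, hab⟩
    · rw [hw z hz hz1]; exact ha
    · rw [hw y hy hy1]; exact hb
  · obtain ⟨t, ht, htk, htm⟩ := (Far.Ab.mk h.ln h.ab h.f1).exists_T_kq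
    obtain ⟨y, hy, hy1, hyz⟩ := h.ln.exists_y
    refine ⟨t, ht, ⟨htk.1, mem_centralizer_singleton_iff.mp htk.1, fun w hw' => htk.2.1 w ?_⟩, ?_⟩
    · rw [← hw z hz hz1]; exact hw'
    · intro hc
      have h1 := htm y hy hy1 hyz
      have h2 := mem_centralizer_iff.mp hc y hy
      rw [← h2] at h1
      have h3 : z = 1 := by
        have : z * y = y := by rw [← h1]; group
        simpa using this
      exact hz1 h3

/-! ### The parts -/

variable (K : Cls.{u})

/-- **(F1)**: `K_z` moves the points of `V_P`. Paper: helper299 #12132, #15003; Lean: helper451 (`Omega/FOne/Crit.lean`,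
`f1_of_not_cr`), 740, 49. -/
def FOneP : Prop :=
  ∀ (G : Type u) [Group G] [Finite G], K G → ∀ (S : Sylow 2 G) (P : Subgroup G), Hyp S P →
    Nat.card (zl (S : Subgroup G) P) = 4 → ∀ z ∈ zc (S : Subgroup G), z ≠ 1 →
      (∃ k ∈ MinSimple.Geo.kq (zl (S : Subgroup G) P) z, k ∉ centralizer (zl (S : Subgroup G) P : Set G)) ∨
        IsKnownSimple' G

/-- `A` (the image of `W_y`, `y ∈ V#`, in `H = C_G(z)/K_z`) centralises every nilpotent normal subgroup of `H`, i.e.
the Fitting subgroup. -/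
def CenFit {G M H : Type u} [Group G] [AddCommGroup M] [Group H] [DistribMulAction H M] {V : Subgroup G} {z : G}
    (R : MRep V cg z M H) : Prop :=
  ∀ N : Subgroup H, N.Normal → Group.IsNilpotent N → ∀ y ∈ V, y ≠ 1 → y ≠ z →
    R.img (ww V cg y) ≤ centralizer (N : Set H)

/-- **`A` does not centralise `F(H)`**: the final configuration of the Tits group. Paper: helper311 #13963 (+ 151
#14477); Lean: helper568, 539, 204, 885 (`NO3S/Fit/*`), 55. -/
def FitP : Prop :=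
  ∀ (G : Type u) [Group G] [Finite G], K G → ∀ (S : Sylow 2 G) (P : Subgroup G), Hyp S P → ∀ z : G,
    One (S : Subgroup G) (zl (S : Subgroup G) P) z →
    ∀ (M H : Type u) [AddCommGroup M] [Finite M] [Group H] [Finite H] [DistribMulAction H M] [FaithfulSMul H M]
      (R : MRep (zl (S : Subgroup G) P) cg z M H), ¬ CenFit R → (∃ z p : G, FinHyp z p) ∨ IsKnownSimple' G

/-- **`A` centralises `F(H)`**: `A` is faithful on the components of `H`. Paper: helper881 #13700, helper225 #15275,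
helper311 (transvections), helper986. -/
def CompP : Prop :=
  ∀ (G : Type u) [Group G] [Finite G], K G → ∀ (S : Sylow 2 G) (P : Subgroup G), Hyp S P → ∀ z : G,
    One (S : Subgroup G) (zl (S : Subgroup G) P) z →
    ∀ (M H : Type u) [AddCommGroup M] [Finite M] [Group H] [Finite H] [DistribMulAction H M] [FaithfulSMul H M]
      (R : MRep (zl (S : Subgroup G) P) cg z M H), CenFit R → IsKnownSimple' G

variable {K}

/-- **`TwoOneFin` from its three parts.** -/
theorem twoOneFin (h0 : FOneP K) (h1 : FitP K) (h2 : CompP K) : TwoOneFin K := by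
  intro G _ _ hK S P h hc y hy
  obtain ⟨z, hz1⟩ := Subgroup.ne_bot_iff_exists_ne_one.1
    (MinSimple.Basic.zc_ne_bot S.isPGroup' (h.ctx.sylow_ne_bot S))
  have hz1' : (z : G) ≠ 1 := fun e => hz1 (Subtype.ext e)
  rcases h0 G hK S P h hc z z.2 hz1' with hf | hk
  · have ho := one_of_crit h hc z.2 hz1' hy hf
    obtain ⟨M, H, i1, i2, i3, i4, i5, i6, ⟨R⟩⟩ := ho.fam.exists_mrep
    by_cases hcf : CenFit R
    · exact Or.inr (h2 G hK S P h z ho M H R hcf)
    · exact h1 G hK S P h z ho M H R hcf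
  · exact Or.inr hk

end Cfsg.Agent.Omega.NO3S.TwoOne
end
end
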