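import Cfsg.Agent.Omega.NOThreeL.ATwo.Fam_m3
import Cfsg.Agent.Mrg.Omega.NSix.RCaseTwo_m3
import Cfsg.Agent.MinSimple.Geo_m3
import Cfsg.Agent.Mrg.Omega.Assembly
import Cfsg.Agent.Mrg.Omega.SQT.Rank
import Cfsg.Agent.Mrg.RankTwoClose.Braid_m3
import Cfsg.Agent.Mrg.Omega.OM.YThm.FfRep_m3
import Cfsg.Agent.Mrg.Omega.NO1.TH.K.ZedN_m3
import Cfsg.Agent.Mrg.Omega.IId.Cv.TwoV_m3
import Cfsg.Agent.FastGrp
import Cfsg.Agent.Prune
set_option linter.all false

section
prune_inst 0x7ff0fefbaffcafffffff7e7ffff5dffdf9f8ffffefdff9fbffecebff5fff4b84efe5fba7efe8d2fe6ed6e2bc30f87b13fbfece7feb6bdc7ffffd5ff45ffbff9fadeebda971d79c3e0ffc6ffffbf97fce7f3fffffffffffffffffffffffffffbefffdffffffff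

-- part: Mrg/Omega/F4Leaf/Pos
section
prune_inst 0x800000000000010000000000010000000000200000000000000010000000000000000040120800000000000000000000000004011020400202000100000000000000000000000000000000000000000000000000200000000
set_option linter.all false
open scoped Cfsg.Agent.FastGrp

-- merged: Cfsg.Agent.Mrg.Omega.F4Leaf.App
section

/-!
# LeafF4 (O4) (bb OMEGA #15257, #15619): the matching lemma with `V₀` inside a group

`V` is the even-subset module of degree `2 ^ m + 1` of `P ≥ S` (labels `ε`, `S` fixes the label 0), `V₀ ≤ Z(P)`,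
`Y ≥ V` is elementary abelian and normal in `P`, `S ∩ C(V)` centralises `Y` and `C_Y(S) ≤ V₀ × ⟨z_0⟩`.

* `Big.cen` : `C_P(V)` centralises `Y`;
* `Big.phi_eq` : an equivariant homomorphism `φ : V_n → Y` is trivial or the inclusion;
* `Vn_cen` : `V_n ≤ Z(W)`, `W = O₂(C_G(n))`.
-/

set_option autoImplicit false
set_option linter.dupNamespace false

namespace Cfsg.Agent.Omega.F4Leaf.App

open Subgroup Pointwise Cfsg.Agent Cfsg.Agent.Omega.S5.Def Cfsg.Agent.Omega.S5.Syl Cfsg.Agent.Omega.NSix.Match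
open Cfsg.Agent.Omega.NSix.Base Cfsg.Agent.Omega.NSix.Basic Cfsg.Agent.Omega.NSix.FixApp
open Cfsg.Agent.Omega.NSix.StabPerm (St)
open Cfsg.Agent.Omega.NSix.MatchApp (fix_all)

universe u

variable {G : Type u} [Group G]

/-- `Y` for `P`, `S`, `V₀`, `V`, `ε`. -/
structure Big (S P V0 V Y : Subgroup G) {m : ℕ} (ε : (Fin (2 ^ m + 1) → ZMod 2) → G) : Prop where
  ev : EvenSet (2 ^ m + 1) V P ε
  fix0 : Fix0 ε S
  le : S ≤ P
  comm : ∀ y ∈ Y, ∀ y' ∈ Y, y * y' = y' * y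
  sq : ∀ y ∈ Y, y * y = 1
  ge : V ≤ Y
  nrm : ∀ g ∈ P, ∀ y ∈ Y, g * y * g⁻¹ ∈ Y
  syl : ∀ s ∈ S, s ∈ centralizer (V : Set G) → s ∈ centralizer (Y : Set G)
  cz : ∀ v ∈ V0, ∀ g ∈ P, g * v = v * g
  fixed : ∀ y ∈ Y, (∀ s ∈ S, s * y = y * s) → ∃ v ∈ V0, y = v ∨ y = v * ε (Pi.single 0 1)

namespace Big

variable {S P V0 V Y : Subgroup G} {m : ℕ} {ε : (Fin (2 ^ m + 1) → ZMod 2) → G} (h : Big S P V0 V Y ε)
include h

theorem inv_nrm {g : G} (hg : g ∈ P) {y : G} (hy : y ∈ Y) : g⁻¹ * y * g ∈ Y := by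
  have h1 := h.nrm g⁻¹ (P.inv_mem hg) y hy
  rwa [inv_inv] at h1

/-- `P` acts on `Y`. -/
noncomputable def cjY : P →* MulAut Y where
  toFun g :=
    { toFun := fun y => ⟨g * y * (g : G)⁻¹, h.nrm g g.2 y y.2⟩
      invFun := fun y => ⟨(g : G)⁻¹ * y * g, h.inv_nrm g.2 y.2⟩
      left_inv := fun y => Subtype.ext (by simp [mul_assoc])
      right_inv := fun y => Subtype.ext (by simp only [mul_assoc, _root_.mul_inv_cancel_left, _root_.mul_inv_cancel, _root_.mul_one])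
      map_mul' := fun x y => Subtype.ext (by simp only [mul_assoc, _root_.Subgroup.coe_mul, _root_.MulMemClass.mk_mul_mk, _root_.inv_mul_cancel_left]) }
  map_one' := MulEquiv.ext fun y => Subtype.ext (by simp only [_root_.OneMemClass.coe_one, _root_.one_mul, _root_.inv_one, _root_.mul_one, _root_.Subtype.coe_eta, _root_.MulEquiv.coe_mk, _root_.Equiv.coe_fn_mk, _root_.MulAut.one_apply])
  map_mul' a b := MulEquiv.ext fun y => Subtype.ext (by simp only [mul_assoc, _root_.Subgroup.coe_mul, _root_.mul_inv_rev, _root_.MulEquiv.coe_mk, _root_.Equiv.coe_fn_mk, _root_.MulAut.mul_apply])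

theorem cjY_apply (g : P) (y : Y) : ((h.cjY g y : Y) : G) = g * y * (g : G)⁻¹ := rfl

/-- `C_P(V)` centralises `Y`. -/
theorem cen [Finite G] (hS2 : ¬ 2 ∣ S.relIndex P) (hS : IsPGroup 2 S) {g : G} (hg : g ∈ P)
    (hgV : g ∈ centralizer (V : Set G)) : g ∈ centralizer (Y : Set G) := by
  have hf : Fact (Nat.Prime 2) := ⟨Nat.prime_two⟩
  letI : CommGroup Y := { (inferInstance : Group Y) with mul_comm := fun a b => Subtype.ext (h.comm a a.2 b b.2) }
  have hVn : P ≤ normalizer (V : Set G) := h.ev.le_normalizer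
  let K : Subgroup P := (P ⊓ centralizer (V : Set G)).subgroupOf P
  have hKn : K.Normal := by
    constructor
    rintro k ⟨-, hk⟩ g
    refine ⟨(g * k * g⁻¹).2, ?_⟩
    replace hk : ∀ v ∈ V, v * (k : G) = k * v := mem_centralizer_iff.mp hk
    change ((g * k * g⁻¹ : P) : G) ∈ centralizer (V : Set G)
    rw [mem_centralizer_iff]
    intro v hv
    have h1 : (g : G)⁻¹ * v * g ∈ V := by
      have := (mem_normalizer_iff.mp (hVn (P.inv_mem g.2)) v).mp hv
      rwa [inv_inv] at this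
    have h2 := hk _ h1
    change v * (g * k * (g : G)⁻¹) = g * k * (g : G)⁻¹ * v
    calc v * (g * k * (g : G)⁻¹) = g * ((g : G)⁻¹ * v * g * k) * (g : G)⁻¹ := by group
      _ = g * (k * ((g : G)⁻¹ * v * g)) * (g : G)⁻¹ := by rw [h2]
      _ = _ := by group
  have hS' : IsPGroup 2 (S.subgroupOf P) := hS.comap_of_injective _ P.subtype_injective
  have hSi : ¬ 2 ∣ (S.subgroupOf P).index := hS2
  have h1 : ¬ 2 ∣ (S.subgroupOf P).relIndex K :=
    Lib.SylowNormalInf.not_dvd_relIndex (hS'.toSylow hSi) K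
  have hker : S.subgroupOf P ⊓ K ≤ h.cjY.ker := by
    rintro s ⟨hs, -, hk⟩
    rw [MonoidHom.mem_ker]
    refine MulEquiv.ext fun y => Subtype.ext ?_
    have h2 := h.syl s hs hk
    rw [mem_centralizer_iff] at h2
    rw [h.cjY_apply, ← h2 y y.2, mul_inv_cancel_right]
    rfl
  have hR : ¬ 2 ∣ Nat.card (K.map h.cjY) := by
    rw [← relIndex_ker]
    intro h2
    apply h1
    rw [← inf_relIndex_right]
    exact h2.trans (relIndex_dvd_of_le_left K hker)
  have key := fix_all (Y := Y) (fun y => Subtype.ext (h.sq y y.2)) (K.map h.cjY)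
    ((S.subgroupOf P).map h.cjY) hR (hS'.map _) (by
      rintro _ ⟨t, -, rfl⟩ _ ⟨r, hr, rfl⟩
      rw [← map_inv, ← map_mul, ← map_mul]
      exact ⟨_, hKn.conj_mem r hr t, rfl⟩) (by
      rintro y hy _ ⟨r, ⟨-, hr⟩, rfl⟩
      have h2 : ∀ s ∈ S, s * (y : G) = y * s := by
        intro s hs
        have h3 := congrArg Subtype.val (hy _ ⟨⟨s, h.le hs⟩, hs, rfl⟩)
        rw [h.cjY_apply] at h3
        change s * (y : G) * s⁻¹ = y at h3
        rw [mul_inv_eq_iff_eq_mul] at h3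
        exact h3
      replace hr : ∀ v ∈ V, v * (r : G) = r * v := mem_centralizer_iff.mp hr
      have h3 : (y : G) * r = r * y := by
        obtain ⟨v, hv, h4 | h4⟩ := h.fixed y y.2 h2
        · rw [h4]
          exact (h.cz v hv r r.2).symm
        · rw [h4]
          calc v * ε (Pi.single 0 1) * r = v * (ε (Pi.single 0 1) * r) := by group
            _ = v * r * ε (Pi.single 0 1) := by rw [hr _ (h.ev.mem _), mul_assoc]
            _ = _ := by rw [← h.cz v hv r r.2, mul_assoc]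
      refine Subtype.ext ?_
      rw [h.cjY_apply, ← h3, mul_inv_cancel_right])
  rw [mem_centralizer_iff]
  intro y hy
  have h2 := congrArg Subtype.val (key _ ⟨⟨g, hg⟩, ⟨hg, hgV⟩, rfl⟩ ⟨y, hy⟩)
  rw [h.cjY_apply] at h2
  change g * y * g⁻¹ = y at h2
  rw [mul_inv_eq_iff_eq_mul] at h2
  exact h2.symm

/-- `x` and `y` induce the same permutation: they act in the same way on `Y`. -/
theorem act_eq [Finite G] (hS2 : ¬ 2 ∣ S.relIndex P) (hS : IsPGroup 2 S) {g k : G} (hg : g ∈ P) (hk : k ∈ P)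
    {σ : Equiv.Perm (Fin (2 ^ m + 1))} (hgσ : Acts ε g σ) (hkσ : Acts ε k σ) {y : G} (hy : y ∈ Y) :
    g * y * g⁻¹ = k * y * k⁻¹ := by
  have h1 := h.cen hS2 hS (P.mul_mem (P.inv_mem hk) hg) (h.ev.mem_centralizer_of_acts hgσ hkσ)
  have h2 := mem_centralizer_iff.mp h1 y hy
  calc g * y * g⁻¹ = k * (k⁻¹ * g * y) * g⁻¹ := by group
    _ = k * (y * (k⁻¹ * g)) * g⁻¹ := by rw [h2]
    _ = _ := by group

end Big

/-! ### The vectors `u_k = Ω - n - k` of `V_n` -/

theorem ind_single {n : ℕ} (i : Fin n) : (ind ({i} : Finset (Fin n))) = Pi.single i 1 := by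
  funext k
  by_cases hk : k = i
  · subst hk
    simp [ind]
  · simp [ind, hk]

/-- `r_ij z_k ∈ V_n` for `k ≠ i, j`: it is the even set `Ω - {i, j, k}`. -/
theorem uu_mem {m : ℕ} {ε : (Fin (2 ^ m + 1) → ZMod 2) → G} {V P : Subgroup G} (hm : 1 ≤ m)
    (h : EvenSet (2 ^ m + 1) V P ε) {i j k : Fin (2 ^ m + 1)} (hij : i ≠ j) (hk : k ≠ i ∧ k ≠ j) :
    rr ε i j * zz ε k ∈ Vn ε i j := by
  classical
  have key : ∀ s : Finset (Fin (2 ^ m + 1)), i ∉ s → j ∉ s →
      ε (ind s + s.card • ind {k}) ∈ Vn ε i j := by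
    intro s
    induction s using Finset.induction_on with
    | empty =>
      intro _ _
      have h1 : (ind (∅ : Finset (Fin (2 ^ m + 1))) + (∅ : Finset (Fin (2 ^ m + 1))).card • ind {k}) = 0 := by
        funext x
        simp [ind]
      rw [h1, h.zero]
      exact one_mem _
    | insert a s ha ih =>
      intro hi hj
      rw [Finset.mem_insert, not_or] at hi hj
      have h1 : (ind (insert a s) + (insert a s).card • ind {k} : Fin (2 ^ m + 1) → ZMod 2) =
          (ind s + s.card • ind {k}) + (ind {a} + ind {k}) := by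
        have h2 : (ind (insert a s) : Fin (2 ^ m + 1) → ZMod 2) = ind s + ind {a} := by
          funext x
          by_cases hx : x = a
          · subst hx
            simp [ind, ha]
          · simp [ind, hx]
        rw [h2, Finset.card_insert_of_notMem ha, add_nsmul, one_nsmul]
        abel
      rw [h1, h.add, h.add (ind {a})]
      refine mul_mem (ih hi.2 hj.2) ?_
      rw [ind_single, ind_single]
      exact rr_mem_Vn ⟨Ne.symm hi.1, Ne.symm hj.1⟩ hk
  have h1 := key ({i, j, k} : Finset (Fin (2 ^ m + 1)))ᶜ (by simp) (by simp)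
  have hc : ({i, j, k} : Finset (Fin (2 ^ m + 1))).card = 3 :=
    Finset.card_eq_three.mpr ⟨i, j, k, hij, hk.1.symm, hk.2.symm, rfl⟩
  have h2 : (({i, j, k} : Finset (Fin (2 ^ m + 1)))ᶜ.card • ind {k} : Fin (2 ^ m + 1) → ZMod 2) = 0 := by
    rw [Finset.card_compl, hc, Fintype.card_fin]
    obtain ⟨l, rfl⟩ : ∃ l, m = l + 1 := ⟨m - 1, by omega⟩
    have h3 : 1 ≤ 2 ^ l := Nat.one_le_two_pow
    have h4 : 2 ^ (l + 1) + 1 - 3 = (2 ^ l - 1) * 2 := by rw [pow_succ]; omega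
    rw [h4, mul_nsmul, two_nsmul, add_self]
  rw [h2, add_zero] at h1
  have h3 : ε (ind ({i, j, k} : Finset (Fin (2 ^ m + 1)))ᶜ) = ε (ind {i, j, k}) := by
    rw [h.eq_iff]
    right
    funext x
    by_cases hx : x ∈ ({i, j, k} : Finset (Fin (2 ^ m + 1)))
    · simp only [ind, Finset.mem_compl, hx, not_true, if_false, if_true, Pi.add_apply, Pi.one_apply]
      decide
    · simp only [ind, Finset.mem_compl, hx, not_false_iff, if_false, if_true, Pi.add_apply, Pi.one_apply, zero_add]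
  have h4 : (ind ({i, j, k} : Finset (Fin (2 ^ m + 1))) : Fin (2 ^ m + 1) → ZMod 2) =
      (Pi.single i 1 + Pi.single j 1) + Pi.single k 1 := by
    rw [← ind_single, ← ind_single, ← ind_single]
    funext x
    have hik := hk.1
    have hjk := hk.2
    by_cases hx1 : x = i
    · subst hx1
      simp [ind, hij, hk.1.symm]
    · by_cases hx2 : x = j
      · subst hx2
        simp [ind, hx1, hk.2.symm]
      · simp [ind, hx1, hx2]
  rw [h3, h4, h.add, h.add] at h1
  exact h1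

namespace Big

variable {S P V0 V Y : Subgroup G} {m : ℕ} {ε : (Fin (2 ^ m + 1) → ZMod 2) → G} (h : Big S P V0 V Y ε)
include h

/-- The matching lemma: an equivariant homomorphism `φ : V_n → Y` is trivial or the inclusion. -/
theorem phi_eq [Finite G] (hm : 2 ≤ m) (hS2 : ¬ 2 ∣ S.relIndex P) (hS : IsPGroup 2 S)
    {i j : Fin (2 ^ m + 1)} (hij : i ≠ j) {φ : G → G} (hφY : ∀ v ∈ Vn ε i j, φ v ∈ Y)
    (hmul : ∀ v ∈ Vn ε i j, ∀ w ∈ Vn ε i j, φ (v * w) = φ v * φ w)
    (heq : ∀ σ ∈ St i j, ∃ g ∈ P, Acts ε g σ ∧ ∀ v ∈ Vn ε i j, φ (g * v * g⁻¹) = g * φ v * g⁻¹) :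
    (∀ v ∈ Vn ε i j, φ v = 1) ∨ ∀ v ∈ Vn ε i j, φ v = v := by
  classical
  have hf : Fact (Nat.Prime 2) := ⟨Nat.prime_two⟩
  have hn : 3 ≤ 2 ^ m + 1 := three_le (by omega)
  letI : CommGroup Y := { (inferInstance : Group Y) with mul_comm := fun a b => Subtype.ext (h.comm a a.2 b b.2) }
  -- the action of the symmetric group
  choose f hfP hfA using h.ev.full
  let act : DistribMulAction (Equiv.Perm (Fin (2 ^ m + 1))) (Additive Y) :=
    { smul := fun σ y => Additive.ofMul ⟨f σ * (y.toMul : G) * (f σ)⁻¹, h.nrm _ (hfP σ) _ y.toMul.2⟩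
      one_smul := fun y => by
        refine congrArg Additive.ofMul (Subtype.ext ?_)
        have h1 := h.act_eq hS2 hS (hfP 1) P.one_mem (hfA 1) Acts.one y.toMul.2
        rw [one_mul, inv_one, mul_one] at h1
        exact h1
      mul_smul := fun σ τ y => by
        refine congrArg Additive.ofMul (Subtype.ext ?_)
        have h1 := h.act_eq hS2 hS (hfP (σ * τ)) (P.mul_mem (hfP σ) (hfP τ)) (hfA (σ * τ))
          ((hfA σ).mul (hfA τ)) y.toMul.2
        refine h1.trans ?_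
        change f σ * f τ * (y.toMul : G) * (f σ * f τ)⁻¹ = f σ * (f τ * (y.toMul : G) * (f τ)⁻¹) * (f σ)⁻¹
        group
      smul_zero := fun σ => by
        refine congrArg Additive.ofMul (Subtype.ext ?_)
        change f σ * (1 : G) * (f σ)⁻¹ = 1
        group
      smul_add := fun σ x y => by
        refine congrArg Additive.ofMul (Subtype.ext ?_)
        change f σ * ((x.toMul : G) * (y.toMul : G)) * (f σ)⁻¹ =
          f σ * (x.toMul : G) * (f σ)⁻¹ * (f σ * (y.toMul : G) * (f σ)⁻¹)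
        group }
  have hact : ∀ (σ : Equiv.Perm (Fin (2 ^ m + 1))) (y : Additive Y),
      (((σ • y).toMul : Y) : G) = f σ * (y.toMul : G) * (f σ)⁻¹ := fun _ _ => rfl
  let ι : (Fin (2 ^ m + 1) → ZMod 2) → Additive Y := fun v => Additive.ofMul ⟨ε v, h.ge (h.ev.mem v)⟩
  have hι : ∀ v, (((ι v).toMul : Y) : G) = ε v := fun _ => rfl
  have hext : ∀ {x y : Additive Y}, ((x.toMul : Y) : G) = ((y.toMul : Y) : G) → x = y := by
    intro x y hxy
    exact congrArg Additive.ofMul (Subtype.ext hxy)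
  have hM : _root_.Cfsg.Agent.Omega.NSix.Match.Mod ι :=
    { two := fun y => hext (h.sq _ y.toMul.2)
      add := fun u v => hext (h.ev.add u v)
      act := fun σ v => hext ((hfA σ) v)
      ker := fun v => by
        rw [← h.ev.ker v]
        exact ⟨fun h1 => congrArg (fun w : Additive Y => (w.toMul : G)) h1, fun h1 => hext h1⟩ }
  -- the Sylow 2-subgroup
  let π := h.ev.hom hn
  have hS' : IsPGroup 2 ((S.subgroupOf P).map π) := (hS.comap_of_injective _ P.subtype_injective).map _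
  have hSi : ¬ 2 ∣ ((S.subgroupOf P).map π).index :=
    fun h2 => hS2 (h2.trans (index_map_dvd _ (h.ev.hom_surjective hn)))
  have hFix : F4Leaf.Match.FixS ((hS'.toSylow hSi : Sylow 2 _) : Subgroup (Equiv.Perm (Fin (2 ^ m + 1)))) ι := by
    intro o ho y hy
    have ho0 : o = 0 := by
      by_contra hne
      have hcard : ({0, o} : Finset (Fin (2 ^ m + 1))).card < (Finset.univ : Finset (Fin (2 ^ m + 1))).card := by
        rw [Finset.card_univ, Fintype.card_fin]
        exact lt_of_le_of_lt Finset.card_le_two (by omega)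
      obtain ⟨j, -, hj⟩ := Finset.exists_mem_notMem_of_card_lt_card hcard
      simp only [Finset.mem_insert, Finset.mem_singleton, not_or] at hj
      obtain ⟨s, hs, σ, hσ, hσo⟩ := trans (by omega) h.ev h.le hS2 h.fix0 hne hj.1
      have h4 : σ ∈ (((hS'.toSylow hSi : Sylow 2 _)) : Subgroup (Equiv.Perm (Fin (2 ^ m + 1)))) :=
        ⟨⟨s, h.le hs⟩, hs, h.ev.hom_eq hn hσ⟩
      rw [ho σ h4] at hσo
      exact hj.2 hσo.symm
    subst ho0
    have h1 : ∀ s ∈ S, s * ((y.toMul : Y) : G) = (y.toMul : Y) * s := by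
      intro s hs
      obtain ⟨σ, hσ⟩ := h.ev.perm s (h.le hs)
      have h4 : σ ∈ (((hS'.toSylow hSi : Sylow 2 _)) : Subgroup (Equiv.Perm (Fin (2 ^ m + 1)))) :=
        ⟨⟨s, h.le hs⟩, hs, h.ev.hom_eq hn hσ⟩
      have h5 := congrArg (fun w : Additive Y => (w.toMul : G)) (hy σ h4)
      change f σ * ((y.toMul : Y) : G) * (f σ)⁻¹ = _ at h5
      rw [h.act_eq hS2 hS (hfP σ) (h.le hs) (hfA σ) hσ y.toMul.2, mul_inv_eq_iff_eq_mul] at h5
      exact h5
    rw [ind_single]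
    obtain ⟨v, hv, h2⟩ := h.fixed _ y.toMul.2 h1
    have hvY : v ∈ Y := by
      rcases h2 with h2 | h2
      · rw [← h2]
        exact y.toMul.2
      · have h3 : v = ((y.toMul : Y) : G) * ε (Pi.single 0 1) := by
          rw [h2, mul_assoc, h.ev.sq, mul_one]
        rw [h3]
        exact Y.mul_mem y.toMul.2 (h.ge (h.ev.mem _))
    refine ⟨Additive.ofMul ⟨v, hvY⟩, fun σ => hext ?_, ?_⟩
    · rw [hact]
      change f σ * v * (f σ)⁻¹ = v
      rw [h.cz v hv _ (hfP σ), mul_inv_cancel_right]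
    · rcases h2 with h2 | h2
      · exact Or.inl (hext h2)
      · exact Or.inr (hext h2)
  -- the vectors `u_k`
  let e : Finset (Fin (2 ^ m + 1)) := {i, j}
  have hne : ∀ {k}, k ∉ e → k ≠ i ∧ k ≠ j := by
    intro k hk
    simpa [e] using hk
  have hecard : e.card = 2 := Finset.card_pair hij
  letI : CommGroup (Vn ε i j) := { (inferInstance : Group (Vn ε i j)) with
    mul_comm := fun a b => Subtype.ext (h.ev.comm_mem (Vn_le h.ev a.2) (Vn_le h.ev b.2)) }
  let J : Additive (Vn ε i j) →+ Additive Y := MonoidHom.toAdditive (Subgroup.inclusion ((Vn_le h.ev).trans h.ge))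
  let Φ : Additive (Vn ε i j) →+ Additive Y := MonoidHom.toAdditive (MonoidHom.mk'
    (fun v : Vn ε i j => (⟨φ v, hφY v v.2⟩ : Y)) fun a b => Subtype.ext (hmul a a.2 b b.2))
  have hJinj : Function.Injective J := fun a b hab => by
    have h1 : (((J a).toMul : Y) : G) = ((J b).toMul : Y) := by rw [hab]
    exact congrArg Additive.ofMul (Subtype.ext h1)
  let U : Fin (2 ^ m + 1) → Additive (Vn ε i j) := fun k =>
    if hk : k ∉ e then Additive.ofMul ⟨rr ε i j * zz ε k, uu_mem (by omega) h.ev hij (hne hk)⟩ else 0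
  have hU : ∀ k, k ∉ e → (((U k).toMul : Vn ε i j) : G) = rr ε i j * zz ε k := by
    intro k hk
    have h1 : U k = Additive.ofMul ⟨rr ε i j * zz ε k, uu_mem (by omega) h.ev hij (hne hk)⟩ := dif_pos hk
    rw [h1]
    rfl
  have hJU : ∀ k, k ∉ e → J (U k) = ι (ind e) + ι (ind {k}) := by
    intro k hk
    refine hext ?_
    change (((U k).toMul : Vn ε i j) : G) = ε (ind e) * ε (ind {k})
    have h1 : (ind e : Fin (2 ^ m + 1) → ZMod 2) = Pi.single i 1 + Pi.single j 1 := by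
      rw [← ind_single, ← ind_single]
      funext x
      by_cases h1 : x = i
      · subst h1
        simp [ind, e, hij]
      · by_cases h2 : x = j
        · subst h2
          simp [ind, e, h1]
        · simp [ind, e, h1, h2]
    rw [hU k hk, h1, h.ev.add, ind_single]
    rfl
  have hsumU : ∑ k ∈ eᶜ, U k = 0 := by
    apply hJinj
    rw [map_sum, map_zero, Finset.sum_congr rfl (fun k hk => hJU k (Finset.mem_compl.mp hk)),
      Finset.sum_add_distrib, Finset.sum_const, F4Leaf.Match.sum_ind hM, F4Leaf.Match.ind_compl hM,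
      NSix.MatchP.odd_nsmul hM.two, hM.two]
    rw [Finset.card_compl, hecard, Fintype.card_fin]
    obtain ⟨k, rfl⟩ : ∃ k, m = k + 1 := ⟨m - 1, by omega⟩
    have h1 : 1 ≤ 2 ^ k := Nat.one_le_two_pow
    exact ⟨2 ^ k - 1, by rw [pow_succ]; omega⟩
  have hmain := F4Leaf.Match.matching_lemma hM hm (by rw [Fintype.card_fin]) (hS'.toSylow hSi) hFix hecard
    (f := fun k => Φ (U k)) (by
      intro σ hσ k hk
      have hσi : σ i ∈ e := by
        rw [← hσ]
        exact Finset.smul_mem_smul_finset (by simp [e])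
      have hσj : σ j ∈ e := by
        rw [← hσ]
        exact Finset.smul_mem_smul_finset (by simp [e])
      have hσk : σ k ∉ e := fun h0 => hk (by
        rw [← hσ] at h0
        exact (Finset.smul_mem_smul_finset_iff σ).mp h0)
      have hSt : σ ∈ St i j := by
        have h1 : σ i = i ∨ σ i = j := by simpa [e] using hσi
        have h2 : σ j = i ∨ σ j = j := by simpa [e] using hσj
        have h3 : σ i ≠ σ j := σ.injective.ne hij
        rcases h1 with h1 | h1 <;> rcases h2 with h2 | h2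
        · exact absurd (h1.trans h2.symm) h3
        · exact Or.inl ⟨h1, h2⟩
        · exact Or.inr ⟨h1, h2⟩
        · exact absurd (h1.trans h2.symm) h3
      obtain ⟨g, hg, hgσ, hg2⟩ := heq σ hSt
      refine hext ?_
      rw [hact]
      change f σ * φ (((U k).toMul : Vn ε i j) : G) * (f σ)⁻¹ = φ (((U (σ k)).toMul : Vn ε i j) : G)
      rw [hU k hk, hU _ hσk, h.act_eq hS2 hS (hfP σ) hg (hfA σ) hgσ (hφY _ (uu_mem (by omega) h.ev hij (hne hk))),
        ← hg2 _ (uu_mem (by omega) h.ev hij (hne hk))]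
      congr 1
      have h1 : g * (rr ε i j * zz ε k) * g⁻¹ = (g * rr ε i j * g⁻¹) * (g * zz ε k * g⁻¹) := by group
      rw [h1, rr_conj hgσ, zz_conj hgσ]
      rcases hSt with ⟨h2, h3⟩ | ⟨h2, h3⟩
      · rw [h2, h3]
      · rw [h2, h3, rr_symm h.ev]) (by
      rw [← map_sum, hsumU, map_zero])
  have hgen : ∀ k l, (k ≠ i ∧ k ≠ j) → (l ≠ i ∧ l ≠ j) →
      rr ε k l = (rr ε i j * zz ε k) * (rr ε i j * zz ε l) := by
    intro k l _ _
    have h1 : zz ε k * rr ε i j = rr ε i j * zz ε k := h.ev.comm_mem (zz_mem h.ev k) (rr_mem h.ev i j)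
    calc rr ε k l = zz ε k * zz ε l := rfl
      _ = (rr ε i j * rr ε i j) * zz ε k * zz ε l := by rw [rr_sq h.ev, one_mul]
      _ = rr ε i j * (rr ε i j * zz ε k) * zz ε l := by group
      _ = rr ε i j * (zz ε k * rr ε i j) * zz ε l := by rw [h1]
      _ = _ := by group
  have hφ1 : φ 1 = 1 := by
    have h5 := hmul 1 (one_mem _) 1 (one_mem _)
    rw [one_mul] at h5
    exact mul_eq_left.mp h5.symm
  have hnot : ∀ {k}, (k ≠ i ∧ k ≠ j) → k ∉ e := by
    intro k hk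
    simpa [e] using hk
  rcases hmain with h1 | h1
  · left
    have h2 : ∀ k, (k ≠ i ∧ k ≠ j) → φ (rr ε i j * zz ε k) = 1 := by
      intro k hk
      have h3 := congrArg (fun w : Additive Y => (w.toMul : G)) (h1 k (hnot hk))
      change φ (((U k).toMul : Vn ε i j) : G) = 1 at h3
      rwa [hU k (hnot hk)] at h3
    intro v hv
    unfold Vn at hv
    induction hv using closure_induction with
    | mem x hx =>
      obtain ⟨k, l, hk, hl, rfl⟩ := hx
      rw [hgen k l hk hl, hmul _ (uu_mem (by omega) h.ev hij hk) _ (uu_mem (by omega) h.ev hij hl), h2 k hk, h2 l hl,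
        one_mul]
    | one => exact hφ1
    | mul x y hx' hy' hx hy => rw [hmul x hx' y hy', hx, hy, one_mul]
    | inv x hx' hx =>
      have h9 := hmul x hx' x⁻¹ (inv_mem hx')
      rw [mul_inv_cancel, hφ1, hx, one_mul] at h9
      exact h9.symm
  · right
    have h2 : ∀ k, (k ≠ i ∧ k ≠ j) → φ (rr ε i j * zz ε k) = rr ε i j * zz ε k := by
      intro k hk
      have h4 : Φ (U k) = J (U k) := (h1 k (hnot hk)).trans (hJU k (hnot hk)).symm
      have h3 := congrArg (fun w : Additive Y => (w.toMul : G)) h4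
      change φ (((U k).toMul : Vn ε i j) : G) = (((U k).toMul : Vn ε i j) : G) at h3
      rwa [hU k (hnot hk)] at h3
    intro v hv
    unfold Vn at hv
    induction hv using closure_induction with
    | mem x hx =>
      obtain ⟨k, l, hk, hl, rfl⟩ := hx
      rw [hgen k l hk hl, hmul _ (uu_mem (by omega) h.ev hij hk) _ (uu_mem (by omega) h.ev hij hl), h2 k hk, h2 l hl]
    | one => exact hφ1
    | mul x y hx' hy' hx hy => rw [hmul x hx' y hy', hx, hy]
    | inv x hx' hx =>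
      have h9 := hmul x hx' x⁻¹ (inv_mem hx')
      rw [mul_inv_cancel, hφ1, hx] at h9
      exact (eq_inv_of_mul_eq_one_right h9.symm)

end Big

/-! ### `V_n ≤ Z(O₂(C_G(n)))` -/

open Cfsg.Agent.ZN (o2 zc zl)
open Cfsg.Agent.MinSimple.VModule (o2_le o2_isPGroup le_normalizer_o2 mem_zc)
open Cfsg.Agent.MinSimple.Geo (inf_centralizer_o2_le isTwoLocal_centralizer)
open Cfsg.Agent.Omega.MinPar

/-- `O₂` of a conjugate -/
theorem o2_NN_conj {n : ℕ} {ε : (Fin n → ZMod 2) → G} {g x : G} {σ : Equiv.Perm (Fin n)} (hg : Acts ε g σ)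
    {i j : Fin n} (hx : x ∈ o2 (NN ε i j)) : g * x * g⁻¹ ∈ o2 (NN ε (σ i) (σ j)) := by
  have hback : ∀ y ∈ NN ε (σ i) (σ j), g⁻¹ * y * g ∈ NN ε i j := by
    intro y hy
    have h1 := conj_NN hg.inv hy
    have e : ∀ m, σ⁻¹ (σ m) = m := fun m => σ.symm_apply_apply m
    rwa [e, e, inv_inv] at h1
  have h3 : (o2 (NN ε i j)).map (MulAut.conj g).toMonoidHom ≤ o2 (NN ε (σ i) (σ j)) := by
    apply MinSimple.VModule.le_o2
    · rintro _ ⟨y, hy, rfl⟩
      exact conj_NN hg (o2_le _ hy)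
    · exact (o2_isPGroup _).map _
    · have key : ∀ l ∈ NN ε (σ i) (σ j), ∀ y ∈ (o2 (NN ε i j)).map (MulAut.conj g).toMonoidHom,
          l * y * l⁻¹ ∈ (o2 (NN ε i j)).map (MulAut.conj g).toMonoidHom := by
        rintro l hl _ ⟨y, hy, rfl⟩
        refine ⟨(g⁻¹ * l * g) * y * (g⁻¹ * l * g)⁻¹,
          (mem_normalizer_iff.mp (le_normalizer_o2 _ (hback l hl)) y).mp hy, ?_⟩
        change g * ((g⁻¹ * l * g) * y * (g⁻¹ * l * g)⁻¹) * g⁻¹ = l * (g * y * g⁻¹) * l⁻¹
        group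
      intro l hl
      rw [mem_normalizer_iff]
      refine fun y => ⟨key l hl y, fun hy => ?_⟩
      have := key l⁻¹ (inv_mem hl) _ hy
      have h3 : l⁻¹ * (l * y * l⁻¹) * l⁻¹⁻¹ = y := by group
      rwa [h3] at this
  exact h3 ⟨x, hx, rfl⟩

/-- `S` induces a transposition. -/
theorem exists_swap [Finite G] {m : ℕ} (hm : 1 ≤ m) {V P : Subgroup G} {ε : (Fin (2 ^ m + 1) → ZMod 2) → G}
    (h : EvenSet (2 ^ m + 1) V P ε) {S : Subgroup G} (hSP : S ≤ P) (hS2 : ¬ 2 ∣ S.relIndex P)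
    (hS : IsPGroup 2 S) : ∃ i j, i ≠ j ∧ ∃ a ∈ S, Acts ε a (Equiv.swap i j) := by
  have hf : Fact (Nat.Prime 2) := ⟨Nat.prime_two⟩
  have hn : 3 ≤ 2 ^ m + 1 := three_le hm
  let π := h.hom hn
  have hS' : IsPGroup 2 ((S.subgroupOf P).map π) := (hS.comap_of_injective _ P.subtype_injective).map _
  have hSi : ¬ 2 ∣ ((S.subgroupOf P).map π).index :=
    fun h2 => hS2 (h2.trans (index_map_dvd _ (h.hom_surjective hn)))
  let i0 : Fin (2 ^ m + 1) := ⟨0, by omega⟩
  let i1 : Fin (2 ^ m + 1) := ⟨1, by omega⟩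
  have h01 : i0 ≠ i1 := by
    intro h1
    have := congrArg Fin.val h1
    simp [i0, i1] at this
  have hp : IsPGroup 2 (zpowers (Equiv.swap i0 i1)) := by
    rw [IsPGroup.iff_card]
    refine ⟨1, ?_⟩
    rw [Nat.card_zpowers, pow_one]
    refine orderOf_eq_prime ?_ ?_
    · rw [pow_two, Equiv.swap_mul_self]
    · rw [Ne, Equiv.swap_eq_one_iff]
      exact h01
  obtain ⟨R, hR⟩ := hp.exists_le_sylow
  obtain ⟨g, hg⟩ := MulAction.exists_smul_eq (Equiv.Perm (Fin (2 ^ m + 1))) R (hS'.toSylow hSi)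
  have h1 : g * Equiv.swap i0 i1 * g⁻¹ ∈ ((hS'.toSylow hSi : Sylow 2 _) : Subgroup (Equiv.Perm (Fin (2 ^ m + 1)))) := by
    rw [← hg, Sylow.coe_subgroup_smul]
    exact Subgroup.smul_mem_pointwise_smul _ (MulAut.conj g) _ (hR (mem_zpowers _))
  rw [← Equiv.swap_apply_apply] at h1
  obtain ⟨s, hs, hs2⟩ := h1
  refine ⟨g i0, g i1, g.injective.ne h01, (s : G), hs, ?_⟩
  rw [← hs2]
  exact h.acts_hom hn s

/-- **`V_n ≤ Z(O₂(C_G(n)))`**, with `V₀`. -/
theorem Vn_cen [Finite G] (hG : IsCharacteristicTwoType G) (S : Sylow 2 G) {P A V0 : Subgroup G} {m : ℕ} (hm : 2 ≤ m)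
    {ε : (Fin (2 ^ m + 1) → ZMod 2) → G} (h : EvenSet (2 ^ m + 1) A P ε) (hP : IsParS (S : Subgroup G) P)
    (h0 : Fix0 ε (S : Subgroup G)) (hV0 : ∀ v ∈ V0, ∀ g ∈ P, g * v = v * g)
    (hV : ∀ v ∈ zl (S : Subgroup G) P, ∃ c ∈ V0, ∃ a ∈ A, v = c * a) (hA : A ≤ zl (S : Subgroup G) P)
    {i j : Fin (2 ^ m + 1)} (hij : i ≠ j) {v : G} (hv : v ∈ Vn ε i j) :
    v ∈ o2 (NN ε i j) ∧ ∀ x ∈ o2 (NN ε i j), v * x = x * v := by
  have hf : Fact (Nat.Prime 2) := ⟨Nat.prime_two⟩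
  have hn : 3 ≤ 2 ^ m + 1 := three_le (by omega)
  have hSP : (S : Subgroup G) ≤ P := hP.le
  have hS2 : ¬ 2 ∣ (S : Subgroup G).relIndex P := MinSimple.Basic.not_dvd_relIndex S hSP
  have hinf := hP.inf_centralizer S hG
  have hQS : o2 P ≤ (S : Subgroup G) := by
    rw [← hinf]
    exact inf_le_left
  have hQz : o2 P ≤ centralizer (zl (S : Subgroup G) P : Set G) := by
    rw [← hinf]
    exact inf_le_right
  -- `C_G(O₂(P)) ≤ O₂(P)`
  have hQc : ∀ g : G, (∀ q ∈ o2 P, g * q = q * g) → g ∈ o2 P := by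
    intro g hg
    have h1 := hP.isLoc.normalizer_o2 S
    have h2 : o2 (normalizer (o2 P : Set G)) ≤ o2 P := o2_le_o2 S hSP (le_normalizer_o2 P)
    have h3 : g ∈ centralizer (o2 P : Set G) := mem_centralizer_iff.mpr fun q hq => (hg q hq).symm
    have h4 : g ∈ centralizer (o2 (normalizer (o2 P : Set G)) : Set G) :=
      mem_centralizer_iff.mpr fun q hq => (hg q (h2 hq)).symm
    exact h2 (h1.char2 S hG ⟨centralizer_le_normalizer _ h3, h4⟩)
  have hSA : ∀ s ∈ (S : Subgroup G), s ∈ centralizer (A : Set G) → s ∈ o2 P := by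
    intro s hs hsA
    rw [← hinf]
    refine ⟨hs, mem_centralizer_iff.mpr fun v hv => ?_⟩
    obtain ⟨c, hc, a, ha, rfl⟩ := hV v hv
    have h1 := mem_centralizer_iff.mp hsA a ha
    calc c * a * s = c * (a * s) := by group
      _ = c * s * a := by rw [h1, mul_assoc]
      _ = s * (c * a) := by rw [← hV0 c hc s (hSP hs), mul_assoc]
  have hB : Big (S : Subgroup G) P V0 A (zc (o2 P)) ε :=
    { ev := h
      fix0 := h0
      le := hSP
      comm := fun y hy y' hy' => (mem_zc.mp hy').2.1 y (mem_zc.mp hy).1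
      sq := fun y hy => by rw [← pow_two]; exact (mem_zc.mp hy).2.2
      ge := hA.trans (hP.isLoc.zl_le S hG)
      nrm := fun g hg y hy => (mem_normalizer_iff.mp
        (MinSimple.VModule.normalizer_le_normalizer_zc _ (le_normalizer_o2 P hg)) y).mp hy
      syl := fun s hs hsA => by
        rw [mem_centralizer_iff]
        intro y hy
        exact ((mem_zc.mp hy).2.1 s (hSA s hs hsA)).symm
      cz := hV0
      fixed := fun y hy hys => by
        have h1 : y ∈ zc (S : Subgroup G) := mem_zc.mpr ⟨hQS (mem_zc.mp hy).1, hys, (mem_zc.mp hy).2.2⟩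
        obtain ⟨c, hc, a, ha, rfl⟩ := hV y (MinSimple.VModule.zc_le_zl _ _ h1)
        refine ⟨c, hc, ?_⟩
        have h2 : ∀ s ∈ (S : Subgroup G), s * a = a * s := by
          intro s hs
          have h3 := hys s hs
          have h4 := hV0 c hc s (hSP hs)
          have h5 : c * (s * a) = c * (a * s) := by
            calc c * (s * a) = s * (c * a) := by rw [← mul_assoc, ← h4, mul_assoc]
              _ = c * (a * s) := by rw [h3, mul_assoc]
          exact mul_left_cancel h5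
        rcases fixed (by omega) h hSP hS2 h0 ha h2 with h3 | h3
        · left
          rw [h3, mul_one]
        · right
          rw [h3] }
  -- a pair whose transposition is induced by `S`
  obtain ⟨i0, j0, hij0, hsw⟩ := exists_swap (by omega) h hSP hS2 S.isPGroup'
  have hyp : NSix.CosetAct.Hyp A P (S : Subgroup G) (o2 (NN ε i0 j0)) ε i0 j0 :=
    { even := h
      VP := hA.trans ((hP.isLoc.zl_le S hG).trans ((MinSimple.VModule.zc_le _).trans (hQS.trans hSP)))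
      two_le := hm
      le := hSP
      isP := S.isPGroup'
      max := fun T hT => by
        obtain ⟨R, hR⟩ := hT.exists_le_sylow
        have h1 : Nat.card (R : Subgroup G) = Nat.card (S : Subgroup G) := by
          rw [R.card_eq_multiplicity, S.card_eq_multiplicity]
        rw [← h1]
        exact Subgroup.card_le_of_le hR
      fix0 := h0
      ne := hij0
      swap := hsw
      isPW := o2_isPGroup _
      leW := o2_le _
      norm := le_normalizer_o2 _ }
  have hr2 : rr ε i0 j0 * rr ε i0 j0 = 1 := rr_sq h i0 j0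
  have hr1 : rr ε i0 j0 ≠ 1 := rr_ne_one h hn hij0
  have hWc : ∀ g ∈ NN ε i0 j0, (∀ w ∈ o2 (NN ε i0 j0), g * w = w * g) → g ∈ o2 (NN ε i0 j0) := by
    intro g hg hgw
    exact inf_centralizer_o2_le hG (isTwoLocal_centralizer hr2 hr1)
      ⟨hg, mem_centralizer_iff.mpr fun w hw => (hgw w hw).symm⟩
  obtain ⟨φ, f1, f2, f3, f4⟩ := exists_phi hyp hWc (Q := o2 P) (o2_le P) (o2_isPGroup P)
    (hQz.trans (centralizer_le hA)) hQc
  have hmain := hB.phi_eq hm hS2 S.isPGroup' hij0 (φ := φ) (fun v hv => by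
      obtain ⟨-, -, h3, h4, h5⟩ := f3 v hv
      refine mem_zc.mpr ⟨h3, fun b hb => (h4 b hb).symm, ?_⟩
      rw [pow_two]
      exact h5) f1 (fun σ hσ => by
      obtain ⟨g, hg, hgσ, h3⟩ := f4 σ hσ
      exact ⟨g, hg.1, hgσ, fun v hv => (h3 v hv).2⟩)
  have hid : ∀ v ∈ Vn ε i0 j0, φ v = v := by
    rcases hmain with h1 | h1
    · exfalso
      obtain ⟨k, hk, -, -⟩ := hyp.exists_third i0 j0
      obtain ⟨l, hl, hlk, -⟩ := hyp.exists_third k k
      exact rr_ne_one h hn hlk.symm (f2 _ (rr_mem_Vn hk hl) (h1 _ (rr_mem_Vn hk hl)))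
    · exact h1
  have hcen : ∀ v ∈ Vn ε i0 j0, v ∈ o2 (NN ε i0 j0) ∧ ∀ x ∈ o2 (NN ε i0 j0), v * x = x * v := by
    intro v hv
    obtain ⟨h1, h2, -, -, -⟩ := f3 v hv
    rw [hid v hv] at h1 h2
    exact ⟨h1, h2⟩
  -- all pairs
  obtain ⟨σ, h1, h2, -⟩ := NSix.Basic.exists_perm hij hij0
  obtain ⟨g, hg, hσ⟩ := h.full σ
  have hgv : g * v * g⁻¹ ∈ Vn ε i0 j0 := by
    have key : ∀ v ∈ Vn ε i j, g * v * g⁻¹ ∈ Vn ε (σ i) (σ j) := by
      intro v hv
      unfold Vn at hv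
      induction hv using closure_induction with
      | mem x hx =>
        obtain ⟨k, l, hk, hl, rfl⟩ := hx
        rw [rr_conj hσ]
        exact rr_mem_Vn ⟨σ.injective.ne hk.1, σ.injective.ne hk.2⟩ ⟨σ.injective.ne hl.1, σ.injective.ne hl.2⟩
      | one =>
        rw [mul_one, mul_inv_cancel]
        exact one_mem _
      | mul x y _ _ hx hy =>
        have : g * (x * y) * g⁻¹ = (g * x * g⁻¹) * (g * y * g⁻¹) := by group
        rw [this]
        exact mul_mem hx hy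
      | inv x _ hx =>
        have : g * x⁻¹ * g⁻¹ = (g * x * g⁻¹)⁻¹ := by group
        rw [this]
        exact inv_mem hx
    have h3 := key v hv
    rwa [h1, h2] at h3
  have hback : ∀ x ∈ o2 (NN ε i0 j0), g⁻¹ * x * g ∈ o2 (NN ε i j) := by
    intro x hx
    have h3 := o2_NN_conj hσ.inv hx
    have h4 : σ⁻¹ i0 = i := by rw [← h1]; exact σ.symm_apply_apply i
    have h5 : σ⁻¹ j0 = j := by rw [← h2]; exact σ.symm_apply_apply j
    rwa [h4, h5, inv_inv] at h3
  obtain ⟨h3, h4⟩ := hcen _ hgv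
  refine ⟨?_, fun x hx => ?_⟩
  · have h5 := hback _ h3
    have h6 : g⁻¹ * (g * v * g⁻¹) * g = v := by group
    rwa [h6] at h5
  · have h5 := o2_NN_conj hσ hx
    rw [h1, h2] at h5
    have h6 := h4 _ h5
    calc v * x = g⁻¹ * ((g * v * g⁻¹) * (g * x * g⁻¹)) * g := by group
      _ = g⁻¹ * ((g * x * g⁻¹) * (g * v * g⁻¹)) * g := by rw [h6]
      _ = x * v := by group

end Cfsg.Agent.Omega.F4Leaf.App

end

-- merged: Cfsg.Agent.Mrg.Omega.F4Leaf.Pos
section

section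


/-!
# LeafF4: the facts (F1), (F2), (H1) for a member with `V₀ ≠ 1`

`Sit S P m A ε` : `G` of characteristic 2 type, `P ∈ P*(S)`, `V = V_P = V₀ × A` (`Split`), `m ≥ 2`.  `n = r_ij`,
`N = C_G(n)`, `Q = O₂(N)`, `U = ⟨(V₀ n^⊥)^N⟩`, `W = ⟨V^N⟩`.

* `Sit.vn_cen` : `n^⊥ ≤ Z(Q)`;
* `Sit.o2_le_P` : `Q ≤ P` (H1); `Sit.acts` : `Q` acts on `A` as `1` or `(i j)`; `Sit.comm_V0` : `[V₀, Q] = 1`;
* `Sit.conj_V` : `[V, Q] ≤ ⟨n⟩`; `Sit.V_le` : `V ≤ Q`; `Sit.ww_le`, `Sit.ww_conj` : `W ≤ Q`, `[W, Q] ≤ ⟨n⟩`;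
* `Sit.uz_le`, `Sit.uz_comm` : `U ≤ Z(Q)`;
* `Sit.cen_V` : `V ≤ Z(O₂(C_G(v)))` for `1 ≠ v ∈ V₀`;
* `Sit.cen_pt` : `V ≤ Z(O₂(C_G(v z_k)))` for `v ∈ V₀`, `m ≥ 3`.
-/

set_option autoImplicit false
set_option linter.dupNamespace false

namespace Cfsg.Agent.Omega.F4Leaf.Pos

open Subgroup Pointwise Cfsg Cfsg.Agent Cfsg.Agent.Omega.MinPar
open Cfsg.Agent.ZN (o2 zc zl)
open Cfsg.Agent.Omega.FrameFF (cv Single Free)
open Cfsg.Agent.Omega.S5.Def Cfsg.Agent.Omega.S5.Syl Cfsg.Agent.Omega.F4Leaf.Def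
open Cfsg.Agent.Omega.NSix.Base Cfsg.Agent.Omega.NSix.Basic Cfsg.Agent.Omega.NSix.FixApp
open Cfsg.Agent.MinSimple.VModule (o2_isPGroup o2_le le_o2 le_normalizer_o2 o2_le_of_sylow mem_zc zc_le
  le_normalizer_zl zl_comm zl_sq)

universe u

variable {G : Type u} [Group G]

/-- `U_ij = ⟨(V₀ r_ij^⊥) ^ N_ij⟩` -/
def UZ {n : ℕ} (V0 : Subgroup G) (ε : (Fin n → ZMod 2) → G) (i j : Fin n) : Subgroup G :=
  _root_.Subgroup.closure {x | ∃ g ∈ NN ε i j, ∃ v, (v ∈ V0 ∨ v ∈ Vn ε i j) ∧ x = g * v * g⁻¹}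

/-- The situation. -/
structure Sit [Finite G] (S : Sylow 2 G) (P : Subgroup G) (m : ℕ) (A : Subgroup G)
    (ε : (Fin (2 ^ m + 1) → ZMod 2) → G) : Prop where
  c2 : IsCharacteristicTwoType G
  par : IsParS (S : Subgroup G) P
  m2 : 2 ≤ m
  split : Split (S : Subgroup G) P m A ε

theorem not_dvd [Finite G] (S : Sylow 2 G) : ¬ 2 ∣ (S : Subgroup G).index := by
  have hf : Fact (Nat.Prime 2) := ⟨Nat.prime_two⟩
  exact S.not_dvd_index

namespace Sit

variable [Finite G] {S : Sylow 2 G} {P : Subgroup G} {m : ℕ} {A : Subgroup G}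
  {ε : (Fin (2 ^ m + 1) → ZMod 2) → G} (h : Sit S P m A ε)
include h

theorem three : 3 ≤ 2 ^ m + 1 := three_le (by have := h.m2; omega)

theorem hS2 : ¬ 2 ∣ (S : Subgroup G).relIndex P := MinSimple.Basic.not_dvd_relIndex S h.par.le

theorem V_comm {v w : G} (hv : v ∈ zl (S : Subgroup G) P) (hw : w ∈ zl (S : Subgroup G) P) : v * w = w * v :=
  zl_comm h.par.le S.isPGroup' h.hS2 (h.par.isLoc.char2 S h.c2) v hv w hw

theorem V_sq {v : G} (hv : v ∈ zl (S : Subgroup G) P) : v ^ 2 = 1 :=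
  zl_sq h.par.le S.isPGroup' h.hS2 (h.par.isLoc.char2 S h.c2) v hv

theorem V0_comm {v : G} (hv : v ∈ cv (S : Subgroup G) P) {g : G} (hg : g ∈ P) : g * v = v * g :=
  h.split.comm hg hv

theorem V_le_S : zl (S : Subgroup G) P ≤ (S : Subgroup G) := by
  intro v hv
  have h2 := MinSimple.VModule.zl_le_zc h.par.le S.isPGroup' h.hS2 (h.par.isLoc.char2 S h.c2) hv
  exact o2_le_of_sylow S.isPGroup' h.hS2 (zc_le _ h2)

theorem V_le_P : zl (S : Subgroup G) P ≤ P := h.V_le_S.trans h.par.le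

theorem A_le_P : A ≤ P := h.split.A_le.trans h.V_le_P

theorem V0_le : cv (S : Subgroup G) P ≤ zl (S : Subgroup G) P := h.split.sup ▸ le_sup_left

theorem mul_eq {x : G} (hx : x ∈ zl (S : Subgroup G) P) :
    ∃ v ∈ cv (S : Subgroup G) P, ∃ a ∈ A, x = v * a := h.split.mul_eq h.c2 h.par hx

/-- **(F2)** `n^⊥ ≤ Z(O₂(C_G(n)))`. -/
theorem vn_cen {i j : Fin (2 ^ m + 1)} (hij : i ≠ j) {v : G} (hv : v ∈ Vn ε i j) :
    v ∈ o2 (NN ε i j) ∧ ∀ x ∈ o2 (NN ε i j), v * x = x * v :=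
  App.Vn_cen h.c2 S h.m2 h.split.even h.par h.split.fix0 (fun _ hv _ hg => h.V0_comm hv hg)
    (fun _ hv => h.mul_eq hv) h.split.A_le hij hv

theorem hz (i j k l : Fin (2 ^ m + 1)) (hij : i ≠ j) (_ : k ≠ l) (hik : i ≠ k) (hil : i ≠ l) (hjk : j ≠ k)
    (hjl : j ≠ l) (x : G) (hx : x ∈ o2 (NN ε i j)) : x * rr ε k l = rr ε k l * x :=
  ((h.vn_cen hij (rr_mem_Vn ⟨hik.symm, hjk.symm⟩ ⟨hil.symm, hjl.symm⟩)).2 x hx).symm

section pair

variable {i j : Fin (2 ^ m + 1)} (hij : i ≠ j)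
include hij

/-- **(H1)** `O₂(C_G(n)) ≤ P`. -/
theorem o2_le_P : o2 (NN ε i j) ≤ P :=
  HOne.o2_le_P (by have := h.m2; omega) h.split.even h.split.fix0 h.par.le S.isPGroup'
    (not_dvd S) h.hz hij

/-- `O₂(C_G(n))` acts on `A` as `1` or `(i j)`. -/
theorem acts {x : G} (hx : x ∈ o2 (NN ε i j)) : Acts ε x 1 ∨ Acts ε x (Equiv.swap i j) :=
  HOne.acts (by have := h.m2; omega) h.split.even h.split.fix0 h.par.le S.isPGroup'
    (not_dvd S) h.hz hij h.m2 hx

/-- `[V₀, O₂(C_G(n))] = 1` -/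
theorem comm_V0 {x v : G} (hx : x ∈ o2 (NN ε i j)) (hv : v ∈ cv (S : Subgroup G) P) : x * v = v * x :=
  h.V0_comm hv (h.o2_le_P hij hx)

/-- `[V, O₂(C_G(n))] ≤ ⟨n⟩` -/
theorem conj_V {x v : G} (hx : x ∈ o2 (NN ε i j)) (hv : v ∈ zl (S : Subgroup G) P) :
    x * v * x⁻¹ = v ∨ x * v * x⁻¹ = v * rr ε i j := by
  obtain ⟨c, hc, a, ha, rfl⟩ := h.mul_eq hv
  exact HOne.conj_V (by have := h.m2; omega) h.split.even h.split.fix0 h.par.le S.isPGroup'
    (not_dvd S) h.hz (fun v hv g hg => h.V0_comm hv hg) hij h.m2 hx hc ha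

omit h in
theorem char2 (h : Sit S P m A ε) : NN ε i j ⊓ centralizer (o2 (NN ε i j) : Set G) ≤ o2 (NN ε i j) :=
  MinSimple.Basic.char2_centralizer h.c2 (by rw [pow_two]; exact rr_sq h.split.even i j)
    (rr_ne_one h.split.even h.three hij)

theorem ww_conj {w x : G} (hw : w ∈ WW (zl (S : Subgroup G) P) ε i j) (hx : x ∈ o2 (NN ε i j)) :
    w * x * w⁻¹ = x ∨ w * x * w⁻¹ = x * rr ε i j :=
  (HOne.ww_conj (by have := h.m2; omega) h.split.even h.split.fix0 h.par.le S.isPGroup'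
    (not_dvd S) h.hz h.A_le_P (fun v hv g hg => h.V0_comm hv hg)
    (fun v hv => by
      obtain ⟨c, hc, a, ha, e⟩ := h.mul_eq hv
      exact ⟨c, hc, a, ha, e.symm⟩) hij h.m2 hw).2 x hx

/-- `W ≤ O₂(C_G(n))` -/
theorem ww_le : WW (zl (S : Subgroup G) P) ε i j ≤ o2 (NN ε i j) :=
  HOne.ww_le (by have := h.m2; omega) h.split.even h.split.fix0 h.par.le S.isPGroup'
    (not_dvd S) h.hz h.A_le_P (fun v hv g hg => h.V0_comm hv hg)
    (fun v hv => by
      obtain ⟨c, hc, a, ha, e⟩ := h.mul_eq hv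
      exact ⟨c, hc, a, ha, e.symm⟩) hij h.m2 (char2 hij h)

omit [Finite G] hij h in
theorem le_ww (V : Subgroup G) (ε : (Fin (2 ^ m + 1) → ZMod 2) → G) (i j : Fin (2 ^ m + 1)) : V ≤ WW V ε i j :=
  fun v hv => subset_closure ⟨1, one_mem _, v, hv, by group⟩

/-- `V ≤ O₂(C_G(n))` -/
theorem V_le : zl (S : Subgroup G) P ≤ o2 (NN ε i j) := (le_ww _ ε i j).trans (h.ww_le hij)

theorem uz_both {u : G} (hu : u ∈ UZ (cv (S : Subgroup G) P) ε i j) :
    u ∈ o2 (NN ε i j) ∧ ∀ x ∈ o2 (NN ε i j), u * x = x * u := by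
  have key : ∀ v, (v ∈ cv (S : Subgroup G) P ∨ v ∈ Vn ε i j) →
      v ∈ o2 (NN ε i j) ∧ ∀ x ∈ o2 (NN ε i j), v * x = x * v := by
    rintro v (hv | hv)
    · exact ⟨h.V_le hij (h.V0_le hv), fun x hx => (h.comm_V0 hij hx hv).symm⟩
    · exact h.vn_cen hij hv
  unfold UZ at hu
  induction hu using closure_induction with
  | mem u hu =>
    obtain ⟨g, hg, v, hv, rfl⟩ := hu
    obtain ⟨h1, h2⟩ := key v hv
    refine ⟨(mem_normalizer_iff.mp (le_normalizer_o2 _ hg) v).mp h1, fun x hx => ?_⟩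
    have h3 : g⁻¹ * x * g ∈ o2 (NN ε i j) := by
      have := (mem_normalizer_iff.mp (le_normalizer_o2 _ (inv_mem hg)) x).mp hx
      rwa [inv_inv] at this
    calc g * v * g⁻¹ * x = g * (v * (g⁻¹ * x * g)) * g⁻¹ := by group
      _ = g * (g⁻¹ * x * g * v) * g⁻¹ := by rw [h2 _ h3]
      _ = _ := by group
  | one => exact ⟨one_mem _, fun x _ => by rw [one_mul, mul_one]⟩
  | mul a b _ _ ha hb =>
    refine ⟨mul_mem ha.1 hb.1, fun x hx => ?_⟩
    rw [mul_assoc, hb.2 x hx, ← mul_assoc, ha.2 x hx, mul_assoc]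
  | inv a _ ha =>
    refine ⟨inv_mem ha.1, fun x hx => ?_⟩
    rw [inv_mul_eq_iff_eq_mul, ← mul_assoc, ha.2 x hx, mul_inv_cancel_right]

theorem uz_comm {u x : G} (hu : u ∈ UZ (cv (S : Subgroup G) P) ε i j) (hx : x ∈ o2 (NN ε i j)) : u * x = x * u :=
  (h.uz_both hij hu).2 x hx

end pair

/-! ### Centralisers of the elements of `V₀` and of `v z_k` -/

theorem le_of_cent {e : G} (he : e ∈ zl (S : Subgroup G) P) (he1 : e ≠ 1)
    (hc : o2 (centralizer ({e} : Set G)) ≤ centralizer (zl (S : Subgroup G) P : Set G)) :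
    zl (S : Subgroup G) P ≤ o2 (centralizer ({e} : Set G)) := by
  intro v hv
  refine MinSimple.Basic.char2_centralizer h.c2 (h.V_sq he) he1
    ⟨mem_centralizer_singleton_iff.mpr (h.V_comm hv he), mem_centralizer_iff.mpr fun x hx => ?_⟩
  exact (mem_centralizer_iff.mp (hc hx) v hv).symm

/-- A 2-subgroup of `S` normalised by `P` centralises `V`. -/
theorem le_cent {R : Subgroup G} (hR : R ≤ (S : Subgroup G)) (hn : P ≤ normalizer (R : Set G)) :
    R ≤ centralizer (zl (S : Subgroup G) P : Set G) := by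
  have h1 : R ≤ o2 P := le_o2 (hR.trans h.par.le) (S.isPGroup'.to_le hR) hn
  rw [← h.par.inf_centralizer S h.c2] at h1
  exact h1.trans inf_le_right

/-- `V ≤ Z(O₂(C_G(v)))` for `1 ≠ v ∈ V₀` -/
theorem cen_V {v : G} (hv : v ∈ cv (S : Subgroup G) P) (hv1 : v ≠ 1) :
    zl (S : Subgroup G) P ≤ o2 (centralizer ({v} : Set G)) ∧
      o2 (centralizer ({v} : Set G)) ≤ centralizer (zl (S : Subgroup G) P : Set G) := by
  have hP : P ≤ centralizer ({v} : Set G) := fun g hg => mem_centralizer_singleton_iff.mpr (h.V0_comm hv hg)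
  have h1 : o2 (centralizer ({v} : Set G)) ≤ (S : Subgroup G) :=
    o2_le_of_sylow S.isPGroup' (MinSimple.Basic.not_dvd_relIndex S (h.par.le.trans hP))
  have h2 := h.le_cent h1 (hP.trans (le_normalizer_o2 _))
  exact ⟨h.le_of_cent (h.V0_le hv) hv1 h2, h2⟩

/-- `O₂(C_G(v z_0))` centralises `V` -/
theorem cen_pt0 (hm : 3 ≤ m) {v : G} (hv : v ∈ cv (S : Subgroup G) P) :
    o2 (centralizer ({v * zz ε 0} : Set G)) ≤ centralizer (zl (S : Subgroup G) P : Set G) := by
  have hm1 : 1 ≤ m := by omega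
  have hE := h.split.even
  have hcen : P ⊓ centralizer ({zz ε 0} : Set G) ≤ centralizer ({v * zz ε 0} : Set G) := by
    rintro g ⟨hg, hg2⟩
    have hg2 : g * zz ε 0 = zz ε 0 * g := mem_centralizer_singleton_iff.mp hg2
    rw [mem_centralizer_singleton_iff]
    rw [← mul_assoc, h.V0_comm hv hg, mul_assoc, hg2, mul_assoc]
  have hSC : (S : Subgroup G) ≤ P ⊓ centralizer ({zz ε 0} : Set G) := by
    intro s hs
    obtain ⟨σ, hσ⟩ := hE.perm s (h.par.le hs)
    exact ⟨h.par.le hs, mem_centralizer_singleton_iff.mpr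
      ((hE.fixes_iff (three_le hm1) hσ 0).2 (h.split.fix0 s hs σ hσ))⟩
  have hUS : o2 (centralizer ({v * zz ε 0} : Set G)) ≤ (S : Subgroup G) :=
    o2_le_of_sylow S.isPGroup' (MinSimple.Basic.not_dvd_relIndex S (hSC.trans hcen))
  have hUA : o2 (centralizer ({v * zz ε 0} : Set G)) ≤ P ⊓ centralizer ({zz ε 0} : Set G) := hUS.trans hSC
  have hN : ((o2 (centralizer ({v * zz ε 0} : Set G))).subgroupOf (P ⊓ centralizer ({zz ε 0} : Set G))).Normal :=
    normal_subgroupOf_of_le_normalizer (hcen.trans (le_normalizer_o2 _))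
  have h8 : 5 ≤ Nat.card {k : Fin (2 ^ m + 1) // k ≠ 0} := by
    classical
    have h1 : 2 ^ 3 ≤ 2 ^ m := Nat.pow_le_pow_right (by norm_num) hm
    rw [Nat.card_eq_fintype_card, Fintype.card_subtype_compl, Fintype.card_fin, Fintype.card_subtype_eq]
    omega
  intro u hu
  have h1 := NSix.PtCen.two_normal h8 (NSix.PtCen.psi hm1 hE) (NSix.PtCen.psi_surj hm1 hE) hN
    ((o2_isPGroup _).comap_of_injective _ (Subgroup.subtype_injective _)) ⟨u, hUA hu⟩ hu
  have h2 := hE.acts_hom (three_le hm1) (Subgroup.inclusion inf_le_left (⟨u, hUA hu⟩ :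
      ↥(P ⊓ centralizer ({zz ε 0} : Set G))))
  have h3 : hE.hom (three_le hm1) (Subgroup.inclusion inf_le_left (⟨u, hUA hu⟩ :
      ↥(P ⊓ centralizer ({zz ε 0} : Set G)))) = 1 := by
    ext k
    congr 1
    by_cases hk : k = 0
    · rw [hk]
      exact NSix.PtCen.fix_zero hm1 hE _
    · have h4 := NSix.PtCen.psi_apply hm1 hE ⟨u, hUA hu⟩ ⟨k, hk⟩
      rw [h1] at h4
      exact h4.symm
  rw [h3] at h2
  have h5 : ∀ a ∈ A, a * u = u * a := mem_centralizer_iff.mp (hE.acts_one_iff.mp h2)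
  refine mem_centralizer_iff.mpr fun w hw => ?_
  obtain ⟨c, hc, a, ha, rfl⟩ := h.mul_eq hw
  have h6 : c * u = u * c := (h.V0_comm hc (h.par.le (hUS hu))).symm
  calc c * a * u = c * (a * u) := mul_assoc _ _ _
    _ = c * (u * a) := by rw [h5 a ha]
    _ = u * (c * a) := by rw [← mul_assoc, h6, mul_assoc]

/-- **(F1)** `V ≤ Z(O₂(C_G(v z_k)))`, `v ∈ V₀`, `m ≥ 3` -/
theorem cen_pt (hm : 3 ≤ m) {v : G} (hv : v ∈ cv (S : Subgroup G) P) (k : Fin (2 ^ m + 1)) :
    zl (S : Subgroup G) P ≤ o2 (centralizer ({v * zz ε k} : Set G)) ∧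
      o2 (centralizer ({v * zz ε k} : Set G)) ≤ centralizer (zl (S : Subgroup G) P : Set G) := by
  have hE := h.split.even
  have h1 := h.cen_pt0 hm hv
  have he : v * zz ε 0 ∈ zl (S : Subgroup G) P := mul_mem (h.V0_le hv) (h.split.A_le (zz_mem hE 0))
  have he1 : v * zz ε 0 ≠ 1 := by
    intro h0
    have h2 : zz ε 0 ∈ cv (S : Subgroup G) P := by
      rw [eq_inv_of_mul_eq_one_right h0]
      exact inv_mem hv
    have h3 : zz ε 0 ∈ (⊥ : Subgroup G) := h.split.disj ▸ ⟨h2, zz_mem hE 0⟩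
    exact hE.single_ne_one h.three 0 (mem_bot.mp h3)
  have h2 := h.le_of_cent he he1 h1
  obtain ⟨g, hg, hσ⟩ := hE.full (Equiv.swap 0 k)
  have hgn := le_normalizer_zl (S : Subgroup G) P
  have e1 : g * (v * zz ε 0) * g⁻¹ = v * zz ε k := by
    rw [← Equiv.swap_apply_left 0 k, ← zz_conj hσ]
    calc g * (v * zz ε 0) * g⁻¹ = g * v * zz ε 0 * g⁻¹ := by group
      _ = v * g * zz ε 0 * g⁻¹ := by rw [h.V0_comm hv hg]
      _ = v * (g * zz ε 0 * g⁻¹) := by group
  have e2 : g⁻¹ * (v * zz ε k) * g = v * zz ε 0 := by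
    rw [← e1]
    group
  constructor
  · intro w hw
    have h3 : g⁻¹ * w * g ∈ zl (S : Subgroup G) P := by
      have := (mem_normalizer_iff.mp (hgn (inv_mem hg)) w).mp hw
      rwa [inv_inv] at this
    have h4 := NSix.PtCen.conj_o2_cent (g := g) (h2 h3)
    rw [e1] at h4
    have h5 : g * (g⁻¹ * w * g) * g⁻¹ = w := by group
    rwa [h5] at h4
  · intro x hx
    refine mem_centralizer_iff.mpr fun w hw => ?_
    have h3 : g⁻¹ * w * g ∈ zl (S : Subgroup G) P := by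
      have := (mem_normalizer_iff.mp (hgn (inv_mem hg)) w).mp hw
      rwa [inv_inv] at this
    have h4 := NSix.PtCen.conj_o2_cent (g := g⁻¹) hx
    rw [inv_inv, e2] at h4
    have h5 := mem_centralizer_iff.mp (h1 h4) _ h3
    have h6 : g * (g⁻¹ * w * g * (g⁻¹ * x * g)) * g⁻¹ = g * (g⁻¹ * x * g * (g⁻¹ * w * g)) * g⁻¹ := by rw [h5]
    calc w * x = g * (g⁻¹ * w * g * (g⁻¹ * x * g)) * g⁻¹ := by group
      _ = g * (g⁻¹ * x * g * (g⁻¹ * w * g)) * g⁻¹ := h6
      _ = x * w := by group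

end Sit

end Cfsg.Agent.Omega.F4Leaf.Pos

end

section


/-!
# `V_n ≤ Z(O₂(C_G(n d)))`, `n = r_ij`, `d ∈ V₀ = C_{V_P}(O²(P))` (helper747)

The proof of `V_n ≤ Z(O₂(C_G(n)))` (`NSix.CosetAct`, `NSix.FixApp`, `F4Leaf.App.Vn_cen`) with `W = O₂(C_G(n d))`,
`N = C_G(n d)`: only `P ∩ N = C_P(n)` is used.

* `HypD V P S W N ε i j` : the hypotheses; `HypD.exists_phi` : the homomorphism `φ : V_n → Z(W) ∩ Z(Q)`;
* `Vn_cen_mul` : the result for one member;
* `Sit.vn_cen_mul` : for `F4Leaf.Pos.Sit`.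
-/

set_option autoImplicit false
set_option linter.dupNamespace false

namespace Cfsg.Agent.Omega.IId.Cv.VnD

open Subgroup Pointwise Cfsg Cfsg.Agent Cfsg.Agent.Omega.S5.Def Cfsg.Agent.Omega.S5.Syl
open Cfsg.Agent.Omega.NSix.Base Cfsg.Agent.Omega.NSix.Basic Cfsg.Agent.Omega.NSix.FixHom Cfsg.Agent.Omega.NSix.StabPerm
open Cfsg.Agent.Omega.NSix.CosetAct (exists_threeCycle Hyp A conj_cent odd_n)
open Cfsg.Agent.Omega.NSix.FixApp (Vn rr_mem_Vn Vn_le mem_St_of Vn_conj phi_inj full_of AA AA_conj AA_conjW)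

universe u

variable {G : Type u} [Group G]

/-- `[W, e] ≤ C_G(V)` -/
def Good (V W : Subgroup G) (e : G) : Prop := ∀ w ∈ W, w⁻¹ * e * w * e⁻¹ ∈ centralizer (V : Set G)

/-- `W` is a 2-subgroup of `N`, normalised by `N`, `P ∩ N = C_P(r_ij)`. -/
structure HypD {m : ℕ} (V P S W N : Subgroup G) (ε : (Fin (2 ^ m + 1) → ZMod 2) → G)
    (i j : Fin (2 ^ m + 1)) : Prop where
  even : EvenSet (2 ^ m + 1) V P ε
  VP : V ≤ P
  two_le : 2 ≤ m
  le : S ≤ P
  isP : IsPGroup 2 S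
  max : ∀ T : Subgroup G, IsPGroup 2 T → Nat.card T ≤ Nat.card S
  fix0 : Fix0 ε S
  ne : i ≠ j
  swap : ∃ a ∈ S, Acts ε a (Equiv.swap i j)
  isPW : IsPGroup 2 W
  leN : W ≤ N
  nN : N ≤ normalizer (W : Set G)
  PN : P ⊓ N = A P ε i j

namespace HypD

variable {m : ℕ} {V P S W N : Subgroup G} {ε : (Fin (2 ^ m + 1) → ZMod 2) → G} {i j : Fin (2 ^ m + 1)}
  (h : HypD V P S W N ε i j)
include h

theorem base : Hyp V P S ⊥ ε i j where
  even := h.even
  VP := h.VP
  two_le := h.two_le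
  le := h.le
  isP := h.isP
  max := h.max
  fix0 := h.fix0
  ne := h.ne
  swap := h.swap
  isPW := IsPGroup.of_bot
  leW := bot_le
  norm := by
    intro g _
    rw [mem_normalizer_iff]
    intro x
    rw [mem_bot, mem_bot]
    constructor
    · rintro rfl
      group
    · intro hx
      calc x = g⁻¹ * (g * x * g⁻¹) * g := by group
        _ = 1 := by rw [hx]; group

theorem three : 3 ≤ 2 ^ m + 1 := h.base.three

theorem conjW {g w : G} (hg : g ∈ A P ε i j) (hw : w ∈ W) : g * w * g⁻¹ ∈ W :=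
  (mem_normalizer_iff.mp (h.nN (h.PN.symm ▸ hg : g ∈ P ⊓ N).2) w).mp hw

theorem WP_le : W ⊓ P ≤ A P ε i j := fun _ hx => h.PN ▸ (⟨hx.2, h.leN hx.1⟩ : _ ∈ P ⊓ N)

/-- `W ∩ P` fixes the labels `≠ i, j`. -/
theorem fix_of_mem [Finite G] {w : G} (hw : w ∈ W ⊓ P) {k : Fin (2 ^ m + 1)} (hk : k ≠ i ∧ k ≠ j) :
    h.base.phi ⟨w, h.WP_le hw⟩ k = k := by
  classical
  have h2 : Fact (Nat.Prime 2) := ⟨Nat.prime_two⟩
  let f : ↥(W ⊓ P) →* Equiv.Perm {k : Fin (2 ^ m + 1) // k ≠ i ∧ k ≠ j} :=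
    h.base.psi.comp (Subgroup.inclusion h.WP_le)
  let act : MulAction ↥(W ⊓ P) {k : Fin (2 ^ m + 1) // k ≠ i ∧ k ≠ j} := MulAction.compHom _ f
  have hp : IsPGroup 2 ↥(W ⊓ P) := h.isPW.to_le inf_le_left
  have hcard : ¬ 2 ∣ Nat.card {k : Fin (2 ^ m + 1) // k ≠ i ∧ k ≠ j} := by
    rw [Nat.card_eq_fintype_card, h.base.card_Lam]
    have h3 := h.two_le
    have h4 : 2 ∣ 2 ^ m := dvd_pow_self 2 (by omega)
    have h5 : 0 < 2 ^ m := by positivity
    omega
  obtain ⟨x₀, hx₀⟩ := hp.nonempty_fixed_point_of_prime_not_dvd_card _ hcard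
  -- every label is a conjugate of `x₀`
  obtain ⟨g, hg⟩ := h.base.psi_surj (Equiv.swap x₀ ⟨k, hk⟩)
  have hgx : h.base.psi g x₀ = ⟨k, hk⟩ := by rw [hg, Equiv.swap_apply_left]
  have hgP : (g : G) ∈ P := (Hyp.mem_A.mp g.2).1
  have hgC : (g : G) ∈ centralizer ({rr ε i j} : Set G) := g.2.2
  have hw' : (g : G)⁻¹ * w * (g : G) ∈ W ⊓ P := by
    refine ⟨?_, P.mul_mem (P.mul_mem (P.inv_mem hgP) hw.2) hgP⟩
    have h3 := h.conjW (inv_mem g.2) hw.1
    rwa [inv_inv] at h3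
  have h3 : f ⟨_, hw'⟩ x₀ = x₀ := hx₀ ⟨_, hw'⟩
  have h4 : h.base.psi ⟨w, h.WP_le hw⟩ ⟨k, hk⟩ = ⟨k, hk⟩ := by
    have h5 : (⟨w, h.WP_le hw⟩ : A P ε i j) = g * ⟨(g : G)⁻¹ * w * (g : G), h.WP_le hw'⟩ * g⁻¹ := by
      apply Subtype.ext
      change w = (g : G) * ((g : G)⁻¹ * w * (g : G)) * (g : G)⁻¹
      group
    have h6 : h.base.psi ⟨(g : G)⁻¹ * w * (g : G), h.WP_le hw'⟩ x₀ = x₀ := h3
    have h7 : (h.base.psi g)⁻¹ ⟨k, hk⟩ = x₀ := by
      rw [Equiv.Perm.inv_eq_iff_eq]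
      exact hgx.symm
    rw [h5, map_mul, map_mul, map_inv, Equiv.Perm.mul_apply, Equiv.Perm.mul_apply, h7, h6, hgx]
  have h5 := congrArg Subtype.val h4
  exact h5

theorem acts_WP [Finite G] {w : G} (hw : w ∈ W ⊓ P) : Acts ε w 1 ∨ Acts ε w (Equiv.swap i j) := by
  have h1 := h.base.acts_phi ⟨w, h.WP_le hw⟩
  rcases h.base.phi_pair ⟨w, h.WP_le hw⟩ with ⟨h2, h3⟩ | ⟨h2, h3⟩
  · left
    have h4 : h.base.phi ⟨w, h.WP_le hw⟩ = 1 := by
      ext k
      congr 1
      by_cases hi : k = i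
      · rw [hi, h2]; rfl
      · by_cases hj : k = j
        · rw [hj, h3]; rfl
        · exact h.fix_of_mem hw ⟨hi, hj⟩
    rwa [h4] at h1
  · right
    have h4 : h.base.phi ⟨w, h.WP_le hw⟩ = Equiv.swap i j := by
      ext k
      congr 1
      by_cases hi : k = i
      · rw [hi, h2, Equiv.swap_apply_left]
      · by_cases hj : k = j
        · rw [hj, h3, Equiv.swap_apply_right]
        · rw [Equiv.swap_apply_of_ne_of_ne hi hj]
          exact h.fix_of_mem hw ⟨hi, hj⟩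
    rwa [h4] at h1

/-- `C_P(r_ij)` acts on `W / (W ∩ P)`. -/
@[instance_reducible]
noncomputable def act : MulAction (A P ε i j) (W ⧸ P.subgroupOf W) where
  smul g := Quotient.map' (fun w : W => (⟨(g : G) * w * (g : G)⁻¹, h.conjW g.2 w.2⟩ : W)) (by
    intro a b hab
    rw [QuotientGroup.leftRel_apply, mem_subgroupOf] at hab ⊢
    have h1 := P.mul_mem (P.mul_mem g.2.1 hab) (P.inv_mem g.2.1)
    have h2 : (((⟨(g : G) * a * (g : G)⁻¹, h.conjW g.2 a.2⟩ : W)⁻¹ *
        (⟨(g : G) * b * (g : G)⁻¹, h.conjW g.2 b.2⟩ : W) : W) : G) =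
        (g : G) * ((a⁻¹ * b : W) : G) * (g : G)⁻¹ := by
      push_cast
      group
    rw [h2]
    exact h1)
  one_smul := by
    intro x
    refine Quotient.inductionOn' x fun w => ?_
    change (Quotient.mk'' _ : W ⧸ P.subgroupOf W) = _
    congr 1
    apply Subtype.ext
    simp
  mul_smul := by
    intro a b x
    refine Quotient.inductionOn' x fun w => ?_
    change (Quotient.mk'' _ : W ⧸ P.subgroupOf W) = Quotient.mk'' _
    congr 1
    apply Subtype.ext
    simp only [mul_assoc, _root_.Subgroup.coe_mul, _root_.mul_inv_rev]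

theorem exists_good [Finite G] (hidx : P.relIndex W ≤ 2 ^ (m - 1))
    {c : Equiv.Perm {k : Fin (2 ^ m + 1) // k ≠ i ∧ k ≠ j}} (hc : c.IsThreeCycle) :
    ∃ e : A P ε i j, h.base.psi e = c ∧ Good V W (e : G) := by
  classical
  let _ := h.act
  have hX : Nat.card (W ⧸ P.subgroupOf W) ≤ 2 ^ (m - 1) := hidx
  obtain ⟨e, he1, he2⟩ := exists_threeCycle h.base.psi h.base.psi_surj (W ⧸ P.subgroupOf W) h.two_le h.base.card_Lam hX
    hc.inv
  refine ⟨e * e, ?_, ?_⟩
  · rw [map_mul, he2]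
    have h6 : c ^ 3 = 1 := by rw [← hc.orderOf]; exact pow_orderOf_eq_one c
    have h7 : c * (c * c) = 1 := by
      rw [← h6, pow_succ, pow_two]; simp only [mul_assoc]
    have h8 : c⁻¹ = c * c := (eq_inv_of_mul_eq_one_right h7).symm
    calc c⁻¹ * c⁻¹ = c * (c * (c * c)) := by rw [h8]; simp only [mul_assoc]
      _ = c := by rw [h7, mul_one]
  · intro w hw
    have ha : w⁻¹ * (e : G) * w * (e : G)⁻¹ ∈ W ⊓ P := by
      constructor
      · have h1 := W.mul_mem (W.inv_mem hw) (h.conjW e.2 hw)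
        have h2 : w⁻¹ * ((e : G) * w * (e : G)⁻¹) = w⁻¹ * (e : G) * w * (e : G)⁻¹ := by group
        rwa [h2] at h1
      · have h1 := he1 (Quotient.mk'' ⟨w, hw⟩)
        have h2 : (Quotient.mk'' (⟨(e : G) * w * (e : G)⁻¹, h.conjW e.2 hw⟩ : W) : W ⧸ P.subgroupOf W) =
            Quotient.mk'' ⟨w, hw⟩ := h1
        have h3 := Quotient.exact' h2.symm
        rw [QuotientGroup.leftRel_apply, mem_subgroupOf] at h3
        have h4 : (((⟨w, hw⟩ : W)⁻¹ * (⟨(e : G) * w * (e : G)⁻¹, h.conjW e.2 hw⟩ : W) : W) : G) =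
            w⁻¹ * (e : G) * w * (e : G)⁻¹ := by
          push_cast
          group
        rwa [h4] at h3
    set a := w⁻¹ * (e : G) * w * (e : G)⁻¹ with ha'
    have hk : w⁻¹ * ((e * e : A P ε i j) : G) * w * ((e * e : A P ε i j) : G)⁻¹ =
        a * ((e : G) * a * (e : G)⁻¹) := by
      rw [ha']
      push_cast
      group
    rw [hk, ← h.even.acts_one_iff]
    have hσ := h.base.acts_phi e
    rcases h.acts_WP ha with h1 | h1
    · have h2 := h1.mul (hσ.conj h1)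
      simpa only [_root_.mul_one, _root_.mul_inv_cancel] using h2
    · have h2 := h1.mul (hσ.conj h1)
      have h3 : Equiv.swap i j * (h.base.phi e * Equiv.swap i j * (h.base.phi e)⁻¹) = 1 := by
        have h4 : h.base.phi e * Equiv.swap i j * (h.base.phi e)⁻¹ = Equiv.swap i j := by
          rw [← Equiv.swap_apply_apply]
          rcases h.base.phi_pair e with ⟨h5, h6⟩ | ⟨h5, h6⟩
          · rw [h5, h6]
          · rw [h5, h6, Equiv.swap_comm]
        rw [h4, Equiv.swap_mul_self]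
      rwa [h3] at h2

/-- A 3-cycle `k → l → a → k` of labels `≠ i, j`. -/
theorem exists_cycle [Finite G] (hidx : P.relIndex W ≤ 2 ^ (m - 1)) {k l a : Fin (2 ^ m + 1)}
    (hk : k ≠ i ∧ k ≠ j) (hl : l ≠ i ∧ l ≠ j) (ha : a ≠ i ∧ a ≠ j) (hkl : k ≠ l) (hka : k ≠ a)
    (hla : l ≠ a) : ∃ e ∈ A P ε i j, Good V W e ∧ e * zz ε k * e⁻¹ = zz ε l ∧ e * zz ε l * e⁻¹ = zz ε a ∧
      e * zz ε a * e⁻¹ = zz ε k := by
  classical
  have hc := Equiv.Perm.isThreeCycle_swap_mul_swap_same (a := (⟨l, hl⟩ : {k // k ≠ i ∧ k ≠ j}))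
    (b := ⟨k, hk⟩) (c := ⟨a, ha⟩) (fun h0 => hkl (congrArg Subtype.val h0).symm)
    (fun h0 => hla (congrArg Subtype.val h0)) (fun h0 => hka (congrArg Subtype.val h0))
  obtain ⟨e, he, hg⟩ := h.exists_good hidx hc
  have key : ∀ x y : {k : Fin (2 ^ m + 1) // k ≠ i ∧ k ≠ j}, h.base.psi e x = y →
      (e : G) * zz ε x * (e : G)⁻¹ = zz ε y := by
    intro x y hxy
    rw [zz_conj (h.base.acts_phi e), ← h.base.psi_apply, hxy]
  refine ⟨e, e.2, hg, key ⟨k, hk⟩ ⟨l, hl⟩ ?_, key ⟨l, hl⟩ ⟨a, ha⟩ ?_, key ⟨a, ha⟩ ⟨k, hk⟩ ?_⟩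
  · have h1 : Equiv.swap (⟨l, hl⟩ : {k // k ≠ i ∧ k ≠ j}) ⟨a, ha⟩ ⟨k, hk⟩ = ⟨k, hk⟩ :=
      Equiv.swap_apply_of_ne_of_ne (fun h0 => hkl (congrArg Subtype.val h0))
        (fun h0 => hka (congrArg Subtype.val h0))
    rw [he, Equiv.Perm.mul_apply, h1, Equiv.swap_apply_right]
  · have h1 : Equiv.swap (⟨l, hl⟩ : {k // k ≠ i ∧ k ≠ j}) ⟨k, hk⟩ ⟨a, ha⟩ = ⟨a, ha⟩ :=
      Equiv.swap_apply_of_ne_of_ne (fun h0 => hla (congrArg Subtype.val h0).symm)
        (fun h0 => hka (congrArg Subtype.val h0).symm)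
    rw [he, Equiv.Perm.mul_apply, Equiv.swap_apply_left, h1]
  · rw [he, Equiv.Perm.mul_apply, Equiv.swap_apply_right, Equiv.swap_apply_left]

/-- `{e ∈ C_P(r_ij) : [W, e] ≤ C_G(V)}` -/
def E : Subgroup G where
  carrier := {e | e ∈ A P ε i j ∧ Good V W e}
  mul_mem' := by
    rintro a b ⟨ha, ha'⟩ ⟨hb, hb'⟩
    refine ⟨mul_mem ha hb, fun w hw => ?_⟩
    have h1 : w⁻¹ * (a * b) * w * (a * b)⁻¹ = (w⁻¹ * a * w * a⁻¹) * (a * (w⁻¹ * b * w * b⁻¹) * a⁻¹) := by
      group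
    rw [h1]
    exact mul_mem (ha' w hw) (conj_cent (h.even.le_normalizer ha.1) (hb' w hw))
  one_mem' := by
    refine ⟨one_mem _, fun w _ => ?_⟩
    have h1 : w⁻¹ * 1 * w * (1 : G)⁻¹ = 1 := by group
    rw [h1]
    exact one_mem _
  inv_mem' := by
    rintro a ⟨ha, ha'⟩
    refine ⟨inv_mem ha, fun w hw => ?_⟩
    have h1 : w⁻¹ * a⁻¹ * w * a⁻¹⁻¹ = a⁻¹ * (w⁻¹ * a * w * a⁻¹)⁻¹ * a⁻¹⁻¹ := by
      group
    rw [h1]
    exact conj_cent (inv_mem (h.even.le_normalizer ha.1)) (inv_mem (ha' w hw))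

theorem mem_E {e : G} : e ∈ h.E ↔ e ∈ A P ε i j ∧ Good V W e := Iff.rfl

theorem conj_E {v e : G} (hv : v ∈ A P ε i j) (he : e ∈ h.E) : v * e * v⁻¹ ∈ h.E := by
  refine ⟨mul_mem (mul_mem hv he.1) (inv_mem hv), fun w hw => ?_⟩
  have h1 : w⁻¹ * (v * e * v⁻¹) * w * (v * e * v⁻¹)⁻¹ =
      v * ((v⁻¹ * w * v)⁻¹ * e * (v⁻¹ * w * v) * e⁻¹) * v⁻¹ := by
    group
  rw [h1]
  have h2 := h.conjW (inv_mem hv) hw
  rw [inv_inv] at h2
  exact conj_cent (h.even.le_normalizer hv.1) (he.2 _ h2)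

theorem rr_mem_E' [Finite G] (hidx : P.relIndex W ≤ 2 ^ (m - 1)) {a b : Fin (2 ^ m + 1)}
    (ha : a ≠ i ∧ a ≠ j) (hb : b ≠ i ∧ b ≠ j) (hab : a ≠ b) : rr ε a b ∈ h.E := by
  obtain ⟨c, hc, hca, hcb⟩ := h.base.exists_third a b
  obtain ⟨e, he1, he2, he3, -, -⟩ := h.exists_cycle hidx ha hb hc hab hca.symm hcb.symm
  have heE : e ∈ h.E := ⟨he1, he2⟩
  have h1 := h.conj_E (h.base.V_le_A (zz_mem h.even a)) heE
  have h2 := mul_mem h1 (inv_mem heE)
  have h3 : zz ε a * e * (zz ε a)⁻¹ * e⁻¹ = rr ε a b := by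
    unfold rr
    rw [← he3, zz_inv h.even a]
    group
  rwa [h3] at h2

/-- `E` commutes with the conjugation by `W` on `V`. -/
theorem equiv [Finite G] {e w v : G} (he : e ∈ h.E) (hw : w ∈ W) (hv : v ∈ V) :
    e * (w * v * w⁻¹) * e⁻¹ = w * (e * v * e⁻¹) * w⁻¹ := by
  have hκ := he.2 w hw
  rw [mem_centralizer_iff] at hκ
  have h1 := hκ _ ((mem_normalizer_iff.mp (h.even.le_normalizer he.1.1) v).mp hv)
  set κ := w⁻¹ * e * w * e⁻¹ with hκ'
  have h2 : e * w = w * κ * e := by rw [hκ']; group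
  calc e * (w * v * w⁻¹) * e⁻¹ = (e * w) * v * (e * w)⁻¹ := by group
    _ = w * (κ * (e * v * e⁻¹)) * κ⁻¹ * w⁻¹ := by rw [h2]; group
    _ = w * (e * v * e⁻¹ * κ) * κ⁻¹ * w⁻¹ := by rw [h1]
    _ = w * (e * v * e⁻¹) * w⁻¹ := by group

/-- If `w` commutes with `v ∈ V`, it commutes with `v ^ e`, `e ∈ E`. -/
theorem comm_conj [Finite G] {e w v : G} (he : e ∈ h.E) (hw : w ∈ W) (hv : v ∈ V) (hc : w * v = v * w) :
    w * (e * v * e⁻¹) = e * v * e⁻¹ * w := by
  have h1 := h.equiv he hw hv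
  have h2 : w * v * w⁻¹ = v := by rw [hc, mul_inv_cancel_right]
  rw [h2] at h1
  calc w * (e * v * e⁻¹) = w * (e * v * e⁻¹) * w⁻¹ * w := by group
    _ = e * v * e⁻¹ * w := by rw [← h1]

/-- `|W : W ∩ P| ≤ 2^(m-1)` -/
theorem relIndex_le [Finite G] : P.relIndex W ≤ 2 ^ (m - 1) := by
  have h2 : Fact (Nat.Prime 2) := ⟨Nat.prime_two⟩
  set T := S ⊓ centralizer ({rr ε i j} : Set G) with hT
  have hTW : T ≤ normalizer (W : Set G) := fun t ht => h.nN (h.PN.symm ▸ (⟨h.le ht.1, ht.2⟩ : t ∈ A P ε i j) : t ∈ P ⊓ N).2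
  have hTp : IsPGroup 2 T := h.isP.to_le inf_le_left
  have h1 : IsPGroup 2 (W ⊔ T : Subgroup G) := by
    have := h.isPW.to_sup_of_normal_left' hTp hTW
    exact this
  have h3 := h.max _ h1
  have h4 := Hyp.card_sup_mul' hTW
  have h5 : Nat.card T * T.relIndex S = Nat.card S := Hyp.card_mul_relIndex' inf_le_left
  have h6 : Nat.card (W ⊓ T : Subgroup G) * (W ⊓ T).relIndex W = Nat.card W :=
    Hyp.card_mul_relIndex' inf_le_left
  rw [inf_relIndex_left] at h6
  have h7 : T.relIndex W ≤ T.relIndex S := by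
    have hTpos : 0 < Nat.card T := Nat.card_pos
    have hWpos : 0 < Nat.card (W ⊓ T : Subgroup G) := Nat.card_pos
    have h8 : Nat.card T * T.relIndex W * Nat.card (W ⊓ T : Subgroup G) ≤
        Nat.card T * T.relIndex S * Nat.card (W ⊓ T : Subgroup G) := by
      calc Nat.card T * T.relIndex W * Nat.card (W ⊓ T : Subgroup G)
          = Nat.card (W ⊓ T : Subgroup G) * T.relIndex W * Nat.card T := by ring
        _ = Nat.card (W ⊔ T : Subgroup G) * Nat.card (W ⊓ T : Subgroup G) := by rw [h6, h4]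
        _ ≤ Nat.card S * Nat.card (W ⊓ T : Subgroup G) := Nat.mul_le_mul_right _ h3
        _ = _ := by rw [← h5]
    have h9 := Nat.le_of_mul_le_mul_right h8 hWpos
    exact Nat.le_of_mul_le_mul_left h9 hTpos
  have h8 : P.relIndex W ≤ T.relIndex W := by
    refine relIndex_le_of_le_left (inf_le_left.trans h.le) ?_
    rw [relIndex]
    exact FiniteIndex.index_ne_zero
  exact (h8.trans h7).trans h.base.relIndex_S_le

theorem Vn_le_E [Finite G] : Vn ε i j ≤ h.E := by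
  rw [Vn, closure_le]
  rintro _ ⟨k, l, hk, hl, rfl⟩
  by_cases hkl : k = l
  · subst hkl
    have h0 : rr ε k k = 1 := zz_sq h.even k
    rw [h0]
    exact one_mem _
  · exact h.rr_mem_E' h.relIndex_le hk hl hkl

/-- `w v w⁻¹` commutes with `V` for `v ∈ V_n`, `w ∈ W`. -/
theorem comm_V [Finite G] {u v w : G} (hu : u ∈ V) (hv : v ∈ Vn ε i j) (hw : w ∈ W) :
    u * (w * v * w⁻¹) = w * v * w⁻¹ * u := by
  have h1 := (h.Vn_le_E hv).2 w⁻¹ (inv_mem hw)
  rw [inv_inv, mem_centralizer_iff] at h1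
  have hvV : v ∈ V := Vn_le h.even hv
  have h2 := h1 u hu
  calc u * (w * v * w⁻¹) = u * (w * v * w⁻¹ * v⁻¹) * v := by group
    _ = w * v * w⁻¹ * v⁻¹ * (u * v) := by rw [h2]; group
    _ = w * v * w⁻¹ * v⁻¹ * (v * u) := by rw [h.even.comm_mem hu hvV]
    _ = w * v * w⁻¹ * u := by group

end HypD

section

variable {m : ℕ} {V P S W N : Subgroup G} {ε : (Fin (2 ^ m + 1) → ZMod 2) → G} {i j : Fin (2 ^ m + 1)}

/-- `E` induces all 3-cycles off `{i, j}` (and fixes `i` and `j`). -/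
theorem cycle3 [Finite G] (h : HypD V P S W N ε i j) {a b c : Fin (2 ^ m + 1)} (ha : a ≠ i ∧ a ≠ j)
    (hb : b ≠ i ∧ b ≠ j) (hc : c ≠ i ∧ c ≠ j) (hab : a ≠ b) (hbc : b ≠ c) (hac : a ≠ c) :
    ∃ e ∈ h.E, Acts ε e (Equiv.swap a b * Equiv.swap b c) := by
  classical
  let τ : Equiv.Perm {k : Fin (2 ^ m + 1) // k ≠ i ∧ k ≠ j} :=
    Equiv.swap ⟨a, ha⟩ ⟨b, hb⟩ * Equiv.swap ⟨b, hb⟩ ⟨c, hc⟩
  have hτ : τ.IsThreeCycle := by
    have h1 := Equiv.Perm.isThreeCycle_swap_mul_swap_same (a := (⟨b, hb⟩ : {k // k ≠ i ∧ k ≠ j}))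
      (b := ⟨a, ha⟩) (c := ⟨c, hc⟩) (fun h0 => hab (congrArg Subtype.val h0).symm)
      (fun h0 => hbc (congrArg Subtype.val h0)) (fun h0 => hac (congrArg Subtype.val h0))
    rwa [Equiv.swap_comm (⟨b, hb⟩ : {k // k ≠ i ∧ k ≠ j}) ⟨a, ha⟩] at h1
  obtain ⟨e, he, heG⟩ := h.exists_good h.relIndex_le hτ.inv
  have heE : (e : G) ∈ h.E := ⟨e.2, heG⟩
  refine ⟨e * e, mul_mem heE heE, ?_⟩
  have h1 := (h.base.acts_phi e).mul (h.base.acts_phi e)
  have h2 : h.base.phi e * h.base.phi e = Equiv.swap a b * Equiv.swap b c := by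
    have h3 : ∀ k : {k : Fin (2 ^ m + 1) // k ≠ i ∧ k ≠ j}, h.base.phi e k = (τ⁻¹ k : {k // k ≠ i ∧ k ≠ j}) := by
      intro k
      rw [← h.base.psi_apply, he]
    have h4 : τ⁻¹ * τ⁻¹ = τ := by
      have h5 : τ ^ 3 = 1 := by
        rw [← hτ.orderOf]
        exact pow_orderOf_eq_one τ
      calc τ⁻¹ * τ⁻¹ = τ⁻¹ * τ⁻¹ * τ ^ 3 := by rw [h5, mul_one]
        _ = τ := by group
    ext k
    congr 1
    rw [Equiv.Perm.mul_apply]
    by_cases hki : k = i
    · subst hki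
      rw [Equiv.Perm.mul_apply, Equiv.swap_apply_of_ne_of_ne hb.1.symm hc.1.symm,
        Equiv.swap_apply_of_ne_of_ne ha.1.symm hb.1.symm]
      rcases h.base.phi_pair e with ⟨h5, -⟩ | ⟨h5, h6⟩
      · rw [h5, h5]
      · rw [h5, h6]
    · by_cases hkj : k = j
      · subst hkj
        rw [Equiv.Perm.mul_apply, Equiv.swap_apply_of_ne_of_ne hb.2.symm hc.2.symm,
          Equiv.swap_apply_of_ne_of_ne ha.2.symm hb.2.symm]
        rcases h.base.phi_pair e with ⟨-, h5⟩ | ⟨h5, h6⟩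
        · rw [h5, h5]
        · rw [h6, h5]
      · have h5 := h3 ⟨k, hki, hkj⟩
        have h6 := h3 (τ⁻¹ ⟨k, hki, hkj⟩)
        change h.base.phi e k = _ at h5
        rw [h5, h6]
        have h7 : τ⁻¹ (τ⁻¹ ⟨k, hki, hkj⟩) = τ ⟨k, hki, hkj⟩ := by
          rw [← Equiv.Perm.mul_apply, h4]
        rw [h7]
        have h8 : Equiv.Perm.ofSubtype τ = Equiv.swap a b * Equiv.swap b c := by
          change Equiv.Perm.ofSubtype (Equiv.swap _ _ * Equiv.swap _ _) = _
          rw [map_mul, Equiv.Perm.ofSubtype_swap_eq, Equiv.Perm.ofSubtype_swap_eq]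
        rw [← h8, Equiv.Perm.ofSubtype_apply_of_mem τ (⟨hki, hkj⟩ : k ≠ i ∧ k ≠ j)]
  rwa [h2] at h1

theorem AA_comm [Finite G] (h : HypD V P S W N ε i j) : ∀ x ∈ AA W ε i j, ∀ y ∈ AA W ε i j, x * y = y * x := by
  have h1 : IsMulCommutative (AA W ε i j) := by
    refine isMulCommutative_closure ?_
    rintro _ ⟨w, hw, v, hv, rfl⟩ _ ⟨w', hw', v', hv', rfl⟩
    have h2 := h.comm_V (Vn_le h.even hv) hv' (mul_mem (inv_mem hw) hw')
    calc w * v * w⁻¹ * (w' * v' * w'⁻¹) = w * (v * (w⁻¹ * w' * v' * (w⁻¹ * w')⁻¹)) * w⁻¹ := by group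
      _ = w * (w⁻¹ * w' * v' * (w⁻¹ * w')⁻¹ * v) * w⁻¹ := by rw [h2]
      _ = _ := by group
  intro x hx y hy
  exact congrArg Subtype.val (h1.is_comm.comm (⟨x, hx⟩ : AA W ε i j) ⟨y, hy⟩)

theorem AA_sq [Finite G] (h : HypD V P S W N ε i j) {x : G} (hx : x ∈ AA W ε i j) : x * x = 1 := by
  have hc := AA_comm h
  have key : ∀ x (hx : x ∈ _root_.Subgroup.closure {x | ∃ w ∈ W, ∃ v ∈ Vn ε i j, x = w * v * w⁻¹}), x * x = 1 := by
    intro x hx
    induction hx using closure_induction with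
    | mem x hx =>
      obtain ⟨w, hw, v, hv, rfl⟩ := hx
      calc w * v * w⁻¹ * (w * v * w⁻¹) = w * (v * v) * w⁻¹ := by group
        _ = 1 := by
          rw [h.even.sq_mem (Vn_le h.even hv)]
          group
    | one => exact one_mul 1
    | mul x y hx' hy' hx hy =>
      calc x * y * (x * y) = x * (y * x) * y := by group
        _ = x * (x * y) * y := by rw [hc y hy' x hx']
        _ = (x * x) * (y * y) := by group
        _ = 1 := by rw [hx, hy, one_mul]
    | inv x _ hx =>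
      rw [← mul_inv_rev, hx, inv_one]
  exact key x hx

theorem AA_WE [Finite G] (h : HypD V P S W N ε i j) {w e x : G} (hw : w ∈ W) (he : e ∈ h.E) (hx : x ∈ AA W ε i j) :
    w * (e * x * e⁻¹) * w⁻¹ = e * (w * x * w⁻¹) * e⁻¹ := by
  unfold AA at hx
  induction hx using closure_induction with
  | mem x hx =>
    obtain ⟨w', hw', v, hv, rfl⟩ := hx
    have h1 := h.equiv he hw' (Vn_le h.even hv)
    have h2 := h.equiv he (mul_mem hw hw') (Vn_le h.even hv)
    calc w * (e * (w' * v * w'⁻¹) * e⁻¹) * w⁻¹ = w * (w' * (e * v * e⁻¹) * w'⁻¹) * w⁻¹ := by rw [h1]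
      _ = w * w' * (e * v * e⁻¹) * (w * w')⁻¹ := by group
      _ = e * (w * w' * v * (w * w')⁻¹) * e⁻¹ := h2.symm
      _ = _ := by group
  | one => group
  | mul x y _ _ hx hy =>
    calc w * (e * (x * y) * e⁻¹) * w⁻¹ = (w * (e * x * e⁻¹) * w⁻¹) * (w * (e * y * e⁻¹) * w⁻¹) := by group
      _ = e * (w * x * w⁻¹) * e⁻¹ * (e * (w * y * w⁻¹) * e⁻¹) := by rw [hx, hy]
      _ = _ := by group
  | inv x _ hx =>
    calc w * (e * x⁻¹ * e⁻¹) * w⁻¹ = (w * (e * x * e⁻¹) * w⁻¹)⁻¹ := by group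
      _ = (e * (w * x * w⁻¹) * e⁻¹)⁻¹ := by rw [hx]
      _ = _ := by group

/-- #13864 (A3). -/
theorem exists_phi [Finite G] (h : HypD V P S W N ε i j) {Q : Subgroup G}
    (hWc : ∀ g ∈ N, (∀ w ∈ W, g * w = w * g) → g ∈ W)
    (hQP : Q ≤ P) (hQ2 : IsPGroup 2 Q) (hQV : Q ≤ centralizer (V : Set G))
    (hQc : ∀ g : G, (∀ q ∈ Q, g * q = q * g) → g ∈ Q) :
    ∃ φ : G → G, (∀ v ∈ Vn ε i j, ∀ v' ∈ Vn ε i j, φ (v * v') = φ v * φ v') ∧
      (∀ v ∈ Vn ε i j, φ v = 1 → v = 1) ∧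
      (∀ v ∈ Vn ε i j, φ v ∈ W ∧ (∀ w ∈ W, φ v * w = w * φ v) ∧ φ v ∈ Q ∧ (∀ q ∈ Q, φ v * q = q * φ v) ∧
        φ v * φ v = 1) ∧
      ∀ σ ∈ St i j, ∃ g ∈ P ⊓ NN ε i j, Acts ε g σ ∧ ∀ v ∈ Vn ε i j, g * v * g⁻¹ ∈ Vn ε i j ∧
        φ (g * v * g⁻¹) = g * φ v * g⁻¹ := by
  classical
  have hf : Fact (Nat.Prime 2) := ⟨Nat.prime_two⟩
  have h5 := h.base.five
  let D : Subgroup G := P ⊓ NN ε i j
  have hQD : Q ≤ D := by
    intro q hq
    exact ⟨hQP hq, mem_NN.mpr (mem_centralizer_iff.mp (hQV hq) _ (rr_mem h.even i j)).symm⟩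
  -- a Sylow 2-subgroup of `C_P(n)` containing `Q`
  obtain ⟨T0, hT0⟩ : ∃ T0 : Sylow 2 D, Q.subgroupOf D ≤ T0 :=
    (hQ2.comap_of_injective D.subtype D.subtype_injective).exists_le_sylow
  let T : Subgroup G := (T0 : Subgroup D).map D.subtype
  have hTD : T ≤ D := map_subtype_le _
  have hT2 : IsPGroup 2 T := T0.isPGroup'.map _
  have hQT : Q ≤ T := by
    intro q hq
    exact ⟨⟨q, hQD hq⟩, hT0 hq, rfl⟩
  have hTodd : ¬ 2 ∣ T.relIndex D := by
    have h1 : T.subgroupOf D = T0 := comap_map_eq_self_of_injective D.subtype_injective _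
    rw [relIndex, h1]
    exact T0.not_dvd_index
  have hSt : ∀ g ∈ D, ∀ v ∈ Vn ε i j, g * v * g⁻¹ ∈ Vn ε i j := by
    intro g hg v hv
    obtain ⟨σ, hσ⟩ := h.even.perm g hg.1
    exact Vn_conj hσ (mem_St_of h5 h.even h.ne hσ hg.2) hv
  have hED : h.E ≤ D := fun e he => he.1
  obtain ⟨k, hk, -, -⟩ := h.base.exists_third i j
  obtain ⟨l, hl, hlk, -⟩ := h.base.exists_third k k
  obtain ⟨φ, f1, f2, f3, f4, f5⟩ := exists_hom (Vn := Vn ε i j) (A := AA W ε i j) (E := h.E) (W := W) (T := T)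
    (fun v hv => subset_closure ⟨1, W.one_mem, v, hv, by group⟩)
    (fun h0 => by
      have h1 : rr ε k l ∈ Vn ε i j := rr_mem_Vn hk hl
      rw [h0, mem_bot] at h1
      exact rr_ne_one h.even h.three hlk.symm h1)
    (AA_comm h) (fun a ha => AA_sq h ha) h.isPW hT2
    (fun e he => hSt e (hED he)) (fun t ht => hSt t (hTD ht))
    (fun w hw a ha => AA_conjW hw ha)
    (fun t ht a ha => AA_conj (fun w hw => h.conjW (hTD ht) hw) (hSt t (hTD ht)) ha)
    (fun t ht w hw => h.conjW (hTD ht) hw)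
    (fun t ht e he => h.conj_E (hTD ht) he)
    (fun w hw e he a ha => AA_WE h hw he ha)
  have hfull : ∀ σ ∈ St i j, ∃ g ∈ h.E ⊔ T, Acts ε g σ := by
    refine full_of h.two_le h.even h.ne (sup_le hED hTD) (fun h0 => hTodd (h0.trans ?_)) ?_
    · exact relIndex_dvd_of_le_left _ le_sup_right
    · intro a b c ha hb hc hab hbc hac
      obtain ⟨e, he, h1⟩ := cycle3 h ha hb hc hab hbc hac
      exact ⟨e, mem_sup_left he, h1⟩
  have hodd : (2 ^ m + 1) % 2 = 1 := by
    obtain ⟨k, hk⟩ := odd_n (m := m) (by have := h.two_le; omega)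
    omega
  refine ⟨φ, f2, fun v hv hv1 => phi_inj hodd h.even h.ne f2 f3 (fun g hg v hv => (f5 g hg v hv).2) hfull hv hv1,
    fun v hv => ?_, fun σ hσ => ?_⟩
  · have hcW : ∀ w ∈ W, φ v * w = w * φ v := by
      intro w hw
      have h1 := f4 w hw v hv
      calc φ v * w = w * φ v * w⁻¹ * w := by rw [h1]
        _ = w * φ v := by group
    have hcQ : ∀ q ∈ Q, φ v * q = q * φ v := by
      intro q hq
      have h1 := (f5 q (mem_sup_right (hQT hq)) v hv).2
      have h2 : q * v * q⁻¹ = v := by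
        rw [← mem_centralizer_iff.mp (hQV hq) v (Vn_le h.even hv), mul_inv_cancel_right]
      rw [h2] at h1
      calc φ v * q = q * φ v * q⁻¹ * q := by rw [← h1]
        _ = q * φ v := by group
    have hAN : AA W ε i j ≤ N := by
      rw [AA, closure_le]
      rintro _ ⟨w, hw, u, hu, rfl⟩
      have hwN : w ∈ N := h.leN hw
      have huN : u ∈ N := (h.PN.symm ▸ h.base.V_le_A (Vn_le h.even hu) : u ∈ P ⊓ N).2
      exact mul_mem (mul_mem hwN huN) (inv_mem hwN)
    exact ⟨hWc _ (hAN (f1 v hv)) hcW, hcW, hQc _ hcQ, hcQ, AA_sq h (f1 v hv)⟩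
  · obtain ⟨g, hg, hgσ⟩ := hfull σ hσ
    exact ⟨g, sup_le hED hTD hg, hgσ, f5 g hg⟩


end


/-! ### `V_n ≤ Z(O₂(C_G(n d)))` -/

open Cfsg.Agent.ZN (o2 zc zl)
open Cfsg.Agent.MinSimple.VModule (o2_le o2_isPGroup le_normalizer_o2 mem_zc)
open Cfsg.Agent.MinSimple.Geo (inf_centralizer_o2_le isTwoLocal_centralizer)
open Cfsg.Agent.Omega.MinPar Cfsg.Agent.Omega.F4Leaf.App

/-- **`V_n ≤ Z(O₂(C_G(n d)))`**, `d` central in `P`. -/
theorem Vn_cen_mul [Finite G] (hG : IsCharacteristicTwoType G) (S : Sylow 2 G) {P A₀ V₀ : Subgroup G} {m : ℕ}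
    (hm : 2 ≤ m) {ε : (Fin (2 ^ m + 1) → ZMod 2) → G} (h : EvenSet (2 ^ m + 1) A₀ P ε)
    (hP : IsParS (S : Subgroup G) P) (h0 : Fix0 ε (S : Subgroup G)) (hV0 : ∀ v ∈ V₀, ∀ g ∈ P, g * v = v * g)
    (hV : ∀ v ∈ zl (S : Subgroup G) P, ∃ c ∈ V₀, ∃ a ∈ A₀, v = c * a) (hA : A₀ ≤ zl (S : Subgroup G) P)
    {d : G} (hd : ∀ g ∈ P, g * d = d * g) (hd2 : d * d = 1)
    (hne : ∀ i j : Fin (2 ^ m + 1), i ≠ j → rr ε i j * d ≠ 1)
    {i j : Fin (2 ^ m + 1)} (hij : i ≠ j) {v : G} (hv : v ∈ Vn ε i j) :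
    v ∈ o2 (centralizer ({rr ε i j * d} : Set G)) ∧
      ∀ x ∈ o2 (centralizer ({rr ε i j * d} : Set G)), v * x = x * v := by
  have hf : Fact (Nat.Prime 2) := ⟨Nat.prime_two⟩
  have hn : 3 ≤ 2 ^ m + 1 := three_le (by omega)
  have hSP : (S : Subgroup G) ≤ P := hP.le
  have hS2 : ¬ 2 ∣ (S : Subgroup G).relIndex P := MinSimple.Basic.not_dvd_relIndex S hSP
  have hinf := hP.inf_centralizer S hG
  have hQS : o2 P ≤ (S : Subgroup G) := by
    rw [← hinf]
    exact inf_le_left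
  have hQz : o2 P ≤ centralizer (zl (S : Subgroup G) P : Set G) := by
    rw [← hinf]
    exact inf_le_right
  -- `C_G(O₂(P)) ≤ O₂(P)`
  have hQc : ∀ g : G, (∀ q ∈ o2 P, g * q = q * g) → g ∈ o2 P := by
    intro g hg
    have h1 := hP.isLoc.normalizer_o2 S
    have h2 : o2 (normalizer (o2 P : Set G)) ≤ o2 P := o2_le_o2 S hSP (le_normalizer_o2 P)
    have h3 : g ∈ centralizer (o2 P : Set G) := mem_centralizer_iff.mpr fun q hq => (hg q hq).symm
    have h4 : g ∈ centralizer (o2 (normalizer (o2 P : Set G)) : Set G) :=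
      mem_centralizer_iff.mpr fun q hq => (hg q (h2 hq)).symm
    exact h2 (h1.char2 S hG ⟨centralizer_le_normalizer _ h3, h4⟩)
  have hSA : ∀ s ∈ (S : Subgroup G), s ∈ centralizer (A₀ : Set G) → s ∈ o2 P := by
    intro s hs hsA
    rw [← hinf]
    refine ⟨hs, mem_centralizer_iff.mpr fun v hv => ?_⟩
    obtain ⟨c, hc, a, ha, rfl⟩ := hV v hv
    have h1 := mem_centralizer_iff.mp hsA a ha
    calc c * a * s = c * (a * s) := by group
      _ = c * s * a := by rw [h1, mul_assoc]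
      _ = s * (c * a) := by rw [← hV0 c hc s (hSP hs), mul_assoc]
  have hB : Big (S : Subgroup G) P V₀ A₀ (zc (o2 P)) ε :=
    { ev := h
      fix0 := h0
      le := hSP
      comm := fun y hy y' hy' => (mem_zc.mp hy').2.1 y (mem_zc.mp hy).1
      sq := fun y hy => by rw [← pow_two]; exact (mem_zc.mp hy).2.2
      ge := hA.trans (hP.isLoc.zl_le S hG)
      nrm := fun g hg y hy => (mem_normalizer_iff.mp
        (MinSimple.VModule.normalizer_le_normalizer_zc _ (le_normalizer_o2 P hg)) y).mp hy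
      syl := fun s hs hsA => by
        rw [mem_centralizer_iff]
        intro y hy
        exact ((mem_zc.mp hy).2.1 s (hSA s hs hsA)).symm
      cz := hV0
      fixed := fun y hy hys => by
        have h1 : y ∈ zc (S : Subgroup G) := mem_zc.mpr ⟨hQS (mem_zc.mp hy).1, hys, (mem_zc.mp hy).2.2⟩
        obtain ⟨c, hc, a, ha, rfl⟩ := hV y (MinSimple.VModule.zc_le_zl _ _ h1)
        refine ⟨c, hc, ?_⟩
        have h2 : ∀ s ∈ (S : Subgroup G), s * a = a * s := by
          intro s hs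
          have h3 := hys s hs
          have h4 := hV0 c hc s (hSP hs)
          have h5 : c * (s * a) = c * (a * s) := by
            calc c * (s * a) = s * (c * a) := by rw [← mul_assoc, ← h4, mul_assoc]
              _ = c * (a * s) := by rw [h3, mul_assoc]
          exact mul_left_cancel h5
        rcases fixed (by omega) h hSP hS2 h0 ha h2 with h3 | h3
        · left
          rw [h3, mul_one]
        · right
          rw [h3] }
  -- a pair whose transposition is induced by `S`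
  obtain ⟨i0, j0, hij0, hsw⟩ := exists_swap (by omega) h hSP hS2 S.isPGroup'
  have hAP : A₀ ≤ P := hA.trans ((hP.isLoc.zl_le S hG).trans ((MinSimple.VModule.zc_le _).trans (hQS.trans hSP)))
  have hyp : HypD A₀ P (S : Subgroup G) (o2 (centralizer ({rr ε i0 j0 * d} : Set G)))
      (centralizer ({rr ε i0 j0 * d} : Set G)) ε i0 j0 :=
    { even := h
      VP := hAP
      two_le := hm
      le := hSP
      isP := S.isPGroup'
      max := fun T hT => by
        obtain ⟨R, hR⟩ := hT.exists_le_sylow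
        have h1 : Nat.card (R : Subgroup G) = Nat.card (S : Subgroup G) := by
          rw [R.card_eq_multiplicity, S.card_eq_multiplicity]
        rw [← h1]
        exact Subgroup.card_le_of_le hR
      fix0 := h0
      ne := hij0
      swap := hsw
      isPW := o2_isPGroup _
      leN := o2_le _
      nN := le_normalizer_o2 _
      PN := by
        ext g
        rw [A, mem_inf, mem_inf, mem_centralizer_singleton_iff, mem_centralizer_singleton_iff]
        refine and_congr_right fun hg => ?_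
        have h1 := hd g hg
        constructor
        · intro h2
          have h3 : g * rr ε i0 j0 * d = rr ε i0 j0 * g * d := by
            calc g * rr ε i0 j0 * d = g * (rr ε i0 j0 * d) := by group
              _ = rr ε i0 j0 * (d * g) := by rw [h2]; group
              _ = rr ε i0 j0 * g * d := by rw [← h1]; group
          exact mul_right_cancel h3
        · intro h2
          calc g * (rr ε i0 j0 * d) = (g * rr ε i0 j0) * d := by group
            _ = rr ε i0 j0 * (g * d) := by rw [h2]; group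
            _ = rr ε i0 j0 * d * g := by rw [h1]; group }
  have hrd : rr ε i0 j0 * d = d * rr ε i0 j0 := hd _ (hAP (rr_mem h i0 j0))
  have hr2 : (rr ε i0 j0 * d) * (rr ε i0 j0 * d) = 1 := by
    calc (rr ε i0 j0 * d) * (rr ε i0 j0 * d) = rr ε i0 j0 * (d * rr ε i0 j0) * d := by group
      _ = (rr ε i0 j0 * rr ε i0 j0) * (d * d) := by rw [← hrd]; group
      _ = 1 := by rw [rr_sq h, hd2, one_mul]
  have hWc : ∀ g ∈ centralizer ({rr ε i0 j0 * d} : Set G),
      (∀ w ∈ o2 (centralizer ({rr ε i0 j0 * d} : Set G)), g * w = w * g) →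
        g ∈ o2 (centralizer ({rr ε i0 j0 * d} : Set G)) := by
    intro g hg hgw
    exact inf_centralizer_o2_le hG (isTwoLocal_centralizer hr2 (hne _ _ hij0))
      ⟨hg, mem_centralizer_iff.mpr fun w hw => (hgw w hw).symm⟩
  obtain ⟨φ, f1, f2, f3, f4⟩ := exists_phi hyp hWc (Q := o2 P) (o2_le P) (o2_isPGroup P)
    (hQz.trans (centralizer_le hA)) hQc
  have hmain := hB.phi_eq hm hS2 S.isPGroup' hij0 (φ := φ) (fun v hv => by
      obtain ⟨-, -, h3, h4, h5⟩ := f3 v hv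
      refine mem_zc.mpr ⟨h3, fun b hb => (h4 b hb).symm, ?_⟩
      rw [pow_two]
      exact h5) f1 (fun σ hσ => by
      obtain ⟨g, hg, hgσ, h3⟩ := f4 σ hσ
      exact ⟨g, hg.1, hgσ, fun v hv => (h3 v hv).2⟩)
  have hid : ∀ v ∈ Vn ε i0 j0, φ v = v := by
    rcases hmain with h1 | h1
    · exfalso
      obtain ⟨k, hk, -, -⟩ := hyp.base.exists_third i0 j0
      obtain ⟨l, hl, hlk, -⟩ := hyp.base.exists_third k k
      exact rr_ne_one h hn hlk.symm (f2 _ (rr_mem_Vn hk hl) (h1 _ (rr_mem_Vn hk hl)))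
    · exact h1
  have hcen : ∀ v ∈ Vn ε i0 j0, v ∈ o2 (centralizer ({rr ε i0 j0 * d} : Set G)) ∧
      ∀ x ∈ o2 (centralizer ({rr ε i0 j0 * d} : Set G)), v * x = x * v := by
    intro v hv
    obtain ⟨h1, h2, -, -, -⟩ := f3 v hv
    rw [hid v hv] at h1 h2
    exact ⟨h1, h2⟩
  -- all pairs
  obtain ⟨σ, h1, h2, -⟩ := NSix.Basic.exists_perm hij hij0
  obtain ⟨g, hg, hσ⟩ := h.full σ
  have hgv : g * v * g⁻¹ ∈ Vn ε i0 j0 := by
    have key : ∀ v ∈ Vn ε i j, g * v * g⁻¹ ∈ Vn ε (σ i) (σ j) := by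
      intro v hv
      unfold Vn at hv
      induction hv using closure_induction with
      | mem x hx =>
        obtain ⟨k, l, hk, hl, rfl⟩ := hx
        rw [rr_conj hσ]
        exact rr_mem_Vn ⟨σ.injective.ne hk.1, σ.injective.ne hk.2⟩ ⟨σ.injective.ne hl.1, σ.injective.ne hl.2⟩
      | one =>
        rw [mul_one, mul_inv_cancel]
        exact one_mem _
      | mul x y _ _ hx hy =>
        have : g * (x * y) * g⁻¹ = (g * x * g⁻¹) * (g * y * g⁻¹) := by group
        rw [this]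
        exact mul_mem hx hy
      | inv x _ hx =>
        have : g * x⁻¹ * g⁻¹ = (g * x * g⁻¹)⁻¹ := by group
        rw [this]
        exact inv_mem hx
    have h3 := key v hv
    rwa [h1, h2] at h3
  have e1 : g * (rr ε i j * d) * g⁻¹ = rr ε i0 j0 * d := by
    have h3 := rr_conj hσ i j
    rw [h1, h2] at h3
    calc g * (rr ε i j * d) * g⁻¹ = (g * rr ε i j * g⁻¹) * (g * d) * g⁻¹ := by group
      _ = rr ε i0 j0 * d := by rw [h3, hd g hg]; group
  have e2 : g⁻¹ * (rr ε i0 j0 * d) * g⁻¹⁻¹ = rr ε i j * d := by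
    rw [← e1]
    group
  obtain ⟨h3, h4⟩ := hcen _ hgv
  refine ⟨?_, fun x hx => ?_⟩
  · have h5 := NSix.PtCen.conj_o2_cent (g := g⁻¹) h3
    rw [e2] at h5
    have h6 : g⁻¹ * (g * v * g⁻¹) * g⁻¹⁻¹ = v := by group
    rwa [h6] at h5
  · have h5 := NSix.PtCen.conj_o2_cent (g := g) hx
    rw [e1] at h5
    have h6 := h4 _ h5
    calc v * x = g⁻¹ * ((g * v * g⁻¹) * (g * x * g⁻¹)) * g := by group
      _ = g⁻¹ * ((g * x * g⁻¹) * (g * v * g⁻¹)) * g := by rw [h6]
      _ = x * v := by group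

open Cfsg.Agent.Omega.FrameFF (cv)

/-- **(F2)** `V_n ≤ Z(O₂(C_G(n d)))`, `d ∈ V₀`. -/
theorem vn_cen_mul [Finite G] {S : Sylow 2 G} {P : Subgroup G} {m : ℕ} {A₀ : Subgroup G}
    {ε : (Fin (2 ^ m + 1) → ZMod 2) → G} (h : F4Leaf.Pos.Sit S P m A₀ ε) {d : G} (hd : d ∈ cv (S : Subgroup G) P)
    {i j : Fin (2 ^ m + 1)} (hij : i ≠ j) {v : G} (hv : v ∈ Vn ε i j) :
    v ∈ o2 (centralizer ({rr ε i j * d} : Set G)) ∧
      ∀ x ∈ o2 (centralizer ({rr ε i j * d} : Set G)), v * x = x * v := by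
  have hd2 : d * d = 1 := by
    have := h.V_sq (h.V0_le hd)
    rwa [pow_two] at this
  refine Vn_cen_mul h.c2 S h.m2 h.split.even h.par h.split.fix0 (fun _ hv _ hg => h.V0_comm hv hg)
    (fun _ hv => h.mul_eq hv) h.split.A_le (fun g hg => h.V0_comm hd hg) hd2 (fun k l hkl h0 => ?_) hij hv
  have h1 : rr ε k l = d := by
    have h2 : rr ε k l = d⁻¹ := eq_inv_of_mul_eq_one_left h0
    rw [h2]
    exact inv_eq_of_mul_eq_one_left hd2
  have h2 : rr ε k l ∈ (⊥ : Subgroup G) := by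
    rw [← h.split.disj]
    exact ⟨h1 ▸ hd, rr_mem h.split.even k l⟩
  exact rr_ne_one h.split.even h.three hkl (mem_bot.1 h2)

end Cfsg.Agent.Omega.IId.Cv.VnD

end

section


/-!
# LeafF4, step (0): a natural partner of a member of type `S_{2^m+1}` has `q = 2`, `|Z| = 2 |C_{V'}(O²(P₂))|`
-/

set_option autoImplicit false
set_option linter.unusedSectionVars false

namespace Cfsg.Agent.Omega.F4Leaf.NatStep

open Subgroup Pointwise Cfsg Cfsg.Agent.ZN Cfsg.Agent.ZN.ChoiceBase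
open Cfsg.Agent.Omega.MinPar Cfsg.Agent.Omega.FFThm
open Cfsg.Agent.Omega.FrameFF (cv Free)
open Cfsg.Agent.Omega.FrameMulti (IsSym IsNat Typed AllTyped)
open Cfsg.Agent.Omega.NatPair (ap ap_zero' ap_one')
open Cfsg.Agent.Omega.S5.Def Cfsg.Agent.Omega.S5.Syl Cfsg.Agent.Omega.S5.Pair Cfsg.Agent.Omega.S5.Main
open Cfsg.Agent.Omega.F4Leaf.Def Cfsg.Agent.Omega.F4Leaf.Main
open Cfsg.Agent.Lib.SL2Mat

universe u

variable {G : Type u} [Group G]

section nat

variable {F : Type} [Field F] {T H V D : Subgroup G}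

/-- `|V| = |F|² |D|` -/
theorem card_eq [Finite G] (h : NatK F T H V D 1) (hD : D ≤ V) : Nat.card V = Nat.card F ^ 2 * Nat.card D := by
  let φ : V →* Multiplicative (Fin 1 → Fin 2 → F) :=
    { toFun := fun v => Multiplicative.ofAdd (h.e (v : G))
      map_one' := congrArg Multiplicative.ofAdd (S5.Nat.e_one h)
      map_mul' := fun v w => congrArg Multiplicative.ofAdd (h.mul v v.2 w w.2) }
  have hs : Function.Surjective φ := by
    intro x
    obtain ⟨v, hv, hx⟩ := h.surj (Multiplicative.toAdd x)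
    exact ⟨⟨v, hv⟩, congrArg Multiplicative.ofAdd hx⟩
  have hk : φ.ker = D.subgroupOf V := by
    ext v
    rw [MonoidHom.mem_ker, mem_subgroupOf, ← h.ker v v.2]
    exact Iff.rfl
  have h1 := φ.ker.card_eq_card_quotient_mul_card_subgroup
  have h2 : Nat.card (V ⧸ φ.ker) = Nat.card F ^ 2 := by
    rw [Nat.card_congr (QuotientGroup.quotientKerEquivOfSurjective φ hs).toEquiv]
    change Nat.card (Fin 1 → Fin 2 → F) = _
    rw [Nat.card_fun, Nat.card_fun]
    simp
  rw [h2, hk, Nat.card_congr (subgroupOfEquivOfLe hD).toEquiv] at h1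
  exact h1

end nat

section step

variable [Finite G] {S : Sylow 2 G}

/-- the commutators of an offender element with a natural module -/
theorem exists_comm (hG : IsCharacteristicTwoType G) {P : Subgroup G} (hP : IsParS (S : Subgroup G) P)
    {F : Type} [Field F] [CharP F 2]
    (h : NatK F (S : Subgroup G) P (zl (S : Subgroup G) P) (cv (S : Subgroup G) P) 1) {B : Subgroup G}
    (hB : B ≤ (S : Subgroup G)) (hoff : Off (zl (S : Subgroup G) P) B) {c : G} (hc : c ∈ B)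
    (hne : ¬ ∀ v ∈ zl (S : Subgroup G) P, c * v = v * c) :
    ∃ f : F → G, Function.Injective f ∧ ∀ z, ∃ v ∈ zl (S : Subgroup G) P, f z = c * v * c⁻¹ * v⁻¹ := by
  obtain ⟨I, h1, -⟩ := h.off B hB hoff
  obtain ⟨b, -, hb, -⟩ := h1 c hc
  have hcP : c ∈ P := hP.le (hB hc)
  have hcN : ∀ v ∈ zl (S : Subgroup G) P, c * v * c⁻¹ ∈ zl (S : Subgroup G) P := fun v hv =>
    (mem_normalizer_iff.mp (MinSimple.VModule.le_normalizer_zl _ _ hcP) v).mp hv
  have hb0 : b 0 ≠ 0 := by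
    intro h0
    apply hne
    refine IId.Cv.comm_of_quot hG S hP h one_pos (hB hc) ((IId.Cv.mem_kern h).2 ⟨hcP, fun v hv => ?_⟩)
    funext i
    have h4 : b i = 0 := by rw [Subsingleton.elim i 0]; exact h0
    rw [hb v hv i]
    change ap (up (b i)) _ = _
    rw [h4, up_zero, NatPair.ap_one]
  choose w hw hwx using fun z : F => h.surj fun _ => ![0, z]
  refine ⟨fun z => c * w z * c⁻¹ * (w z)⁻¹, ?_, fun z => ⟨w z, hw z, rfl⟩⟩
  intro z z' hz
  have e1 : ∀ z, h.e (c * w z * c⁻¹ * (w z)⁻¹) 0 0 = b 0 * z := by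
    intro z
    rw [h.mul _ (hcN _ (hw z)) _ (inv_mem (hw z)), S5.Nat.e_inv h (hw z), Pi.add_apply, Pi.add_apply,
      hb _ (hw z) 0, hwx, ap_zero']
    simp
  have e2 : b 0 * z = b 0 * z' := by
    rw [← e1, ← e1]
    exact congrArg (fun g => h.e g 0 0) hz
  exact mul_left_cancel₀ hb0 e2

/-- `q = 2` -/
theorem card_F (hG : IsCharacteristicTwoType G) {P₁ P₂ : Subgroup G} {y : G} {m : ℕ} {A : Subgroup G}
    {ε : (Fin (2 ^ m + 1) → ZMod 2) → G} (hm : 2 ≤ m) (hl : LabZ S P₁ P₂ y m A ε)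
    {F : Type} [Field F] [Finite F] [CharP F 2]
    (M : NatK F (S : Subgroup G) P₂ (zl (S : Subgroup G) P₂) (cv (S : Subgroup G) P₂) 1) : Nat.card F = 2 := by
  have hn := three_le (by omega : 1 ≤ m)
  have h := hl.split.even
  have hs := hl.side
  have hAV : A ≤ zl (S : Subgroup G) P₁ := hl.split.A_le
  -- `V'` does not centralise `A`
  have hne : ¬ cj y (zl (S : Subgroup G) P₂) ≤ centralizer (A : Set G) := by
    intro h0
    apply hl.off₁.ne
    intro w hw
    refine mem_centralizer_iff.2 fun v hv => ?_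
    obtain ⟨d, hd, a, ha, rfl⟩ := hl.split.mul_eq hG hl.pair.star₁ hv
    have h1 : w * d = d * w := hl.split.comm (hl.pair.star₁.le (hl.le hw)) hd
    have h2 : a * w = w * a := mem_centralizer_iff.1 (h0 hw) a ha
    rw [mul_assoc, h2, ← mul_assoc, ← h1, mul_assoc]
  obtain ⟨b, hb, i, j, hij, hbs⟩ := S5.Nat.exists_swap h hs hne
  have hab : ∀ a ∈ cj y (zl (S : Subgroup G) P₂), ∀ b ∈ cj y (zl (S : Subgroup G) P₂), a * b = b * a := by
    intro a ha b hb
    have h1 := hl.off₁.elem.1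
    exact congrArg Subtype.val (h1.is_comm.comm (⟨a, ha⟩ : ↥(cj y (zl (S : Subgroup G) P₂))) ⟨b, hb⟩)
  set c : G := ε (Pi.single i 1) with hc
  have hcb : b * c ≠ c * b := by
    intro h1
    have h2 := (swap_comm_iff h hn hij hbs _).mp h1
    rw [Pi.single_eq_same, Pi.single_eq_of_ne hij.symm] at h2
    exact one_ne_zero h2
  have hcomm : ∀ a ∈ cj y (zl (S : Subgroup G) P₂), c * a * c⁻¹ * a⁻¹ = 1 ∨
      c * a * c⁻¹ * a⁻¹ = ε (Pi.single i 1 + Pi.single j 1) :=
    fun a ha => S5.Nat.comm_single hn h hs hab hb hij hbs ha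
  -- the natural side
  have o3 := off_cj hl.off₂ y⁻¹
  rw [cj_inv_cj] at o3
  have hA : cj y⁻¹ (zl (S : Subgroup G) P₁) ≤ (S : Subgroup G) := by
    rw [cj_le_iff, inv_inv]
    exact hl.ge
  have hcA : y⁻¹ * c * y ∈ cj y⁻¹ (zl (S : Subgroup G) P₁) := by
    rw [mem_cj]
    have e : y⁻¹⁻¹ * (y⁻¹ * c * y) * y⁻¹ = c := by group
    rw [e]
    exact hAV (h.mem _)
  have hcne : ¬ ∀ v ∈ zl (S : Subgroup G) P₂, y⁻¹ * c * y * v = v * (y⁻¹ * c * y) := by
    intro h1
    apply hcb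
    have h2 := h1 (y⁻¹ * b * y) (mem_cj.mp hb)
    have e1 : b * c = y * (y⁻¹ * b * y * (y⁻¹ * c * y)) * y⁻¹ := by group
    have e2 : c * b = y * (y⁻¹ * c * y * (y⁻¹ * b * y)) * y⁻¹ := by group
    rw [e1, e2, h2]
  obtain ⟨f, hf, hfv⟩ := exists_comm hG hl.pair.star₂ M hA o3 hcA hcne
  have hfin : ∀ z, y * f z * y⁻¹ = 1 ∨ y * f z * y⁻¹ = ε (Pi.single i 1 + Pi.single j 1) := by
    intro z
    obtain ⟨v, hv, h1⟩ := hfv z
    have hv' : y * v * y⁻¹ ∈ cj y (zl (S : Subgroup G) P₂) := by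
      rw [mem_cj]
      have e : y⁻¹ * (y * v * y⁻¹) * y = v := by group
      rwa [e]
    have h2 := hcomm _ hv'
    have e : y * f z * y⁻¹ = c * (y * v * y⁻¹) * c⁻¹ * (y * v * y⁻¹)⁻¹ := by
      rw [h1]; group
    rw [e]
    exact h2
  have hinj : Function.Injective fun z => y * f z * y⁻¹ :=
    fun z z' hz => hf (mul_left_cancel (mul_right_cancel hz))
  have hle2 : Nat.card F ≤ 2 := by
    classical
    have : Fintype F := Fintype.ofFinite F
    rw [Nat.card_eq_fintype_card, ← Finset.card_univ]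
    refine (Finset.card_le_card_of_injOn (fun z => y * f z * y⁻¹) (t := {1, ε (Pi.single i 1 + Pi.single j 1)})
      ?_ hinj.injOn).trans Finset.card_le_two
    intro z _
    rw [Finset.coe_insert, Finset.coe_singleton]
    exact hfin z
  have hge2 : 2 ≤ Nat.card F := by
    have : Nontrivial F := inferInstance
    exact Finite.one_lt_card
  exact le_antisymm hle2 hge2

/-- `|Ω₁(Z(S))| = 2 |D|` for `q = 2` -/
theorem card_zc (hG : IsCharacteristicTwoType G) {P : Subgroup G} (hP : IsParS (S : Subgroup G) P)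
    {F : Type} [Field F] [Finite F] [CharP F 2]
    (M : NatK F (S : Subgroup G) P (zl (S : Subgroup G) P) (cv (S : Subgroup G) P) 1) (hF : Nat.card F = 2) :
    Nat.card (zc (S : Subgroup G)) = 2 * Nat.card (cv (S : Subgroup G) P) := by
  have hs := HOne.splitPar_of_two hG S hP M.natOver hF
  have hle := HOne.cv_le_zc hG S hP M.natOver hs
  have hZV : zc (S : Subgroup G) ≤ zl (S : Subgroup G) P := MinSimple.VModule.zc_le_zl _ _
  -- two elements of `F`
  have hF2 : ∀ a : F, a = 0 ∨ a = 1 := by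
    intro a
    by_contra hcon
    push Not at hcon
    have h3 : Nat.card (Fin 3) ≤ Nat.card F := by
      refine Nat.card_le_card_of_injective (![0, 1, a] : Fin 3 → F) ?_
      intro i j hij
      fin_cases i <;> fin_cases j <;> first
        | rfl
        | (exfalso; first
            | exact hcon.1 (by simpa using hij)
            | exact hcon.1 (by simpa using hij.symm)
            | exact hcon.2 (by simpa using hij)
            | exact hcon.2 (by simpa using hij.symm)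
            | exact zero_ne_one (by simpa using hij)
            | exact one_ne_zero (by simpa using hij))
    rw [Nat.card_fin, hF] at h3
    omega
  have hz1 : ∀ z ∈ zc (S : Subgroup G), M.e z 0 1 = 0 := by
    intro z hz
    obtain ⟨t, ht, h1, -⟩ := M.unip fun _ => 1
    have h2 := h1 z (hZV hz) 0
    rw [(MinSimple.VModule.mem_zc.1 hz).2.1 t ht, mul_inv_cancel_right] at h2
    have h3 := congrFun h2 0
    rw [ap_zero'] at h3
    simp at h3
    exact h3
  obtain ⟨z₀, hz₀V, hz₀e, hz₀c⟩ := HOne.NSSide.exists_zc hG S hP M.natOver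
  have hz₀ : z₀ ∈ zc (S : Subgroup G) := by
    have hzS : zl (S : Subgroup G) P ≤ (S : Subgroup G) :=
      ((hP.isLoc.zl_le S hG).trans (MinSimple.VModule.zc_le _)).trans (hP.isLoc.o2_le S)
    exact MinSimple.VModule.mem_zc.2 ⟨hzS hz₀V, hz₀c,
      MinSimple.VModule.zc_sq _ _ (hP.isLoc.zl_le S hG hz₀V)⟩
  have hcase : ∀ z ∈ zc (S : Subgroup G), z ∈ cv (S : Subgroup G) P ∨ M.e z 0 0 = 1 := by
    intro z hz
    rcases hF2 (M.e z 0 0) with h1 | h1
    · left
      rw [← M.ker z (hZV hz)]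
      funext i x
      rw [Subsingleton.elim i 0]
      fin_cases x
      · exact h1
      · exact hz1 z hz
    · exact Or.inr h1
  have hz₀1 : M.e z₀ 0 0 = 1 := by
    refine (hcase z₀ hz₀).resolve_left fun h1 => hz₀e ?_
    exact congrFun ((M.ker z₀ hz₀V).2 h1) 0
  have hmem : ∀ z ∈ zc (S : Subgroup G), z ∈ cv (S : Subgroup G) P ↔ M.e z 0 0 = 0 := by
    intro z hz
    constructor
    · intro h1
      rw [(M.ker z (hZV hz)).2 h1]
      rfl
    · intro h1
      refine (hcase z hz).resolve_right ?_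
      rw [h1]
      exact zero_ne_one
  have h1 : ((cv (S : Subgroup G) P).subgroupOf (zc (S : Subgroup G))).index = 2 := by
    rw [index_eq_two_iff]
    refine ⟨⟨z₀, hz₀⟩, fun b => ?_⟩
    have key : b * ⟨z₀, hz₀⟩ ∈ (cv (S : Subgroup G) P).subgroupOf (zc (S : Subgroup G)) ↔ M.e (b : G) 0 0 + 1 = 0 := by
      rw [mem_subgroupOf, hmem _ (b * ⟨z₀, hz₀⟩ : zc (S : Subgroup G)).2]
      change M.e ((b : G) * z₀) 0 0 = 0 ↔ _
      rw [M.mul _ (hZV b.2) _ hz₀V, Pi.add_apply, Pi.add_apply, hz₀1]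
    have key2 : b ∈ (cv (S : Subgroup G) P).subgroupOf (zc (S : Subgroup G)) ↔ M.e (b : G) 0 0 = 0 := by
      rw [mem_subgroupOf, hmem _ b.2]
    rw [key, key2]
    have h11 : (1 : F) + 1 = 0 := CharTwo.add_self_eq_zero 1
    rcases hF2 (M.e (b : G) 0 0) with h2 | h2
    · rw [h2, zero_add]
      exact Or.inr ⟨rfl, one_ne_zero⟩
    · rw [h2, h11]
      exact Or.inl ⟨rfl, one_ne_zero⟩
  have h2 := card_mul_index ((cv (S : Subgroup G) P).subgroupOf (zc (S : Subgroup G)))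
  rw [h1, Nat.card_congr (subgroupOfEquivOfLe hle).toEquiv] at h2
  rw [← h2, mul_comm]

end step

/-- **`NatStep`** -/
theorem natStep : NatStep.{u} := by
  intro G _ _ hG S P₁ P₂ y m A ε hm hl hN
  obtain ⟨F, i1, i2, i3, ⟨M⟩⟩ := hN
  have hF := card_F hG hm hl M
  refine ⟨?_, card_zc hG hl.pair.star₂ M hF⟩
  rw [card_eq M inf_le_left, hF]
  norm_num only []

end Cfsg.Agent.Omega.F4Leaf.NatStep

end

end

private theorem dce_6ca599b0d759 : _root_.True := by
  try have : _root_.True := by simp only [_root_.Cfsg.Agent.Omega.NSix.CosetAct.A.eq_1]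
  exact _root_.True.intro
end

-- part: Mrg/Omega/S5/SymBig
section
prune_inst 0xd01005001500000000000000a0002040700001020060000131400a000347b101804081007080191201002820000c804013180049423000000a008200400405211420400282081100210000406802000000000000000000000000000000041000200000000
set_option linter.all false
open scoped Cfsg.Agent.FastGrp


/-!
# OMEGA II.c: `S5.Main.SymBig` from (H2) (assembler: helper840; ledger bb #16047)

`Pr S S' V V' P P' ε ε'` : a pair of even-subset modules of degrees `2^m + 1`, `2^m' + 1` over Sylow 2-subgroups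
`S ≥ V'`, `S' ≥ V`, acting on each other by products of disjoint transpositions.

* `Pr.nform` : (N), for `m ≥ 3`: some `b ∈ V'` moves `V` and satisfies `[O₂(C_G(r)), b] ≤ ⟨r⟩`;
* `Pr.nn_le` : (H2) implies `C_G(r_ij) ≤ N_G(V)` for all pairs (`m ≥ 3`);
* `Pr.false` : (H2) for both members (those of degree `≥ 9`) is impossible;
* `SymH2 K` : (H2), the only open input; `symBig_of : SymH2 K → S5.Main.SymBig K`.
-/

set_option autoImplicit false

namespace Cfsg.Agent.Omega.S5.SymBig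

open Subgroup Pointwise Cfsg Cfsg.Agent.ZN Cfsg.Agent.ZN.ChoiceBase Cfsg.Agent.Omega.MinPar
open Cfsg.Agent.Omega.Frame Cfsg.Agent.Omega.FFThm
open Cfsg.Agent.Omega.FrameLE (AllIn)
open Cfsg.Agent.Omega.FrameMulti (AllTyped NoWr SymFree)
open Cfsg.Agent.Omega.S5.Def Cfsg.Agent.Omega.S5.Syl Cfsg.Agent.Omega.S5.Pair Cfsg.Agent.Omega.S5.Main
open Cfsg.Agent.Omega.NSix.Base Cfsg.Agent.Omega.NSix.Basic
open Cfsg.Agent.Omega.NSix.Zero (WP)

universe u

/-- (H2): `U_ij ≤ O₂(C_G(r_kl))` for disjoint pairs. -/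
def H2 {G : Type u} [Group G] {n : ℕ} (ε : (Fin n → ZMod 2) → G) : Prop :=
  ∀ i j k l : Fin n, i ≠ j → k ≠ l → i ≠ k → i ≠ l → j ≠ k → j ≠ l → UU ε i j ≤ o2 (NN ε k l)

section

variable {G : Type u} [Group G]

theorem rr_cj {n : ℕ} (ε : (Fin n → ZMod 2) → G) (y : G) (i j : Fin n) :
    rr (fun x => y * ε x * y⁻¹) i j = y * rr ε i j * y⁻¹ := by
  unfold rr zz
  group

theorem NN_cj {n : ℕ} (ε : (Fin n → ZMod 2) → G) (y : G) (i j : Fin n) :
    NN (fun x => y * ε x * y⁻¹) i j = cj y (NN ε i j) := by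
  ext x
  rw [mem_cj, mem_NN, mem_NN, rr_cj]
  constructor
  · intro h1
    calc y⁻¹ * x * y * rr ε i j = y⁻¹ * (x * (y * rr ε i j * y⁻¹)) * y := by group
      _ = y⁻¹ * (y * rr ε i j * y⁻¹ * x) * y := by rw [h1]
      _ = _ := by group
  · intro h1
    calc x * (y * rr ε i j * y⁻¹) = y * (y⁻¹ * x * y * rr ε i j) * y⁻¹ := by group
      _ = y * (rr ε i j * (y⁻¹ * x * y)) * y⁻¹ := by rw [h1]
      _ = _ := by group

theorem H2.conj {n : ℕ} {ε : (Fin n → ZMod 2) → G} (h : H2 ε) (y : G) : H2 (fun x => y * ε x * y⁻¹) := by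
  intro i j k l hij hkl h1 h2 h3 h4
  unfold UU
  rw [closure_le]
  rintro x ⟨g, hg, a, ha1, ha2, rfl⟩
  rw [NN_cj, mem_cj] at hg
  have e4 : (y⁻¹ * g * y) * zz ε a * (y⁻¹ * g * y)⁻¹ ∈ o2 (NN ε k l) :=
    h i j k l hij hkl h1 h2 h3 h4 (subset_closure ⟨_, hg, a, ha1, ha2, rfl⟩)
  rw [NN_cj, SetLike.mem_coe, ChoiceSit.o2_cj, mem_cj]
  have e2 : y⁻¹ * (g * zz (fun x => y * ε x * y⁻¹) a * g⁻¹) * y =
      (y⁻¹ * g * y) * zz ε a * (y⁻¹ * g * y)⁻¹ := by
    unfold zz
    group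
  rw [e2]
  exact e4

/-- The position of `V`, `V'`. -/
structure Pr [Finite G] (S S' : Sylow 2 G) (V V' P P' : Subgroup G) {m m' : ℕ}
    (ε : (Fin (2 ^ m + 1) → ZMod 2) → G) (ε' : (Fin (2 ^ m' + 1) → ZMod 2) → G) : Prop where
  c2 : IsCharacteristicTwoType G
  two_le : 2 ≤ m
  two_le' : 2 ≤ m'
  two : NSix.NoTk.Two V V' P P' (S : Subgroup G) (S' : Subgroup G) ε ε'
  zS : zc (S : Subgroup G) ≤ V
  zS' : zc (S' : Subgroup G) ≤ V'
  ne : ¬ V' ≤ centralizer (V : Set G)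
  ne' : ¬ V ≤ centralizer (V' : Set G)

namespace Pr

variable [Finite G] {S S' : Sylow 2 G} {V V' P P' : Subgroup G} {m m' : ℕ}
  {ε : (Fin (2 ^ m + 1) → ZMod 2) → G} {ε' : (Fin (2 ^ m' + 1) → ZMod 2) → G} (h : Pr S S' V V' P P' ε ε')
include h

theorem symm : Pr S' S V' V P' P ε' ε :=
  ⟨h.c2, h.two_le', h.two_le, h.two.symm, h.zS', h.zS, h.ne', h.ne⟩

theorem three : 3 ≤ 2 ^ m + 1 := three_le (by have := h.two_le; omega)

theorem zfix (x : G) (hx : x * x = 1) (hc : ∀ s ∈ (S : Subgroup G), s * x = x * s) : x = 1 ∨ x = zz ε 0 := by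
  have h1 : zpowers x ≤ (S : Subgroup G) := by
    refine NSix.NoTk.le_sylow S ?_ ?_
    · rintro ⟨y, hy⟩
      refine ⟨1, Subtype.ext ?_⟩
      rw [pow_one, pow_two]
      change y * y = 1
      rcases NSix.Zero.zpow_cases hx hy with rfl | rfl
      · exact one_mul _
      · exact hx
    · refine le_trans ?_ (centralizer_le_normalizer (zpowers x : Set G))
      intro s hs
      rw [mem_centralizer_iff]
      intro y hy
      rcases NSix.Zero.zpow_cases hx hy with rfl | rfl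
      · rw [one_mul, mul_one]
      · exact (hc s hs).symm
  have h2 : x ∈ (S : Subgroup G) := h1 (mem_zpowers x)
  have h3 : x ∈ zc (S : Subgroup G) := MinSimple.VModule.mem_zc.mpr ⟨h2, hc, by rw [pow_two]; exact hx⟩
  exact S5.Syl.fixed (by have := h.two_le; omega) h.two.even h.two.le
    (MinSimple.Basic.not_dvd_relIndex S h.two.le) h.two.fix (h.zS h3) hc

theorem sit (hm : 3 ≤ m) : NSix.AllFacts.Sit S V P ε := ⟨h.c2, hm, h.two.even, h.two.le, h.two.fix, h.zS⟩

/-- `V'` acts on `V` as `⟨(i j)⟩`. -/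
theorem acts : ∃ i j, i ≠ j ∧ (∃ b ∈ V', Acts ε b (Equiv.swap i j)) ∧
    ∀ b ∈ V', Acts ε b 1 ∨ Acts ε b (Equiv.swap i j) :=
  NSix.NoTk.acts_one_or h.c2 h.two_le h.two_le' h.two h.ne

theorem mem : NSix.RThree.Mem S V ε where
  two_le := h.two_le
  ev := NSix.Norm.evenSet' h.two_le S h.two.even h.two.le h.two.fix
  le := h.two.le.trans h.two.even.le_normalizer
  fix0 := h.two.fix
  zc := h.zfix

/-- The pair in the form of `NSix.RThree`. -/
theorem tt : ∃ i j i' j', NSix.RThree.TT S S' V V' ε ε' i j i' j' := by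
  obtain ⟨i, j, hij, h1, h2⟩ := h.acts
  obtain ⟨i', j', hij', h1', h2'⟩ := h.symm.acts
  exact ⟨i, j, i', j', h.mem, h.symm.mem, hij, hij', h2, h1, h2', h1', h.two.in_, h.two.in'⟩

/-- `O₂(C_G(r_ij))` acts on `V` as a subgroup of `⟨(i j)⟩`. -/
theorem qact {i j : Fin (2 ^ m + 1)} (hij : i ≠ j) (hsw : ∃ a ∈ (S : Subgroup G), Acts ε a (Equiv.swap i j)) {q : G}
    (hq : q ∈ o2 (NN ε i j)) : Acts ε q 1 ∨ Acts ε q (Equiv.swap i j) := by
  by_cases hm : m = 2
  · subst hm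
    exact (NSix.TwoSup.acts (NSix.NoTk.hyp S le_rfl h.two.even h.two.le h.two.fix hij hsw) h.zfix hq).2
  have hs := h.sit (by have := h.two_le; omega)
  obtain ⟨σ, hσ⟩ := h.two.even.perm q (hs.o2_le_P hij hq)
  have hfix : ∀ k, k ≠ i → k ≠ j → σ k = k := by
    intro k h1 h2
    apply h.two.even.single_inj h.three
    have h4 := zz_conj hσ k
    rw [hs.pair hij h1 h2 hq, mul_inv_cancel_right] at h4
    exact h4.symm
  have hpres : σ i = i ∨ σ i = j := by
    by_contra hc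
    rw [not_or] at hc
    exact hc.1 (σ.injective (hfix _ hc.1 hc.2))
  have hpres' : σ j = i ∨ σ j = j := by
    by_contra hc
    rw [not_or] at hc
    exact hc.2 (σ.injective (hfix _ hc.1 hc.2))
  rcases hpres with h1 | h1
  · left
    have h2 : σ j = j := hpres'.resolve_left fun h2 => hij (σ.injective (h1.trans h2.symm))
    have h3 : σ = 1 := by
      ext k
      by_cases hk1 : k = i
      · rw [hk1, h1]; rfl
      by_cases hk2 : k = j
      · rw [hk2, h2]; rfl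
      rw [hfix k hk1 hk2]; rfl
    rwa [h3] at hσ
  · right
    have h2 : σ j = i := hpres'.resolve_right fun h2 => hij (σ.injective (h1.trans h2.symm))
    have h3 : σ = Equiv.swap i j := by
      ext k
      by_cases hk1 : k = i
      · rw [hk1, h1, Equiv.swap_apply_left]
      by_cases hk2 : k = j
      · rw [hk2, h2, Equiv.swap_apply_right]
      rw [hfix k hk1 hk2, Equiv.swap_apply_of_ne_of_ne hk1 hk2]
    rwa [h3] at hσ

/-- **(N)**, with an involution -/
theorem nform' : ∃ i j, i ≠ j ∧ ∃ g ∈ WP ε i j, g * g ∈ zpowers (rr ε i j) ∧ ¬ g ∈ centralizer (V : Set G) := by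
  obtain ⟨i, j, i', j', ht⟩ := h.tt
  have hr := ht.rr_eq
  obtain ⟨b, hb, hb1⟩ := ht.mov
  obtain ⟨a, ha, ha1⟩ := ht.mov'
  have hb2 : b * b = 1 := by
    obtain ⟨x, rfl⟩ := h.two.even'.surj b hb
    exact h.two.even'.sq x
  refine ⟨i, j, ht.ne, b, ?_, ?_, ?_⟩
  · have hNN : NN ε i j = NN ε' i' j' := by unfold NN; rw [hr]
    rw [NSix.Zero.mem_WP]
    refine ⟨?_, fun q hq => ?_⟩
    · rw [hNN, mem_NN]
      exact h.two.even'.comm_mem hb (rr_mem h.two.even' i' j')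
    · rw [hNN] at hq
      have hqr : q * rr ε' i' j' = rr ε' i' j' * q := mem_NN.mp (MinSimple.VModule.o2_le _ hq)
      have hq1 := h.symm.qact ht.ne' ⟨a, ht.in_ ha, ha1⟩ (inv_mem hq)
      obtain ⟨x, rfl⟩ := h.two.even'.surj b hb
      have hcase : q⁻¹ * ε' x * q⁻¹⁻¹ = ε' x ∨ q⁻¹ * ε' x * q⁻¹⁻¹ = ε' x * rr ε' i' j' := by
        rcases hq1 with h1 | h1
        · exact Or.inl (h1 x)
        · by_cases hx : x i' = x j'
          · exact Or.inl ((NSix.RThree.acts_swap' h.two.even' h1 x).1 hx)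
          · exact Or.inr ((NSix.RThree.acts_swap' h.two.even' h1 x).2 hx)
      rw [inv_inv] at hcase
      rw [hr]
      rcases hcase with h1 | h1
      · have h2 : ε' x * q = q * ε' x := by
          calc ε' x * q = q * (q⁻¹ * ε' x * q) := by group
            _ = _ := by rw [h1]
        have h3 : ε' x * q * (ε' x)⁻¹ * q⁻¹ = 1 := by rw [h2]; group
        rw [h3]
        exact one_mem _
      · have h2 : ε' x * q = q * (ε' x * rr ε' i' j') := by
          calc ε' x * q = q * (q⁻¹ * ε' x * q) := by group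
            _ = _ := by rw [h1]
        have h4 : ε' x * rr ε' i' j' = rr ε' i' j' * ε' x :=
          h.two.even'.comm_mem (h.two.even'.mem x) (rr_mem h.two.even' i' j')
        have h3 : ε' x * q * (ε' x)⁻¹ * q⁻¹ = rr ε' i' j' := by
          rw [h2, h4, ← mul_assoc, hqr]
          group
        rw [h3]
        exact mem_zpowers _
  · rw [hb2]
    exact one_mem _
  · intro h0
    have h1 := h.two.even.acts_unique h.three (h.two.even.acts_one_iff.mpr h0) hb1
    exact ht.ne (Equiv.swap_eq_one_iff.mp h1.symm)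

/-- **(N)** -/
theorem nform : ∃ i j, i ≠ j ∧ ∃ g ∈ WP ε i j, ¬ g ∈ centralizer (V : Set G) := by
  obtain ⟨i, j, hij, g, hg, -, hgV⟩ := h.nform'
  exact ⟨i, j, hij, g, hg, hgV⟩

/-- (0) + END: (H2) implies `C_G(r_ij) ≤ N_G(V)`. -/
theorem nn_le (hm : 3 ≤ m) (hq : H2 ε) {i j : Fin (2 ^ m + 1)} (hij : i ≠ j) :
    NN ε i j ≤ normalizer (V : Set G) := by
  have hs := h.sit hm
  have h1 := NSix.Zero.sixL h.c2 hm h.two.even S h.two.le h.two.fix h.zS
    (fun i j k hij hki hkj q hq => hs.pair hij hki hkj hq) (fun i j hij => hs.o2_le_P hij) hq h.nform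
  refine NSix.EndL.SixL.nn_le h1 ?_ ?_ hij
  · exact Even.add_one (Nat.even_pow.mpr ⟨even_two, by omega⟩)
  · have : 2 ^ 3 ≤ 2 ^ m := Nat.pow_le_pow_right (by norm_num) hm
    omega

/-- **(H2) for the members of degree `≥ 9` is impossible.** -/
theorem false (hbig : 3 ≤ m ∨ 3 ≤ m') (hq : 3 ≤ m → H2 ε) (hq' : 3 ≤ m' → H2 ε') : False := by
  obtain ⟨i, j, i', j', ht⟩ := h.tt
  by_cases hm : 3 ≤ m
  · have h1 := ht.le_of_nn (h.nn_le hm (hq hm) ht.ne)
    have hm' : 3 ≤ m' := by omega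
    exact ht.false h.c2 hm hm' (h.nn_le hm (hq hm) ht.ne) fun k l hkl => h.symm.nn_le hm' (hq' hm') hkl
  · have hm' : 3 ≤ m' := hbig.resolve_left hm
    have h1 := ht.symm.le_of_nn (h.symm.nn_le hm' (hq' hm') ht.ne')
    omega

end Pr

/-! ### `LabTwo` -/

theorem pos_symm [Finite G] {S : Sylow 2 G} {P₁ P₂ : Subgroup G} {y : G} (h : Pos S P₁ P₂ y) : Pos S P₂ P₁ y⁻¹ where
  pair := h.pair.symm
  le := by
    rw [cj_le_iff, inv_inv]
    exact h.ge
  ge := cj_le_iff.mp h.le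
  off₁ := by
    have h1 := off_cj h.off₂ y⁻¹
    rwa [cj_inv_cj] at h1
  off₂ := by
    have h1 := off_cj h.off₁ y⁻¹
    rwa [cj_inv_cj] at h1

theorem labTwo_symm [Finite G] {S : Sylow 2 G} {P₁ P₂ : Subgroup G} {y : G} {m m' : ℕ}
    {ε : (Fin (2 ^ m + 1) → ZMod 2) → G} {ε₂ : (Fin (2 ^ m' + 1) → ZMod 2) → G}
    (h : LabTwo S P₁ P₂ y m m' ε ε₂) : LabTwo S P₂ P₁ y⁻¹ m' m ε₂ ε where
  toPos := pos_symm h.toPos
  even := h.even₂
  fix0 := h.fix0₂
  side := by
    have h1 := h.side₂.conj y⁻¹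
    have e : (fun x => y⁻¹ * (fun x => y * ε₂ x * y⁻¹) x * y⁻¹⁻¹) = ε₂ := by
      funext x
      dsimp only
      group
    rwa [e] at h1
  even₂ := h.even
  fix0₂ := h.fix0
  side₂ := by
    have h1 := h.side.conj y⁻¹
    rwa [cj_inv_cj] at h1

/-- A mutual pair of even-subset modules is a `Pr`. -/
theorem pr_of [Finite G] (hG : IsCharacteristicTwoType G) {S : Sylow 2 G} {P₁ P₂ : Subgroup G} {y : G} {m m' : ℕ}
    {ε : (Fin (2 ^ m + 1) → ZMod 2) → G} {ε₂ : (Fin (2 ^ m' + 1) → ZMod 2) → G} (hm : 2 ≤ m) (hm' : 2 ≤ m')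
    (h : LabTwo S P₁ P₂ y m m' ε ε₂) :
    Pr S (y • S) (zl (S : Subgroup G) P₁) (cj y (zl (S : Subgroup G) P₂)) P₁ (cj y P₂) ε
      fun x => y * ε₂ x * y⁻¹ where
  c2 := hG
  two_le := hm
  two_le' := hm'
  two := NSix.NoTk.two_of_lab h
  zS := MinSimple.VModule.zc_le_zl _ _
  zS' := by
    rw [NSix.NoTk.coe_smul]
    intro x hx
    rw [mem_cj]
    refine MinSimple.VModule.zc_le_zl _ _ (MinSimple.VModule.mem_zc.mpr ?_)
    obtain ⟨h1, h2, h3⟩ := MinSimple.VModule.mem_zc.mp hx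
    refine ⟨mem_cj.mp h1, fun b hb => ?_, ?_⟩
    · have h4 := h2 (y * b * y⁻¹) (by rw [mem_cj, show y⁻¹ * (y * b * y⁻¹) * y = b by group]; exact hb)
      calc b * (y⁻¹ * x * y) = y⁻¹ * (y * b * y⁻¹ * x) * y := by group
        _ = y⁻¹ * (x * (y * b * y⁻¹)) * y := by rw [h4]
        _ = _ := by group
    · calc (y⁻¹ * x * y) ^ 2 = y⁻¹ * x ^ 2 * y := by rw [pow_two, pow_two]; group
        _ = 1 := by rw [h3]; group
  ne := NSix.NoTk.not_cent₁ h
  ne' := NSix.NoTk.not_cent₂ h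

end

/-! ### The assembly -/

/-- **(H2)** for the member `V = V_{P₁}` of degree `2^m + 1 ≥ 9` of a mutual pair `S_{2^m+1}`, `S_{2^m'+1}`. -/
def SymH2 (K : Cls.{u}) : Prop :=
  ∀ (G : Type u) [Group G] [Finite G], Ctx G → K G → ∀ (S : Sylow 2 G), Full (S : Subgroup G) →
    AllIn (S : Subgroup G) → AllTyped (S : Subgroup G) → NoWr (S : Subgroup G) →
    SymFree (S : Subgroup G) →
    ∀ (P₁ P₂ : Subgroup G) (y : G) (m m' : ℕ) (ε : (Fin (2 ^ m + 1) → ZMod 2) → G)
      (ε₂ : (Fin (2 ^ m' + 1) → ZMod 2) → G), 3 ≤ m → 2 ≤ m' →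
        LabTwo S P₁ P₂ y m m' ε ε₂ → ¬ IsKnownSimple' G → H2 ε

theorem symBig_of {K : Cls.{u}} (h2 : SymH2 K) : SymBig K := by
  intro G _ _ hG hcl S hF hI hT hW hSF P₁ P₂ y m m' ε ε₂ hm hm' hbig hl
  by_contra hk
  refine (pr_of hG.char2 hm hm' hl).false hbig (fun h3 => ?_) (fun h3 => ?_)
  · exact h2 G hG hcl S hF hI hT hW hSF P₁ P₂ y m m' ε ε₂ h3 hm' hl hk
  · exact (h2 G hG hcl S hF hI hT hW hSF P₂ P₁ y⁻¹ m' m ε₂ ε h3 hm (labTwo_symm hl) hk).conj y

end Cfsg.Agent.Omega.S5.SymBig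
end

-- part: Mrg/Omega/NO1/TH/K/Four
section
prune_inst 0xc00000001100000000000000a00000601000010200400000310008000046b00180400000700009120000080000040040131800000000000000008000400005211400400202000100210000406802000000000000000000000000000000041000200000000
set_option linter.all false
open scoped Cfsg.Agent.FastGrp

section


/-!
# N1: members of order 4 (bb OMEGA 21636 (0), helper593)

`Mem A E F`, `|A| = 4`: all non-zero commutators `[e, s]`, `e ∈ E`, `s ∈ A`, are equal (`Mem.four_eq`), and if one is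
`≠ 0` then `C_V(b) = F ∪ (w + F)` for `1 ≠ b ∈ A`, `w ∈ C_V(b) - F` (`Mem.four_fix`).
-/

set_option autoImplicit false
set_option linter.unusedSectionVars false
set_option linter.dupNamespace false

namespace Cfsg.Agent.Omega.NO1.TH.K

open Subgroup Cfsg.Agent.Omega.NO1.AB
open scoped Pointwise

universe u

variable {Y : Type u} [Group Y] {V : Type u} [AddCommGroup V] [DistribMulAction Y V]

theorem four_cases [Finite Y] {A : Subgroup Y} (h4 : Nat.card A = 4) {s r : Y} (hs : s ∈ A) (hr : r ∈ A)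
    (s1 : s ≠ 1) (r1 : r ≠ 1) (sr : s ≠ r) (sq : s * s = 1) {x : Y} (hx : x ∈ A) :
    x = 1 ∨ x = s ∨ x = r ∨ x = s * r := by
  classical
  have hsub : ({1, s, r, s * r} : Set Y) ⊆ (A : Set Y) := by
    intro y hy
    simp only [Set.mem_insert_iff, Set.mem_singleton_iff] at hy
    rcases hy with rfl | rfl | rfl | rfl
    · exact one_mem A
    · exact hs
    · exact hr
    · exact mul_mem hs hr
  have hcard : ({1, s, r, s * r} : Set Y).ncard = 4 := by
    have h1 : s * r ≠ 1 := by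
      intro h
      apply sr
      calc s = s * (s * r) := by rw [h, mul_one]
        _ = r := by rw [← mul_assoc, sq, one_mul]
    have h2 : s * r ≠ s := fun h => r1 (by simpa using h)
    have h3 : s * r ≠ r := fun h => s1 (by simpa using h)
    rw [Set.ncard_insert_of_notMem, Set.ncard_insert_of_notMem, Set.ncard_insert_of_notMem, Set.ncard_singleton]
    · simp only [Set.mem_singleton_iff]; exact h3.symm
    · simp only [Set.mem_insert_iff, Set.mem_singleton_iff, not_or]; exact ⟨sr, h2.symm⟩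
    · simp only [Set.mem_insert_iff, Set.mem_singleton_iff, not_or]; exact ⟨s1.symm, r1.symm, h1.symm⟩
  have heq : ({1, s, r, s * r} : Set Y) = (A : Set Y) := by
    apply Set.eq_of_subset_of_ncard_le hsub _ (Set.toFinite _)
    rw [hcard]
    have : (A : Set Y).ncard = Nat.card A := (Nat.card_coe_set_eq (A : Set Y)).symm
    rw [this, h4]
  have hx' : x ∈ (A : Set Y) := hx
  rw [← heq] at hx'
  simpa only [Set.mem_insert_iff, Set.mem_singleton_iff] using hx'

/-- `[w, x, y]` -/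
def cc (w : V) (x y : Y) : V := y • (x • w + w) + (x • w + w)

section mem

variable {A : Subgroup Y} {E F : AddSubgroup V} (hm : Mem A E F) (h2 : ∀ v : V, v + v = 0) {w : V}
include hm h2

theorem cc_mem {x y : Y} (hx : x ∈ A) (hy : y ∈ A) : cc w x y ∈ F := hm.EB y hy _ (hm.VB x hx w)

theorem cc_comm {x y : Y} (hx : x ∈ A) (hy : y ∈ A) : cc w x y = cc w y x := by
  unfold cc
  rw [smul_add, smul_add, ← mul_smul, ← mul_smul, hm.comm x hx y hy]
  abel

theorem cc_self {x : Y} (hx : x ∈ A) : cc w x x = 0 := by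
  unfold cc
  rw [smul_add, ← mul_smul, hm.sq x hx, one_smul, add_comm w, h2]

theorem cc_one {x : Y} : cc w x 1 = 0 := by
  unfold cc
  rw [one_smul, h2]

theorem cc_mul {x y z : Y} (hx : x ∈ A) (hy : y ∈ A) (hz : z ∈ A) : cc w x (y * z) = cc w x y + cc w x z := by
  have h3 := hm.FB y hy _ (cc_mem hm h2 (w := w) hx hz)
  -- `y c(x,z) = c(x,z)`
  have h4 : cc w x (y * z) = y • cc w x z + cc w x y := by
    unfold cc
    rw [mul_smul]
    have e : y • (z • (x • w + w) + (x • w + w)) + (y • (x • w + w) + (x • w + w)) =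
        y • z • (x • w + w) + (y • (x • w + w) + y • (x • w + w)) + (x • w + w) := by
      rw [smul_add]; abel
    rw [e, h2, add_zero]
  rw [h4, h3, add_comm]

/-- `s_e = r` : `[e, s] = [w, r, s]` -/
theorem cc_eq {e : V} {r s : Y} (hs : s ∈ A) (hre : r • w + w + e ∈ F) : s • e + e = cc w r s := by
  have h3 := hm.FB s hs _ hre
  have h4 : (s • e + e) + cc w r s = (s • (r • w + w + e)) + (r • w + w + e) := by
    unfold cc
    rw [smul_add s (r • w + w) e]; abel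
  rw [h3, h2] at h4
  exact (HE.add_eq_zero' h2).1 h4

theorem cc_val [Finite Y] (h4 : Nat.card A = 4) {s r : Y} (hs : s ∈ A) (hr : r ∈ A)
    (s1 : s ≠ 1) (r1 : r ≠ 1) (sr : s ≠ r) {x y : Y} (hx : x ∈ A) (hy : y ∈ A) :
    cc w x y = 0 ∨ cc w x y = cc w s r := by
  have hsr := cc_comm hm h2 (w := w) hs hr
  have hss := cc_self hm h2 (w := w) hs
  have hrr := cc_self hm h2 (w := w) hr
  -- `c(s, ·)`, `c(r, ·)`
  have k1 : ∀ y ∈ A, cc w s y = 0 ∨ cc w s y = cc w s r := by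
    intro y hy
    rcases four_cases h4 hs hr s1 r1 sr (hm.sq s hs) hy with rfl | rfl | rfl | rfl
    · exact Or.inl (cc_one hm h2)
    · exact Or.inl hss
    · exact Or.inr rfl
    · right; rw [cc_mul hm h2 hs hs hr, hss, zero_add]
  have k2 : ∀ y ∈ A, cc w r y = 0 ∨ cc w r y = cc w s r := by
    intro y hy
    rcases four_cases h4 hs hr s1 r1 sr (hm.sq s hs) hy with rfl | rfl | rfl | rfl
    · exact Or.inl (cc_one hm h2)
    · exact Or.inr hsr.symm
    · exact Or.inl hrr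
    · right; rw [cc_mul hm h2 hr hs hr, hrr, add_zero, hsr]
  rcases four_cases h4 hs hr s1 r1 sr (hm.sq s hs) hx with rfl | rfl | rfl | rfl
  · left
    rw [cc_comm hm h2 hx hy]
    exact cc_one hm h2
  · exact k1 y hy
  · exact k2 y hy
  · rw [cc_comm hm h2 hx hy, cc_mul hm h2 hy hs hr, cc_comm hm h2 hy hs, cc_comm hm h2 hy hr]
    rcases k1 y hy with h5 | h5 <;> rcases k2 y hy with h6 | h6 <;> rw [h5, h6]
    · left; rw [add_zero]
    · right; rw [zero_add]
    · right; rw [add_zero]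
    · left; rw [h2]

end mem

/-- **all non-zero `[e, s]` are equal** -/
theorem four_eq [Finite Y] {A : Subgroup Y} {E F : AddSubgroup V} (hm : Mem A E F) (h2 : ∀ v : V, v + v = 0)
    (h4 : Nat.card A = 4) {s s' : Y} {e e' : V} (hs : s ∈ A) (hs' : s' ∈ A) (he : e ∈ E) (he' : e' ∈ E)
    (h : s • e ≠ e) (h' : s' • e' ≠ e') : s • e + e = s' • e' + e' := by
  obtain ⟨w, hw⟩ := hm.ne
  obtain ⟨r, hr, hre⟩ := hm.surj w hw e he
  obtain ⟨r', hr', hre'⟩ := hm.surj w hw e' he'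
  have k1 := cc_eq hm h2 hs hre
  have k2 := cc_eq hm h2 hs' hre'
  have n1 : cc w r s ≠ 0 := by
    rw [← k1]
    exact fun h3 => h ((HE.add_eq_zero' h2).1 h3)
  have n2 : cc w r' s' ≠ 0 := by
    rw [← k2]
    exact fun h3 => h' ((HE.add_eq_zero' h2).1 h3)
  have s1 : s ≠ 1 := by rintro rfl; exact n1 (cc_one hm h2)
  have r1 : r ≠ 1 := by
    rintro rfl
    apply n1
    rw [cc_comm hm h2 hr hs]
    exact cc_one hm h2
  have rs : r ≠ s := by rintro rfl; exact n1 (cc_self hm h2 hs)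
  rw [k1, k2]
  rcases cc_val hm h2 (w := w) h4 hr hs r1 s1 rs hr' hs' with h3 | h3
  · exact absurd h3 n2
  · exact h3.symm

end Cfsg.Agent.Omega.NO1.TH.K

end

section


/-!
# N1, `S_n` type: transpositions (bb OMEGA 21636, helper593)

`Sw V H R co g i x y` : `g` acts on the coordinates of `W` as the transposition `(x y)` of block `i`.
`Sw.smul_eq` (same action on `W`), `Sw.conj`, `sw_disjD` (transpositions in `R` are disjoint), `exists_moveD` (`H` is
transitive on the ordered pairs of letters), `stab0` (the elements of `H` which fix the letters `0` are in `M`).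
-/

set_option autoImplicit false
set_option linter.unusedSectionVars false
set_option linter.dupNamespace false

namespace Cfsg.Agent.Omega.NO1.TH.K

open Subgroup Cfsg.Agent.Omega.NO1.AB Cfsg.Agent.Omega.FFBr
open scoped Pointwise

universe u

variable {Y : Type u} [Group Y]

/-- `g` acts on `W` as the transposition `(x y)` of block `i` -/
structure Sw (V : Type u) [AddCommGroup V] [DistribMulAction Y V] (H R : Subgroup Y) {k n : ℕ}
    (co : V → Fin k → Fin n → ZMod 2) (g : Y) (i : Fin k) (x y : Fin n) : Prop where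
  ne : x ≠ y
  act : ActS V H R co g 1 (Function.update 1 i (Equiv.swap x y))

/-- the coordinates of the vector of the pair `{x, y}` of block `i` -/
def indi {k n : ℕ} (i : Fin k) (x y : Fin n) (j : Fin k) (z : Fin n) : ZMod 2 :=
  if j = i ∧ (z = x ∨ z = y) then 1 else 0

theorem indi_comm {k n : ℕ} (i : Fin k) (x y : Fin n) : indi i x y = indi i y x := by
  funext j z
  unfold indi
  congr 1
  rw [or_comm]

theorem indi_ne {k n : ℕ} (i : Fin k) (x y : Fin n) : indi i x y ≠ 0 := by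
  intro h
  have h1 := congrFun (congrFun h i) x
  unfold indi at h1
  rw [if_pos ⟨rfl, Or.inl rfl⟩] at h1
  exact one_ne_zero h1

theorem zmodD_self (a : ZMod 2) : a + a = 0 := CharTwo.add_self_eq_zero a

theorem zmodD_ne {a b : ZMod 2} (h : a ≠ b) : a + b = 1 := by
  revert a b; decide

/-- a permutation with two prescribed values -/
theorem exists_permD {n : ℕ} {a b a' b' : Fin n} (h : a ≠ b) (h' : a' ≠ b') :
    ∃ p : Equiv.Perm (Fin n), p a = a' ∧ p b = b' := by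
  refine ⟨Equiv.swap (Equiv.swap a a' b) b' * Equiv.swap a a', ?_, ?_⟩
  · rw [Equiv.Perm.mul_apply, Equiv.swap_apply_left, Equiv.swap_apply_of_ne_of_ne _ h']
    intro h1
    have h2 : Equiv.swap a a' b = Equiv.swap a a' a := by rw [← h1, Equiv.swap_apply_left]
    exact h ((Equiv.swap a a').injective h2).symm
  · rw [Equiv.Perm.mul_apply, Equiv.swap_apply_left]

variable {V : Type u} [AddCommGroup V] [DistribMulAction Y V]

section

variable {H R : Subgroup Y} {k n : ℕ} {co : V → Fin k → Fin n → ZMod 2}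

theorem ActS.mulD {g h : Y} {σ σ' : Equiv.Perm (Fin k)} {τ τ' : Fin k → Equiv.Perm (Fin n)} (hh : h ∈ H)
    (h1 : ActS V H R co g σ τ) (h2 : ActS V H R co h σ' τ') :
    ActS V H R co (g * h) (σ * σ') fun i => τ (σ' i) * τ' i := by
  intro v hv i x
  rw [mul_smul, Equiv.Perm.mul_apply, Equiv.Perm.mul_apply, h1 _ (smul_mem_WW hh hv), h2 v hv]

theorem Sw.symm {g : Y} {i : Fin k} {x y : Fin n} (h : Sw V H R co g i x y) : Sw V H R co g i y x :=
  ⟨h.ne.symm, by rw [Equiv.swap_comm]; exact h.act⟩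

theorem Sw.co_eq {g : Y} {i : Fin k} {x y : Fin n} (h : Sw V H R co g i x y) {v : V} (hv : v ∈ WW V H R)
    (j : Fin k) (z : Fin n) :
    co (g • v) j z = co v j ((Function.update (1 : Fin k → Equiv.Perm (Fin n)) i (Equiv.swap x y)) j z) := by
  have h1 := h.act v hv j ((Function.update (1 : Fin k → Equiv.Perm (Fin n)) i (Equiv.swap x y)) j z)
  rw [← h1, Equiv.Perm.one_apply]
  congr 1
  by_cases hj : j = i
  · subst hj
    rw [Function.update_self, Equiv.swap_apply_self]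
  · rw [Function.update_of_ne hj]
    rfl

theorem Sw.co_i {g : Y} {i : Fin k} {x y : Fin n} (h : Sw V H R co g i x y) {v : V} (hv : v ∈ WW V H R)
    (z : Fin n) : co (g • v) i z = co v i (Equiv.swap x y z) := by
  rw [h.co_eq hv, Function.update_self]

theorem Sw.co_j {g : Y} {i : Fin k} {x y : Fin n} (h : Sw V H R co g i x y) {v : V} (hv : v ∈ WW V H R)
    {j : Fin k} (hj : j ≠ i) (z : Fin n) : co (g • v) j z = co v j z := by
  rw [h.co_eq hv, Function.update_of_ne hj]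
  rfl

theorem Sw.co_same {g : Y} {i : Fin k} {x y : Fin n} (h : Sw V H R co g i x y) {v : V} (hv : v ∈ WW V H R)
    (h1 : co v i x = co v i y) : co (g • v) = co v := by
  funext j z
  by_cases hj : j = i
  · subst hj
    rw [h.co_i hv]
    by_cases hx : z = x
    · rw [hx, Equiv.swap_apply_left, h1]
    · by_cases hy : z = y
      · rw [hy, Equiv.swap_apply_right, h1]
      · rw [Equiv.swap_apply_of_ne_of_ne hx hy]
  · exact h.co_j hv hj z

theorem Sw.co_of_fix {g : Y} {i : Fin k} {x y : Fin n} (h : Sw V H R co g i x y) {v : V} (hv : v ∈ WW V H R)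
    (h1 : co (g • v) = co v) : co v i x = co v i y := by
  have h2 := h.co_i hv x
  rw [h1, Equiv.swap_apply_left] at h2
  exact h2

/-- conjugation -/
theorem Sw.conj {g : Y} {i : Fin k} {x y : Fin n} (h : Sw V H R co g i x y) (hg : g ∈ H) {l : Y} (hl : l ∈ H)
    {σ : Equiv.Perm (Fin k)} {τ : Fin k → Equiv.Perm (Fin n)} (hlσ : ActS V H R co l σ τ) :
    Sw V H R co (l * g * l⁻¹) (σ i) (τ i x) (τ i y) := by
  refine ⟨fun h1 => h.ne ((τ i).injective h1), ?_⟩
  intro v hv j z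
  obtain ⟨j', rfl⟩ := σ.surjective j
  obtain ⟨z', rfl⟩ := (τ j').surjective z
  have hu : l⁻¹ • v ∈ WW V H R := smul_mem_WW (H.inv_mem hl) hv
  have e1 : co v (σ j') (τ j' z') = co (l⁻¹ • v) j' z' := by
    rw [← hlσ _ hu, smul_inv_smul]
  have e2 : (l * g * l⁻¹) • v = l • (g • (l⁻¹ • v)) := by rw [mul_smul, mul_smul]
  rw [e1, e2, Equiv.Perm.one_apply]
  by_cases hj : j' = i
  · subst hj
    rw [Function.update_self, ← h.act _ hu j' z', Function.update_self, Equiv.Perm.one_apply,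
      ← hlσ _ (smul_mem_WW hg hu)]
    congr 1
    by_cases hx : z' = x
    · rw [hx, Equiv.swap_apply_left, Equiv.swap_apply_left]
    · by_cases hy : z' = y
      · rw [hy, Equiv.swap_apply_right, Equiv.swap_apply_right]
      · rw [Equiv.swap_apply_of_ne_of_ne hx hy,
          Equiv.swap_apply_of_ne_of_ne (fun h1 => hx ((τ j').injective h1)) fun h1 => hy ((τ j').injective h1)]
  · have hj' : σ j' ≠ σ i := fun h1 => hj (σ.injective h1)
    rw [Function.update_of_ne hj', Pi.one_apply, Equiv.Perm.one_apply, hlσ _ (smul_mem_WW hg hu),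
      h.co_j hu hj]

theorem Sw.of_smul {g g' : Y} {i : Fin k} {x y : Fin n} (h : Sw V H R co g i x y)
    (he : ∀ w ∈ WW V H R, g' • w = g • w) : Sw V H R co g' i x y :=
  ⟨h.ne, fun v hv j z => by rw [he v hv]; exact h.act v hv j z⟩

end

section ksym

variable {H R : Subgroup Y} {k m : ℕ} {co : V → Fin k → Fin (2 ^ m + 1) → ZMod 2}
variable (K : KSym V H R k m co)
include K

namespace KSym

theorem zeroD : co 0 = 0 := by
  have h := K.add 0 (zero_mem _) 0 (zero_mem _)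
  rw [add_zero] at h
  exact left_eq_add.1 h

theorem five_leD : 5 ≤ 2 ^ m + 1 := by
  have h1 : 2 ^ 2 ≤ 2 ^ m := Nat.pow_le_pow_right (by norm_num) K.two_le
  omega

/-- a letter different from three given ones -/
theorem exists_letterD (a b c : Fin (2 ^ m + 1)) : ∃ z, z ≠ a ∧ z ≠ b ∧ z ≠ c := by
  by_contra hcon
  push Not at hcon
  have h1 : (Finset.univ : Finset (Fin (2 ^ m + 1))) ⊆ {a, b, c} := by
    intro z _
    simp only [Finset.mem_insert, Finset.mem_singleton]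
    by_cases h2 : z = a
    · exact Or.inl h2
    · by_cases h3 : z = b
      · exact Or.inr (Or.inl h3)
      · exact Or.inr (Or.inr (hcon z h2 h3))
  have h2 := Finset.card_le_card h1
  rw [Finset.card_univ, Fintype.card_fin] at h2
  have h3 := (Finset.card_le_three (a := a) (b := b) (c := c))
  have h4 := K.five_leD
  omega

/-- the vector of a pair -/
theorem exists_vecD (i : Fin k) {x y : Fin (2 ^ m + 1)} (h : x ≠ y) : ∃ v ∈ WW V H R, co v = indi i x y := by
  apply K.surj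
  intro j
  unfold indi
  by_cases hj : j = i
  · have e : ∀ z : Fin (2 ^ m + 1), (if j = i ∧ (z = x ∨ z = y) then (1 : ZMod 2) else 0) =
        (if z = x then 1 else 0) + (if z = y then 1 else 0) := by
      intro z
      by_cases h1 : z = x
      · rw [if_pos ⟨hj, Or.inl h1⟩, if_pos h1, if_neg (fun h2 => h (h1.symm.trans h2)), add_zero]
      · by_cases h2 : z = y
        · rw [if_pos ⟨hj, Or.inr h2⟩, if_neg h1, if_pos h2, zero_add]
        · rw [if_neg (fun h3 => h3.2.elim h1 h2), if_neg h1, if_neg h2, add_zero]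
    rw [Finset.sum_congr rfl fun z _ => e z, Finset.sum_add_distrib, Finset.sum_ite_eq' Finset.univ x,
      Finset.sum_ite_eq' Finset.univ y, if_pos (Finset.mem_univ _), if_pos (Finset.mem_univ _)]
    exact zmodD_self 1
  · apply Finset.sum_eq_zero
    intro z _
    rw [if_neg fun h3 => hj h3.1]

/-- a vector which is moved by the transposition `(x y)` of block `i` -/
theorem exists_sepD (i : Fin k) {x y : Fin (2 ^ m + 1)} (h : x ≠ y) : ∃ v ∈ WW V H R, co v i x ≠ co v i y := by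
  obtain ⟨z, hz1, hz2, _⟩ := K.exists_letterD x y y
  obtain ⟨v, hv, hco⟩ := K.exists_vecD i hz1.symm
  refine ⟨v, hv, ?_⟩
  rw [hco]
  unfold indi
  rw [if_pos ⟨rfl, Or.inl rfl⟩, if_neg (fun h3 => h3.2.elim (fun h4 => h h4.symm) fun h4 => hz2 h4.symm)]
  exact one_ne_zero

/-- `co (g w + w)` -/
theorem co_swD {g : Y} {i : Fin k} {x y : Fin (2 ^ m + 1)} (h : Sw V H R co g i x y) (hg : g ∈ H) {v : V}
    (hv : v ∈ WW V H R) (h1 : co v i x ≠ co v i y) : co (g • v + v) = indi i x y := by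
  rw [K.add _ (smul_mem_WW hg hv) _ hv]
  funext j z
  rw [Pi.add_apply, Pi.add_apply]
  unfold indi
  by_cases hj : j = i
  · subst hj
    rw [h.co_i hv]
    by_cases hx : z = x
    · rw [if_pos ⟨rfl, Or.inl hx⟩, hx, Equiv.swap_apply_left]
      exact zmodD_ne h1.symm
    · by_cases hy : z = y
      · rw [if_pos ⟨rfl, Or.inr hy⟩, hy, Equiv.swap_apply_right]
        exact zmodD_ne h1
      · rw [if_neg (fun h3 => h3.2.elim hx hy), Equiv.swap_apply_of_ne_of_ne hx hy]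
        exact zmodD_self _
  · rw [if_neg (fun h3 => hj h3.1), h.co_j hv hj]
    exact zmodD_self _

/-- the action on `W` is determined by the coordinates -/
theorem smul_eq_ofD {g g' : Y} (hg : g ∈ H) (hg' : g' ∈ H) {σ : Equiv.Perm (Fin k)}
    {τ : Fin k → Equiv.Perm (Fin (2 ^ m + 1))} (h : ActS V H R co g σ τ) (h' : ActS V H R co g' σ τ) {w : V}
    (hw : w ∈ WW V H R) : g • w = g' • w := by
  have h1 := K.trivH (g⁻¹ * g') (H.mul_mem (H.inv_mem hg) hg') (fun w hw => by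
    funext i x
    have hu : (g⁻¹ * g') • w ∈ WW V H R := smul_mem_WW (H.mul_mem (H.inv_mem hg) hg') hw
    have h2 := h _ hu i x
    rw [← mul_smul, mul_inv_cancel_left, h' w hw i x] at h2
    exact h2.symm) w hw
  rw [mul_smul, inv_smul_eq_iff] at h1
  exact h1.symm

theorem sw_smulD {g g' : Y} (hg : g ∈ H) (hg' : g' ∈ H) {i : Fin k} {x y : Fin (2 ^ m + 1)}
    (h : Sw V H R co g i x y) (h' : Sw V H R co g' i x y) {w : V} (hw : w ∈ WW V H R) : g • w = g' • w :=
  K.smul_eq_ofD hg hg' h.act h'.act hw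

/-- `H` is transitive on the ordered pairs of letters -/
theorem exists_moveD (hRH : R ≤ H) (i j : Fin k) {x y x' y' : Fin (2 ^ m + 1)} (h : x ≠ y) (h' : x' ≠ y') :
    ∃ l ∈ H, ∃ σ τ, ActS V H R co l σ τ ∧ σ i = j ∧ τ i x = x' ∧ τ i y = y' := by
  obtain ⟨r, hr, σ, τ, hrs, hij⟩ := K.trans i j
  obtain ⟨p, hp1, hp2⟩ := exists_permD (a := τ i x) (b := τ i y) (fun h1 => h ((τ i).injective h1)) h'
  obtain ⟨g, hg, hgτ, _⟩ := K.lift (fun _ => p)
  refine ⟨g * r, H.mul_mem hg (hRH hr), _, _, hgτ.mulD (hRH hr) hrs, ?_, ?_, ?_⟩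
  · rw [Equiv.Perm.mul_apply, hij]; rfl
  · rw [Equiv.Perm.mul_apply]; exact hp1
  · rw [Equiv.Perm.mul_apply]; exact hp2

/-- **two transpositions in `R` which share a letter coincide** -/
theorem sw_disjD (hRH : R ≤ H) (hR : IsPGroup 2 R)
    (hQ : ∀ q ∈ QQ H R, ∀ w ∈ WW V H R, q • w = w) {r s : Y} (hr : r ∈ R) (hs : s ∈ R) {i : Fin k}
    {x y z : Fin (2 ^ m + 1)} (h : Sw V H R co r i x y) (h' : Sw V H R co s i x z) : y = z := by
  by_contra hyz
  set c : Equiv.Perm (Fin (2 ^ m + 1)) := Equiv.swap x y * Equiv.swap x z with hc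
  have hc3 : c ^ 3 = 1 := by
    have h1 := Equiv.Perm.isThreeCycle_swap_mul_swap_same h.ne h'.ne hyz
    rw [← hc] at h1
    rw [← h1.orderOf]
    exact pow_orderOf_eq_one c
  set g := r * s with hgdef
  have hg : g ∈ R := R.mul_mem hr hs
  have hgc : ActS V H R co g 1 (Function.update 1 i c) := by
    have h1 := h.act.mulD (hRH hs) h'.act
    rw [mul_one] at h1
    have e : (fun j => (Function.update (1 : Fin k → Equiv.Perm (Fin (2 ^ m + 1))) i (Equiv.swap x y))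
        ((1 : Equiv.Perm (Fin k)) j) * (Function.update (1 : Fin k → Equiv.Perm (Fin (2 ^ m + 1))) i
        (Equiv.swap x z)) j) = Function.update (1 : Fin k → Equiv.Perm (Fin (2 ^ m + 1))) i c := by
      funext j
      rw [Equiv.Perm.one_apply]
      by_cases hj : j = i
      · subst hj
        rw [Function.update_self, Function.update_self, Function.update_self]
      · rw [Function.update_of_ne hj, Function.update_of_ne hj, Function.update_of_ne hj, Pi.one_apply, mul_one]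
    rwa [e] at h1
  -- `g³ ∈ Q`
  have h3 : g ^ 3 ∈ QQ H R := by
    apply K.triv _ (R.pow_mem hg 3)
    intro w hw
    have hg1 := hRH hg
    have key : ∀ w ∈ WW V H R, ∀ j z, co (g • w) j ((Function.update (1 : Fin k → Equiv.Perm (Fin (2 ^ m + 1))) i c) j z) =
        co w j z := fun w hw j z => hgc w hw j z
    have h4 : co (g ^ 3 • w) = co w := by
      funext j z
      have e : g ^ 3 • w = g • g • g • w := by rw [pow_succ, pow_two, mul_smul, mul_smul]
      have h5 := key _ (smul_mem_WW hg1 (smul_mem_WW hg1 hw)) j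
        ((Function.update (1 : Fin k → Equiv.Perm (Fin (2 ^ m + 1))) i c) j ((Function.update (1 : Fin k → Equiv.Perm (Fin (2 ^ m + 1))) i c) j z))
      rw [key _ (smul_mem_WW hg1 hw), key _ hw] at h5
      rw [e, ← h5]
      congr 1
      by_cases hj : j = i
      · subst hj
        rw [Function.update_self]
        have : c (c (c z)) = (c ^ 3) z := by rw [pow_succ, pow_two]; rfl
        rw [this, hc3]; rfl
      · rw [Function.update_of_ne hj]; rfl
    rw [K.add _ (smul_mem_WW (H.pow_mem hg1 3) hw) _ hw, h4]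
    funext j z
    exact zmodD_self _
  -- so `g ∈ Q`
  have h4 : g ∈ QQ H R := by
    obtain ⟨a, ha⟩ := hR ⟨g, hg⟩
    have ha' : g ^ 2 ^ a = 1 := congrArg Subtype.val ha
    have hcop : Nat.Coprime 3 (2 ^ a) := Nat.Coprime.pow_right a (by norm_num)
    have h5 := (QQ H R).zpow_mem h3 (Nat.gcdA 3 (2 ^ a))
    have h6 := Nat.gcd_eq_gcd_ab 3 (2 ^ a)
    rw [hcop.gcd_eq_one] at h6
    have h7 : g = (g ^ 3) ^ (Nat.gcdA 3 (2 ^ a)) := by
      have h8 : g ^ (((3 : ℕ) : ℤ) * Nat.gcdA 3 (2 ^ a) + ((2 ^ a : ℕ) : ℤ) * Nat.gcdB 3 (2 ^ a)) = g := by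
        rw [← h6, Nat.cast_one, zpow_one]
      rw [zpow_add, zpow_mul, zpow_mul, zpow_natCast, zpow_natCast, ha', one_zpow, mul_one] at h8
      exact h8.symm
    rw [h7]
    exact h5
  -- but `g` moves a vector
  obtain ⟨w, hw, hwx⟩ := K.exists_sepD i h'.ne
  have h5 := hQ g h4 w hw
  have h6 := hgc w hw i z
  rw [h5, Equiv.Perm.one_apply, Function.update_self, hc, Equiv.Perm.mul_apply, Equiv.swap_apply_right,
    Equiv.swap_apply_left] at h6
  have h7 := hgc w hw i x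
  rw [h5, Equiv.Perm.one_apply, Function.update_self, hc, Equiv.Perm.mul_apply, Equiv.swap_apply_left,
    Equiv.swap_apply_of_ne_of_ne h'.ne.symm (Ne.symm hyz)] at h7
  exact hwx h7.symm

end KSym

end ksym

end Cfsg.Agent.Omega.NO1.TH.K

end

section


/-!
# N1, `S_n` type, case (d), `a = 2`, `|U| = 4` (bb OMEGA 21636 (1)-(5), helper593)

`S4` : both sides of the amalgam, all members have order 4, `|V : E_B| = 2`, no offender, and for every member
`D ≤ H` (resp. `H'`) outside `M`: `W' ≰ E_D`, the element of `D ∩ Q` acts on `W'` as one transposition.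
`S4.false` : this is impossible.
-/

set_option autoImplicit false
set_option linter.unusedSectionVars false
set_option linter.dupNamespace false

namespace Cfsg.Agent.Omega.NO1.TH.K

open Subgroup Cfsg.Agent.Omega.NO1.AB Cfsg.Agent.Omega.FFBr
open scoped Pointwise

universe u

variable {Y : Type u} [Group Y]

/-- The data of one active member `D ≤ H` of order 4: `D = {1, b, u, bu}`, `b ∈ Q`, `u` acts on `W` as the
transposition `(x y)` of block `i`, `f` the vector of this pair, `[E_D, D] = {0, f}`. -/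
structure Pk (V : Type u) [AddCommGroup V] [DistribMulAction Y V] (H R : Subgroup Y) {k n : ℕ}
    (co : V → Fin k → Fin n → ZMod 2) (D : Subgroup Y) (b u : Y) (i : Fin k) (x y : Fin n) (f : V) : Prop where
  bD : b ∈ D
  bQ : b ∈ QQ H R
  b1 : b ≠ 1
  uD : u ∈ D
  sw : Sw V H R co u i x y
  all : ∀ d ∈ D, d = 1 ∨ d = b ∨ d = u ∨ d = b * u
  q : ∀ d ∈ D, d ∈ QQ H R → d = 1 ∨ d = b
  fW : f ∈ WW V H R
  co_f : co f = indi i x y
  ff : f ∈ fx V D
  EE : ∀ d ∈ D, ∀ e ∈ Ee V D, d • e = e ∨ d • e + e = f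

/-- The setting. -/
structure S4 (V : Type u) [AddCommGroup V] [DistribMulAction Y V] (U : Set (Subgroup Y)) (T : Sylow 2 Y)
    (M H H' R : Subgroup Y) (k m : ℕ) (co co' : V → Fin k → Fin (2 ^ m + 1) → ZMod 2) (t : Y) : Prop where
  s : TwoS V U T M H H' R k m co co' t
  c4 : ∀ D ∈ U, Nat.card D = 4
  ind : ∀ D ∈ U, (Ee V D).index = 2
  noff : ∀ A : Subgroup Y, (∀ x ∈ A, ∀ y ∈ A, x * y = y * x) → (∀ x ∈ A, x * x = 1) → A ≠ ⊥ →
    Nat.card A < (fx V A).index
  d : ∀ D ∈ U, D ≤ H → ¬ D ≤ M → ¬ WW V H' R ≤ Ee V D ∧ ∃ b ∈ D, b ∈ QQ H R ∧ ∃ i x y, Sw V H' R co' b i x y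
  d' : ∀ D ∈ U, D ≤ H' → ¬ D ≤ M → ¬ WW V H R ≤ Ee V D ∧ ∃ b ∈ D, b ∈ QQ H' R ∧ ∃ i x y, Sw V H R co b i x y
  ex : ∃ D ∈ U, D ≤ H ∧ ¬ D ≤ M
  ex' : ∃ D ∈ U, D ≤ H' ∧ ¬ D ≤ M

variable {V : Type u} [AddCommGroup V] [DistribMulAction Y V] {U : Set (Subgroup Y)} {T : Sylow 2 Y}
  {M H H' R : Subgroup Y} {k m : ℕ} {co co' : V → Fin k → Fin (2 ^ m + 1) → ZMod 2} {t : Y}

theorem S4.swap (h : S4 V U T M H H' R k m co co' t) : S4 V U T M H' H R k m co' co t where
  s := h.s.swap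
  c4 := h.c4
  ind := h.ind
  noff := h.noff
  d := h.d'
  d' := h.d
  ex := h.ex'
  ex' := h.ex

section side

variable [Finite Y] [Finite V] (h : TwoS V U T M H H' R k m co co' t)
include h

theorem TwoS.RH : R ≤ H := h.a.RH

theorem TwoS.qfix {q : Y} (hq : q ∈ QQ H R) {w : V} (hw : w ∈ WW V H R) : q • w = w :=
  Amal.QQ_fix h.a h.amb hq hw

theorem TwoS.disj {r s : Y} (hr : r ∈ R) (hs : s ∈ R) {i : Fin k} {x y z : Fin (2 ^ m + 1)}
    (h1 : Sw V H R co r i x y) (h2 : Sw V H R co s i x z) : y = z :=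
  h.K.sw_disjD h.a.RH h.a.R2 (fun _ hq _ hw => h.qfix hq hw) hr hs h1 h2

theorem Sw.not_QQ {u : Y} {i : Fin k} {x y : Fin (2 ^ m + 1)} (hu : Sw V H R co u i x y) : u ∉ QQ H R := by
  intro hq
  obtain ⟨v, hv, hne⟩ := h.K.exists_sepD i hu.ne
  exact hne (hu.co_of_fix hv (by rw [h.qfix hq hv]))

/-- an active member contains a transposition -/
theorem TwoS.exists_sw {D : Subgroup Y} (hD : D ∈ U) (hDH : D ≤ H) (hDQ : ¬ D ≤ QQ H R) :
    ∃ u ∈ D, ∃ i x y, Sw V H R co u i x y := by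
  obtain ⟨l, hl, hlU, hlR⟩ := Amal.exists_conj h.a h.amb hD hDH
  have hm := h.amb.cls.mem _ hlU
  have hnQ : ¬ MulAut.conj l • D ≤ QQ H R := by
    intro h1
    apply hDQ
    intro x hx
    have h2 := conj_mem_QQ (H.inv_mem hl) (h1 (conj_mem_conj (g := l) hx))
    have e : l⁻¹ * (l * x * l⁻¹) * l⁻¹⁻¹ = x := by group
    rwa [e] at h2
  have hex := Amal.exact' h.a h.amb h.we hlU (hlR.trans h.a.RH)
  obtain ⟨_, h2⟩ := h.K.off _ hlR ⟨hm.comm, hm.sq⟩ hnQ (by
    rw [inf_comm (fx V _)]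
    rw [mul_comm, hex])
  obtain ⟨a, ha, haQ⟩ := SetLike.not_le_iff_exists.1 hnQ
  obtain ⟨τ, hτ, hτ2⟩ := h2 a ha
  have hmove : ∃ i x, τ i x ≠ x := by
    by_contra hcon
    push Not at hcon
    apply haQ
    apply h.K.triv a (hlR ha)
    intro w hw
    rw [h.K.add _ (smul_mem_WW (h.a.RH (hlR ha)) hw) _ hw]
    funext i x
    have h3 := hτ w hw i x
    rw [Equiv.Perm.one_apply, hcon i x] at h3
    rw [Pi.add_apply, Pi.add_apply, h3]
    exact zmodD_self _
  obtain ⟨i, x, hix⟩ := hmove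
  obtain ⟨_, c, hc, hcs⟩ := hτ2 i x hix
  have hsw : Sw V H R co c i x (τ i x) := ⟨Ne.symm hix, hcs⟩
  obtain ⟨σ, ρ, hσ⟩ := h.K.perm _ (H.inv_mem hl)
  refine ⟨l⁻¹ * c * l, mem_conj.1 hc, σ i, ρ i x, ρ i (τ i x), ?_⟩
  have h4 := hsw.conj (h.a.RH (hlR hc)) (H.inv_mem hl) hσ
  rwa [inv_inv] at h4

/-- the data of an active member -/
theorem TwoS.exists_pk_of {D : Subgroup Y} (hD : D ∈ U) (hDH : D ≤ H) (c4 : Nat.card D = 4) {u : Y} (hu : u ∈ D)
    {i : Fin k} {x y : Fin (2 ^ m + 1)} (hsw : Sw V H R co u i x y) : ∃ b f, Pk V H R co D b u i x y f := by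
  have hm := h.amb.cls.mem _ hD
  have two := h.amb.two
  have hE := Amal.WW_le_Ee h.a h.amb h.we hD hDH
  have huQ := Sw.not_QQ h hsw
  obtain ⟨b, hb, hb1⟩ : ∃ b ∈ D ⊓ QQ H R, b ≠ 1 := by
    by_contra hcon
    push Not at hcon
    apply Amal.ne_bot h.a h.amb h.we hD hDH
    rw [eq_bot_iff]
    intro b hb
    rw [mem_bot]
    exact hcon b hb
  have hu1 : u ≠ 1 := fun h1 => huQ (by rw [h1]; exact one_mem _)
  have hbu : b ≠ u := fun h1 => huQ (by rw [← h1]; exact hb.2)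
  have hall : ∀ d ∈ D, d = 1 ∨ d = b ∨ d = u ∨ d = b * u := fun d hd =>
    four_cases c4 hb.1 hu hb1 hu1 hbu (hm.sq b hb.1) hd
  obtain ⟨w, hw, hwne⟩ := h.K.exists_sepD i hsw.ne
  have huw : u • w ≠ w := fun h1 => hwne (hsw.co_of_fix hw (by rw [h1]))
  refine ⟨b, u • w + w, ⟨hb.1, hb.2, hb1, hu, hsw, hall, ?_, ?_, ?_, ?_, ?_⟩⟩
  · intro d hd hdQ
    rcases hall d hd with h1 | h1 | h1 | h1
    · exact Or.inl h1
    · exact Or.inr h1
    · exact absurd (by rw [← h1]; exact hdQ) huQ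
    · exfalso
      apply huQ
      have h2 := (QQ H R).mul_mem ((QQ H R).inv_mem hb.2) hdQ
      rwa [h1, inv_mul_cancel_left] at h2
  · exact add_mem (smul_mem_WW (hDH hu) hw) hw
  · exact h.K.co_swD hsw (hDH hu) hw hwne
  · exact hm.EB u hu w (hE hw)
  · intro d hd e he
    by_cases h1 : d • e = e
    · exact Or.inl h1
    · exact Or.inr (four_eq hm two c4 hd hu he (hE hw) h1 huw)

theorem TwoS.exists_pk {D : Subgroup Y} (hD : D ∈ U) (hDH : D ≤ H) (c4 : Nat.card D = 4) (hDQ : ¬ D ≤ QQ H R) :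
    ∃ b u i x y f, Pk V H R co D b u i x y f := by
  obtain ⟨u, hu, i, x, y, hsw⟩ := h.exists_sw hD hDH hDQ
  obtain ⟨b, f, hp⟩ := h.exists_pk_of hD hDH c4 hu hsw
  exact ⟨b, u, i, x, y, f, hp⟩

namespace Pk

variable {D : Subgroup Y} {b u : Y} {i : Fin k} {x y : Fin (2 ^ m + 1)} {f : V} (hD : D ∈ U) (hDH : D ≤ H)
  (p : Pk V H R co D b u i x y f)
include hD hDH p

theorem symm : Pk V H R co D b u i y x f :=
  { p with
    sw := p.sw.symm
    co_f := by rw [p.co_f, indi_comm] }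

/-- an element acting as `(x y)`: its commutators -/
theorem comm_eq {g : Y} (hg : g ∈ H) (hsw : Sw V H R co g i x y) {w : V} (hw : w ∈ WW V H R)
    (hne : co w i x ≠ co w i y) : g • w + w = f := by
  have hE := Amal.WW_le_Ee h.a h.amb h.we hD hDH
  rw [h.K.sw_smulD hg (hDH p.uD) hsw p.sw hw]
  rcases p.EE u p.uD w (hE hw) with h1 | h1
  · exact absurd (p.sw.co_of_fix hw (by rw [h1])) hne
  · exact h1

theorem fix_of {g : Y} (hg : g ∈ H) (hsw : Sw V H R co g i x y) {w : V} (hw : w ∈ WW V H R)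
    (he : co w i x = co w i y) : g • w = w := by
  have hE := Amal.WW_le_Ee h.a h.amb h.we hD hDH
  rw [h.K.sw_smulD hg (hDH p.uD) hsw p.sw hw]
  rcases p.EE u p.uD w (hE hw) with h1 | h1
  · exact h1
  · exfalso
    have h2 : co (u • w + w) = 0 := by
      rw [h.K.add _ (smul_mem_WW (hDH p.uD) hw) _ hw, p.sw.co_same hw he]
      funext j z
      exact zmodD_self _
    rw [h1, p.co_f] at h2
    exact indi_ne i x y h2

/-- `C_V(b) = W + F_D` -/
theorem fix_b {v : V} (hv : b • v = v) : v ∈ WW V H R ⊔ fx V D := by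
  rw [← Amal.fx_eq h.a h.amb h.we hD hDH]
  rintro d ⟨hd, hdQ⟩
  rcases p.q d hd hdQ with rfl | rfl
  · exact one_smul Y v
  · exact hv

end Pk

/-- `{y ∈ H | y acts on W as an element of R}` -/
def XR (V : Type u) [AddCommGroup V] [DistribMulAction Y V] {H R : Subgroup Y} (hRH : R ≤ H) : Subgroup Y where
  carrier := {y | y ∈ H ∧ ∃ r ∈ R, ∀ w ∈ WW V H R, y • w = r • w}
  one_mem' := ⟨one_mem _, 1, one_mem _, fun _ _ => rfl⟩
  mul_mem' := by
    rintro a b ⟨ha, r, hr, h1⟩ ⟨hb, s, hs, h2⟩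
    refine ⟨H.mul_mem ha hb, r * s, R.mul_mem hr hs, fun w hw => ?_⟩
    rw [mul_smul, h2 w hw, h1 _ (smul_mem_WW (hRH hs) hw), mul_smul]
  inv_mem' := by
    rintro a ⟨ha, r, hr, h1⟩
    refine ⟨H.inv_mem ha, r⁻¹, R.inv_mem hr, fun w hw => ?_⟩
    rw [inv_smul_eq_iff, h1 _ (smul_mem_WW (H.inv_mem (hRH hr)) hw), smul_inv_smul]

/-- **a transposition of `R` is induced by a member `≤ R`** (Sylow in `R C_H(W)`) -/
theorem TwoS.exists_in_R (c4 : ∀ D ∈ U, Nat.card D = 4) {r : Y} (hr : r ∈ R) {i : Fin k} {x y : Fin (2 ^ m + 1)}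
    (hsw : Sw V H R co r i x y) : ∃ B ∈ U, B ≤ R ∧ ∃ b u f, Pk V H R co B b u i x y f := by
  obtain ⟨D, hD, hDR, hDQ⟩ := Amal.exists_not_QQ h.a h.amb
  have hDH := hDR.trans h.a.RH
  obtain ⟨b, u, i₀, x₀, y₀, f, p⟩ := h.exists_pk hD hDH (c4 D hD) hDQ
  obtain ⟨l, hl, σ, τ, hlσ, hi, hx, hy⟩ := h.K.exists_moveD h.a.RH i₀ i p.sw.ne hsw.ne
  have hD₁ : MulAut.conj l • D ∈ U := h.amb.cls.conj D hD l
  have hD₁H : MulAut.conj l • D ≤ H := by
    intro z hz
    rw [mem_conj] at hz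
    have h1 := H.mul_mem (H.mul_mem hl (hDH hz)) (H.inv_mem hl)
    have e : l * (l⁻¹ * z * l) * l⁻¹ = z := by group
    rwa [e] at h1
  have hsw₁ : Sw V H R co (l * u * l⁻¹) i x y := by
    have h1 := p.sw.conj (hDH p.uD) hl hlσ
    rwa [hi, hx, hy] at h1
  obtain ⟨b₁, f₁, p₁⟩ := h.exists_pk_of hD₁ hD₁H (c4 _ hD₁) (conj_mem_conj p.uD) hsw₁
  -- `D₁ ≤ R C_H(W)`
  have hRX : R ≤ XR V h.a.RH := fun s hs => ⟨h.a.RH hs, s, hs, fun _ _ => rfl⟩
  have hXH : XR V h.a.RH ≤ H := fun s hs => hs.1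
  have hbX : b₁ ∈ XR V h.a.RH :=
    ⟨h.a.RH (QQ_le p₁.bQ), 1, one_mem _, fun w hw => by rw [one_smul]; exact h.qfix p₁.bQ hw⟩
  have huX : l * u * l⁻¹ ∈ XR V h.a.RH :=
    ⟨hD₁H p₁.uD, r, hr, fun w hw => h.K.sw_smulD (hD₁H p₁.uD) (h.a.RH hr) hsw₁ hsw hw⟩
  have hD₁X : MulAut.conj l • D ≤ XR V h.a.RH := by
    intro d hd
    rcases p₁.all d hd with rfl | rfl | rfl | rfl
    · exact one_mem _
    · exact hbX
    · exact huX
    · exact mul_mem hbX huX
  obtain ⟨z, ⟨hzH, r₁, hr₁, hz⟩, hzR⟩ := conj_into hRX h.a.R2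
    (fun R' h1 h2 => h.a.card_le h.a.bad.ne le_rfl (h1.trans hXH) h2) hD₁X (h.amb.cls.mem _ hD₁).isPGroup
  -- `z = r₁ c`, `c` trivial on `W`
  have hcH : r₁⁻¹ * z ∈ H := H.mul_mem (H.inv_mem (h.a.RH hr₁)) hzH
  have hc : ∀ w ∈ WW V H R, (r₁⁻¹ * z) • w = w := fun w hw => by
    rw [mul_smul, hz w hw, inv_smul_smul]
  have hB : MulAut.conj (r₁⁻¹ * z) • MulAut.conj l • D ∈ U := h.amb.cls.conj _ hD₁ _
  have hBR : MulAut.conj (r₁⁻¹ * z) • MulAut.conj l • D ≤ R := by
    intro d hd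
    rw [mem_conj] at hd
    have h1 := hzR (conj_mem_conj (g := z) hd)
    have h2 := R.mul_mem (R.mul_mem (R.inv_mem hr₁) h1) hr₁
    have e : r₁⁻¹ * (z * ((r₁⁻¹ * z)⁻¹ * d * (r₁⁻¹ * z)) * z⁻¹) * r₁ = d := by group
    rwa [e] at h2
  have hsw₂ : Sw V H R co ((r₁⁻¹ * z) * (l * u * l⁻¹) * (r₁⁻¹ * z)⁻¹) i x y := by
    refine hsw₁.of_smul fun w hw => ?_
    have h1 : (r₁⁻¹ * z)⁻¹ • w = w := by rw [inv_smul_eq_iff, hc w hw]
    rw [mul_smul, mul_smul, h1, hc _ (smul_mem_WW (hD₁H p₁.uD) hw)]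
  obtain ⟨b₂, f₂, p₂⟩ := h.exists_pk_of hB (hBR.trans h.a.RH) (c4 _ hB) (conj_mem_conj (conj_mem_conj p.uD)) hsw₂
  exact ⟨_, hB, hBR, b₂, _, f₂, p₂⟩

/-- the elements of `H` which permute the letters `0` -/
def St0 (V : Type u) [AddCommGroup V] [DistribMulAction Y V] (H R : Subgroup Y) {k n : ℕ} [NeZero n]
    (co : V → Fin k → Fin n → ZMod 2) : Subgroup Y where
  carrier := {g | g ∈ H ∧ (∀ i, ∃ j, ∀ w ∈ WW V H R, co (g • w) j 0 = co w i 0) ∧
    ∀ i, ∃ j, ∀ w ∈ WW V H R, co (g⁻¹ • w) j 0 = co w i 0}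
  one_mem' := ⟨one_mem _, fun i => ⟨i, fun w _ => by rw [one_smul]⟩,
    fun i => ⟨i, fun w _ => by rw [inv_one, one_smul]⟩⟩
  mul_mem' := by
    rintro a b ⟨ha, h1, h2⟩ ⟨hb, h3, h4⟩
    refine ⟨H.mul_mem ha hb, fun i => ?_, fun i => ?_⟩
    · obtain ⟨j, hj⟩ := h3 i
      obtain ⟨l, hl⟩ := h1 j
      exact ⟨l, fun w hw => by rw [mul_smul, hl _ (smul_mem_WW hb hw), hj w hw]⟩
    · obtain ⟨j, hj⟩ := h2 i
      obtain ⟨l, hl⟩ := h4 j
      exact ⟨l, fun w hw => by rw [mul_inv_rev, mul_smul, hl _ (smul_mem_WW (H.inv_mem ha) hw), hj w hw]⟩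
  inv_mem' := by
    rintro a ⟨ha, h1, h2⟩
    exact ⟨H.inv_mem ha, h2, fun i => by rw [inv_inv]; exact h1 i⟩

theorem TwoS.R_le_St0 : R ≤ St0 V H R co := by
  have key : ∀ r ∈ R, ∀ i, ∃ j, ∀ w ∈ WW V H R, co (r • w) j 0 = co w i 0 := by
    intro r hr i
    obtain ⟨σ, τ, hσ⟩ := h.K.perm r (h.a.RH hr)
    refine ⟨σ i, fun w hw => ?_⟩
    have h1 := hσ w hw i 0
    rwa [h.K.fix0 r hr σ τ hσ i] at h1
  exact fun r hr => ⟨h.a.RH hr, key r hr, key _ (R.inv_mem hr)⟩

/-- **`Stab_H(0) ≤ M`** -/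
theorem TwoS.St0_le : St0 V H R co ≤ M := by
  apply h.a.uniq _ h.R_le_St0
  refine lt_of_le_of_ne (fun g hg => hg.1) ?_
  intro h1
  -- `(0 c)` in all blocks
  obtain ⟨c, hc0, _, _⟩ := h.K.exists_letterD 0 0 0
  obtain ⟨g, hg, hgτ, _⟩ := h.K.lift (fun _ => Equiv.swap 0 c)
  have h2 : g ∈ St0 V H R co := by rw [h1]; exact hg
  obtain ⟨_, h3, _⟩ := h2
  have i₀ : Fin k := ⟨0, h.K.kpos⟩
  obtain ⟨j, hj⟩ := h3 i₀
  obtain ⟨z, hz0, hz1, _⟩ := h.K.exists_letterD 0 c c
  obtain ⟨w, hw, hwco⟩ := h.K.exists_vecD i₀ hz0.symm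
  have h4 := hj w hw
  have h5 := hgτ w hw j c
  rw [Equiv.swap_apply_right, Equiv.Perm.one_apply, h4, hwco] at h5
  unfold indi at h5
  rw [if_pos ⟨rfl, Or.inl rfl⟩, if_neg (fun h6 => h6.2.elim hc0 fun h7 => hz1 h7.symm)] at h5
  exact one_ne_zero h5

/-- an element acting as a transposition which fixes the letter `0` is in `M` -/
theorem TwoS.sw_mem_M {g : Y} (hg : g ∈ H) {i : Fin k} {x y : Fin (2 ^ m + 1)} (hx : x ≠ 0) (hy : y ≠ 0)
    (hsw : ActS V H R co g 1 (Function.update 1 i (Equiv.swap x y))) : g ∈ M := by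
  by_cases hxy : x = y
  · subst hxy
    apply h.St0_le
    have e : (Function.update (1 : Fin k → Equiv.Perm (Fin (2 ^ m + 1))) i (Equiv.swap x x)) = 1 := by
      funext j
      by_cases hj : j = i
      · subst hj
        rw [Function.update_self, Equiv.swap_self]; rfl
      · rw [Function.update_of_ne hj]
    rw [e] at hsw
    have key : ∀ w ∈ WW V H R, g • w = w := by
      intro w hw
      have h1 := h.K.smul_eq_ofD hg (one_mem H) hsw (fun v _ j z => by rw [one_smul]; rfl) hw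
      rwa [one_smul] at h1
    exact ⟨hg, fun j => ⟨j, fun w hw => by rw [key w hw]⟩, fun j => ⟨j, fun w hw => by
      rw [inv_smul_eq_iff.2 (key w hw).symm]⟩⟩
  · have hs : Sw V H R co g i x y := ⟨hxy, hsw⟩
    have key : ∀ j, ∀ w ∈ WW V H R, co (g • w) j 0 = co w j 0 := by
      intro j w hw
      by_cases hj : j = i
      · subst hj
        rw [hs.co_i hw, Equiv.swap_apply_of_ne_of_ne hx.symm hy.symm]
      · exact hs.co_j hw hj 0
    apply h.St0_le
    refine ⟨hg, fun j => ⟨j, key j⟩, fun j => ⟨j, fun w hw => ?_⟩⟩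
    have h1 := key j _ (smul_mem_WW (H.inv_mem hg) hw)
    rw [smul_inv_smul] at h1
    exact h1.symm

/-- `C_H(W) ≤ M` -/
theorem TwoS.ker_M {g : Y} (hg : ∀ w ∈ WW V H R, g • w = w) : g ∈ M := by
  have h1 : CW V H R ≤ M := Amal.ker_le_M h.a h.amb fun x hx v hv => hx v (fx_le_WW hv)
  exact h1 hg

/-- **an active member is conjugate in `H` to a member outside `M`** -/
theorem TwoS.exists_out (c4 : ∀ D ∈ U, Nat.card D = 4) (hex : ∃ D ∈ U, D ≤ H ∧ ¬ D ≤ M) {D : Subgroup Y}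
    (hD : D ∈ U) (hDH : D ≤ H) (hDQ : ¬ D ≤ QQ H R) : ∃ l ∈ H, ¬ MulAut.conj l • D ≤ M := by
  obtain ⟨D₀, hD₀, hD₀H, hD₀M⟩ := hex
  have hD₀Q : ¬ D₀ ≤ QQ H R := fun h1 => hD₀M (h1.trans (QQ_le.trans (h.a.RT.trans h.amb.TM)))
  obtain ⟨b₀, u₀, i₀, x₀, y₀, f₀, p₀⟩ := h.exists_pk hD₀ hD₀H (c4 _ hD₀) hD₀Q
  obtain ⟨b, u, i, x, y, f, p⟩ := h.exists_pk hD hDH (c4 _ hD) hDQ
  obtain ⟨l, hl, σ, τ, hlσ, hi, hx, hy⟩ := h.K.exists_moveD h.a.RH i i₀ p.sw.ne p₀.sw.ne
  refine ⟨l, hl, fun hle => hD₀M ?_⟩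
  have hsw₁ : Sw V H R co (l * u * l⁻¹) i₀ x₀ y₀ := by
    have h1 := p.sw.conj (hDH p.uD) hl hlσ
    rwa [hi, hx, hy] at h1
  have hu₁ : l * u * l⁻¹ ∈ H := H.mul_mem (H.mul_mem hl (hDH p.uD)) (H.inv_mem hl)
  have hb₀M : b₀ ∈ M := h.amb.TM (h.a.RT (QQ_le p₀.bQ))
  have hu₀M : u₀ ∈ M := by
    have h1 : u₀ * (l * u * l⁻¹)⁻¹ ∈ M := by
      apply h.ker_M
      intro w hw
      have hw' := smul_mem_WW (H.inv_mem hu₁) hw
      rw [mul_smul, h.K.sw_smulD (hD₀H p₀.uD) hu₁ p₀.sw hsw₁ hw', smul_inv_smul]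
    have h2 := M.mul_mem h1 (hle (conj_mem_conj (g := l) p.uD))
    rwa [inv_mul_cancel_right] at h2
  intro d hd
  rcases p₀.all d hd with rfl | rfl | rfl | rfl
  · exact one_mem _
  · exact hb₀M
  · exact hu₀M
  · exact M.mul_mem hb₀M hu₀M

end side

end Cfsg.Agent.Omega.NO1.TH.K

end
end

-- part: Mrg/Omega/NO1/TH/K/SDTwoB
section
prune_inst 0xd01001001500000000000000200000403000000000000000300000000806100080400000701009000000088040040000001000000000000000000000400001200000000000100c00100000006802000000000000000000000000000000041000000000000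
set_option linter.all false
open scoped Cfsg.Agent.FastGrp

section


/-!
# N1, `S_n` type, case (d), `a = 2`, `|U| = 4`: the end (bb OMEGA 21636 (1)-(5), helper593)

`Dk` : the data (1) of one member `D ≤ H` outside `M`; `S4.wp_inv` : (2) `W + C_{W'}(J)` is `H`-invariant;
`S4.not_QQ'` : (3); `S4.f_mem` : (4); `S4.letter`, `S4.false` : (5).
-/

set_option autoImplicit false
set_option linter.unusedSectionVars false
set_option linter.dupNamespace false

namespace Cfsg.Agent.Omega.NO1.TH.K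

open Subgroup Cfsg.Agent.Omega.NO1.AB Cfsg.Agent.Omega.FFBr
open scoped Pointwise

universe u

variable {Y : Type u} [Group Y]

/-- The data of one member `D ≤ H` outside `M`: `b ∈ D ∩ Q` acts on `W'` as the transposition `(x' y')` of block
`i'`, `f'` is the vector of this pair, `[V, b] = ⟨f, f'⟩`. -/
structure Dk (V : Type u) [AddCommGroup V] [DistribMulAction Y V] (U : Set (Subgroup Y)) (H H' R : Subgroup Y)
    {k n : ℕ} (co co' : V → Fin k → Fin n → ZMod 2) (D : Subgroup Y) (b u : Y) (i : Fin k) (x y : Fin n) (f : V)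
    (i' : Fin k) (x' y' : Fin n) (f' : V) : Prop where
  pk : Pk V H R co D b u i x y f
  sw' : Sw V H' R co' b i' x' y'
  XJ : ∀ v ∈ WJ V U H' R, b • v = v
  fJ : f' ∈ WJ V U H' R
  co_f' : co' f' = indi i' x' y'
  nf : f' ∉ fx V D
  hit : ∃ v, b • v + v = f'
  sig : ∀ v, b • v + v = 0 ∨ b • v + v = f' ∨ b • v + v = f ∨ b • v + v = f + f'
  inR : ∃ B ∈ U, B ≤ R ∧ ∃ b₁ u₁, Pk V H' R co' B b₁ u₁ i' x' y' f'

theorem indi_sep {k n : ℕ} {i j : Fin k} {x y a c : Fin n} (h : indi i x y j a ≠ indi i x y j c) :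
    j = i ∧ (((a = x ∨ a = y) ∧ ¬ (c = x ∨ c = y)) ∨ (¬ (a = x ∨ a = y) ∧ (c = x ∨ c = y))) := by
  unfold indi at h
  by_cases hj : j = i
  · refine ⟨hj, ?_⟩
    by_cases ha : a = x ∨ a = y
    · by_cases hc : c = x ∨ c = y
      · rw [if_pos ⟨hj, ha⟩, if_pos ⟨hj, hc⟩] at h
        exact absurd rfl h
      · exact Or.inl ⟨ha, hc⟩
    · by_cases hc : c = x ∨ c = y
      · exact Or.inr ⟨ha, hc⟩
      · rw [if_neg (fun h1 => ha h1.2), if_neg (fun h1 => hc h1.2)] at h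
        exact absurd rfl h
  · rw [if_neg (fun h1 => hj h1.1), if_neg (fun h1 => hj h1.1)] at h
    exact absurd rfl h

variable {V : Type u} [AddCommGroup V] [DistribMulAction Y V] {U : Set (Subgroup Y)} {T : Sylow 2 Y}
  {M H H' R : Subgroup Y} {k m : ℕ} {co co' : V → Fin k → Fin (2 ^ m + 1) → ZMod 2} {t : Y}

section side

variable [Finite Y] [Finite V]

/-- two transpositions in `R`: the second one fixes the pair of the first one -/
theorem TwoS.indi_eq (h : TwoS V U T M H H' R k m co co' t) {r s : Y} (hr : r ∈ R) (hs : s ∈ R) {i j : Fin k}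
    {x y a c : Fin (2 ^ m + 1)} (h1 : Sw V H R co r i x y) (h2 : Sw V H R co s j a c) :
    indi i x y j a = indi i x y j c := by
  by_contra hne
  obtain ⟨hj, h3⟩ := indi_sep hne
  subst hj
  rcases h3 with ⟨ha, hc⟩ | ⟨ha, hc⟩
  · rcases ha with rfl | rfl
    · exact hc (Or.inr (h.disj hr hs h1 h2).symm)
    · exact hc (Or.inl (h.disj hr hs h1.symm h2).symm)
  · rcases hc with rfl | rfl
    · exact ha (Or.inr (h.disj hr hs h1 h2.symm).symm)
    · exact ha (Or.inl (h.disj hr hs h1.symm h2.symm).symm)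

theorem S4.QM (h : S4 V U T M H H' R k m co co' t) : QQ H R ≤ M := QQ_le.trans (h.s.a.RT.trans h.s.amb.TM)

/-- **(1)** -/
theorem S4.exists_dk_of (h : S4 V U T M H H' R k m co co' t) {D : Subgroup Y} (hD : D ∈ U) (hDH : D ≤ H)
    (hDM : ¬ D ≤ M) {b u : Y} {i : Fin k} {x y : Fin (2 ^ m + 1)} {f : V} (p : Pk V H R co D b u i x y f) :
    ∃ i' x' y' f', Dk V U H H' R co co' D b u i x y f i' x' y' f' := by
  have hm := h.s.amb.cls.mem _ hD
  have two := h.s.amb.two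
  obtain ⟨hE, b₀, hb₀, hb₀Q, i', x', y', hsw'⟩ := h.d D hD hDH hDM
  have hb : b₀ = b := by
    rcases p.q b₀ hb₀ hb₀Q with h1 | h1
    · exfalso
      apply Sw.not_QQ h.s.swap hsw'
      rw [h1]
      exact one_mem _
    · exact h1
  subst hb
  have hbR : b₀ ∈ R := QQ_le p.bQ
  have hbH' : b₀ ∈ H' := h.s.a'.RH hbR
  obtain ⟨B, hB, hBR, b₁, u₁, f', p'⟩ := h.s.swap.exists_in_R h.c4 hbR hsw'
  have hBH' : B ≤ H' := hBR.trans h.s.a'.RH
  obtain ⟨w', hw', hw'E⟩ := SetLike.not_le_iff_exists.1 hE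
  have hne : b₀ • w' + w' ∉ fx V D := fun h1 => p.b1 (hm.inj w' hw'E b₀ p.bD h1)
  have hco : co' w' i' x' ≠ co' w' i' y' := by
    intro h1
    apply hne
    rw [Pk.fix_of h.s.swap hB hBH' p' hbH' hsw' hw' h1, two]
    exact zero_mem _
  have hf' : b₀ • w' + w' = f' := Pk.comm_eq h.s.swap hB hBH' p' hbH' hsw' hw' hco
  refine ⟨i', x', y', f', ⟨p, hsw', ?_, ⟨p'.fW, ?_⟩, p'.co_f, by rw [← hf']; exact hne, ⟨w', hf'⟩, ?_,
    B, hB, hBR, b₁, u₁, p'⟩⟩
  · intro v hv
    rw [h.s.swap.K.sw_smulD hbH' (hBH' p'.uD) hsw' p'.sw hv.1]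
    exact hv.2 B hB hBR u₁ p'.uD
  · intro B₂ hB₂ hB₂R c hc
    by_cases hQ : B₂ ≤ QQ H' R
    · exact h.s.swap.qfix (hQ hc) p'.fW
    · obtain ⟨b₂, u₂, i₂, x₂, y₂, f₂, p₂⟩ := h.s.swap.exists_pk hB₂ (hB₂R.trans h.s.a'.RH) (h.c4 _ hB₂) hQ
      have h2 : u₂ • f' = f' := by
        apply Pk.fix_of h.s.swap hB₂ (hB₂R.trans h.s.a'.RH) p₂ (h.s.a'.RH (hB₂R p₂.uD)) p₂.sw p'.fW
        rw [p'.co_f]
        exact h.s.swap.indi_eq hbR (hB₂R p₂.uD) hsw' p₂.sw
      have h3 : b₂ • f' = f' := h.s.swap.qfix p₂.bQ p'.fW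
      rcases p₂.all c hc with rfl | rfl | rfl | rfl
      · exact one_smul Y f'
      · exact h3
      · exact h2
      · rw [mul_smul, h2, h3]
  · intro v
    by_cases hvE : v ∈ Ee V D
    · rcases p.EE b₀ p.bD v hvE with h1 | h1
      · left; rw [h1, two]
      · right; right; left; exact h1
    · have h1 : v + w' ∈ Ee V D := by
        rw [AddSubgroup.add_mem_iff_of_index_two (h.ind D hD)]
        exact ⟨fun h2 => absurd h2 hvE, fun h2 => absurd h2 hw'E⟩
      have h2 : b₀ • v + v = (b₀ • (v + w') + (v + w')) + f' := by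
        rw [← hf', smul_add]
        have e : b₀ • v + b₀ • w' + (v + w') + (b₀ • w' + w') =
            b₀ • v + v + (b₀ • w' + b₀ • w') + (w' + w') := by abel
        rw [e, two, two, add_zero, add_zero]
      rcases p.EE b₀ p.bD _ h1 with h3 | h3
      · right; left; rw [h2, h3, two, zero_add]
      · right; right; right; rw [h2, h3]

theorem S4.exists_dk (h : S4 V U T M H H' R k m co co' t) {D : Subgroup Y} (hD : D ∈ U) (hDH : D ≤ H)
    (hDM : ¬ D ≤ M) : ∃ b u i x y f i' x' y' f', Dk V U H H' R co co' D b u i x y f i' x' y' f' := by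
  obtain ⟨b, u, i, x, y, f, p⟩ := h.s.exists_pk hD hDH (h.c4 D hD) fun h1 => hDM (h1.trans h.QM)
  obtain ⟨i', x', y', f', q⟩ := h.exists_dk_of hD hDH hDM p
  exact ⟨b, u, i, x, y, f, i', x', y', f', q⟩

/-- **(2)** `W + C_{W'}(J)` is `H`-invariant -/
theorem S4.wp_inv (h : S4 V U T M H H' R k m co co' t) {l : Y} (hl : l ∈ H) {v : V}
    (hv : v ∈ WW V H R ⊔ WJ V U H' R) : l • v ∈ WW V H R ⊔ WJ V U H' R := by
  have two := h.s.amb.two
  obtain ⟨D, hD, hDH, hDM⟩ := h.ex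
  obtain ⟨b, u, i, x, y, f, i', x', y', f', q⟩ := h.exists_dk hD hDH hDM
  set Wp := WW V H R ⊔ WJ V U H' R with hWp
  have key : ∀ g ∈ H, (∀ v ∈ WJ V U H' R, g • v ∈ Wp) → g ∈ MulAction.stabilizer Y Wp := by
    intro g hg h1
    rw [MulAction.mem_stabilizer_iff]
    apply eq_of_le_as
    · intro z hz
      rw [mem_smul_as, hWp, AddSubgroup.mem_sup] at hz
      obtain ⟨w, hw, j, hj, hwj⟩ := hz
      have e : z = g • w + g • j := by rw [← smul_add, hwj, smul_inv_smul]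
      rw [e]
      exact add_mem ((le_sup_left : _ ≤ Wp) (smul_mem_WW hg hw)) (h1 j hj)
    · rw [card_smul_as]
  have hR : R ≤ MulAction.stabilizer Y Wp := by
    intro r hr
    apply key r (h.s.a.RH hr)
    intro j hj
    apply (le_sup_right : _ ≤ Wp)
    refine ⟨smul_mem_WW (h.s.a'.RH hr) hj.1, fun B hB hBR c hc => ?_⟩
    have h1 : r⁻¹ * c * r ∈ MulAut.conj r⁻¹ • B := by
      have := conj_mem_conj (g := r⁻¹) hc
      rwa [inv_inv] at this
    have h2 : MulAut.conj r⁻¹ • B ≤ R := by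
      intro z hz
      rw [mem_conj, inv_inv] at hz
      have h3 := R.mul_mem (R.mul_mem (R.inv_mem hr) (hBR hz)) hr
      have e : r⁻¹ * (r * z * r⁻¹) * r = z := by group
      rwa [e] at h3
    have h3 := hj.2 _ (h.s.amb.cls.conj B hB r⁻¹) h2 _ h1
    rw [mul_smul, mul_smul, inv_smul_eq_iff] at h3
    exact h3
  have hDs : D ≤ MulAction.stabilizer Y Wp := by
    intro d hd
    apply key d (hDH hd)
    intro j hj
    have h1 := Pk.fix_b h.s hD hDH q.pk (q.XJ j hj)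
    rw [AddSubgroup.mem_sup] at h1
    obtain ⟨w, hw, e, he, hwe⟩ := h1
    have h2 : d • j = (d • w + w) + j := by
      rw [← hwe, smul_add, he d hd]
      have e1 : d • w + w + (w + e) = d • w + (w + w) + e := by abel
      rw [e1, two, add_zero]
    rw [h2]
    exact add_mem ((le_sup_left : _ ≤ Wp) (add_mem (smul_mem_WW (hDH hd) hw) hw)) ((le_sup_right : _ ≤ Wp) hj)
  have hH : H ≤ MulAction.stabilizer Y Wp := by
    rw [← h.s.a.gen hDH hDM]
    exact sup_le hR hDs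
  have h1 := hH hl
  rw [MulAction.mem_stabilizer_iff] at h1
  rw [← h1]
  exact smul_mem_smul_as hv

/-- `[V, b_D] ≤ W + C_{W'}(J)` for all active members of `H` -/
theorem S4.sigW (h : S4 V U T M H H' R k m co co' t) {D : Subgroup Y} (hD : D ∈ U) (hDH : D ≤ H) {b u : Y}
    {i : Fin k} {x y : Fin (2 ^ m + 1)} {f : V} (p : Pk V H R co D b u i x y f) (v : V) :
    b • v + v ∈ WW V H R ⊔ WJ V U H' R := by
  obtain ⟨l, hl, hlM⟩ := h.s.exists_out h.c4 h.ex hD hDH fun h1 => Sw.not_QQ h.s p.sw (h1 p.uD)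
  have hD₁ : MulAut.conj l • D ∈ U := h.s.amb.cls.conj D hD l
  have hD₁H : MulAut.conj l • D ≤ H := by
    intro z hz
    rw [mem_conj] at hz
    have h1 := H.mul_mem (H.mul_mem hl (hDH hz)) (H.inv_mem hl)
    have e : l * (l⁻¹ * z * l) * l⁻¹ = z := by group
    rwa [e] at h1
  obtain ⟨b₁, u₁, i₁, x₁, y₁, f₁, i', x', y', f', q⟩ := h.exists_dk hD₁ hD₁H hlM
  have hb : l * b * l⁻¹ = b₁ := by
    rcases q.pk.q _ (conj_mem_conj (g := l) p.bD) (conj_mem_QQ hl p.bQ) with h1 | h1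
    · exfalso
      apply p.b1
      have h2 : l⁻¹ * (l * b * l⁻¹) * l = 1 := by rw [h1]; group
      have e : l⁻¹ * (l * b * l⁻¹) * l = b := by group
      rwa [e] at h2
    · exact h1
  have h1 : b₁ • (l • v) + l • v ∈ WW V H R ⊔ WJ V U H' R := by
    have hf := (le_sup_left : _ ≤ WW V H R ⊔ WJ V U H' R) q.pk.fW
    have hf' := (le_sup_right : _ ≤ WW V H R ⊔ WJ V U H' R) q.fJ
    rcases q.sig (l • v) with h2 | h2 | h2 | h2
    · rw [h2]; exact zero_mem _
    · rw [h2]; exact hf'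
    · rw [h2]; exact hf
    · rw [h2]; exact add_mem hf hf'
  have h2 := h.wp_inv (H.inv_mem hl) h1
  have e : l⁻¹ • (b₁ • (l • v) + l • v) = b • v + v := by
    rw [← hb, smul_add, inv_smul_smul, ← mul_smul, ← mul_smul]
    congr 2
    group
  rwa [e] at h2

/-- **(3)** -/
theorem S4.not_QQ' (h : S4 V U T M H H' R k m co co' t) {D' : Subgroup Y} (hD' : D' ∈ U) {a u' : Y} {i' : Fin k}
    {x' y' : Fin (2 ^ m + 1)} {f' : V} {i : Fin k} {x y : Fin (2 ^ m + 1)} {f : V}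
    (q : Dk V U H' H R co' co D' a u' i' x' y' f' i x y f) {B : Subgroup Y} (hB : B ∈ U) (hBR : B ≤ R) {b u : Y}
    (p : Pk V H R co B b u i x y f) : ¬ B ≤ QQ H' R := by
  intro hle
  have two := h.s.amb.two
  have hBH := hBR.trans h.s.a.RH
  have hm := h.s.amb.cls.mem _ hB
  have haR : a ∈ R := QQ_le q.pk.bQ
  have haH : a ∈ H := h.s.a.RH haR
  have ha2 : ∀ v : V, a • a • v = v := fun v => by
    rw [← mul_smul, (h.s.amb.cls.mem _ hD').sq a q.pk.bD, one_smul]
  have hb2 : ∀ v : V, b • b • v = v := fun v => by rw [← mul_smul, hm.sq b p.bD, one_smul]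
  -- `[V, a] ≤ F_B`
  have hfa : ∀ v : V, a • v + v ∈ fx V B := by
    intro v
    have h1 : f' ∈ fx V B := fun c hc => h.s.swap.qfix (hle hc) q.pk.fW
    rcases q.sig v with h2 | h2 | h2 | h2
    · rw [h2]; exact zero_mem _
    · rw [h2]; exact p.ff
    · rw [h2]; exact h1
    · rw [h2]; exact add_mem h1 p.ff
  have haf : a • f = f := by
    apply Pk.fix_of h.s hB hBH p haH q.sw' p.fW
    rw [p.co_f]
    exact h.s.indi_eq haR haR q.sw' q.sw'
  -- `(ab)² v = v + (a β + β)`, `β = b v + v`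
  set g := a * b * (a * b) with hgdef
  have hg : ∀ v : V, g • v = v + (a • (b • v + v) + (b • v + v)) := by
    intro v
    have h1 : b • (a • v + v) = a • v + v := hfa v b p.bD
    have h2 : b • (a • (b • v + v) + (b • v + v)) = a • (b • v + v) + (b • v + v) := hfa (b • v + v) b p.bD
    have h3 : b • a • v = a • v + v + b • v := by
      rw [← h1, smul_add]
      have e : b • a • v + b • v + b • v = b • a • v + (b • v + b • v) := by abel
      rw [e, two, add_zero]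
    rw [smul_add, smul_add a, smul_add b, smul_add b, hb2, h3] at h2
    -- `b a b v + (a v + v + b v) + (v + b v) = a b v + a v + (b v + v)`
    have h4 : b • a • b • v = a • b • v + v + b • v := by
      have h5 := congrArg (fun z => z + (a • v + v + b • v + (v + b • v))) h2
      have e1 : b • a • b • v + (a • v + v + b • v) + (v + b • v) + (a • v + v + b • v + (v + b • v)) =
          b • a • b • v + (a • v + a • v) + (v + v) + (v + v) + (b • v + b • v) + (b • v + b • v) := by abel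
      have e2 : a • b • v + a • v + (b • v + v) + (a • v + v + b • v + (v + b • v)) =
          a • b • v + v + b • v + (a • v + a • v) + (v + v) + (b • v + b • v) := by abel
      have h6 := (e1.symm.trans h5).trans e2
      simp only [two, add_zero] at h6
      exact h6
    rw [hgdef, mul_smul, mul_smul, mul_smul, h4, smul_add, smul_add, ha2, smul_add]
    have e : v + (a • b • v + a • v + (b • v + v)) = b • v + a • v + a • b • v + (v + v) := by abel
    rw [e, two, add_zero]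
  -- on `E_B`
  have hgE : ∀ v ∈ Ee V B, g • v = v := by
    intro v hv
    rw [hg v]
    rcases p.EE b p.bD v hv with h1 | h1
    · rw [h1, two, smul_zero, add_zero, add_zero]
    · rw [h1, haf, two, add_zero]
  -- outside `E_B`
  have hWJ : ∀ j ∈ WJ V U H' R, a • j = j ∧ j ∈ fx V B := fun j hj =>
    ⟨h.s.swap.qfix q.pk.bQ hj.1, fun c hc => hj.2 B hB hBR c hc⟩
  have hgd : ∀ v : V, ∃ w ∈ WW V H R, ∃ j ∈ WJ V U H' R, b • v + v = w + j ∧
      a • (b • v + v) + (b • v + v) = a • w + w := by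
    intro v
    have h1 := h.sigW hB hBH p v
    rw [AddSubgroup.mem_sup] at h1
    obtain ⟨w, hw, j, hj, hwj⟩ := h1
    refine ⟨w, hw, j, hj, hwj.symm, ?_⟩
    rw [← hwj, smul_add, (hWJ j hj).1]
    have e : a • w + j + (w + j) = a • w + w + (j + j) := by abel
    rw [e, two, add_zero]
  have hgn : ∀ v, v ∉ Ee V B → g • v ≠ v := by
    intro v hv h1
    obtain ⟨w, hw, j, hj, h2, h3⟩ := hgd v
    rw [hg v, h3] at h1
    have h4 : a • w + w = 0 := by
      have h5 : v + (a • w + w) = v + 0 := by rw [h1, add_zero]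
      exact add_left_cancel h5
    have h5 : a • w = w := (HE.add_eq_zero' two).1 h4
    have h6 : u • w = w := by
      rw [← h.s.K.sw_smulD haH (hBH p.uD) q.sw' p.sw hw]
      exact h5
    have h7 : b • w = w := h.s.qfix p.bQ hw
    have h8 : w ∈ fx V B := by
      intro c hc
      rcases p.all c hc with rfl | rfl | rfl | rfl
      · exact one_smul Y w
      · exact h7
      · exact h6
      · rw [mul_smul, h6, h7]
    apply p.b1
    apply hm.inj v hv b p.bD
    rw [h2]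
    exact add_mem h8 (hWJ j hj).2
  -- `g² = 1`
  have hg2 : g * g = 1 := by
    apply h.s.amb.faith
    intro v
    obtain ⟨w, hw, j, hj, h2, h3⟩ := hgd v
    have h4 : a • w + w ∈ Ee V B := by
      have h5 := Amal.WW_le_Ee h.s.a h.s.amb h.s.we hB hBH
      exact h5 (add_mem (smul_mem_WW haH hw) hw)
    rw [mul_smul, hg v, h3, smul_add, hgE _ h4, hg v, h3, add_assoc, two, add_zero]
  have hg1 : g ≠ 1 := by
    intro h1
    obtain ⟨v, hv⟩ := hm.ne
    apply hgn v hv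
    rw [h1, one_smul]
  have h1 := h.noff (zpowers g) (by
      rintro x ⟨n₁, rfl⟩ y ⟨n₂, rfl⟩
      exact (zpow_mul_comm g n₁ n₂)) (by
      rintro x ⟨n₁, rfl⟩
      change g ^ n₁ * g ^ n₁ = 1
      rw [← (Commute.refl g).mul_zpow, hg2, one_zpow]) (by
      rw [Ne, zpowers_eq_bot]; exact hg1)
  have h2 : Nat.card ↥(zpowers g) = 2 := by
    rw [Nat.card_zpowers]
    exact orderOf_eq_prime (by rw [pow_two, hg2]) hg1
  have h3 : Ee V B ≤ fx V (zpowers g) := by
    intro v hv c hc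
    have h4 : zpowers g ≤ MulAction.stabilizer Y v := by
      rw [zpowers_le]
      exact hgE v hv
    exact h4 hc
  have h4 : (fx V (zpowers g)).index ∣ 2 := by
    rw [← h.ind B hB]
    exact AddSubgroup.index_dvd_of_le h3
  have h5 := Nat.le_of_dvd (by norm_num) h4
  omega

/-- **(4)** -/
theorem S4.f_mem (h : S4 V U T M H H' R k m co co' t) {D' : Subgroup Y} (hD' : D' ∈ U) {a u' : Y} {i' : Fin k}
    {x' y' : Fin (2 ^ m + 1)} {f' : V} {i : Fin k} {x y : Fin (2 ^ m + 1)} {f : V}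
    (q : Dk V U H' H R co' co D' a u' i' x' y' f' i x y f) :
    f ∈ WW V H' R ∧ ∃ r ∈ R, ∃ i₂ x₂ y₂, Sw V H' R co' r i₂ x₂ y₂ ∧ co' f = indi i₂ x₂ y₂ := by
  obtain ⟨B, hB, hBR, b, u, p⟩ := q.inR
  have hBH' := hBR.trans h.s.a'.RH
  obtain ⟨b₂, u₂, i₂, x₂, y₂, f₂, p₂⟩ := h.s.swap.exists_pk hB hBH' (h.c4 B hB) (h.not_QQ' hD' q hB hBR p)
  obtain ⟨w, hw, hwne⟩ := h.s.swap.K.exists_sepD i₂ p₂.sw.ne
  have h1 := Pk.comm_eq h.s.swap hB hBH' p₂ (hBH' p₂.uD) p₂.sw hw hwne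
  have h2 : f = f₂ := by
    rcases p.EE u₂ p₂.uD w (Amal.WW_le_Ee h.s.a' h.s.amb h.s.we' hB hBH' hw) with h3 | h3
    · exact absurd (p₂.sw.co_of_fix hw (by rw [h3])) hwne
    · rw [← h3, h1]
  rw [h2]
  exact ⟨p₂.fW, u₂, hBR p₂.uD, i₂, x₂, y₂, p₂.sw, p₂.co_f⟩

/-- **(5)**: the partner of the letter `x` -/
theorem S4.letter (h : S4 V U T M H H' R k m co co' t) {D : Subgroup Y} (hD : D ∈ U) (hDH : D ≤ H) {b u : Y}
    {i : Fin k} {x : Fin (2 ^ m + 1)} {f : V} {i' : Fin k} {x' y' : Fin (2 ^ m + 1)} {f' : V}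
    (q : Dk V U H H' R co co' D b u i x 0 f i' x' y' f') :
    f' ∈ WW V H R ∧ ∃ z, z ≠ 0 ∧ co f' = indi i x z ∧ ∃ r ∈ R, Sw V H R co r i x z := by
  obtain ⟨hfW, r, hr, i₂, x₂, y₂, hsw, hco⟩ := h.swap.f_mem hD q
  refine ⟨hfW, ?_⟩
  -- `0 ∉ {x₂, y₂}`
  have h0 : ∀ {x₂ y₂ : Fin (2 ^ m + 1)}, Sw V H R co r i₂ x₂ y₂ → x₂ ≠ 0 := by
    intro x₂ y₂ hs hx
    subst hx
    have h1 := h.s.K.fix0 r hr _ _ hs.act i₂
    rw [Function.update_self, Equiv.swap_apply_left] at h1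
    exact hs.ne h1.symm
  have h02 := h0 hsw
  have h03 := h0 hsw.symm
  have hne : co f' i x ≠ co f' i 0 := by
    intro h1
    apply q.nf
    have h2 := Pk.fix_of h.s hD hDH q.pk (hDH q.pk.uD) q.pk.sw hfW h1
    have h3 := h.s.qfix q.pk.bQ hfW
    intro c hc
    rcases q.pk.all c hc with rfl | rfl | rfl | rfl
    · exact one_smul Y f'
    · exact h3
    · exact h2
    · rw [mul_smul, h2, h3]
  rw [hco] at hne
  obtain ⟨hi, h1⟩ := indi_sep hne
  subst hi
  rcases h1 with ⟨h1 | h1, _⟩ | ⟨_, h1 | h1⟩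
  · rw [← h1] at hsw hco
    exact ⟨y₂, h03, hco, r, hr, hsw⟩
  · rw [← h1] at hsw hco
    exact ⟨x₂, h02, by rw [hco, indi_comm], r, hr, hsw.symm⟩
  · exact absurd h1.symm h02
  · exact absurd h1.symm h03

theorem S4.false (h : S4 V U T M H H' R k m co co' t) : False := by
  obtain ⟨D, hD, hDH, hDM⟩ := h.ex
  have hm := h.s.amb.cls.mem _ hD
  -- a member with `π(D) = {x, 0}`
  obtain ⟨b, u, i, x, f, p⟩ : ∃ b u i x f, Pk V H R co D b u i x 0 f := by
    obtain ⟨b, u, i, x, y, f, p⟩ := h.s.exists_pk hD hDH (h.c4 D hD) fun h1 => hDM (h1.trans h.QM)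
    by_cases hy : y = 0
    · subst hy
      exact ⟨b, u, i, x, f, p⟩
    by_cases hx : x = 0
    · subst hx
      exact ⟨b, u, i, y, f, Pk.symm h.s hD hDH p⟩
    exfalso
    apply hDM
    have h1 := h.s.sw_mem_M (hDH p.uD) hx hy p.sw.act
    have h2 := h.QM p.bQ
    intro d hd
    rcases p.all d hd with rfl | rfl | rfl | rfl
    · exact one_mem _
    · exact h2
    · exact h1
    · exact M.mul_mem h2 h1
  obtain ⟨i', x', y', f', q⟩ := h.exists_dk_of hD hDH hDM p
  obtain ⟨hfW, z, hz0, hzco, r, hr, hrs⟩ := h.letter hD hDH q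
  -- a further letter
  obtain ⟨c, hc0, hcx, hcz⟩ := h.s.K.exists_letterD 0 x z
  obtain ⟨l, hl, hlτ, _⟩ := h.s.K.lift (Function.update 1 i (Equiv.swap z c))
  have hlM : l ∈ M := h.s.sw_mem_M hl hz0 hc0 hlτ
  have hD₁ : MulAut.conj l • D ∈ U := h.s.amb.cls.conj D hD l
  have hD₁H : MulAut.conj l • D ≤ H := by
    intro z hz
    rw [mem_conj] at hz
    have h1 := H.mul_mem (H.mul_mem hl (hDH hz)) (H.inv_mem hl)
    have e : l * (l⁻¹ * z * l) * l⁻¹ = z := by group
    rwa [e] at h1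
  have hD₁M : ¬ MulAut.conj l • D ≤ M := by
    intro h1
    apply hDM
    intro d hd
    have h2 := M.mul_mem (M.mul_mem (M.inv_mem hlM) (h1 (conj_mem_conj (g := l) hd))) hlM
    have e : l⁻¹ * (l * d * l⁻¹) * l = d := by group
    rwa [e] at h2
  have hsw₁ : Sw V H R co (l * u * l⁻¹) i x 0 := by
    have h1 := p.sw.conj (hDH p.uD) hl hlτ
    rw [Equiv.Perm.one_apply, Function.update_self, Equiv.swap_apply_of_ne_of_ne hrs.ne hcx.symm,
      Equiv.swap_apply_of_ne_of_ne hz0.symm hc0.symm] at h1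
    exact h1
  obtain ⟨b₁, f₁, p₁⟩ := h.s.exists_pk_of hD₁ hD₁H (h.c4 _ hD₁) (conj_mem_conj p.uD) hsw₁
  obtain ⟨i₁', x₁', y₁', f₁', q₁⟩ := h.exists_dk_of hD₁ hD₁H hD₁M p₁
  obtain ⟨hf₁W, z₁, _, hz₁co, r₁, hr₁, hr₁s⟩ := h.letter hD₁ hD₁H q₁
  have hzz : z = z₁ := h.s.disj hr hr₁ hrs hr₁s
  subst hzz
  have hb : l * b * l⁻¹ = b₁ := by
    rcases p₁.q _ (conj_mem_conj (g := l) p.bD) (conj_mem_QQ hl p.bQ) with h1 | h1
    · exfalso
      apply p.b1
      have h2 : l⁻¹ * (l * b * l⁻¹) * l = 1 := by rw [h1]; group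
      have e : l⁻¹ * (l * b * l⁻¹) * l = b := by group
      rwa [e] at h2
    · exact h1
  obtain ⟨v, hv⟩ := q.hit
  have h1 : b₁ • (l • v) + l • v = l • f' := by
    rw [← hb, ← hv, smul_add, ← mul_smul, ← mul_smul]
    congr 2
    group
  -- evaluate at the letter `c`
  have h2 : co (l • f') i c = 1 := by
    have h3 := hlτ f' hfW i z
    rw [Equiv.Perm.one_apply, Function.update_self, Equiv.swap_apply_left, hzco] at h3
    rw [h3]
    unfold indi
    rw [if_pos ⟨rfl, Or.inr rfl⟩]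
  have h3 : co f₁' i c = 0 := by
    rw [hz₁co]
    unfold indi
    rw [if_neg fun h4 => h4.2.elim hcx hcz]
  have h4 : co f₁ i c = 0 := by
    rw [p₁.co_f]
    unfold indi
    rw [if_neg fun h4 => h4.2.elim hcx hc0]
  have h5 := q₁.sig (l • v)
  rw [h1] at h5
  rcases h5 with h5 | h5 | h5 | h5
  · rw [h5, h.s.K.zeroD] at h2
    exact zero_ne_one h2
  · rw [h5, h3] at h2
    exact zero_ne_one h2
  · rw [h5, h4] at h2
    exact zero_ne_one h2
  · rw [h5, h.s.K.add _ p₁.fW _ hf₁W, Pi.add_apply, Pi.add_apply, h3, h4, add_zero] at h2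
    exact zero_ne_one h2

end side

end Cfsg.Agent.Omega.NO1.TH.K

end

section


/-!
# N1, the amalgam, `S_n` type: the pairs of `R`

`PI.uniq` : the pairs of a block are disjoint; `exists_PI` : every letter `≠ 0` lies in a pair; `trans_PI` : `R` is
transitive on the pairs; `off_member` : the members `B ≤ R` act by disjoint transpositions of `R`;
`mem_D0`, `mem_WJ` : `D0` and `WJ` in coordinates.
-/

set_option autoImplicit false
set_option linter.unusedSectionVars false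
set_option linter.dupNamespace false

namespace Cfsg.Agent.Omega.NO1.TH.K.SI

open Subgroup Cfsg.Agent.Omega.NO1.AB
open scoped Pointwise

universe u

variable {Y : Type u} [Group Y] {V : Type u} [AddCommGroup V] [DistribMulAction Y V]

section pairs

variable {H R : Subgroup Y} {k m : ℕ} {co : V → Fin k → Fin (2 ^ m + 1) → ZMod 2} (K : KSym V H R k m co)
include K

omit K in
theorem tp_pow {k n : ℕ} (τ : Fin k → Equiv.Perm (Fin n)) (e : ℕ) (i : Fin k) : (τ ^ e) i = τ i ^ e := rfl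

omit K in
theorem actS_pow {g : Y} (hg : g ∈ H) {τ : Fin k → Equiv.Perm (Fin (2 ^ m + 1))} (h : ActS V H R co g 1 τ) (e : ℕ) :
    ActS V H R co (g ^ e) 1 (τ ^ e) := by
  induction e with
  | zero => rw [pow_zero, pow_zero]; exact actS_one
  | succ e ih => rw [pow_succ, pow_succ]; exact actS_mul1 hg ih h

/-- **the pairs of a block are disjoint** -/
theorem PI.uniq (hRH : R ≤ H) (hR2 : IsPGroup 2 R) {i : Fin k} {a b c : Fin (2 ^ m + 1)}
    (h1 : PI V H R co i a b) (h2 : PI V H R co i a c) : b = c := by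
  by_contra hbc
  obtain ⟨hab, r, hr, hrt⟩ := h1
  obtain ⟨hac, s, hs, hst⟩ := h2
  have hx := actS_mul1 (hRH hs) hrt hst
  obtain ⟨e, he⟩ := hR2 ⟨r * s, R.mul_mem hr hs⟩
  have he' : (r * s) ^ 2 ^ e = 1 := congrArg Subtype.val he
  have h3 := actS_pow (hRH (R.mul_mem hr hs)) hx (2 ^ e)
  rw [he'] at h3
  have h4 := (actS_unique K H.one_mem h3 actS_one).2
  have h5 : (Equiv.swap a b * Equiv.swap a c) ^ 2 ^ e = 1 := by
    have := congrFun h4 i
    rw [tp_pow, Pi.mul_apply, tp_self, tp_self] at this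
    exact this
  have h6 := (Equiv.Perm.isThreeCycle_swap_mul_swap_same hab hac hbc).orderOf
  have h7 := orderOf_dvd_of_pow_eq_one h5
  rw [h6] at h7
  have h8 := (Nat.Prime.dvd_of_dvd_pow Nat.prime_three h7)
  omega

/-- the image of a pair -/
theorem PI.map (hRH : R ≤ H) {r : Y} (hr : r ∈ R) {σ : Equiv.Perm (Fin k)} {τ : Fin k → Equiv.Perm (Fin (2 ^ m + 1))}
    (hrt : ActS V H R co r σ τ) {i : Fin k} {a b : Fin (2 ^ m + 1)} (h : PI V H R co i a b) :
    PI V H R co (σ i) (τ i a) (τ i b) := by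
  obtain ⟨hab, s, hs, hst⟩ := h
  exact ⟨fun h => hab ((τ i).injective h), r * s * r⁻¹, R.mul_mem (R.mul_mem hr hs) (R.inv_mem hr),
    actS_conj_tp (hRH hr) (hRH hs) hrt hst⟩

/-- the pairs contain all letters `≠ 0` -/
theorem exists_PI [Finite Y] (hRH : R ≤ H) (hS : ∃ P : Sylow 2 H, (P : Subgroup H) = R.subgroupOf H)
    (hne : ∃ i a b, PI V H R co i a b) (j : Fin k) {x : Fin (2 ^ m + 1)} (hx : x ≠ 0) : ∃ y, PI V H R co j x y := by
  obtain ⟨i, a, b, hp⟩ := hne
  obtain ⟨r, hr, σ, τ, h1, rfl, rfl⟩ := trans_pt K hRH hS (i := i) (j := j) (hp.ne0 K) hx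
  exact ⟨_, hp.map K hRH hr h1⟩

/-- `R` is transitive on the pairs -/
theorem trans_PI [Finite Y] (hRH : R ≤ H) (hR2 : IsPGroup 2 R)
    (hS : ∃ P : Sylow 2 H, (P : Subgroup H) = R.subgroupOf H) {i j : Fin k} {a b c d : Fin (2 ^ m + 1)}
    (h1 : PI V H R co i a b) (h2 : PI V H R co j c d) :
    ∃ r ∈ R, ∃ σ τ, ActS V H R co r σ τ ∧ σ i = j ∧ τ i a = c ∧ τ i b = d := by
  obtain ⟨r, hr, σ, τ, h3, rfl, rfl⟩ := trans_pt K hRH hS (i := i) (j := j) (h1.ne0 K) (h2.ne0 K)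
  exact ⟨r, hr, σ, τ, h3, rfl, rfl, (h1.map K hRH hr h3).uniq K hRH hR2 h2⟩

end pairs

section amal

variable [Finite Y] [Finite V] {U : Set (Subgroup Y)} {T : Sylow 2 Y} {M H R : Subgroup Y} {t : Y} {k m : ℕ}
  {co : V → Fin k → Fin (2 ^ m + 1) → ZMod 2} (amb : Amb V U T M) (a : Amal U T M H R t) (we : WE V U H R)
  (K : KSym V H R k m co)
include amb a we K

/-- the members `B ≤ R` act by disjoint transpositions of `R` -/
theorem off_member {B : Subgroup Y} (hB : B ∈ U) (hBR : B ≤ R) {b : Y} (hb : b ∈ B) :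
    ∃ τ, ActS V H R co b 1 τ ∧ ∀ i x, τ i x ≠ x → ∃ c ∈ B, ActS V H R co c 1 (tp i x (τ i x)) := by
  by_cases hBQ : B ≤ QQ H R
  · refine ⟨1, fun v hv i x => ?_, fun i x h => absurd rfl h⟩
    rw [Amal.QQ_fix a amb (hBQ hb) hv]; rfl
  · have h1 := a.exact' amb we hB (hBR.trans a.RH)
    rw [inf_comm (WW V H R), mul_comm (Nat.card ↥(WW V H R))] at h1
    obtain ⟨_, h3⟩ := K.off B hBR (Mem.elAb (amb.cls.mem B hB)) hBQ h1.le
    obtain ⟨τ, h4, h5⟩ := h3 b hb
    exact ⟨τ, h4, fun i x h => (h5 i x h).2⟩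

/-- some member `B ≤ R` contains a transposition -/
theorem exists_tp : ∃ i x y, x ≠ y ∧ ∃ B ∈ U, B ≤ R ∧ ∃ c ∈ B, ActS V H R co c 1 (tp i x y) := by
  obtain ⟨B, hB, hBR, hBQ⟩ := a.exists_not_QQ amb
  obtain ⟨b, hb, hbQ⟩ := SetLike.not_le_iff_exists.1 hBQ
  obtain ⟨τ, h1, h2⟩ := off_member amb a we K hB hBR hb
  by_contra hcon
  push Not at hcon
  apply hbQ
  have h3 : ∀ i x, τ i x = x := by
    intro i x
    by_contra h4
    obtain ⟨c, hc, h5⟩ := h2 i x h4
    exact hcon i x (τ i x) (Ne.symm h4) B hB hBR c hc h5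
  rw [a.mem_QQ_iff amb (hBR hb)]
  intro w hw
  have h4 := smul_eq K (a.RH (hBR hb)) H.one_mem (by
    intro w hw
    funext i x
    have h5 := h1 w hw i x
    rw [h3] at h5
    rw [one_smul]
    exact h5) w hw
  rw [h4, one_smul]

theorem ne_PI : ∃ i x y, PI V H R co i x y := by
  obtain ⟨i, x, y, hxy, B, _, hBR, c, hc, h1⟩ := exists_tp amb a we K
  exact ⟨i, x, y, hxy, c, hBR hc, h1⟩

theorem PI_uniq {i : Fin k} {x y z : Fin (2 ^ m + 1)} (h1 : PI V H R co i x y) (h2 : PI V H R co i x z) : y = z :=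
  h1.uniq K a.RH a.R2 h2

theorem exists_PI' (j : Fin k) {x : Fin (2 ^ m + 1)} (hx : x ≠ 0) : ∃ y, PI V H R co j x y :=
  exists_PI K a.RH a.exists_syl (ne_PI amb a we K) j hx

theorem trans_PI' {i j : Fin k} {x y z w : Fin (2 ^ m + 1)} (h1 : PI V H R co i x y) (h2 : PI V H R co j z w) :
    ∃ r ∈ R, ∃ σ τ, ActS V H R co r σ τ ∧ σ i = j ∧ τ i x = z ∧ τ i y = w :=
  trans_PI K a.RH a.R2 a.exists_syl h1 h2

/-- every transposition of `R` is induced by a member `≤ R` -/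
theorem exists_member {i : Fin k} {x y : Fin (2 ^ m + 1)} (h : PI V H R co i x y) :
    ∃ B ∈ U, B ≤ R ∧ ∃ c ∈ B, ActS V H R co c 1 (tp i x y) := by
  obtain ⟨j, z, w, hzw, B, hB, hBR, c, hc, h1⟩ := exists_tp amb a we K
  obtain ⟨r, hr, σ, τ, h2, rfl, rfl, rfl⟩ := trans_PI' amb a we K ⟨hzw, c, hBR hc, h1⟩ h
  refine ⟨MulAut.conj r • B, amb.cls.conj B hB r, ?_, r * c * r⁻¹, conj_mem_conj hc,
    actS_conj_tp (a.RH hr) (a.RH (hBR hc)) h2 h1⟩
  intro y hy
  rw [mem_conj] at hy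
  have h3 := R.mul_mem (R.mul_mem hr (hBR hy)) (R.inv_mem hr)
  have e : r * (r⁻¹ * y * r) * r⁻¹ = y := by group
  rwa [e] at h3

/-- every transposition is induced by a member `≤ H` -/
theorem exists_member_H (i : Fin k) {x y : Fin (2 ^ m + 1)} (hxy : x ≠ y) :
    ∃ B ∈ U, B ≤ H ∧ ∃ c ∈ B, ActS V H R co c 1 (tp i x y) := by
  obtain ⟨j, z, w, hzw, B, hB, hBR, c, hc, h1⟩ := exists_tp amb a we K
  obtain ⟨r, hr, σ, τ, h2, rfl⟩ := K.trans j i
  -- a permutation `τ z ↦ x`, `τ w ↦ y`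
  obtain ⟨ρ, hρ1, hρ2⟩ : ∃ ρ : Equiv.Perm (Fin (2 ^ m + 1)), ρ (τ j z) = x ∧ ρ (τ j w) = y := by
    set u := Equiv.swap (τ j z) x (τ j w) with hu
    have hux : u ≠ x := by
      intro h6
      have h7 : Equiv.swap (τ j z) x (τ j w) = Equiv.swap (τ j z) x (τ j z) := by
        rw [Equiv.swap_apply_left]; exact h6
      exact hzw ((τ j).injective ((Equiv.swap (τ j z) x).injective h7)).symm
    refine ⟨Equiv.swap u y * Equiv.swap (τ j z) x, ?_, ?_⟩
    · rw [Equiv.Perm.mul_apply, Equiv.swap_apply_left, Equiv.swap_apply_of_ne_of_ne hux.symm hxy]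
    · rw [Equiv.Perm.mul_apply, ← hu, Equiv.swap_apply_left]
  obtain ⟨g, hg, hgt, _⟩ := K.lift fun _ => ρ
  have h3 := actS_mul K (a.RH hr) hgt h2
  have hgr : g * r ∈ H := H.mul_mem hg (a.RH hr)
  have h4 := actS_conj_tp hgr (a.RH (hBR hc)) h3 h1
  refine ⟨MulAut.conj (g * r) • B, amb.cls.conj B hB _, ?_, _, conj_mem_conj hc, ?_⟩
  · intro y hy
    rw [mem_conj] at hy
    have h3 := H.mul_mem (H.mul_mem hgr (a.RH (hBR hy))) (H.inv_mem hgr)
    have e : g * r * ((g * r)⁻¹ * y * (g * r)) * (g * r)⁻¹ = y := by group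
    rwa [e] at h3
  · rw [Equiv.Perm.mul_apply, Equiv.Perm.mul_apply, hρ1, Equiv.Perm.mul_apply, hρ2] at h4
    exact h4

/-- a vector fixed by a transposition is constant on its letters -/
theorem const_of_fix {g : Y} {i : Fin k} {x y : Fin (2 ^ m + 1)} (hgt : ActS V H R co g 1 (tp i x y)) {w : V}
    (hw : w ∈ WW V H R) (h : g • w = w) : co w i x = co w i y := by
  have h1 := hgt w hw i x
  rw [h, tp_self, Equiv.swap_apply_left] at h1
  exact h1.symm

/-- **`D0` in coordinates** -/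
theorem mem_D0 {w : V} : w ∈ D0 V U H R ↔ w ∈ WW V H R ∧ co w = 0 := by
  constructor
  · rintro ⟨hw, h1⟩
    refine ⟨hw, ?_⟩
    have h2 : ∀ i x, co w i x = co w i 0 := by
      intro i x
      by_cases hx : x = 0
      · rw [hx]
      obtain ⟨B, hB, hBH, c, hc, h3⟩ := exists_member_H amb a we K i hx
      exact const_of_fix amb a we K h3 hw (h1 B hB hBH c hc)
    have h3 : ∀ i, co w i 0 = 0 := by
      intro i
      have h4 := K.even w hw i
      rw [Finset.sum_congr rfl fun x _ => h2 i x, Finset.sum_const, Finset.card_univ, Fintype.card_fin,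
        nsmul_eq_mul] at h4
      have h5 : ((2 ^ m + 1 : ℕ) : ZMod 2) = 1 := by
        have h6 : (2 : ZMod 2) = 0 := by decide
        rw [Nat.cast_add, Nat.cast_pow, Nat.cast_ofNat, h6, zero_pow (by have := K.two_le; omega), Nat.cast_one,
          zero_add]
      rwa [h5, one_mul] at h4
    funext i x
    rw [h2, h3]; rfl
  · rintro ⟨hw, h0⟩
    refine ⟨hw, fun B hB hBH b hb => ?_⟩
    obtain ⟨x, hx, hxU, hxR⟩ := a.exists_conj amb hB hBH
    obtain ⟨τ, h1, _⟩ := off_member amb a we K hxU hxR (conj_mem_conj hb)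
    have h2 := trD_of K (a.RH (hxR (conj_mem_conj hb))) h1 (x • w) (smul_mem_WW hx hw) (by
      obtain ⟨σ, τ, h3⟩ := K.perm x hx
      funext i y
      have h4 := h3 w hw (σ⁻¹ i) ((τ (σ⁻¹ i))⁻¹ y)
      rw [papp, papp, h0] at h4
      exact h4)
    rw [mul_smul, mul_smul, inv_smul_smul] at h2
    exact (smul_left_cancel_iff x).1 h2

end amal

end Cfsg.Agent.Omega.NO1.TH.K.SI

end

section


/-!
# N1, the amalgam, `S_n` type: the factors of `W` (`LFac`)

`Ix` : the pairs of `R`; `Pp` : the elements of `R` acting trivially or as the transposition of the pair;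
`Ps` : the vectors of `W` which are constant on all other pairs; `mem_WJ` : `WJ` in coordinates;
`lfac` : `LFac`.
-/

set_option autoImplicit false
set_option linter.unusedSectionVars false
set_option linter.dupNamespace false

namespace Cfsg.Agent.Omega.NO1.TH.K.SI

open Subgroup Cfsg.Agent.Omega.NO1.AB
open scoped Pointwise

universe u

variable {Y : Type u} [Group Y] {V : Type u} [AddCommGroup V] [DistribMulAction Y V]

section basic

variable {H R : Subgroup Y} {k m : ℕ} {co : V → Fin k → Fin (2 ^ m + 1) → ZMod 2}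

/-- the pairs of `R` -/
abbrev Ix (V : Type u) [AddCommGroup V] [DistribMulAction Y V] (H R : Subgroup Y) {k n : ℕ}
    (co : V → Fin k → Fin n → ZMod 2) : Type :=
  {p : Fin k × Fin n × Fin n // p.2.1 < p.2.2 ∧ PI V H R co p.1 p.2.1 p.2.2}

/-- the elements of `R` which act trivially or as the transposition `(a b)` of the block `i` -/
def Pp (V : Type u) [AddCommGroup V] [DistribMulAction Y V] {H R : Subgroup Y} {k n : ℕ}
    (co : V → Fin k → Fin n → ZMod 2) (hRH : R ≤ H) (i : Fin k) (a b : Fin n) : Subgroup Y where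
  carrier := {r | r ∈ R ∧ (ActS V H R co r 1 1 ∨ ActS V H R co r 1 (tp i a b))}
  one_mem' := ⟨R.one_mem, Or.inl fun v _ i x => by rw [one_smul]; rfl⟩
  mul_mem' := by
    have key : ∀ {g h : Y} {τ τ' : Fin k → Equiv.Perm (Fin n)}, h ∈ H → ActS V H R co g 1 τ → ActS V H R co h 1 τ' →
        ActS V H R co (g * h) 1 (τ * τ') := by
      intro g h τ τ' hh h1 h2 v hv i x
      rw [mul_smul]
      exact (h1 _ (smul_mem_WW hh hv) i (τ' i x)).trans (h2 v hv i x)
    rintro r s ⟨hr, h1⟩ ⟨hs, h2⟩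
    refine ⟨R.mul_mem hr hs, ?_⟩
    rcases h1 with h1 | h1 <;> rcases h2 with h2 | h2
    · left
      have := key (hRH hs) h1 h2
      rwa [one_mul] at this
    · right
      have := key (hRH hs) h1 h2
      rwa [one_mul] at this
    · right
      have := key (hRH hs) h1 h2
      rwa [mul_one] at this
    · left
      have := key (hRH hs) h1 h2
      rwa [tp_mul_self] at this
  inv_mem' := by
    rintro r ⟨hr, h1⟩
    refine ⟨R.inv_mem hr, ?_⟩
    have hr' := H.inv_mem (hRH hr)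
    rcases h1 with h1 | h1
    · left
      intro v hv i x
      have h3 := h1 _ (smul_mem_WW hr' hv) i x
      rw [smul_inv_smul] at h3
      exact h3.symm
    · right
      intro v hv j x
      have h3 := h1 _ (smul_mem_WW hr' hv) j (tp i a b j x)
      rw [smul_inv_smul] at h3
      have e : tp i a b j (tp i a b j x) = x := by
        have := congrFun (tp_mul_self i a b) j
        rw [Pi.mul_apply] at this
        exact Equiv.ext_iff.1 this x
      rw [e] at h3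
      exact h3.symm

variable (K : KSym V H R k m co)

/-- the vectors which are constant on the pairs different from `{a, b}` -/
def Ps (K : KSym V H R k m co) (i : Fin k) (a b : Fin (2 ^ m + 1)) : AddSubgroup V where
  carrier := {w | w ∈ WW V H R ∧ ∀ j c d, PI V H R co j c d → ¬ (j = i ∧ (c = a ∨ c = b)) → co w j c = co w j d}
  add_mem' := by
    rintro v w ⟨hv, h1⟩ ⟨hw, h2⟩
    refine ⟨add_mem hv hw, fun j c d h3 h4 => ?_⟩
    rw [K.add v hv w hw]
    simp only [Pi.add_apply]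
    rw [h1 j c d h3 h4, h2 j c d h3 h4]
  zero_mem' := ⟨zero_mem _, fun j c d _ _ => by rw [co_zero K]; rfl⟩
  neg_mem' := by
    rintro v ⟨hv, h1⟩
    refine ⟨neg_mem hv, fun j c d h3 h4 => ?_⟩
    have h5 : co (-v) = -co v := (coH K).map_neg ⟨v, hv⟩
    rw [h5]
    simp only [Pi.neg_apply]
    rw [h1 j c d h3 h4]

omit K in
theorem exists_ix {i : Fin k} {x y : Fin (2 ^ m + 1)} (h : PI V H R co i x y) :
    ∃ p : Ix V H R co, p.1.1 = i ∧ ((p.1.2.1 = x ∧ p.1.2.2 = y) ∨ (p.1.2.1 = y ∧ p.1.2.2 = x)) := by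
  rcases lt_or_gt_of_ne h.1 with h1 | h1
  · exact ⟨⟨(i, x, y), h1, h⟩, rfl, Or.inl ⟨rfl, rfl⟩⟩
  · exact ⟨⟨(i, y, x), h1, h.symm⟩, rfl, Or.inr ⟨rfl, rfl⟩⟩

include K

omit K in
theorem actS_inv {g : Y} (hg : g ∈ H) {σ : Equiv.Perm (Fin k)} {τ : Fin k → Equiv.Perm (Fin (2 ^ m + 1))}
    (h1 : ActS V H R co g σ τ) : ActS V H R co g⁻¹ σ⁻¹ fun i => (τ (σ⁻¹ i))⁻¹ := by
  intro v hv i x
  have h3 := h1 _ (smul_mem_WW (H.inv_mem hg) hv) (σ⁻¹ i) ((τ (σ⁻¹ i))⁻¹ x)
  rw [smul_inv_smul, papp, papp] at h3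
  exact h3.symm

theorem fix_of_one {g : Y} (hg : g ∈ H) (h : ActS V H R co g 1 1) {w : V} (hw : w ∈ WW V H R) : g • w = w := by
  have h1 := smul_eq_of_actS K hg H.one_mem h actS_one w hw
  rwa [one_smul] at h1

/-- elements of `Pp` fix the vectors which are constant on the pair -/
theorem fix_Pp (two : ∀ v : V, v + v = 0) {hRH : R ≤ H} {i : Fin k} {a b : Fin (2 ^ m + 1)} (hab : a ≠ b) {r : Y}
    (hr : r ∈ Pp V co hRH i a b) {w : V} (hw : w ∈ WW V H R) (hc : co w i a = co w i b) : r • w = w := by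
  rcases hr.2 with h1 | h1
  · exact fix_of_one K (hRH hr.1) h1 hw
  · exact fix_of_const K two (hRH hr.1) hab h1 hw hc

/-- the transport of `Pp` -/
theorem map_Pp {hRH : R ≤ H} {i : Fin k} {a b : Fin (2 ^ m + 1)} {g r : Y} (hr : r ∈ R) {σ : Equiv.Perm (Fin k)}
    {τ : Fin k → Equiv.Perm (Fin (2 ^ m + 1))} (hrt : ActS V H R co r σ τ) (hg : g ∈ Pp V co hRH i a b) :
    r * g * r⁻¹ ∈ Pp V co hRH (σ i) (τ i a) (τ i b) := by
  refine ⟨R.mul_mem (R.mul_mem hr hg.1) (R.inv_mem hr), ?_⟩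
  rcases hg.2 with h1 | h1
  · left
    intro v hv j x
    have h2 := fix_of_one K (hRH hg.1) h1 (smul_mem_WW (H.inv_mem (hRH hr)) hv)
    rw [mul_smul, mul_smul, h2, smul_inv_smul]
    rfl
  · right
    exact actS_conj_tp (hRH hr) (hRH hg.1) hrt h1

/-- the transport of `Ps` -/
theorem map_Ps (hRH : R ≤ H) {i : Fin k} {a b : Fin (2 ^ m + 1)} {r : Y} (hr : r ∈ R) {σ : Equiv.Perm (Fin k)}
    {τ : Fin k → Equiv.Perm (Fin (2 ^ m + 1))} (hrt : ActS V H R co r σ τ) {w : V} (hw : w ∈ Ps K i a b) :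
    r • w ∈ Ps K (σ i) (τ i a) (τ i b) := by
  refine ⟨smul_mem_WW (hRH hr) hw.1, fun j c d h1 h2 => ?_⟩
  obtain ⟨j', rfl⟩ : ∃ j', j = σ j' := ⟨σ⁻¹ j, by rw [papp]⟩
  obtain ⟨c', rfl⟩ : ∃ y', c = τ j' y' := ⟨(τ j')⁻¹ c, by rw [papp]⟩
  obtain ⟨d', rfl⟩ : ∃ y', d = τ j' y' := ⟨(τ j')⁻¹ d, by rw [papp]⟩
  rw [hrt w hw.1, hrt w hw.1]
  have h3 := h1.map K hRH (R.inv_mem hr) (actS_inv (hRH hr) hrt)
  rw [papp', papp', papp'] at h3
  apply hw.2 j' c' d' h3
  rintro ⟨rfl, h4⟩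
  apply h2
  refine ⟨rfl, ?_⟩
  rcases h4 with rfl | rfl
  · exact Or.inl rfl
  · exact Or.inr rfl

omit K in
theorem dl_const (huniq : ∀ {i : Fin k} {x y z : Fin (2 ^ m + 1)}, PI V H R co i x y → PI V H R co i x z → y = z)
    {i j : Fin k} {x y c d : Fin (2 ^ m + 1)} (h1 : PI V H R co i x y) (h2 : PI V H R co j c d) :
    dl i x y j c = dl i x y j d := by
  simp only [dl_apply]
  by_cases hj : j = i
  · subst hj
    rw [if_pos rfl, if_pos rfl]
    by_cases hcx : c = x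
    · subst hcx
      have h3 := huniq h1 h2
      subst h3
      rw [if_pos rfl, if_neg h1.1, if_neg h1.1.symm, if_pos rfl]; decide
    by_cases hcy : c = y
    · subst hcy
      have h3 := huniq h1.symm h2
      subst h3
      rw [if_pos rfl, if_neg h1.1, if_neg h1.1.symm, if_pos rfl]; decide
    have hdx : d ≠ x := by
      rintro rfl
      exact hcy (huniq h2.symm h1)
    have hdy : d ≠ y := by
      rintro rfl
      exact hcx (huniq h2.symm h1.symm)
    rw [if_neg hcx, if_neg hcy, if_neg hdx, if_neg hdy]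
  · rw [if_neg hj, if_neg hj]

/-- **products of transpositions** -/
theorem mem_sup_of (huniq : ∀ {i : Fin k} {x y z : Fin (2 ^ m + 1)}, PI V H R co i x y → PI V H R co i x z → y = z)
    {hRH : R ≤ H} {Δ : Set (Ix V H R co)} (hΔ : Δ.Nonempty) :
    ∀ (N : ℕ) {r : Y} (_ : r ∈ R) {τ : Fin k → Equiv.Perm (Fin (2 ^ m + 1))} (_ : ActS V H R co r 1 τ)
      (_ : Nat.card {q : Fin k × Fin (2 ^ m + 1) // τ q.1 q.2 ≠ q.2} = N)
      (_ : ∀ i x, τ i x ≠ x → ∃ p ∈ Δ, p.1.1 = i ∧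
        ((p.1.2.1 = x ∧ p.1.2.2 = τ i x) ∨ (p.1.2.1 = τ i x ∧ p.1.2.2 = x))),
      r ∈ ⨆ p ∈ Δ, Pp V co hRH p.1.1 p.1.2.1 p.1.2.2 := by
  intro N
  induction N using Nat.strong_induction_on with
  | _ N ih =>
    intro r hr τ hrt hN hτ
    have hPI : ∀ i x, τ i x ≠ x → PI V H R co i x (τ i x) := by
      intro i x hne
      obtain ⟨p, _, h1, h2⟩ := hτ i x hne
      rcases h2 with ⟨h2, h3⟩ | ⟨h2, h3⟩
      · have := p.2.2
        rw [h1, h2, h3] at this
        exact this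
      · have := p.2.2
        rw [h1, h2, h3] at this
        exact this.symm
    by_cases hex : ∃ i x, τ i x ≠ x
    · obtain ⟨i, x, hne⟩ := hex
      obtain ⟨p, hpΔ, h1, h2⟩ := hτ i x hne
      set y := τ i x with hy
      have hp := hPI i x hne
      rw [← hy] at hp
      obtain ⟨_, s, hs, hst⟩ := id hp
      have hsP : s ∈ Pp V co hRH p.1.1 p.1.2.1 p.1.2.2 := by
        refine ⟨hs, Or.inr ?_⟩
        rcases h2 with ⟨h2, h3⟩ | ⟨h2, h3⟩
        · rw [h1, h2, h3]; exact hst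
        · rw [h1, h2, h3, tp_comm]; exact hst
      have hyx : τ i y = x := by
        have h3 : τ i y ≠ y := by
          intro h4
          exact hne ((τ i).injective h4)
        exact huniq (hPI i y h3) hp.symm
      have hτ' : ∀ j z, (tp i x y * τ) j z = if j = i ∧ (z = x ∨ z = y) then z else τ j z := by
        intro j z
        rw [Pi.mul_apply, Equiv.Perm.mul_apply]
        by_cases hj : j = i
        · subst hj
          rw [tp_self]
          by_cases hzx : z = x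
          · subst hzx
            rw [if_pos ⟨rfl, Or.inl rfl⟩, ← hy, Equiv.swap_apply_right]
          by_cases hzy : z = y
          · rw [hzy, if_pos ⟨rfl, Or.inr rfl⟩, hyx, Equiv.swap_apply_left]
          rw [if_neg (by rintro ⟨_, h | h⟩ <;> contradiction), Equiv.swap_apply_of_ne_of_ne]
          · intro h3
            apply hzy
            rw [← hyx] at h3
            exact (τ j).injective h3
          · intro h3
            exact hzx ((τ j).injective (h3.trans hy))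
        · rw [tp_of_ne hj, if_neg (fun h => hj h.1)]; rfl
      have h4 : s * r ∈ ⨆ p ∈ Δ, Pp V co hRH p.1.1 p.1.2.1 p.1.2.2 := by
        refine ih (Nat.card {q : Fin k × Fin (2 ^ m + 1) // (tp i x y * τ) q.1 q.2 ≠ q.2}) ?_ (R.mul_mem hs hr)
          (actS_mul1 (hRH hr) hst hrt) rfl ?_
        · rw [← hN]
          have hsub : {q : Fin k × Fin (2 ^ m + 1) | (tp i x y * τ) q.1 q.2 ≠ q.2} ⊂
              {q : Fin k × Fin (2 ^ m + 1) | τ q.1 q.2 ≠ q.2} := by
            rw [Set.ssubset_iff_of_subset]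
            · refine ⟨(i, x), hne, ?_⟩
              rw [Set.mem_ofPred_eq, hτ', if_pos ⟨rfl, Or.inl rfl⟩]
              exact fun h => h rfl
            · rintro ⟨j, z⟩ h5
              rw [Set.mem_ofPred_eq, hτ'] at h5
              by_cases h6 : j = i ∧ (z = x ∨ z = y)
              · rw [if_pos h6] at h5
                exact absurd rfl h5
              · rw [if_neg h6] at h5
                exact h5
          exact Set.ncard_lt_ncard hsub (Set.toFinite _)
        · intro j z h5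
          rw [hτ'] at h5 ⊢
          by_cases h6 : j = i ∧ (z = x ∨ z = y)
          · rw [if_pos h6] at h5
            exact absurd rfl h5
          · rw [if_neg h6] at h5 ⊢
            exact hτ j z h5
      have h5 : s ∈ ⨆ p ∈ Δ, Pp V co hRH p.1.1 p.1.2.1 p.1.2.2 :=
        (le_iSup₂ (f := fun (p : Ix V H R co) (_ : p ∈ Δ) => Pp V co hRH p.1.1 p.1.2.1 p.1.2.2) p hpΔ) hsP
      have h6 := mul_mem (inv_mem h5) h4
      rwa [inv_mul_cancel_left] at h6
    · push Not at hex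
      obtain ⟨p, hp⟩ := hΔ
      apply (le_iSup₂ (f := fun (p : Ix V H R co) (_ : p ∈ Δ) => Pp V co hRH p.1.1 p.1.2.1 p.1.2.2) p hp)
      refine ⟨hr, Or.inl ?_⟩
      intro v hv i x
      have h1 := hrt v hv i x
      rw [hex] at h1
      exact h1

end basic

section amal

variable [Finite Y] [Finite V] {U : Set (Subgroup Y)} {T : Sylow 2 Y} {M H R : Subgroup Y} {t : Y} {k m : ℕ}
  {co : V → Fin k → Fin (2 ^ m + 1) → ZMod 2} (amb : Amb V U T M) (a : Amal U T M H R t) (we : WE V U H R)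
  (K : KSym V H R k m co)
include amb a we K

/-- **`WJ` in coordinates** -/
theorem mem_WJ {w : V} : w ∈ WJ V U H R ↔ w ∈ WW V H R ∧ ∀ i x y, PI V H R co i x y → co w i x = co w i y := by
  constructor
  · rintro ⟨hw, h1⟩
    refine ⟨hw, fun i x y hp => ?_⟩
    obtain ⟨B, hB, hBR, c, hc, h2⟩ := exists_member amb a we K hp
    exact const_of_fix amb a we K h2 hw (h1 B hB hBR c hc)
  · rintro ⟨hw, h1⟩
    refine ⟨hw, fun B hB hBR b hb => ?_⟩
    obtain ⟨τ, h2, h3⟩ := off_member amb a we K hB hBR hb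
    obtain ⟨i₀, x₀, y₀, h0⟩ := ne_PI amb a we K
    obtain ⟨p₀, _⟩ := exists_ix h0
    have h4 : b ∈ ⨆ p ∈ (Set.univ : Set (Ix V H R co)), Pp V co a.RH p.1.1 p.1.2.1 p.1.2.2 := by
      refine mem_sup_of K (PI_uniq amb a we K) (Δ := Set.univ) ⟨p₀, Set.mem_univ p₀⟩ _ (hBR hb) h2 rfl fun i x hne => ?_
      obtain ⟨c, hc, h5⟩ := h3 i x hne
      obtain ⟨p, hp1, hp2⟩ := exists_ix (co := co) ⟨Ne.symm hne, c, hBR hc, h5⟩
      exact ⟨p, Set.mem_univ p, hp1, hp2⟩
    have h5 : (⨆ p ∈ (Set.univ : Set (Ix V H R co)), Pp V co a.RH p.1.1 p.1.2.1 p.1.2.2) ≤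
        MulAction.stabilizer Y w := by
      refine iSup₂_le fun p _ r hr => ?_
      exact fix_Pp K amb.two p.2.1.ne hr hw (h1 _ _ _ p.2.2)
    exact h5 h4

/-- the elements of `R` fixing `WJ` act by disjoint transpositions of `R` -/
theorem tau_of_fix {r : Y} (hr : r ∈ R) (h : ∀ x ∈ WJ V U H R, r • x = x) :
    ∃ τ, ActS V H R co r 1 τ ∧ ∀ i x, τ i x ≠ x → PI V H R co i x (τ i x) := by
  obtain ⟨σ, τ, h1⟩ := K.perm r (a.RH hr)
  have h2 : ∀ i x y, PI V H R co i x y → σ i = i ∧ (τ i x = x ∨ τ i x = y) := by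
    intro i x y hp
    obtain ⟨v, hv, hco⟩ := exists_dl K i x y
    have h3 : v ∈ WJ V U H R := by
      refine (mem_WJ amb a we K).2 ⟨hv, fun j c d hcd => ?_⟩
      rw [hco]
      exact dl_const (PI_uniq amb a we K) hp hcd
    have h4 := h1 v hv i x
    rw [h v h3, hco, dl_apply, dl_apply, if_pos rfl, if_pos rfl, if_neg hp.1, add_zero] at h4
    by_cases h5 : σ i = i
    · refine ⟨h5, ?_⟩
      rw [if_pos h5] at h4
      by_contra h6
      rw [not_or] at h6
      rw [if_neg h6.1, if_neg h6.2, add_zero] at h4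
      exact zero_ne_one h4
    · rw [if_neg h5] at h4
      exact absurd h4 zero_ne_one
  have h10 : (1 : Fin (2 ^ m + 1)) ≠ 0 := by
    have h3 := five_le K
    intro h4
    have h5 := congrArg Fin.val h4
    have h6 : ((1 : Fin (2 ^ m + 1)) : ℕ) = 1 % (2 ^ m + 1) := rfl
    rw [h6, Nat.mod_eq_of_lt (by omega)] at h5
    exact one_ne_zero h5
  have hσ : σ = 1 := by
    apply Equiv.ext
    intro i
    obtain ⟨y, hy⟩ := exists_PI' amb a we K i h10
    exact (h2 i _ y hy).1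
  subst hσ
  refine ⟨τ, h1, fun i x hne => ?_⟩
  have hx : x ≠ 0 := by
    rintro rfl
    exact hne (K.fix0 r hr _ τ h1 i)
  obtain ⟨y, hy⟩ := exists_PI' amb a we K i hx
  rcases (h2 i x y hy).2 with h3 | h3
  · exact absurd h3 hne
  · rwa [h3]

/-- a vector is constant on all pairs if it is constant on the sorted pairs -/
theorem const_iff {y : Fin k → Fin (2 ^ m + 1) → ZMod 2}
    (h : ∀ p : Ix V H R co, y p.1.1 p.1.2.1 = y p.1.1 p.1.2.2) {i : Fin k} {c d : Fin (2 ^ m + 1)}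
    (hp : PI V H R co i c d) : y i c = y i d := by
  obtain ⟨p, rfl, h2⟩ := exists_ix hp
  rcases h2 with ⟨rfl, rfl⟩ | ⟨rfl, rfl⟩
  · exact h p
  · exact (h p).symm

theorem ix_ext {p q : Ix V H R co} (h1 : p.1.1 = q.1.1) (h2 : p.1.2.1 = q.1.2.1) : p = q := by
  have h3 : p.1.2.2 = q.1.2.2 := by
    have h4 := p.2.2
    rw [h1, h2] at h4
    exact PI_uniq amb a we K h4 q.2.2
  exact Subtype.ext (Prod.ext h1 (Prod.ext h2 h3))

/-- a smaller letter is not a larger letter -/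
theorem ix_ne (p q : Ix V H R co) (h1 : p.1.1 = q.1.1) : p.1.2.1 ≠ q.1.2.2 := by
  intro h2
  have h3 := p.2.2
  rw [h1, h2] at h3
  have h4 := PI_uniq amb a we K h3 q.2.2.symm
  have h5 := p.2.1
  rw [h2, h4] at h5
  exact absurd h5 (not_lt.2 q.2.1.le)

/-- the sum of the vectors `{a_p, 0}` over a set of pairs -/
theorem exists_half (f : Ix V H R co → Prop) : ∃ s ∈ WW V H R,
    s ∈ (⨆ p : Ix V H R co, Ps K p.1.1 p.1.2.1 p.1.2.2) ∧ ∀ p : Ix V H R co,
      co s p.1.1 p.1.2.2 = 0 ∧ (f p → co s p.1.1 p.1.2.1 = 1) ∧ (¬ f p → co s p.1.1 p.1.2.1 = 0) := by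
  classical
  have : Fintype (Ix V H R co) := Fintype.ofFinite _
  have h1 : ∀ p : Ix V H R co, ∃ v : WW V H R, coH K v = if f p then dl p.1.1 p.1.2.1 0 else 0 := by
    intro p
    by_cases hp : f p
    · obtain ⟨v, hv, hco⟩ := exists_dl K p.1.1 p.1.2.1 0
      exact ⟨⟨v, hv⟩, by rw [if_pos hp]; exact hco⟩
    · exact ⟨0, by rw [map_zero, if_neg hp]⟩
  choose v hv using h1
  have h0 : ∀ p : Ix V H R co, p.1.2.1 ≠ 0 := fun p => p.2.2.ne0 K
  have h0' : ∀ p : Ix V H R co, p.1.2.2 ≠ 0 := fun p => p.2.2.symm.ne0 K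
  -- values
  have val1 : ∀ p q : Ix V H R co, p ≠ q → coH K (v p) q.1.1 q.1.2.1 = 0 := by
    intro p q hpq
    rw [hv]
    by_cases hp : f p
    · rw [if_pos hp, dl_apply]
      by_cases h2 : q.1.1 = p.1.1
      · rw [if_pos h2, if_neg (fun h3 => hpq (ix_ext amb a we K h2.symm h3.symm)), if_neg (h0 q), add_zero]
      · rw [if_neg h2]
    · rw [if_neg hp]; rfl
  have val2 : ∀ p q : Ix V H R co, coH K (v p) q.1.1 q.1.2.2 = 0 := by
    intro p q
    rw [hv]
    by_cases hp : f p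
    · rw [if_pos hp, dl_apply]
      by_cases h2 : q.1.1 = p.1.1
      · rw [if_pos h2, if_neg (fun h3 => ix_ne amb a we K p q h2.symm h3.symm), if_neg (h0' q), add_zero]
      · rw [if_neg h2]
    · rw [if_neg hp]; rfl
  have val3 : ∀ p : Ix V H R co, coH K (v p) p.1.1 p.1.2.1 = if f p then 1 else 0 := by
    intro p
    rw [hv]
    by_cases hp : f p
    · rw [if_pos hp, if_pos hp, dl_apply, if_pos rfl, if_pos rfl, if_neg (h0 p), add_zero]
    · rw [if_neg hp, if_neg hp]; rfl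
  have hvP : ∀ p, ((v p : WW V H R) : V) ∈ Ps K p.1.1 p.1.2.1 p.1.2.2 := by
    intro p
    refine ⟨(v p).2, ?_⟩
    intro j c d hcd hne
    obtain ⟨q, rfl, h2⟩ := exists_ix hcd
    have hpq : p ≠ q := by
      rintro rfl
      apply hne
      refine ⟨rfl, ?_⟩
      rcases h2 with ⟨h2, _⟩ | ⟨_, h2⟩
      · exact Or.inl h2.symm
      · exact Or.inr h2.symm
    have h3 := val1 p q hpq
    have h4 := val2 p q
    change co (v p) q.1.1 c = co (v p) q.1.1 d
    change co (v p) q.1.1 q.1.2.1 = 0 at h3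
    change co (v p) q.1.1 q.1.2.2 = 0 at h4
    rcases h2 with ⟨h2, h5⟩ | ⟨h2, h5⟩
    · rw [← h2, ← h5, h3, h4]
    · rw [← h2, ← h5, h3, h4]
  refine ⟨((∑ p, v p : WW V H R) : V), (∑ p, v p : WW V H R).2, ?_, fun q => ?_⟩
  · rw [AddSubgroup.val_finsetSum]
    exact AddSubgroup.sum_mem _ fun p _ => (le_iSup (fun p : Ix V H R co => Ps K p.1.1 p.1.2.1 p.1.2.2) p) (hvP p)
  · have e : co ((∑ p, v p : WW V H R) : V) = ∑ p, coH K (v p) := by
      change coH K (∑ p, v p) = _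
      rw [map_sum]
    rw [e]
    simp only [Finset.sum_apply]
    refine ⟨Finset.sum_eq_zero fun p _ => val2 p q, fun hq => ?_, fun hq => ?_⟩
    · rw [Finset.sum_eq_single q (fun p _ hp => val1 p q hp) (fun h => absurd (Finset.mem_univ _) h), val3, if_pos hq]
    · rw [Finset.sum_eq_single q (fun p _ hp => val1 p q hp) (fun h => absurd (Finset.mem_univ _) h), val3, if_neg hq]

/-- **the factors of `W`** -/
theorem lfac : LFac V U H R (fun p : Ix V H R co => Pp V co a.RH p.1.1 p.1.2.1 p.1.2.2)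
    (fun p : Ix V H R co => Ps K p.1.1 p.1.2.1 p.1.2.2) where
  le := fun p r hr => hr.1
  fixJ := fun p r hr x hx => by
    obtain ⟨h1, h2⟩ := (mem_WJ amb a we K).1 hx
    exact fix_Pp K amb.two p.2.1.ne hr h1 (h2 _ _ _ p.2.2)
  ofJ := fun r hr h => by
    obtain ⟨τ, h1, h2⟩ := tau_of_fix amb a we K hr h
    obtain ⟨i₀, x₀, y₀, h0⟩ := ne_PI amb a we K
    obtain ⟨p₀, _⟩ := exists_ix h0
    have h4 : r ∈ ⨆ p ∈ (Set.univ : Set (Ix V H R co)), Pp V co a.RH p.1.1 p.1.2.1 p.1.2.2 := by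
      refine mem_sup_of K (PI_uniq amb a we K) (Δ := Set.univ) ⟨p₀, Set.mem_univ p₀⟩ _ hr h1 rfl fun i x hne => ?_
      obtain ⟨p, hp1, hp2⟩ := exists_ix (h2 i x hne)
      exact ⟨p, Set.mem_univ p, hp1, hp2⟩
    exact (iSup₂_le fun p _ => le_iSup (fun p : Ix V H R co => Pp V co a.RH p.1.1 p.1.2.1 p.1.2.2) p :
      (⨆ p ∈ (Set.univ : Set (Ix V H R co)), Pp V co a.RH p.1.1 p.1.2.1 p.1.2.2) ≤ _) h4
  Ψle := fun p w hw => hw.1
  sup := fun w hw => by
    obtain ⟨s, hs, hsP, hval⟩ := exists_half amb a we K fun p : Ix V H R co => co w p.1.1 p.1.2.1 ≠ co w p.1.1 p.1.2.2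
    have h1 : w + s ∈ WJ V U H R := by
      refine (mem_WJ amb a we K).2 ⟨add_mem hw hs, fun i x y hp => ?_⟩
      refine const_iff amb a we K ?_ hp
      intro p
      rw [K.add w hw s hs]
      simp only [Pi.add_apply]
      obtain ⟨h2, h3, h4⟩ := hval p
      by_cases h5 : co w p.1.1 p.1.2.1 = co w p.1.1 p.1.2.2
      · rw [h2, h4 (fun h => h h5), h5]
      · rw [h2, h3 h5]
        generalize co w p.1.1 p.1.2.1 = z at h5
        generalize co w p.1.1 p.1.2.2 = z' at h5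
        revert h5; revert z z'; decide
    have e : w = (w + s) + s := by rw [add_assoc, amb.two, add_zero]
    rw [e]
    exact add_mem ((le_sup_left : WJ V U H R ≤ _) h1) ((le_sup_right : (⨆ p : Ix V H R co,
      Ps K p.1.1 p.1.2.1 p.1.2.2) ≤ _) hsP)
  orth := fun p p' hpp r hr x hx => by
    apply fix_Pp K amb.two p.2.1.ne hr hx.1
    apply hx.2 _ _ _ p.2.2
    rintro ⟨h1, h2 | h2⟩
    · exact hpp (ix_ext amb a we K h1 h2)
    · exact ix_ne amb a we K p p' h1 h2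
  quad := fun p r hr x hx => by
    have hrx := smul_mem_WW (a.RH hr.1) hx.1
    refine (mem_WJ amb a we K).2 ⟨add_mem hrx hx.1, fun j c d hcd => ?_⟩
    rw [K.add _ hrx x hx.1]
    simp only [Pi.add_apply]
    rcases hr.2 with h1 | h1
    · rw [fix_of_one K (a.RH hr.1) h1 hx.1, CharTwo.add_self_eq_zero, CharTwo.add_self_eq_zero]
    · have h2 : ∀ c, co (r • x) j c = co x j (tp p.1.1 p.1.2.1 p.1.2.2 j c) := by
        intro c
        have h3 := h1 x hx.1 j (tp p.1.1 p.1.2.1 p.1.2.2 j c)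
        have e : tp p.1.1 p.1.2.1 p.1.2.2 j (tp p.1.1 p.1.2.1 p.1.2.2 j c) = c := by
          have := congrFun (tp_mul_self p.1.1 p.1.2.1 p.1.2.2) j
          rw [Pi.mul_apply] at this
          exact Equiv.ext_iff.1 this c
        rw [e] at h3
        exact h3
      rw [h2, h2]
      by_cases hj : j = p.1.1
      · subst hj
        rw [tp_self]
        have hu := @PI_uniq _ _ _ _ _ _ _ _ _ _ _ _ _ _ _ _ amb a we K
        by_cases hc1 : c = p.1.2.1
        · have hd : d = p.1.2.2 := by rw [hc1] at hcd; exact hu hcd p.2.2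
          rw [hc1, hd, Equiv.swap_apply_left, Equiv.swap_apply_right, add_comm]
        by_cases hc2 : c = p.1.2.2
        · have hd : d = p.1.2.1 := by rw [hc2] at hcd; exact hu hcd p.2.2.symm
          rw [hc2, hd, Equiv.swap_apply_left, Equiv.swap_apply_right, add_comm]
        have hd1 : d ≠ p.1.2.1 := by
          intro h3
          have h4 := hcd.symm
          rw [h3] at h4
          exact hc2 (hu h4 p.2.2)
        have hd2 : d ≠ p.1.2.2 := by
          intro h3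
          have h4 := hcd.symm
          rw [h3] at h4
          exact hc1 (hu h4 p.2.2.symm)
        rw [Equiv.swap_apply_of_ne_of_ne hc1 hc2, Equiv.swap_apply_of_ne_of_ne hd1 hd2, CharTwo.add_self_eq_zero,
          CharTwo.add_self_eq_zero]
      · rw [tp_of_ne hj]
        change co x j c + co x j c = co x j d + co x j d
        rw [CharTwo.add_self_eq_zero, CharTwo.add_self_eq_zero]
  trans := fun p p' => by
    obtain ⟨r, hr, σ, τ, h1, h2, h3, h4⟩ := trans_PI' amb a we K p.2.2 p'.2.2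
    have hi := actS_inv (a.RH hr) h1
    refine ⟨r, hr, ?_, ?_⟩
    · ext g
      rw [mem_conj]
      constructor
      · intro hg
        have h5 := map_Pp K (R.inv_mem hr) hi hg
        rw [← h2, ← h3, ← h4, papp', papp', papp', inv_inv] at h5
        exact h5
      · intro hg
        have h5 := map_Pp K hr h1 hg
        rw [h2, h3, h4] at h5
        have e : r * (r⁻¹ * g * r) * r⁻¹ = g := by group
        rwa [e] at h5
    · ext w
      rw [mem_smul_as]
      constructor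
      · intro hw
        have h5 := map_Ps K a.RH (R.inv_mem hr) hi hw
        rw [← h2, ← h3, ← h4, papp', papp', papp'] at h5
        exact h5
      · intro hw
        have h5 := map_Ps K a.RH hr h1 hw
        rw [h2, h3, h4, smul_inv_smul] at h5
        exact h5

end amal

end Cfsg.Agent.Omega.NO1.TH.K.SI

end
end
end
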